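import Mathlib.AlgebraicGeometry.ValuativeCriterion

/-!
Sections over a valuation ring from a specialization.
-/

universe u

open CategoryTheory AlgebraicGeometry Limits IsLocalRing

namespace Groth.Agent.EGA73

set_option backward.isDefEq.respectTransparency false in
/-- A generic section over a valuation ring extends once it specializes to the closed fibre. -/
theorem exists_section_of_specializes {R : Type u} [CommRing R] [IsDomain R] [ValuationRing R] {K : Type u}
    [Field K] [Algebra R K] [IsFractionRing R K] {X : Scheme.{u}} (f : X ⟶ Spec (CommRingCat.of R))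
    (lft : Spec (CommRingCat.of K) ⟶ X) (hl : lft ≫ f = Spec.map (CommRingCat.ofHom (algebraMap R K)))
    (x : X) (h₁ : lft (closedPoint K) ⤳ x) (h₂ : f x = closedPoint R) :
    ∃ s : Spec (CommRingCat.of R) ⟶ X, s ≫ f = 𝟙 _ ∧
      Spec.map (CommRingCat.ofHom (algebraMap R K)) ≫ s = lft := by
  have : IsDomain (CommRingCat.of R) := ‹_›
  have : ValuationRing (CommRingCat.of R) := ‹_›
  let : Field (CommRingCat.of K) := ‹_›
  let e : CommRingCat.of R ≅ (Spec <| .of R).presheaf.stalk (f x) :=
    (stalkClosedPointIso (.of R)).symm ≪≫ (Spec <| .of R).presheaf.stalkCongr (.of_eq h₂.symm)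
  let α := e.hom ≫ f.stalkMap x
  have : IsLocalHom e.hom.hom := isLocalHom_of_isIso e.hom
  have : IsLocalHom α.hom := inferInstanceAs (IsLocalHom ((f.stalkMap x).hom.comp e.hom.hom))
  let β := X.presheaf.stalkSpecializes h₁ ≫ Scheme.stalkClosedPointTo lft
  have hαβ : α ≫ β = CommRingCat.ofHom (algebraMap R K) := by
    simp only [CommRingCat.coe_of, Iso.trans_hom, Iso.symm_hom, TopCat.Presheaf.stalkCongr_hom,
      Category.assoc, α, e, β, stalkClosedPointIso_inv, StructureSheaf.toStalk]
    change (Scheme.ΓSpecIso (.of R)).inv ≫ (Spec <| .of R).presheaf.germ _ _ _ ≫ _ = _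
    simp only [TopCat.Presheaf.germ_stalkSpecializes_assoc, Scheme.Hom.germ_stalkMap_assoc]
    simp only [TopologicalSpace.Opens.map_top]
    rw [Scheme.germ_stalkClosedPointTo lft ⊤ trivial]
    erw [← Scheme.Hom.comp_app_assoc lft f]
    rw [hl]
    simp
  have hbij := (bijective_rangeRestrict_comp_of_valuationRing (R := R) (K := K) α.hom β.hom
    (CommRingCat.hom_ext_iff.mp hαβ))
  let φ : X.presheaf.stalk x ⟶ CommRingCat.of R := CommRingCat.ofHom <|
    (RingEquiv.ofBijective _ hbij).symm.toRingHom.comp β.hom.rangeRestrict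
  have hαφ : α ≫ φ = 𝟙 _ := by ext z; exact (RingEquiv.ofBijective _ hbij).symm_apply_apply z
  have hαφ' : f.stalkMap x ≫ φ = e.inv := by
    rw [← cancel_epi e.hom, ← Category.assoc, hαφ, e.hom_inv_id]
  have hφβ : φ ≫ CommRingCat.ofHom (algebraMap R K) = β :=
    hαβ ▸ CommRingCat.hom_ext (RingHom.ext fun z ↦ congr_arg Subtype.val
      ((RingEquiv.ofBijective _ hbij).apply_symm_apply (β.hom.rangeRestrict z)))
  refine ⟨Spec.map φ ≫ X.fromSpecStalk _, ?_, ?_⟩
  · rw [Category.assoc, ← Scheme.SpecMap_stalkMap_fromSpecStalk, ← Spec.map_comp_assoc, hαφ']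
    simp only [Iso.trans_inv, TopCat.Presheaf.stalkCongr_inv, Iso.symm_inv, Spec.map_comp,
      Category.assoc, Scheme.SpecMap_stalkSpecializes_fromSpecStalk, e]
    rw [← Spec_stalkClosedPointIso, ← Spec.map_comp, Iso.inv_hom_id, Spec.map_id]
  · rw [← Spec.map_comp_assoc, hφβ]
    simp only [Spec.map_comp, Category.assoc, Scheme.SpecMap_stalkSpecializes_fromSpecStalk, β]
    rw [Scheme.Spec_stalkClosedPointTo_fromSpecStalk]

end Groth.Agent.EGA73
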