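import Groth.Agent.EGA73.UnivClosedFT
import Groth.Agent.EGA73.ValuationSection
import Groth.Agent.CAlg1.Regular
import Mathlib.AlgebraicGeometry.SpreadingOut
import Mathlib.AlgebraicGeometry.Noetherian
import Mathlib.RingTheory.DiscreteValuationRing.TFAE

/-!
Extension of rational sections over points of codimension at most one.
-/

universe u

open CategoryTheory AlgebraicGeometry Limits IsLocalRing TopologicalSpace

namespace Groth.Agent.EGA73

theorem valuationRing_of_regular (R : Type u) [CommRing R] [IsDomain R] [IsRegularLocalRing R]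
    (h : ringKrullDim R ≤ 1) : ValuationRing R := by
  refine ((tfae_of_isNoetherianRing_of_isLocalRing_of_isDomain R).out 5 1).mp ?_
  have h1 := (IsRegularLocalRing.iff_finrank_cotangentSpace R).mp ‹_›
  rw [← h1] at h
  exact_mod_cast h

/-- Glue morphisms given on opens that agree wherever they are both defined. -/
theorem exists_glue_opens {Y X : Scheme.{u}} {ι : Type u} (W : ι → Y.Opens) (g : ∀ i, (W i).toScheme ⟶ X)
    (h : ∀ i j (T : Scheme.{u}) (a : T ⟶ (W i).toScheme) (b : T ⟶ (W j).toScheme),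
      a ≫ (W i).ι = b ≫ (W j).ι → IsOpenImmersion (a ≫ (W i).ι) → a ≫ g i = b ≫ g j) :
    ∃ g' : (⨆ i, W i : Y.Opens).toScheme ⟶ X, ∀ i, Y.homOfLE (le_iSup W i) ≫ g' = g i := by
  let C := Scheme.Opens.iSupOpenCover W
  refine ⟨Scheme.Cover.glueMorphisms C g fun i j => ?_, fun i => Scheme.Cover.ι_glueMorphisms C g _ i⟩
  refine h i j _ _ _ ?_ ?_
  · have := congrArg (· ≫ (⨆ i, W i : Y.Opens).ι) (pullback.condition (f := C.f i) (g := C.f j))
    simpa [C, Scheme.Opens.iSupOpenCover] using this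
  · have : IsOpenImmersion (pullback.fst (C.f i) (C.f j)) := inferInstance
    have h2 : IsOpenImmersion (W i).ι := inferInstanceAs (IsOpenImmersion (Scheme.Opens.ι (W i)))
    exact @IsOpenImmersion.comp _ _ _ _ (W i).ι this h2

/-- Local extensions of a morphism given on a dense open glue. -/
theorem exists_extension {S X Y : Scheme.{u}} [IsReduced Y] (p : X ⟶ S) [IsSeparated p] (q : Y ⟶ S)
    (V : Y.Opens) (hV : Dense (V : Set Y)) (g : (V : Scheme.{u}) ⟶ X) (hg : g ≫ p = V.ι ≫ q) (P : Set Y)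
    (hloc : ∀ y ∈ P, ∃ (W : Y.Opens) (gW : (W : Scheme.{u}) ⟶ X), y ∈ W ∧ gW ≫ p = W.ι ≫ q ∧
      Y.homOfLE (inf_le_left : W ⊓ V ≤ W) ≫ gW = Y.homOfLE (inf_le_right : W ⊓ V ≤ V) ≫ g) :
    ∃ (U : Y.Opens) (hVU : V ≤ U) (g' : (U : Scheme.{u}) ⟶ X), g' ≫ p = U.ι ≫ q ∧
      Y.homOfLE hVU ≫ g' = g ∧ ∀ y ∈ P, y ∈ U := by
  classical
  choose W gW hyW hgW hagree using hloc
  let Wi : Option P → Y.Opens := fun o => o.elim V fun y => W y.1 y.2
  let gi : ∀ o, (Wi o).toScheme ⟶ X := fun o => match o with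
    | none => g
    | some y => gW y.1 y.2
  have hgi : ∀ o, gi o ≫ p = (Wi o).ι ≫ q := fun o => match o with
    | none => hg
    | some y => hgW y.1 y.2
  have hagree' : ∀ o, Y.homOfLE (inf_le_left : Wi o ⊓ V ≤ Wi o) ≫ gi o =
      Y.homOfLE (inf_le_right : Wi o ⊓ V ≤ V) ≫ g := fun o => match o with
    | none => rfl
    | some y => hagree y.1 y.2
  obtain ⟨g', hg'⟩ := exists_glue_opens Wi gi fun i j T a b hab _ => by
    let π := a ≫ (Wi i).ι
    have : IsReduced T := isReduced_of_isOpenImmersion π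
    let V' : T.Opens := π ⁻¹ᵁ V
    have hdense : Dense (V' : Set T) := hV.preimage π.isOpenEmbedding.isOpenMap
    have : IsDominant V'.ι := ⟨by rw [DenseRange, Scheme.Opens.range_ι]; exact hdense⟩
    have hv : ∀ o (c : T ⟶ (Wi o).toScheme), c ≫ (Wi o).ι = π →
        V'.ι ≫ c ≫ gi o = (π ∣_ V) ≫ g := by
      intro o c hc
      have hr : Set.range (V'.ι ≫ π) ⊆ Set.range (Wi o ⊓ V).ι := by
        rw [Scheme.Opens.range_ι]
        rintro _ ⟨t, rfl⟩
        refine ⟨?_, t.2⟩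
        rw [Scheme.Hom.comp_apply, ← hc, Scheme.Hom.comp_apply]
        exact (c _).2
      let e := IsOpenImmersion.lift (Wi o ⊓ V).ι (V'.ι ≫ π) hr
      have he : e ≫ (Wi o ⊓ V).ι = V'.ι ≫ π := IsOpenImmersion.lift_fac _ _ _
      have h1 : V'.ι ≫ c = e ≫ Y.homOfLE (inf_le_left : Wi o ⊓ V ≤ Wi o) := by
        rw [← cancel_mono (Wi o).ι, Category.assoc, hc, Category.assoc, Scheme.homOfLE_ι, he]
      have h2 : π ∣_ V = e ≫ Y.homOfLE (inf_le_right : Wi o ⊓ V ≤ V) := by
        rw [← cancel_mono V.ι, Category.assoc, Scheme.homOfLE_ι, he, morphismRestrict_ι]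
      rw [← Category.assoc, h1, Category.assoc, hagree', h2, Category.assoc]
    refine ext_of_isDominant_of_isSeparated p ?_ V'.ι ((hv i a rfl).trans (hv j b hab.symm).symm)
    rw [Category.assoc, hgi, Category.assoc, hgi, ← Category.assoc, hab, Category.assoc]
  refine ⟨⨆ o, Wi o, le_iSup Wi none, g', ?_, hg' none, fun y hy => ?_⟩
  · refine Scheme.Cover.hom_ext (Scheme.Opens.iSupOpenCover Wi) _ _ fun o => ?_
    change Y.homOfLE (le_iSup Wi o) ≫ _ = Y.homOfLE (le_iSup Wi o) ≫ _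
    rw [← Category.assoc, hg', hgi, ← Category.assoc, Scheme.homOfLE_ι]
  · exact Opens.mem_iSup.mpr ⟨some ⟨y, hy⟩, hyW y hy⟩

/-- Around a point with integral local ring every point generalizes to the same generic point. -/
theorem exists_irreducible_nbhd {Y : Scheme.{u}} [IsLocallyNoetherian Y] (y : Y)
    [IsDomain (Y.presheaf.stalk y)] :
    ∃ W : Y.Opens, y ∈ W ∧
      ∀ x ∈ W, Y.fromSpecStalk y (genericPoint (Spec (Y.presheaf.stalk y))) ⤳ x := by
  classical
  obtain ⟨_, ⟨U, hU, rfl⟩, hyU, -⟩ :=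
    Y.isBasis_affineOpens.exists_subset_of_mem_open (Set.mem_univ y) isOpen_univ
  replace hU : IsAffineOpen U := hU
  have : IsNoetherianRing Γ(Y, U) := IsLocallyNoetherian.component_noetherian ⟨U, hU⟩
  have hns : NoetherianSpace U := noetherianSpace_of_isAffineOpen U hU
  let Cs := {Z ∈ irreducibleComponents U | (⟨y, hyU⟩ : U) ∉ Z}
  have hfin : Cs.Finite := NoetherianSpace.finite_irreducibleComponents.subset fun Z hZ => hZ.1
  have hcl : IsClosed (⋃ Z ∈ Cs, Z) :=
    hfin.isClosed_biUnion fun Z hZ => isClosed_of_mem_irreducibleComponents Z hZ.1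
  let W : Y.Opens := ⟨Subtype.val '' (⋃ Z ∈ Cs, Z)ᶜ, U.2.isOpenMap_subtype_val _ hcl.isOpen_compl⟩
  refine ⟨W, ⟨⟨y, hyU⟩, fun h => ?_, rfl⟩, ?_⟩
  · obtain ⟨Z, hZ, hyZ⟩ := Set.mem_iUnion₂.mp h
    exact hZ.2 hyZ
  rintro _ ⟨x, hx, rfl⟩
  let Z := irreducibleComponent x
  have hZ : Z ∈ irreducibleComponents U := irreducibleComponent_mem_irreducibleComponents x
  have hyZ : (⟨y, hyU⟩ : U) ∈ Z := by
    by_contra hyZ
    exact hx (Set.mem_iUnion₂.mpr ⟨Z, ⟨hZ, hyZ⟩, mem_irreducibleComponent⟩)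
  obtain ⟨ζ, hζ⟩ := QuasiSober.sober hZ.1 (isClosed_of_mem_irreducibleComponents Z hZ)
  have hζy : (Subtype.val ζ : Y) ⤳ y := (hζ.specializes hyZ).map continuous_subtype_val
  have hζx : (Subtype.val ζ : Y) ⤳ (Subtype.val x : Y) := (hζ.specializes mem_irreducibleComponent).map continuous_subtype_val
  have : (Subtype.val ζ : Y) ∈ Set.range (Y.fromSpecStalk y) := by rw [Scheme.range_fromSpecStalk]; exact hζy
  obtain ⟨P, hP⟩ := this
  refine Specializes.trans ?_ hζx
  rw [← hP]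
  exact ((genericPoint_spec _).specializes trivial).map (Y.fromSpecStalk y).continuous

/-- The local extension at one point. -/
theorem exists_local_extension {S X Y : Scheme.{u}} [IsLocallyNoetherian Y] [IsReduced Y]
    (p : X ⟶ S) [IsSeparated p] [LocallyOfFiniteType p] (q : Y ⟶ S)
    (V : Y.Opens) (hV : Dense (V : Set Y)) (g : (V : Scheme.{u}) ⟶ X) (hg : g ≫ p = V.ι ≫ q)
    (y : Y) [IsDomain (Y.presheaf.stalk y)]
    (hlift : ∀ x : Spec (CommRingCat.of (FractionRing (Y.presheaf.stalk y))) ⟶ X,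
      x ≫ p = Spec.map (CommRingCat.ofHom (algebraMap (Y.presheaf.stalk y) (FractionRing (Y.presheaf.stalk y)))) ≫
          Y.fromSpecStalk y ≫ q →
      ∃ l : Spec (Y.presheaf.stalk y) ⟶ X, l ≫ p = Y.fromSpecStalk y ≫ q ∧
        Spec.map (CommRingCat.ofHom (algebraMap (Y.presheaf.stalk y) (FractionRing (Y.presheaf.stalk y)))) ≫ l = x) :
    ∃ (W : Y.Opens) (gW : (W : Scheme.{u}) ⟶ X), y ∈ W ∧ gW ≫ p = W.ι ≫ q ∧
      Y.homOfLE (inf_le_left : W ⊓ V ≤ W) ≫ gW = Y.homOfLE (inf_le_right : W ⊓ V ≤ V) ≫ g := by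
  let O := Y.presheaf.stalk y
  let K := FractionRing O
  let β : Spec (CommRingCat.of K) ⟶ Spec O := Spec.map (CommRingCat.ofHom (algebraMap O K))
  obtain ⟨W₀, hyW₀, hgen⟩ := exists_irreducible_nbhd y
  let η := Y.fromSpecStalk y (genericPoint (Spec O))
  have hβ : ∀ c, β c = genericPoint (Spec O) := fun c => by
    refine IsGenericPoint.eq ?_ (genericPoint_spec (Spec O))
    change PrimeSpectrum K at c
    show closure {(PrimeSpectrum.comap (algebraMap O K) c : PrimeSpectrum O)} = Set.univ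
    have hb : (PrimeSpectrum.comap (algebraMap O K) c).asIdeal = ⊥ := by
      show c.asIdeal.comap (algebraMap O K) = ⊥
      rw [c.asIdeal.eq_bot_of_prime, ← RingHom.ker_eq_comap_bot,
        (RingHom.injective_iff_ker_eq_bot _).1 (IsFractionRing.injective O K)]
    rw [PrimeSpectrum.closure_singleton, hb]
    exact PrimeSpectrum.zeroLocus_bot
  have hηV : η ∈ V := by
    obtain ⟨x, hxW, hxV⟩ := hV.inter_open_nonempty _ W₀.2 ⟨y, hyW₀⟩
    exact (hgen x hxW).mem_open V.2 hxV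
  have hrange : Set.range (β ≫ Y.fromSpecStalk y) ⊆ Set.range V.ι := by
    rintro _ ⟨c, rfl⟩
    rw [Scheme.Opens.range_ι, Scheme.Hom.comp_apply, hβ]
    exact hηV
  let k := IsOpenImmersion.lift V.ι (β ≫ Y.fromSpecStalk y) hrange
  have hk : k ≫ V.ι = β ≫ Y.fromSpecStalk y := IsOpenImmersion.lift_fac _ _ _
  obtain ⟨l, hl, hlk⟩ := hlift (k ≫ g) (by rw [Category.assoc, hg, ← Category.assoc, hk, Category.assoc]; rfl)
  obtain ⟨W₁, hyW₁, g₁, hg₁, hg₁q⟩ := spread_out_of_isGermInjective' q p l hl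
  let W := W₀ ⊓ W₁
  refine ⟨W, Y.homOfLE (inf_le_right : W ≤ W₁) ≫ g₁, ⟨hyW₀, hyW₁⟩, ?_, ?_⟩
  · rw [Category.assoc, hg₁q, ← Category.assoc, Scheme.homOfLE_ι]
  -- agreement
  have hηW : η ∈ W := ⟨(((genericPoint_spec _).specializes trivial).map (Y.fromSpecStalk y).continuous).mem_open W₀.2
      (by rw [Scheme.fromSpecStalk_closedPoint]; exact hyW₀),
    (((genericPoint_spec _).specializes trivial).map (Y.fromSpecStalk y).continuous).mem_open W₁.2
      (by rw [Scheme.fromSpecStalk_closedPoint]; exact hyW₁)⟩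
  have hr : Set.range (β ≫ Y.fromSpecStalk y) ⊆ Set.range (W ⊓ V).ι := by
    rintro _ ⟨c, rfl⟩
    rw [Scheme.Opens.range_ι, Scheme.Hom.comp_apply, hβ]
    exact ⟨hηW, hηV⟩
  let m := IsOpenImmersion.lift (W ⊓ V).ι (β ≫ Y.fromSpecStalk y) hr
  have hm : m ≫ (W ⊓ V).ι = β ≫ Y.fromSpecStalk y := IsOpenImmersion.lift_fac _ _ _
  have : IsDominant m := by
    refine ⟨fun z => ?_⟩
    obtain ⟨c⟩ : Nonempty (Spec (CommRingCat.of K)) := ⟨IsLocalRing.closedPoint K⟩
    have hsp : m c ⤳ z := by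
      rw [← (W ⊓ V).ι.isOpenEmbedding.toIsInducing.specializes_iff, ← Scheme.Hom.comp_apply, hm,
        Scheme.Hom.comp_apply, hβ]
      exact hgen _ (show (W ⊓ V).ι z ∈ W₀ from z.2.1.1)
    exact closure_mono (Set.singleton_subset_iff.mpr (Set.mem_range_self c)) hsp.mem_closure
  refine ext_of_isDominant_of_isSeparated p ?_ m ?_
  · simp only [Category.assoc, hg₁q, hg, Scheme.homOfLE_ι_assoc]
  · have h1 : m ≫ Y.homOfLE (inf_le_left : W ⊓ V ≤ W) ≫ Y.homOfLE (inf_le_right : W ≤ W₁) =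
        β ≫ W₁.fromSpecStalkOfMem y hyW₁ := by
      rw [← cancel_mono W₁.ι]
      simp only [Category.assoc, Scheme.homOfLE_ι, Scheme.Opens.fromSpecStalkOfMem_ι, hm]
    have h2 : m ≫ Y.homOfLE (inf_le_right : W ⊓ V ≤ V) = k := by
      rw [← cancel_mono V.ι, Category.assoc, Scheme.homOfLE_ι, hm, hk]
    rw [reassoc_of% h1, ← hg₁, reassoc_of% h2]
    exact hlk

/-- A section over the generic point extends over a valuation local ring. -/
theorem exists_lift_of_isClosedMap {X Y : Scheme.{u}} (f : X ⟶ Y) (hcl : IsClosedMap f) (y : Y)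
    [IsDomain (Y.presheaf.stalk y)] [ValuationRing (Y.presheaf.stalk y)]
    (x : Spec (CommRingCat.of (FractionRing (Y.presheaf.stalk y))) ⟶ X)
    (hx : x ≫ f = Spec.map (CommRingCat.ofHom (algebraMap (Y.presheaf.stalk y) (FractionRing (Y.presheaf.stalk y)))) ≫
          Y.fromSpecStalk y) :
    ∃ l : Spec (Y.presheaf.stalk y) ⟶ X, l ≫ f = Y.fromSpecStalk y ∧
      Spec.map (CommRingCat.ofHom (algebraMap (Y.presheaf.stalk y) (FractionRing (Y.presheaf.stalk y)))) ≫ l = x := by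
  let O : Type u := Y.presheaf.stalk y
  let K := FractionRing O
  let β : Spec (CommRingCat.of K) ⟶ Spec (CommRingCat.of O) := Spec.map (CommRingCat.ofHom (algebraMap O K))
  let d : Spec (CommRingCat.of O) ⟶ Y := Y.fromSpecStalk y
  have : IsPreimmersion d := inferInstanceAs (IsPreimmersion (Y.fromSpecStalk y))
  have hc : IsClosedMap (pullback.snd f d) := isClosedMap_of_isPullback (IsPullback.of_hasPullback f d) hcl
  let x' := pullback.lift x β hx
  have hx' : x' ≫ pullback.snd f d = β := pullback.lift_snd _ _ _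
  obtain ⟨z, hz, hz'⟩ : IsLocalRing.closedPoint O ∈
      pullback.snd f d '' closure {x' (IsLocalRing.closedPoint K)} :=
    (IsLocalRing.specializes_closedPoint (R := O) _).mem_closed (hc _ isClosed_closure)
      ⟨x' (IsLocalRing.closedPoint K), subset_closure rfl, rfl⟩
  obtain ⟨s, hs, hs'⟩ := exists_section_of_specializes (pullback.snd f d) x' hx' z
    (specializes_iff_mem_closure.mpr hz) hz'
  refine ⟨s ≫ pullback.fst f d, ?_, ?_⟩
  · rw [Category.assoc, pullback.condition, ← Category.assoc, hs]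
    exact Category.id_comp _
  · rw [← Category.assoc, hs', pullback.lift_fst]

theorem extend_codim_one {X Y : Scheme.{u}} [IsLocallyNoetherian Y] [IsReduced Y]
    (f : X ⟶ Y) [IsSeparated f] [LocallyOfFiniteType f] (hcl : IsClosedMap f)
    (P : Set Y) (hP : ∀ y ∈ P, ∃ _ : IsDomain (Y.presheaf.stalk y), ValuationRing (Y.presheaf.stalk y))
    (V : Y.Opens) (hV : Dense (V : Set Y)) (s : (V : Scheme.{u}) ⟶ X) (hs : s ≫ f = V.ι) :
    ∃ (U : Y.Opens) (hVU : V ≤ U) (s' : (U : Scheme.{u}) ⟶ X), s' ≫ f = U.ι ∧ Y.homOfLE hVU ≫ s' = s ∧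
      ∀ y ∈ P, y ∈ U := by
  obtain ⟨U, hVU, s', h1, h2, h3⟩ := exists_extension f (𝟙 Y) V hV s (by rw [Category.comp_id]; exact hs) P
    fun y hy => by
      obtain ⟨_, _⟩ := hP y hy
      exact exists_local_extension f (𝟙 Y) V hV s (by rw [Category.comp_id]; exact hs) y fun x hx => by
        rw [Category.comp_id] at hx
        obtain ⟨l, hl, hl'⟩ := exists_lift_of_isClosedMap f hcl y x hx
        exact ⟨l, by rw [Category.comp_id]; exact hl, hl'⟩
  exact ⟨U, hVU, s', by rw [h1, Category.comp_id], h2, h3⟩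

theorem extend_proper_codim_one {S X Y : Scheme.{u}} (p : X ⟶ S) [IsProper p] (q : Y ⟶ S)
    [IsLocallyNoetherian Y] [IsReduced Y]
    (P : Set Y) (hP : ∀ y ∈ P, ∃ _ : IsDomain (Y.presheaf.stalk y), ValuationRing (Y.presheaf.stalk y))
    (V : Y.Opens) (hV : Dense (V : Set Y)) (g : (V : Scheme.{u}) ⟶ X) (hg : g ≫ p = V.ι ≫ q) :
    ∃ (U : Y.Opens) (hVU : V ≤ U) (g' : (U : Scheme.{u}) ⟶ X), g' ≫ p = U.ι ≫ q ∧ Y.homOfLE hVU ≫ g' = g ∧
      ∀ y ∈ P, y ∈ U := by
  obtain ⟨U, hVU, s, hs, hs', hP'⟩ := extend_codim_one (pullback.snd p q) (pullback.snd p q).isClosedMap P hP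
    V hV (pullback.lift g V.ι hg) (pullback.lift_snd _ _ _)
  refine ⟨U, hVU, s ≫ pullback.fst p q, ?_, ?_, hP'⟩
  · rw [Category.assoc, pullback.condition, ← Category.assoc, hs]
  · rw [← Category.assoc, hs', pullback.lift_fst]

end Groth.Agent.EGA73
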