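import Groth.Agent.EGA73.ProjUniv
import Mathlib.RingTheory.MvPolynomial.Homogeneous

/-!
The polynomial ring as a symmetric algebra.
-/

set_option autoImplicit false

universe u

noncomputable section

namespace Groth.Agent.EGA73.PolySym

variable (n : ℕ) (R : Type u) [CommRing R]

/-- The linear forms. -/
def linForm : (Fin (n + 1) → R) →ₗ[R] MvPolynomial (Fin (n + 1)) R :=
  Fintype.linearCombination R MvPolynomial.X

theorem linForm_single (i : Fin (n + 1)) : linForm n R (Pi.single i 1) = MvPolynomial.X i := by
  rw [linForm, Fintype.linearCombination_apply_single, one_smul]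

theorem linForm_mem (c : Fin (n + 1) → R) : linForm n R c ∈ CohB1.polyGrading n R 1 := by
  rw [linForm, Fintype.linearCombination_apply]
  exact Submodule.sum_mem _ fun i _ => Submodule.smul_mem _ _ (MvPolynomial.isHomogeneous_X R i)

theorem isSymmetricAlgebra_linForm : IsSymmetricAlgebra (linForm n R) := by
  let g : MvPolynomial (Fin (n + 1)) R →ₐ[R] SymmetricAlgebra R (Fin (n + 1) → R) :=
    MvPolynomial.aeval fun i => SymmetricAlgebra.ι R _ (Pi.single i 1)
  let f := SymmetricAlgebra.lift (linForm n R)
  have h1 : f.comp g = AlgHom.id R _ := by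
    refine MvPolynomial.algHom_ext fun i => ?_
    simp [f, g, linForm_single]
  have h2 : g.comp f = AlgHom.id R _ := by
    refine SymmetricAlgebra.algHom_ext ((Pi.basisFun R (Fin (n + 1))).ext fun i => ?_)
    simp [f, g, linForm_single]
  exact ⟨Function.LeftInverse.injective (g := g) fun x => DFunLike.congr_fun h2 x,
    Function.RightInverse.surjective (g := g) fun x => DFunLike.congr_fun h1 x⟩

end Groth.Agent.EGA73.PolySym
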