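import Groth.Agent.EGA73.GradedVanish
import Mathlib.AlgebraicGeometry.ProjectiveSpectrum.Basic
import Mathlib.AlgebraicGeometry.Properties

/-!
`Proj` of an essentially reduced graded ring is reduced.
-/

universe u

open AlgebraicGeometry HomogeneousLocalization

namespace Groth.Agent.EGA73

variable {R A : Type u} [CommRing R] [CommRing A] [Algebra R A] {𝒜 : ℕ → Submodule R A} [GradedAlgebra 𝒜]

theorem isReduced_away (hred : ∀ f ∈ (HomogeneousIdeal.irrelevant 𝒜).toIdeal, IsNilpotent f → f = 0)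
    {d : ℕ} (hd : 0 < d) {f : A} (hf : f ∈ 𝒜 d) : _root_.IsReduced (Away 𝒜 f) := by
  refine ⟨fun x ⟨k, hk⟩ => ?_⟩
  obtain ⟨n, a, ha, rfl⟩ := Away.mk_surjective 𝒜 hf x
  have h := congrArg HomogeneousLocalization.val hk
  simp only [HomogeneousLocalization.val_pow, Away.val_mk, HomogeneousLocalization.val_zero,
    Localization.mk_pow] at h
  rw [← Localization.mk_zero 1, Localization.mk_eq_mk_iff, Localization.r_iff_exists] at h
  obtain ⟨⟨_, m, rfl⟩, hm⟩ := h
  simp only [OneMemClass.coe_one, one_mul, mul_zero] at hm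
  have hfa : f * a = 0 := by
    refine hred _ (Ideal.mul_mem_right _ _ (HomogeneousIdeal.mem_irrelevant_of_mem 𝒜 hd hf)) ⟨m + k, ?_⟩
    calc (f * a) ^ (m + k) = f ^ m * a ^ k * (f ^ k * a ^ m) := by ring
      _ = 0 := by rw [hm, zero_mul]
  apply HomogeneousLocalization.val_injective
  rw [Away.val_mk, HomogeneousLocalization.val_zero, ← Localization.mk_zero 1, Localization.mk_eq_mk_iff,
    Localization.r_iff_exists]
  exact ⟨⟨f, 1, pow_one f⟩, by simp [hfa]⟩

theorem isReduced_proj (hred : ∀ f ∈ (HomogeneousIdeal.irrelevant 𝒜).toIdeal, IsNilpotent f → f = 0) :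
    AlgebraicGeometry.IsReduced (Proj 𝒜) := by
  have : ∀ i, AlgebraicGeometry.IsReduced ((Proj.affineOpenCover 𝒜).openCover.X i) := fun i => by
    have := isReduced_away hred i.1.pos i.2.2
    show AlgebraicGeometry.IsReduced (Spec (CommRingCat.of (Away 𝒜 (i.2 : A))))
    infer_instance
  exact IsReduced.of_openCover _ (Proj.affineOpenCover 𝒜).openCover

end Groth.Agent.EGA73
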