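import Groth.Agent.EGAProj74.PConeDom
import Groth.Agent.EGAProj74.BaseChange
import Groth.Agent.EGA73.GradedBasics
import Groth.Agent.EGA73.ProjReduced

/-! Morphisms of `Proj` induced by graded homomorphisms. -/

universe u

open CategoryTheory CategoryTheory.Limits AlgebraicGeometry TopologicalSpace Opposite
open HomogeneousLocalization
open scoped HomogeneousIdeal

namespace Groth.Agent.EGA73

variable {R A : Type u} [CommRing R] [CommRing A] [Algebra R A] {𝒜 : ℕ → Submodule R A} [GradedAlgebra 𝒜]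
  {B : Type u} [CommRing B] [Algebra R B] {ℬ : ℕ → Submodule R B} [GradedAlgebra ℬ] (φ : 𝒜 →+*ᵍ ℬ)

theorem surjOn_of_surjective (h : Function.Surjective φ) (n : ℕ) :
    Set.SurjOn φ (𝒜 n) (ℬ n) := by
  intro b hb
  obtain ⟨a, rfl⟩ := h b
  refine ⟨DirectSum.decompose 𝒜 a n, SetLike.coe_mem _, ?_⟩
  rw [GradedRingHom.map_directSumDecompose, DirectSum.decompose_of_mem_same ℬ hb]

/-- A homogeneous element of positive degree whose basic open is empty is nilpotent. -/
theorem isNilpotent_of_basicOpen_eq_bot {d : ℕ} (hd : 0 < d) {f : A} (hf : f ∈ 𝒜 d)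
    (h : Proj.basicOpen 𝒜 f = ⊥) : IsNilpotent f := by
  have h1 : f ∈ (⊥ : Ideal A).radical := mem_radical_of_forall_mem 𝒜 (Ideal.IsHomogeneous.bot 𝒜) hd hf
    fun x _ => by
      by_contra hx
      have : (x : Proj 𝒜) ∈ Proj.basicOpen 𝒜 f := hx
      rw [h] at this
      exact this
  exact h1

theorem denseRange_map (hφ : ℬ₊ ≤ (𝒜₊).map φ) (hker : ∀ a : A, φ a = 0 → IsNilpotent a) :
    DenseRange (Proj.map φ hφ).base := by
  refine dense_iff_inter_open.2 fun U hU ⟨x, hx⟩ => ?_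
  obtain ⟨e, f, he, hf, hxf, hle⟩ := exists_basicOpen_le 𝒜 (U := ⟨U, hU⟩) (x := x) hx
  by_contra hne
  have hb : Proj.basicOpen ℬ (φ f) = ⊥ := by
    rw [eq_bot_iff]
    intro y hy
    exact hne ⟨(Proj.map φ hφ).base y, hle hy, ⟨y, rfl⟩⟩
  obtain ⟨n, hn⟩ := isNilpotent_of_basicOpen_eq_bot he (φ.map_mem hf) hb
  obtain ⟨m, hm⟩ := hker (f ^ n) ((map_pow φ f n).trans hn)
  rw [← pow_mul] at hm
  exact hxf (x.isPrime.mem_of_pow_mem _ (hm ▸ zero_mem _))

theorem isClosedImmersion_map_of_surjective (h : Function.Surjective φ)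
    (hφ : ℬ₊ ≤ (𝒜₊).map φ) : IsClosedImmersion (Proj.map φ hφ) :=
  EGAProj74.map_of_away (P := @IsClosedImmersion) φ hφ fun _ hd f hf =>
    IsClosedImmersion.spec_of_surjective _
      (EGAProj74.away_map_surjective φ hd f hf 0 fun n _ => surjOn_of_surjective φ h n)

theorem isIso_map_of_bijOn (h : ∀ n : ℕ, 0 < n → Set.BijOn φ (𝒜 n) (ℬ n))
    (hφ : ℬ₊ ≤ (𝒜₊).map φ) : IsIso (Proj.map φ hφ) :=
  EGAProj74.map_of_away (P := MorphismProperty.isomorphisms _) φ hφ fun _ hd f hf => by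
    have : IsIso (CommRingCat.ofHom (Away.map φ f)) :=
      (ConcreteCategory.isIso_iff_bijective _).mpr
        ⟨EGAProj74.away_map_injective φ hd f hf 1 fun n hn a ha h0 =>
            (h n hn).injOn ha (zero_mem _) (by rw [h0, map_zero]),
          EGAProj74.away_map_surjective φ hd f hf 1 fun n hn => (h n hn).surjOn⟩
    exact (inferInstance : IsIso (Spec.map (CommRingCat.ofHom (Away.map φ f))))

theorem mem_map_base (hφ : ℬ₊ ≤ (𝒜₊).map φ) (y : Proj ℬ) (a : A) :
    a ∈ ((Proj.map φ hφ).base y).asHomogeneousIdeal ↔ φ a ∈ y.asHomogeneousIdeal := Iff.rfl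

theorem surjective_map_of_ker_nilpotent (hsurj : Function.Surjective φ)
    (hker : ∀ a : A, φ a = 0 → IsNilpotent a) (hφ : ℬ₊ ≤ (𝒜₊).map φ) :
    Function.Surjective (Proj.map φ hφ).base := by
  have := isClosedImmersion_map_of_surjective φ hsurj hφ
  intro x
  have h := (denseRange_map φ hφ hker).closure_range
  rw [(Proj.map φ hφ).isClosedEmbedding.isClosed_range.closure_eq] at h
  exact Set.eq_univ_iff_forall.1 h x

end Groth.Agent.EGA73
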