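import Groth.Agent.EGA73.Tensor

/-!
Invertible modules on a scheme: trivializations by nowhere vanishing sections, tensor products, powers.
-/

universe u

open CategoryTheory Limits AlgebraicGeometry Opposite TopologicalSpace

noncomputable section

namespace Groth.Agent.EGA73

variable {X Y : Scheme.{u}}

/-- The section over everything of a module as a compatible family. -/
def sectionsOfTop (M : X.Modules) (e : Γ(M, ⊤)) :
    SheafOfModules.sections (R := X.ringCatSheaf) M :=
  PresheafOfModules.sectionsMk (fun V => M.presheaf.map (homOfLE (le_top (a := V.unop))).op e) (fun {V W} i => by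
    show M.presheaf.map i (M.presheaf.map _ e) = _
    rw [← ConcreteCategory.comp_apply, ← Functor.map_comp]
    rfl)

/-- The morphism `O → M` given by a global section. -/
def unitHom (M : X.Modules) (e : Γ(M, ⊤)) : Coh.structureModule X ⟶ M :=
  (SheafOfModules.unitHomEquiv (R := X.ringCatSheaf) M).symm (sectionsOfTop M e)

theorem unitHom_app (M : X.Modules) (e : Γ(M, ⊤)) (V : X.Opens) (c : Γ(X, V)) :
    (unitHom M e).app V c = c • M.presheaf.map (homOfLE (le_top (a := V))).op e := rfl

/-- A module with a section over `U` generating it freely on every smaller open is trivial on `U`. -/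
theorem nonempty_restrict_iso_unit (M : X.Modules) (U : X.Opens) (e : Γ(M, U))
    (h : ∀ (V : X.Opens) (hV : V ≤ U),
      Function.Bijective (fun c : Γ(X, V) => c • M.presheaf.map (homOfLE hV).op e)) :
    Nonempty (M.restrict U.ι ≅ Coh.structureModule U) := by
  let e' : Γ(M.restrict U.ι, ⊤) := M.presheaf.map (homOfLE U.ι_image_top.le).op e
  have : IsIso (unitHom (M.restrict U.ι) e') := by
    rw [Scheme.Modules.Hom.isIso_iff_isIso_app]
    intro V
    refine (ConcreteCategory.isIso_iff_bijective _).mpr ?_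
    have hV : U.ι ''ᵁ V ≤ U := (U.ι.image_mono le_top).trans U.ι_image_top.le
    have hfun : ((unitHom (M.restrict U.ι) e').app V : Γ(U, V) → Γ(M.restrict U.ι, V)) =
        (fun c : Γ(X, U.ι ''ᵁ V) => c • M.presheaf.map (homOfLE hV).op e) ∘ (U.ι.appIso V).inv := by
      funext c
      refine (unitHom_app _ e' V c).trans ?_
      show (U.ι.appIso V).inv c • M.presheaf.map (homOfLE (U.ι.image_mono (le_top (a := V)))).op
        (M.presheaf.map (homOfLE U.ι_image_top.le).op e) = _
      rw [← ConcreteCategory.comp_apply (M.presheaf.map _), ← Functor.map_comp]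
      rfl
    rw [show ((unitHom (M.restrict U.ι) e').app V : Γ(Coh.structureModule (U : Scheme.{u}), V) → Γ(M.restrict U.ι, V))
      = _ from hfun]
    exact (h _ hV).comp (ConcreteCategory.bijective_of_isIso (U.ι.appIso V).inv)
  exact ⟨(asIso (unitHom (M.restrict U.ι) e')).symm⟩

/-- Triviality passes to smaller opens. -/
theorem nonempty_restrict_iso_unit_of_le {M : X.Modules} {U V : X.Opens} (h : V ≤ U)
    (hU : Nonempty (M.restrict U.ι ≅ Coh.structureModule U)) :
    Nonempty (M.restrict V.ι ≅ Coh.structureModule V) := by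
  obtain ⟨e⟩ := hU
  exact ⟨(Scheme.Modules.restrictFunctorCongr (X.homOfLE_ι h).symm).app M ≪≫
    (Scheme.Modules.restrictFunctorComp _ _).app M ≪≫
    (Scheme.Modules.restrictFunctor (X.homOfLE h)).mapIso e ≪≫ Scheme.Modules.restrictUnitIso _⟩

theorem isInvertible_structureModule : PicF.IsInvertible (Coh.structureModule X) := fun _ =>
  ⟨⊤, trivial, ⟨Scheme.Modules.restrictUnitIso _⟩⟩

theorem isInvertible_of_iso {L L' : X.Modules} (e : L ≅ L') (h : PicF.IsInvertible L) : PicF.IsInvertible L' :=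
  fun x => by
    obtain ⟨U, hx, ⟨i⟩⟩ := h x
    exact ⟨U, hx, ⟨((Scheme.Modules.restrictFunctor U.ι).mapIso e).symm ≪≫ i⟩⟩

theorem isInvertible_tensorMod {L L' : X.Modules} (h : PicF.IsInvertible L) (h' : PicF.IsInvertible L') :
    PicF.IsInvertible (CohB1.tensorMod L L') := fun x => by
  obtain ⟨U, hx, hi⟩ := h x
  obtain ⟨V, hx', hi'⟩ := h' x
  obtain ⟨i⟩ := nonempty_restrict_iso_unit_of_le (inf_le_left : U ⊓ V ≤ U) hi
  obtain ⟨i'⟩ := nonempty_restrict_iso_unit_of_le (inf_le_right : U ⊓ V ≤ V) hi'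
  exact ⟨U ⊓ V, ⟨hx, hx'⟩, ⟨(tensorRestrictIso _ _ _).symm ≪≫ tensIso i i' ≪≫ tensUnitLeft _⟩⟩

theorem isInvertible_tensorPow {L : X.Modules} (h : PicF.IsInvertible L) :
    ∀ n : ℕ, PicF.IsInvertible (CohB1.tensorPow L n)
  | 0 => isInvertible_structureModule
  | n + 1 => isInvertible_tensorMod (isInvertible_tensorPow h n) h

/-- Invertible modules restrict to invertible modules. -/
theorem isInvertible_restrict {L : Y.Modules} (h : PicF.IsInvertible L) (f : X ⟶ Y) [IsOpenImmersion f] :
    PicF.IsInvertible (L.restrict f) := fun x => by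
  obtain ⟨U, hx, ⟨i⟩⟩ := h (f x)
  have hle : f ''ᵁ (f ⁻¹ᵁ U) ≤ U := f.image_preimage_le U
  refine ⟨f ⁻¹ᵁ U, hx, ⟨((Scheme.Modules.restrictFunctorComp _ _).app L).symm ≪≫
    (Scheme.Modules.restrictFunctorCongr (f := (f ⁻¹ᵁ U).ι ≫ f) (g := (f ∣_ U) ≫ U.ι)
      (morphismRestrict_ι f U).symm).app L ≪≫
    (Scheme.Modules.restrictFunctorComp _ _).app L ≪≫
    (Scheme.Modules.restrictFunctor (f ∣_ U)).mapIso i ≪≫ Scheme.Modules.restrictUnitIso _⟩⟩

/-- A module locally trivial at the points of `W` is invertible on `W`. -/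
theorem isInvertible_restrict_opens {L : X.Modules} (W : X.Opens)
    (h : ∀ x : X, x ∈ W → ∃ D : X.Opens, x ∈ D ∧ Nonempty (L.restrict D.ι ≅ Coh.structureModule D)) :
    PicF.IsInvertible (L.restrict W.ι) := fun x => by
  obtain ⟨D, hx, ⟨i⟩⟩ := h x.1 x.2
  refine ⟨W.ι ⁻¹ᵁ D, hx, ⟨((Scheme.Modules.restrictFunctorComp _ _).app L).symm ≪≫
    (Scheme.Modules.restrictFunctorCongr (f := (W.ι ⁻¹ᵁ D).ι ≫ W.ι) (g := (W.ι ∣_ D) ≫ D.ι)
      (morphismRestrict_ι W.ι D).symm).app L ≪≫
    (Scheme.Modules.restrictFunctorComp _ _).app L ≪≫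
    (Scheme.Modules.restrictFunctor (W.ι ∣_ D)).mapIso i ≪≫ Scheme.Modules.restrictUnitIso _⟩⟩

end Groth.Agent.EGA73

end
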