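import Groth.Agent.EGA73.ProjUniv
import Groth.Agent.Amp73.ProjAmple

/-!
Uniqueness in the universal property of the `Proj` of a symmetric algebra.
-/

set_option autoImplicit false
set_option backward.isDefEq.respectTransparency.types false

universe u

open CategoryTheory CategoryTheory.Limits AlgebraicGeometry Opposite TopologicalSpace
open HomogeneousLocalization

noncomputable section

namespace Groth.Agent.EGA73.ProjUniv

open Groth.Agent.Var76.LineBundle Groth.Agent.Var76.ZeroScheme Groth.Agent.Amp73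

variable {A : Type u} [CommRing A] {S : Type u} [CommRing S] [Algebra A S] {𝒮 : ℕ → Submodule A S}
  [GradedAlgebra 𝒮] {M : Type u} [AddCommGroup M] [Module A M] {ι : M →ₗ[A] S}

/-- The basic opens of a spanning family of linear forms cover. -/
theorem exists_mem_basicOpen (hι : ∀ m : M, ι m ∈ 𝒮 1) (hsym : IsSymmetricAlgebra ι) {J : Type*}
    (b : J → M) (hb : Submodule.span A (Set.range b) = ⊤) (x : Proj 𝒮) :
    ∃ j, x ∈ Proj.basicOpen 𝒮 (ι (b j)) := by
  classical
  by_contra hno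
  push Not at hno
  have hm : ∀ m : M, ι m ∈ (x : ProjectiveSpectrum 𝒮).asHomogeneousIdeal.toIdeal := by
    intro m
    have hmem : m ∈ Submodule.span A (Set.range b) := by rw [hb]; trivial
    induction hmem using Submodule.span_induction with
    | mem z hz => obtain ⟨j, rfl⟩ := hz; exact not_not.1 (hno j)
    | zero => rw [map_zero]; exact zero_mem _
    | add z w _ _ hz hw => rw [map_add]; exact add_mem hz hw
    | smul a z _ hz => rw [map_smul, Algebra.smul_def]; exact Ideal.mul_mem_left _ _ hz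
  obtain ⟨g, hg, hxg⟩ : ∃ g ∈ 𝒮 1, g ∉ (x : ProjectiveSpectrum 𝒮).asHomogeneousIdeal := by
    by_contra H
    push Not at H
    exact ProjectiveSpectrum.not_irrelevant_le x
      ((irrelevant_eq_span_one hι hsym).trans_le (Ideal.span_le.mpr H))
  refine hxg ?_
  suffices key : ∀ (y : S) (n : ℕ), 0 < n →
      (DirectSum.decompose 𝒮 y n : S) ∈ (x : ProjectiveSpectrum 𝒮).asHomogeneousIdeal.toIdeal by
    have := key g 1 one_pos
    rwa [DirectSum.decompose_of_mem_same 𝒮 hg] at this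
  intro y
  induction y using hsym.induction with
  | algebraMap r =>
    intro n hn
    rw [DirectSum.decompose_of_mem_ne 𝒮 (SetLike.algebraMap_mem_graded 𝒮 r) hn.ne]
    exact zero_mem _
  | ι m =>
    intro n hn
    by_cases h : n = 1
    · subst h
      rw [DirectSum.decompose_of_mem_same 𝒮 (hι m)]
      exact hm m
    · rw [DirectSum.decompose_of_mem_ne 𝒮 (hι m) (Ne.symm h)]
      exact zero_mem _
  | mul a c ha hc =>
    intro n hn
    rw [DirectSum.decompose_mul, DirectSum.coe_mul_apply]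
    refine Ideal.sum_mem _ fun ij hij => ?_
    have hsum := (Finset.mem_filter.1 hij).2
    by_cases h : ij.1 = 0
    · exact Ideal.mul_mem_left _ _ (hc _ (by omega))
    · exact Ideal.mul_mem_right _ _ (ha _ (by omega))
  | add a c ha hc =>
    intro n hn
    simp only [DirectSum.decompose_add, DirectSum.add_apply, Submodule.coe_add]
    exact add_mem (ha n hn) (hc n hn)

/-- The map `m ↦ ι m / f` and its extension. -/
theorem exists_frac_surjective (hι : ∀ m : M, ι m ∈ 𝒮 1) (hsym : IsSymmetricAlgebra ι) (m₀ : M) :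
    ∃ ψ : S →+* Away 𝒮 (ι m₀), Function.Surjective ψ ∧
      (∀ a, ψ (algebraMap A S a) = fromZeroRingHom 𝒮 _ (algebraMap A (𝒮 0) a)) ∧
      ∀ m, ψ (ι m) = HomogeneousLocalization.mk ⟨1, ⟨ι m, hι m⟩, ⟨ι m₀, hι m₀⟩, Submonoid.mem_powers _⟩ := by
  classical
  let L := Localization.Away (ι m₀)
  let _ : Algebra A (Away 𝒮 (ι m₀)) :=
    ((fromZeroRingHom 𝒮 (Submonoid.powers (ι m₀))).comp (algebraMap A (𝒮 0))).toAlgebra
  let f : Away 𝒮 (ι m₀) →+* L := algebraMap _ _
  have hf : ∀ a, f (algebraMap A (Away 𝒮 (ι m₀)) a) = algebraMap S L (algebraMap A S a) := fun a =>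
    Localization.mk_one_eq_algebraMap _
  let fA : Away 𝒮 (ι m₀) →ₐ[A] L :=
    { f with commutes' := fun a => (hf a).trans (IsScalarTower.algebraMap_apply A S L a).symm }
  let frac : M → Away 𝒮 (ι m₀) := fun m =>
    HomogeneousLocalization.mk ⟨1, ⟨ι m, hι m⟩, ⟨ι m₀, hι m₀⟩, Submonoid.mem_powers _⟩
  have hfrac : ∀ m, algebraMap S L (ι m₀) * f (frac m) = algebraMap S L (ι m) := fun m => by
    rw [mul_comm]
    show (frac m).val * _ = _
    rw [HomogeneousLocalization.val_mk, Localization.mk_eq_mk']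
    exact IsLocalization.mk'_spec L (ι m) _
  have hu : IsUnit (algebraMap S L (ι m₀)) := IsLocalization.Away.algebraMap_isUnit (ι m₀)
  let ℓ : M →ₗ[A] Away 𝒮 (ι m₀) :=
    { toFun := frac
      map_add' := fun x y => HomogeneousLocalization.val_injective _ (hu.mul_left_cancel (by
        show _ * f (frac (x + y)) = _ * f (frac x + frac y)
        rw [map_add f, mul_add, hfrac, hfrac, hfrac, map_add, map_add]))
      map_smul' := fun a x => HomogeneousLocalization.val_injective _ (hu.mul_left_cancel (by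
        rw [RingHom.id_apply]
        rw [Algebra.smul_def (R := A) (A := Away 𝒮 (ι m₀))]
        show algebraMap S L (ι m₀) * f (frac (a • x)) =
          algebraMap S L (ι m₀) * f (algebraMap A (Away 𝒮 (ι m₀)) a * frac x)
        rw [map_mul f, hf, mul_left_comm, hfrac, hfrac, map_smul, Algebra.smul_def,
          map_mul])) }
  let ψ := hsym.lift ℓ
  have hψ : ∀ d, ∀ x ∈ 𝒮 d, algebraMap S L x = algebraMap S L (ι m₀) ^ d * f (ψ x) := by
    intro d x hx
    exact eq_pow_mul hι hsym (IsScalarTower.toAlgHom A S L) (fA.comp ψ) (algebraMap S L (ι m₀))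
      (fun m => by
        show algebraMap S L (ι m) = _ * f (hsym.lift ℓ (ι m))
        rw [IsSymmetricAlgebra.lift_eq]
        exact (hfrac m).symm) d x hx
  refine ⟨ψ.toRingHom, fun z => ?_, fun a => ψ.commutes a, fun m => hsym.lift_eq ℓ m⟩
  obtain ⟨d, x, hx, rfl⟩ := Away.mk_surjective 𝒮 (hι m₀) z
  refine ⟨x, HomogeneousLocalization.val_injective _ ((hu.pow d).mul_left_cancel ?_)⟩
  show _ * f (ψ x) = _ * _
  rw [← hψ d x (by simpa using hx), Away.val_mk, Localization.mk_eq_mk', ← map_pow, mul_comm]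
  exact (IsLocalization.mk'_spec L x _).symm

/-- Morphisms to `Proj` of a symmetric algebra are determined by the pullback of `O(1)` with its
sections. -/
theorem hom_ext_of_iso (hι : ∀ m : M, ι m ∈ 𝒮 1) (hsym : IsSymmetricAlgebra ι) {J : Type*}
    (b : J → M) (hb : Submodule.span A (Set.range b) = ⊤) {X : Scheme.{u}} (r r' : X ⟶ Proj 𝒮)
    (hrr' : r ≫ Proj.toSpecZero 𝒮 ≫ Spec.map (CommRingCat.ofHom (algebraMap A (𝒮 0))) =
      r' ≫ Proj.toSpecZero 𝒮 ≫ Spec.map (CommRingCat.ofHom (algebraMap A (𝒮 0))))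
    (τ : (Scheme.Modules.pullback r).obj (Twist.twist 𝒮 1) ≅
      (Scheme.Modules.pullback r').obj (Twist.twist 𝒮 1))
    (hτ : ∀ j, τ.hom.app ⊤ (ProjUP.pullSec r (Twist.twist 𝒮 1) (Twist.globalOf 𝒮 ⟨ι (b j), hι _⟩)) =
      ProjUP.pullSec r' (Twist.twist 𝒮 1) (Twist.globalOf 𝒮 ⟨ι (b j), hι _⟩)) :
    r = r' := by
  classical
  have hgen := irrelevant_eq_span_one hι hsym
  have hinv : PicF.IsInvertible (Twist.twist 𝒮 1) := EGA73.isInvertible_twist hgen 1
  let f1 : J → 𝒮 1 := fun j => ⟨ι (b j), hι _⟩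
  -- restrictions of the pulled back sections
  have hsec : ∀ (t : X ⟶ Proj 𝒮) (i j : J) (W : X.Opens) (h : W ≤ t ⁻¹ᵁ Proj.basicOpen 𝒮 (ι (b j))),
      res ((Scheme.Modules.pullback t).obj (Twist.twist 𝒮 1)) (le_top : W ≤ ⊤)
        (ProjUP.pullSec t (Twist.twist 𝒮 1) (Var76.ProjFrame.sect 𝒮 (f1 i))) =
      t.appLE _ W h (Proj.awayToSection 𝒮 (ι (b j))
          (HomogeneousLocalization.mk ⟨1, f1 i, f1 j, Submonoid.mem_powers _⟩)) •
        res ((Scheme.Modules.pullback t).obj (Twist.twist 𝒮 1)) (le_top : W ≤ ⊤)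
          (ProjUP.pullSec t (Twist.twist 𝒮 1) (Var76.ProjFrame.sect 𝒮 (f1 j))) := by
    intro t i j W h
    let P := (Scheme.Modules.pullback t).obj (Twist.twist 𝒮 1)
    have h0 : ∀ k, res P le_top (ProjUP.pullSec t (Twist.twist 𝒮 1) (Var76.ProjFrame.sect 𝒮 (f1 k))) =
        res P h (pullS t (Twist.twist 𝒮 1) (Proj.basicOpen 𝒮 (ι (b j)))
          (res (Twist.twist 𝒮 1) le_top (Var76.ProjFrame.sect 𝒮 (f1 k)))) := fun k => by
      rw [← res_pullS, res_res]; rfl
    rw [h0, h0, ← Var76.ProjFrame.away_smul_frame 𝒮 (f1 j) (f1 i), pullS_smul, res_smul]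
    rfl
  refine Scheme.hom_ext_of_forall r r' fun x => ?_
  obtain ⟨j, hj⟩ := exists_mem_basicOpen hι hsym b hb (r x)
  let W : X.Opens := r ⁻¹ᵁ Proj.basicOpen 𝒮 (ι (b j))
  let P := (Scheme.Modules.pullback r).obj (Twist.twist 𝒮 1)
  let P' := (Scheme.Modules.pullback r').obj (Twist.twist 𝒮 1)
  have hfr : IsFrame P W (res P le_top (ProjUP.pullSec r (Twist.twist 𝒮 1) (Var76.ProjFrame.sect 𝒮 (f1 j)))) := by
    have h := isFrame_pullS r hinv (Var76.ProjFrame.isFrame 𝒮 (f1 j))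
    rw [← res_pullS] at h
    exact h
  have hτW : ∀ i, τ.hom.app W (res P le_top (ProjUP.pullSec r (Twist.twist 𝒮 1) (Var76.ProjFrame.sect 𝒮 (f1 i)))) =
      res P' le_top (ProjUP.pullSec r' (Twist.twist 𝒮 1) (Var76.ProjFrame.sect 𝒮 (f1 i))) := fun i => by
    rw [Mero90.app_res]
    exact congrArg (res P' le_top) (hτ i)
  have hfr' : IsFrame P' W (res P' le_top (ProjUP.pullSec r' (Twist.twist 𝒮 1) (Var76.ProjFrame.sect 𝒮 (f1 j)))) := by
    rw [← hτW]
    exact (isFrame_app_iff τ.hom _).2 hfr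
  have hW' : W ≤ r' ⁻¹ᵁ Proj.basicOpen 𝒮 (ι (b j)) := by
    rw [← genLocus_degOneHom hgen (f1 j), ← genLocus_pullHom r' hinv, ← isFrame_iff_le_genLocus,
      ← res_val _ _ (le_top : W ≤ r' ⁻¹ᵁ ⊤)]
    erw [val_pullHom r' (degOneHom 𝒮 (f1 j)) ⊤]
    have e : val (Twist.twist 𝒮 1) (degOneHom 𝒮 (f1 j)) ⊤ = Var76.ProjFrame.sect 𝒮 (f1 j) :=
      (Var76.Frames.val_ofSection _ _ _).trans (res_self _ _)
    rw [e]
    exact hfr'
  refine ⟨W, hj, ?_⟩
  have hd : 0 < 1 := one_pos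
  rw [ProjMor.ι_comp_eq r (hι (b j)) hd W le_rfl, ProjMor.ι_comp_eq r' (hι (b j)) hd W hW']
  congr 2
  congr 1
  obtain ⟨ψ, hψs, hψA, hψι⟩ := exists_frac_surjective hι hsym (b j)
  refine CommRingCat.hom_ext ?_
  rw [← RingHom.cancel_right (g₁ := _) (g₂ := _) hψs]
  let φ : S →+* Γ(X, W) :=
    ((Proj.awayToSection 𝒮 (ι (b j)) ≫ r.appLE _ W le_rfl).hom).comp ψ
  let φ' : S →+* Γ(X, W) :=
    ((Proj.awayToSection 𝒮 (ι (b j)) ≫ r'.appLE _ W hW').hom).comp ψ
  show φ = φ'
  have hA : ∀ a, φ (algebraMap A S a) = φ' (algebraMap A S a) := by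
    have hh : CommRingCat.ofHom ((fromZeroRingHom 𝒮 (Submonoid.powers (ι (b j)))).comp (algebraMap A (𝒮 0))) ≫
          Proj.awayToSection 𝒮 (ι (b j)) ≫ r.appLE _ W le_rfl =
        CommRingCat.ofHom ((fromZeroRingHom 𝒮 (Submonoid.powers (ι (b j)))).comp (algebraMap A (𝒮 0))) ≫
          Proj.awayToSection 𝒮 (ι (b j)) ≫ r'.appLE _ W hW' := by
      refine ProjMor.toSpecΓ_ext ?_
      have key : ∀ (t : X ⟶ Proj 𝒮) (e : W ≤ t ⁻¹ᵁ Proj.basicOpen 𝒮 (ι (b j))),
          W.toSpecΓ ≫ Spec.map (CommRingCat.ofHom ((fromZeroRingHom 𝒮 (Submonoid.powers (ι (b j)))).comp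
              (algebraMap A (𝒮 0))) ≫ Proj.awayToSection 𝒮 (ι (b j)) ≫ t.appLE _ W e) =
            W.ι ≫ t ≫ Proj.toSpecZero 𝒮 ≫ Spec.map (CommRingCat.ofHom (algebraMap A (𝒮 0))) := by
        intro t e
        rw [← Category.assoc W.ι, ProjMor.ι_comp_eq t (hι (b j)) hd W e]
        simp only [Category.assoc]
        rw [Proj.awayι_toSpecZero_assoc, ← Spec.map_comp, ← Spec.map_comp]
        rfl
      rw [key, key, hrr']
    intro a
    show (Proj.awayToSection 𝒮 (ι (b j)) ≫ r.appLE _ W le_rfl).hom (ψ (algebraMap A S a)) =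
      (Proj.awayToSection 𝒮 (ι (b j)) ≫ r'.appLE _ W hW').hom (ψ (algebraMap A S a))
    rw [hψA]
    exact congr($hh a)
  let : Algebra A Γ(X, W) := (φ.comp (algebraMap A S)).toAlgebra
  let Φ : S →ₐ[A] Γ(X, W) := { φ with commutes' := fun a => rfl }
  let Φ' : S →ₐ[A] Γ(X, W) := { φ' with commutes' := fun a => (hA a).symm }
  have hΦ : Φ = Φ' := by
    refine hsym.algHom_ext (LinearMap.ext_on_range hb fun i => ?_)
    show φ (ι (b i)) = φ' (ι (b i))
    refine (hfr' W le_rfl).1 ?_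
    show _ • res P' le_rfl _ = _ • res P' le_rfl _
    rw [res_self]
    have h1 := hsec r i j W le_rfl
    have h2 := hsec r' i j W hW'
    have h1' := congrArg (τ.hom.app W) h1
    rw [hτW, Scheme.Modules.Hom.app_smul, hτW] at h1'
    show (Proj.awayToSection 𝒮 (ι (b j)) ≫ r.appLE _ W le_rfl).hom (ψ (ι (b i))) • _ =
      (Proj.awayToSection 𝒮 (ι (b j)) ≫ r'.appLE _ W hW').hom (ψ (ι (b i))) • _
    rw [hψι]
    exact h1'.symm.trans h2
  exact RingHom.ext fun z => DFunLike.congr_fun hΦ z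

end Groth.Agent.EGA73.ProjUniv
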