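import Mathlib.AlgebraicGeometry.Modules.Tilde

/-!
A criterion for quasi-coherence: sections over the basic opens of affine opens are localizations.
-/

universe u

open CategoryTheory Limits AlgebraicGeometry TopologicalSpace Opposite

namespace Groth.Agent.EGA73

variable {X : Scheme.{u}} (M : X.Modules)

/-- Scalars of `Spec Γ(X, U)` act on sections of the restriction of `M` as restricted functions. -/
theorem restrict_fromSpec_smul {U : X.Opens} (hU : IsAffineOpen U) {V : (Spec Γ(X, U)).Opens}
    (hV : hU.fromSpec ''ᵁ V ≤ U) (r : Γ(X, U)) (s : Γ(M.restrict hU.fromSpec, V)) :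
    (M.restrictAppIso hU.fromSpec V).hom (r • s) =
      X.presheaf.map (homOfLE hV).op r • (M.restrictAppIso hU.fromSpec V).hom s := by
  rw [Scheme.Modules.smul_Spec_def, Scheme.Modules.smul_restrictAppIso_hom_apply]
  congr 1
  have : (Scheme.ΓSpecIso Γ(X, U)).inv ≫ (Spec Γ(X, U)).presheaf.map V.leTop.op ≫
      (hU.fromSpec.appIso V).inv = X.presheaf.map (homOfLE hV).op := by
    have h1 : hU.fromSpec.appLE U V (by rw [hU.fromSpec_preimage_self]; exact le_top) =
        (Scheme.ΓSpecIso Γ(X, U)).inv ≫ (Spec Γ(X, U)).presheaf.map V.leTop.op := by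
      rw [Scheme.Hom.appLE, hU.fromSpec_app_self, Category.assoc, ← Functor.map_comp]
      rfl
    rw [← Category.assoc, ← h1, Scheme.Hom.appLE_appIso_inv]
  exact congr($(this) r)

/-- If sections of `M` over the basic opens of the affine open `U` are obtained from sections over `U`
by inverting the function, then `M` restricted to `U` is quasi-coherent. -/
theorem isQuasicoherent_restrict_fromSpec {U : X.Opens} (hU : IsAffineOpen U)
    (hE : ∀ (r : Γ(X, U)) (s : Γ(M, X.basicOpen r)), ∃ (n : ℕ) (t : Γ(M, U)),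
      M.presheaf.map (homOfLE (X.basicOpen_le r)).op t =
        X.presheaf.map (homOfLE (X.basicOpen_le r)).op (r ^ n) • s)
    (hz : ∀ (r : Γ(X, U)) (t : Γ(M, U)),
      M.presheaf.map (homOfLE (X.basicOpen_le r)).op t = 0 → ∃ n : ℕ, r ^ n • t = 0) :
    (M.restrict hU.fromSpec).IsQuasicoherent := by
  rw [isQuasicoherent_iff_isIso_fromTildeΓ, isIso_fromTildeΓ_iff_isLocalizing]
  intro r
  have hT : hU.fromSpec ''ᵁ ⊤ = U := by rw [Scheme.Hom.image_top_eq_opensRange, hU.opensRange_fromSpec]
  have hD : hU.fromSpec ''ᵁ PrimeSpectrum.basicOpen r = X.basicOpen r := hU.fromSpec_image_basicOpen r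
  have hDle : hU.fromSpec ''ᵁ PrimeSpectrum.basicOpen r ≤ U := hD.trans_le (X.basicOpen_le r)
  let eT : Γ(M.restrict hU.fromSpec, ⊤) ≅ Γ(M, U) :=
    M.restrictAppIso _ _ ≪≫ M.presheaf.mapIso (eqToIso hT.symm).op
  let eD : Γ(M.restrict hU.fromSpec, PrimeSpectrum.basicOpen r) ≅ Γ(M, X.basicOpen r) :=
    M.restrictAppIso _ _ ≪≫ M.presheaf.mapIso (eqToIso hD.symm).op
  have heT : ∀ (a : Γ(X, U)) (t : Γ(M.restrict hU.fromSpec, ⊤)), eT.hom (a • t) = a • eT.hom t := by
    intro a t
    simp only [eT, Iso.trans_hom, ConcreteCategory.comp_apply, Functor.mapIso_hom, Iso.op_hom]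
    rw [restrict_fromSpec_smul M hU hT.le, M.map_smul, ← ConcreteCategory.comp_apply, ← Functor.map_comp]
    simp
  have heD : ∀ (a : Γ(X, U)) (t : Γ(M.restrict hU.fromSpec, PrimeSpectrum.basicOpen r)),
      eD.hom (a • t) = X.presheaf.map (homOfLE (X.basicOpen_le r)).op a • eD.hom t := by
    intro a t
    simp only [eD, Iso.trans_hom, ConcreteCategory.comp_apply, Functor.mapIso_hom, Iso.op_hom]
    rw [restrict_fromSpec_smul M hU hDle, M.map_smul, ← ConcreteCategory.comp_apply, ← Functor.map_comp]
    rfl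
  have hres : ∀ t : Γ(M.restrict hU.fromSpec, ⊤),
      eD.hom ((M.restrict hU.fromSpec).presheaf.map (homOfLE (le_top (a := PrimeSpectrum.basicOpen r))).op t) =
        M.presheaf.map (homOfLE (X.basicOpen_le r)).op (eT.hom t) := by
    intro t
    simp only [eD, eT, Iso.trans_hom, ConcreteCategory.comp_apply, Functor.mapIso_hom, Iso.op_hom]
    change M.presheaf.map _ (M.presheaf.map (homOfLE (hU.fromSpec.image_mono le_top)).op t) =
      M.presheaf.map _ (M.presheaf.map _ t)
    rw [← ConcreteCategory.comp_apply, ← Functor.map_comp,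
      ← ConcreteCategory.comp_apply (M.presheaf.map _), ← Functor.map_comp]
    rfl
  refine IsLocalizedModule.Away.mk_of_addCommGroup
    (Scheme.Modules.isUnit_algebraMap_end_of_le_basicOpen r le_rfl) (fun s => ?_) (fun t ht => ?_)
  · obtain ⟨n, t, ht⟩ := hE r (eD.hom s)
    refine ⟨n, eT.inv t, (ConcreteCategory.bijective_of_isIso eD.hom).injective ?_⟩
    refine (heD _ s).trans (ht.symm.trans ?_)
    exact (congrArg (M.presheaf.map (homOfLE (X.basicOpen_le r)).op) (eT.inv_hom_id_apply t).symm).trans
      (hres (eT.inv t)).symm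
  · obtain ⟨n, hn⟩ := hz r (eT.hom t) <| (hres t).symm.trans ((congrArg eD.hom ht).trans (map_zero _))
    refine ⟨n, (ConcreteCategory.bijective_of_isIso eT.hom).injective ?_⟩
    exact (heT _ t).trans (hn.trans (map_zero _).symm)

/-- Quasi-coherence is checked on any family of affine opens covering `X`. -/
theorem isQuasicoherent_of_affine_cover {ι : Type u} (U : ι → X.Opens) (hU : ∀ i, IsAffineOpen (U i))
    (hcov : ⨆ i, U i = ⊤) (h : ∀ i, (M.restrict (hU i).fromSpec).IsQuasicoherent) :
    M.IsQuasicoherent := by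
  have hover : ∀ i, SheafOfModules.IsQuasicoherent.{u} (SheafOfModules.over.{u} M (U i)) := fun i => by
    have := h i
    -- a presentation over `Spec Γ(X, U i)` moved to the open subscheme `U i`
    have h0 : IsIso (M.restrict (hU i).fromSpec).fromTildeΓ := (isQuasicoherent_iff_isIso_fromTildeΓ (M.restrict (hU i).fromSpec)).mp inferInstance
    let P : (M.restrict (hU i).fromSpec).Presentation :=
      SheafOfModules.Presentation.ofIsIso.{u, u, u} (@asIso _ _ _ _ (M.restrict (hU i).fromSpec).fromTildeΓ h0).hom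
        (presentationTilde.{u} _ Set.univ (by simp) _ (Submodule.span_eq _))
    have hcomp : (hU i).isoSpec.hom ≫ (hU i).fromSpec = (U i).ι := (hU i).isoSpec_hom_fromSpec
    let e1 : (M.restrict (hU i).fromSpec).restrict (hU i).isoSpec.hom ≅ M.restrict (U i).ι :=
      ((Scheme.Modules.restrictFunctorComp _ _).app M).symm ≪≫
        (Scheme.Modules.restrictFunctorCongr hcomp).app M
    let P' : (M.restrict (U i).ι).Presentation :=
      SheafOfModules.Presentation.ofIsIso.{u, u, u} e1.hom
        (Scheme.Modules.presentationRestrict (hU i).isoSpec.hom P)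
    let E := Scheme.Modules.overEquiv (U i)
    have : PreservesColimitsOfSize.{u, u} E.inverse := inferInstance
    let P'' := P'.map E.inverse
      ((E.unitIso.app _).trans (E.inverse.mapIso (((Scheme.Modules.overFunctorEquiv (U i)).app
        (SheafOfModules.unit X.ringCatSheaf)).trans (Scheme.Modules.restrictUnitIso (U i).ι))))
    exact (SheafOfModules.Presentation.ofIsIso.{u, u, u}
      (E.inverse.map ((Scheme.Modules.overFunctorEquiv (U i)).inv.app M) ≫ E.unitInv.app _) P'').isQuasicoherent
  refine SheafOfModules.IsQuasicoherent.of_coversTop M U ?_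
  rw [Opens.coversTop_iff]
  exact hcov

end Groth.Agent.EGA73
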