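import Groth.Agent.EGA73.TildeSections
import Groth.Agent.EGA73.QCohCrit

/-!
`M(n)~` is quasi-coherent, and `O(n)` is `A(n)~`.
-/

universe u

open CategoryTheory Limits AlgebraicGeometry TopologicalSpace Opposite GrTilde

noncomputable section

namespace Groth.Agent.EGA73

variable {R A : Type u} [CommRing R] [CommRing A] [Algebra R A] {𝒜 : ℕ → Submodule R A} [GradedAlgebra 𝒜]

/-- The degree-zero fraction `a / h` at a point. -/
def a0Frac (x : ProjectiveSpectrum 𝒜) {e : ℕ} {a h : A} (ha : a ∈ 𝒜 e) (hh : h ∈ 𝒜 e)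
    (hx : h ∉ x.asHomogeneousIdeal) : Twist.A0 𝒜 x :=
  HomogeneousLocalization.mk ⟨e, ⟨a, ha⟩, ⟨h, hh⟩, hx⟩

theorem isUnit_a0Frac_iff (x : ProjectiveSpectrum 𝒜) {e : ℕ} {a h : A} (ha : a ∈ 𝒜 e) (hh : h ∈ 𝒜 e)
    (hx : h ∉ x.asHomogeneousIdeal) : IsUnit (a0Frac x ha hh hx) ↔ a ∉ x.asHomogeneousIdeal := by
  rw [← HomogeneousLocalization.isUnit_iff_isUnit_val, a0Frac, HomogeneousLocalization.val_mk,
    Localization.mk_eq_mk']
  exact IsLocalization.AtPrime.isUnit_mk'_iff (Localization.AtPrime x.asHomogeneousIdeal.toIdeal) _ a ⟨h, hx⟩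

/-- A function on `D₊(f)` is `a / f ^ l`. -/
theorem exists_away_value {d : ℕ} (hd : 0 < d) {f : A} (hf : f ∈ 𝒜 d)
    (r : Γ(Proj 𝒜, Proj.basicOpen 𝒜 f)) :
    ∃ (l : ℕ) (a : A) (ha : a ∈ 𝒜 (l * d)) (hfl : f ^ l ∈ 𝒜 (l * d)), ∀ x : ProjectiveSpectrum.basicOpen 𝒜 f,
      (r.1 x : Twist.A0 𝒜 x.1) = a0Frac x.1 ha hfl (pow_notMem x.2 l) := by
  obtain ⟨s, rfl⟩ := (ConcreteCategory.bijective_of_isIso (Proj.basicOpenIsoAway 𝒜 f hf hd).hom).2 r
  obtain ⟨l, a, ha, rfl⟩ := HomogeneousLocalization.Away.mk_surjective 𝒜 hf s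
  exact ⟨l, a, by simpa using ha, by simpa using SetLike.pow_mem_graded l hf, fun x => rfl⟩

theorem proj_basicOpen_eq {d : ℕ} {f : A} (r : Γ(Proj 𝒜, Proj.basicOpen 𝒜 f)) {l : ℕ} {a : A}
    (ha : a ∈ 𝒜 (l * d)) (hfl : f ^ l ∈ 𝒜 (l * d))
    (h : ∀ x : ProjectiveSpectrum.basicOpen 𝒜 f,
      (r.1 x : Twist.A0 𝒜 x.1) = a0Frac x.1 ha hfl (pow_notMem x.2 l)) :
    (Proj 𝒜).basicOpen r = Proj.basicOpen 𝒜 (f * a) := by
  ext x
  rw [SetLike.mem_coe, SetLike.mem_coe, Scheme.mem_basicOpen'', Proj.basicOpen_mul]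
  constructor
  · rintro ⟨hx, hu⟩
    refine ⟨hx, ?_⟩
    have := hu.map (AlgebraicGeometry.Proj.stalkIso' 𝒜 x)
    erw [AlgebraicGeometry.Proj.stalkIso'_germ] at this
    exact (isUnit_a0Frac_iff _ _ _ _).mp ((congrArg IsUnit (h ⟨x, hx⟩)).mp this)
  · rintro ⟨hx, hax⟩
    refine ⟨hx, ?_⟩
    apply (isUnit_map_iff (AlgebraicGeometry.Proj.stalkIso' 𝒜 x) _).mp
    erw [AlgebraicGeometry.Proj.stalkIso'_germ]
    exact (congrArg IsUnit (h ⟨x, hx⟩)).mpr ((isUnit_a0Frac_iff _ _ _ _).mpr hax)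

theorem a0Frac_pow (x : ProjectiveSpectrum 𝒜) {e : ℕ} {a h : A} (ha : a ∈ 𝒜 e) (hh : h ∈ 𝒜 e)
    (hx : h ∉ x.asHomogeneousIdeal) (k : ℕ) (hxk : h ^ k ∉ x.asHomogeneousIdeal) :
    (a0Frac x ha hh hx ^ k).val = Localization.mk (a ^ k) ⟨h ^ k, hxk⟩ := by
  rw [HomogeneousLocalization.val_pow, a0Frac, HomogeneousLocalization.val_mk, Localization.mk_pow]
  rfl

variable {M : Type u} [AddCommGroup M] [Module R M] [Module A M] {ℳ : ℕ → Submodule R M}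
variable [SetLike.GradedSMul 𝒜 ℳ]

omit [Module R M] [SetLike.GradedSMul 𝒜 ℳ] in
theorem smul_pow_frac (x : ProjectiveSpectrum 𝒜) {e : ℕ} {a h : A} (ha : a ∈ 𝒜 e) (hh : h ∈ 𝒜 e)
    (hx : h ∉ x.asHomogeneousIdeal) (k : ℕ) {g : A} (hg : g ∉ x.asHomogeneousIdeal) (m : M) :
    (a0Frac x ha hh hx ^ k) • frac x m g hg = frac x (a ^ k • m) (h ^ k * g) (mul_notMem (pow_notMem hx k) hg) := by
  rw [a0_smul_def, a0Frac_pow x ha hh hx k (pow_notMem hx k)]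
  exact LocalizedModule.mk_smul_mk _ _ _ _

variable [DirectSum.Decomposition ℳ]

variable (𝒜 ℳ) in
theorem isQCoh_tilde (n : ℤ) : Coh.IsQCoh (GrTilde.tilde 𝒜 ℳ n) := by
  let ι := Σ e : {e : ℕ // 0 < e}, 𝒜 e.1
  refine isQuasicoherent_of_affine_cover _ (fun i : ι => Proj.basicOpen 𝒜 (i.2 : A))
    (fun i => Proj.isAffineOpen_basicOpen 𝒜 _ i.2.2 i.1.2) ?_ fun i => ?_
  · refine eq_top_iff.mpr fun x _ => Opens.mem_iSup.mpr ?_
    obtain ⟨e, f, he, hf, hfx⟩ := exists_pos_notMem 𝒜 x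
    exact ⟨⟨⟨e, he⟩, ⟨f, hf⟩⟩, hfx⟩
  obtain ⟨⟨d, hd⟩, ⟨f, hf⟩⟩ := i
  refine isQuasicoherent_restrict_fromSpec _ _ (fun r s => ?_) (fun r t ht => ?_)
  · obtain ⟨l, a, ha, hfl, hr⟩ := exists_away_value hd hf r
    have hopen := proj_basicOpen_eq r ha hfl hr
    have hfa : f * a ∈ 𝒜 (d + l * d) := SetLike.mul_mem_graded hf ha
    let s' := (GrTilde.tilde 𝒜 ℳ n).presheaf.map (eqToHom hopen.symm).op s
    obtain ⟨k, i, m, hm, hi, hs'⟩ := exists_frac_eq (Nat.add_pos_left hd _) hfa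
      (s' : sect 𝒜 ℳ n (op (ProjectiveSpectrum.basicOpen 𝒜 (f * a))))
    have hden : f ^ (l * k + k) ∈ 𝒜 ((l * k + k) * d) := by simpa using SetLike.pow_mem_graded _ hf
    have hij : (i : ℤ) = ((l * k + k) * d : ℕ) + n := by rw [hi]; push_cast; ring
    refine ⟨k, fracSect (U := ProjectiveSpectrum.basicOpen 𝒜 f) hm hden (fun x => pow_notMem x.2 _) hij,
      sect_ext fun x => ?_⟩
    have hx' : x.1 ∈ Proj.basicOpen 𝒜 (f * a) := hopen.le x.2
    have hxf : f ∉ x.1.asHomogeneousIdeal := fun e => hx' (Ideal.mul_mem_right _ _ e)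
    show frac x.1 m (f ^ (l * k + k)) _ = (r.1 ⟨x.1, hxf⟩ ^ k : Twist.A0 𝒜 x.1) • (s.1 x).1
    have hsx : (s.1 x).1 = frac x.1 m ((f * a) ^ k) (pow_notMem hx' k) := hs' ⟨x.1, hx'⟩
    rw [hsx, hr, smul_pow_frac]
    refine frac_congr ?_
    rw [smul_smul]
    congr 1
    ring
  · obtain ⟨l, a, ha, hfl, hr⟩ := exists_away_value hd hf r
    have hopen := proj_basicOpen_eq r ha hfl hr
    obtain ⟨k, i, m, hm, hi, hts⟩ :=
      exists_frac_eq hd hf (t : sect 𝒜 ℳ n (op (ProjectiveSpectrum.basicOpen 𝒜 f)))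
    have hzero : ∀ x : ProjectiveSpectrum.basicOpen 𝒜 (f * a),
        frac x.1 m (f ^ k) (pow_notMem (fun e => x.2 (Ideal.mul_mem_right _ _ e)) k) = 0 := fun x =>
      (hts ⟨x.1, fun e => x.2 (Ideal.mul_mem_right _ _ e)⟩).symm.trans
        (congrArg (fun q => (q.1 ⟨x.1, hopen.ge x.2⟩).1) ht)
    obtain ⟨N, hN⟩ := exists_pow_smul_eq_zero_of_frac (Nat.add_pos_left hd (l * d))
      (SetLike.mul_mem_graded hf ha) hm _ hzero
    refine ⟨N, sect_ext fun x => ?_⟩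
    show (r.1 x ^ N : Twist.A0 𝒜 x.1) • (t.1 x).1 = 0
    rw [hts, hr, smul_pow_frac, frac_eq_zero_iff]
    exact ⟨f ^ N, pow_notMem x.2 N, by rw [smul_smul, ← mul_pow]; exact hN⟩

variable (𝒜) in
theorem twistAt_eq_tildeAt (n : ℤ) (x : ProjectiveSpectrum 𝒜) (q : Twist.Loc 𝒜 x) :
    q ∈ Twist.twistAt 𝒜 n x ↔ (q : LocMod 𝒜 (M := A) x) ∈ GrTilde.tildeAt 𝒜 𝒜 n x := by
  constructor
  · intro hq
    induction hq using Submodule.span_induction with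
    | mem q hq => exact Submodule.subset_span hq
    | zero => exact zero_mem _
    | add q q' _ _ h h' => exact add_mem h h'
    | smul c q _ h =>
      have e : (c • q : Twist.Loc 𝒜 x) = c.val * q := by
        rw [Algebra.smul_def, HomogeneousLocalization.algebraMap_apply]
      rw [e]
      exact Submodule.smul_mem (GrTilde.tildeAt 𝒜 𝒜 n x) c h
  · intro hq
    induction hq using Submodule.span_induction with
    | mem q hq => exact Submodule.subset_span hq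
    | zero => exact zero_mem _
    | add q q' _ _ h h' => exact add_mem h h'
    | smul c q _ h =>
      have e : ((c • q : LocMod 𝒜 (M := A) x) : Twist.Loc 𝒜 x) = c • (q : Twist.Loc 𝒜 x) := by
        rw [Algebra.smul_def, HomogeneousLocalization.algebraMap_apply]
      rw [e]
      exact Submodule.smul_mem (Twist.twistAt 𝒜 n x) c h

/-- A section of `O(n)` viewed as a section of `A(n)~`. -/
def toTildeFun (n : ℤ) (U : (Opens (ProjectiveSpectrum.top 𝒜))ᵒᵖ) :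
    Twist.sectN (𝒜 := 𝒜) n U → sect 𝒜 𝒜 n U := fun s =>
  ⟨fun x => ⟨(s.1 x).1, (twistAt_eq_tildeAt 𝒜 n x.1 _).mp (s.1 x).2⟩, fun x => by
    obtain ⟨V, xV, iV, i, j, a, g, nin, h, w⟩ := s.2 x
    exact ⟨V, xV, iV, i, j, a, g, nin, h, w⟩⟩

/-- A section of `A(n)~` viewed as a section of `O(n)`. -/
def ofTildeFun (n : ℤ) (U : (Opens (ProjectiveSpectrum.top 𝒜))ᵒᵖ) :
    sect 𝒜 𝒜 n U → Twist.sectN (𝒜 := 𝒜) n U := fun s =>
  ⟨fun x => ⟨(s.1 x).1, (twistAt_eq_tildeAt 𝒜 n x.1 _).mpr (s.1 x).2⟩, fun x => by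
    obtain ⟨V, xV, iV, i, j, a, g, nin, h, w⟩ := s.2 x
    exact ⟨V, xV, iV, i, j, a, g, nin, h, w⟩⟩

variable (𝒜) in
/-- The identification `O(n) ≅ A(n)~`. -/
def twistIsoTilde (n : ℤ) : Twist.twist 𝒜 n ≅ GrTilde.tilde 𝒜 𝒜 n :=
  (Scheme.Modules.fullyFaithfulToPresheafOfModules (X := Proj 𝒜)).preimageIso <|
    PresheafOfModules.isoMk
      (fun U => ModuleCat.isoMk
        (AddEquiv.toAddCommGrpIso (X := AddCommGrpCat.of (Twist.sectN (𝒜 := 𝒜) n U))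
          (Y := AddCommGrpCat.of (sect 𝒜 𝒜 n U))
          { toFun := toTildeFun n U
            invFun := ofTildeFun n U
            left_inv := fun _ => rfl
            right_inv := fun _ => rfl
            map_add' := fun _ _ => rfl })
        (fun c => by
          ext s
          refine Subtype.ext (funext fun x => Subtype.ext ?_)
          show ((c : Twist.O (𝒜 := 𝒜) U).1 x).val • ((s : Twist.sectN (𝒜 := 𝒜) n U).1 x).1 =
            (((c : Twist.O (𝒜 := 𝒜) U).1 x • (s : Twist.sectN (𝒜 := 𝒜) n U).1 x : Twist.twistAt 𝒜 n x.1) : Twist.Loc 𝒜 x.1)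
          rw [Twist.coe_smul_val]
          rfl))
      (fun _ _ _ => rfl)

variable (𝒜) in
theorem isQCoh_twist (n : ℤ) : Coh.IsQCoh (Twist.twist 𝒜 n) :=
  (SheafOfModules.isQuasicoherent (Proj 𝒜).ringCatSheaf).prop_of_iso (twistIsoTilde 𝒜 n).symm
    (isQCoh_tilde 𝒜 𝒜 n)

end Groth.Agent.EGA73

end
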