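import Groth.Agent.Mod48.Tensor
import Groth.Prelude.Def_CohB1
import Mathlib.CategoryTheory.Sites.PreservesLocallyBijective

/-!
The tensor product of modules on a scheme and its restriction to open subschemes.
-/

universe u

open CategoryTheory Limits AlgebraicGeometry MonoidalCategory Opposite TopologicalSpace

noncomputable section

namespace Groth.Agent.EGA73

variable {X Y : Scheme.{u}}

/-- `⊗` respects isomorphisms. -/
def tensIso {M M' N N' : X.Modules} (a : M ≅ M') (b : N ≅ N') : CohB1.tensorMod M N ≅ CohB1.tensorMod M' N' :=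
  (Mod48.shf (O := X.sheaf)).mapIso ((Mod48.fgt (O := X.sheaf)).mapIso a ⊗ᵢ (Mod48.fgt (O := X.sheaf)).mapIso b)

/-- Symmetry of `⊗`. -/
def tensComm (M N : X.Modules) : CohB1.tensorMod M N ≅ CohB1.tensorMod N M :=
  (Mod48.tensSymm (O := X.sheaf) M).app N

/-- Associativity of `⊗`. -/
def tensAssoc' (L M N : X.Modules) :
    CohB1.tensorMod (CohB1.tensorMod L M) N ≅ CohB1.tensorMod L (CohB1.tensorMod M N) :=
  Mod48.tensAssoc (O := X.sheaf) L M N

/-- `O ⊗ M = M`. -/
def tensUnitLeft (M : X.Modules) : CohB1.tensorMod (Coh.structureModule X) M ≅ M :=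
  (Mod48.tensUnit (O := X.sheaf)).app M

/-- `M ⊗ O = M`. -/
def tensUnitRight (M : X.Modules) : CohB1.tensorMod M (Coh.structureModule X) ≅ M :=
  tensComm M _ ≪≫ tensUnitLeft M

variable (f : X ⟶ Y) [IsOpenImmersion f]

/-- The map of ring presheaves defining restriction along an open immersion. -/
def restrictRingMap : (X.sheaf.obj ⋙ forget₂ CommRingCat RingCat) ⟶
    f.opensFunctor.op ⋙ (Y.sheaf.obj ⋙ forget₂ CommRingCat RingCat) :=
  Functor.whiskerRight ({ app U := (f.appIso U.unop).inv } : X.presheaf ⟶ f.opensFunctor.op ⋙ Y.presheaf)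
    (forget₂ CommRingCat RingCat)

/-- Restriction of presheaves of modules along an open immersion. -/
abbrev preRestrict : Mod48.PreM Y.sheaf ⥤ Mod48.PreM X.sheaf :=
  PresheafOfModules.pushforward (F := f.opensFunctor) (restrictRingMap f)

/-- `f|(M) ⊗ f|(N) → f|(M ⊗ N)` on presheaves, section by section. -/
def tensorRestrictApp (M N : Y.Modules) (U : (Opens X)ᵒᵖ) :
    (CohB1.tensorPre (M.restrict f) (N.restrict f)).obj U ⟶
      ((preRestrict f).obj (CohB1.tensorPre M N)).obj U :=
  ModuleCat.MonoidalCategory.tensorLift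
    (fun m n => (Mod48.tp (O := Y.sheaf) (M := CohB1.toPMod M) (N := CohB1.toPMod N)
      (X := op (f ''ᵁ U.unop)) m n :))
    (fun _ _ _ => Mod48.tp_add_left (O := Y.sheaf) _ _ _)
    (fun a _ _ => Mod48.tp_smul_left (O := Y.sheaf) ((restrictRingMap f).app U a) _ _)
    (fun _ _ _ => Mod48.tp_add_right (O := Y.sheaf) _ _ _)
    (fun a _ _ => Mod48.tp_smul_right (O := Y.sheaf) ((restrictRingMap f).app U a) _ _)

theorem tensorRestrictApp_tp (M N : Y.Modules) (U : (Opens X)ᵒᵖ) (m : Γ(M, f ''ᵁ U.unop)) (n : Γ(N, f ''ᵁ U.unop)) :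
    tensorRestrictApp f M N U (Mod48.tp (O := X.sheaf) (M := CohB1.toPMod (M.restrict f))
      (N := CohB1.toPMod (N.restrict f)) (X := U) m n) =
      Mod48.tp (O := Y.sheaf) (M := CohB1.toPMod M) (N := CohB1.toPMod N) (X := op (f ''ᵁ U.unop)) m n :=
  rfl

theorem tensorRestrictApp_bijective (M N : Y.Modules) (U : (Opens X)ᵒᵖ) :
    Function.Bijective (tensorRestrictApp f M N U) := by
  let tX : Γ(M, f ''ᵁ U.unop) → Γ(N, f ''ᵁ U.unop) → (CohB1.tensorPre (M.restrict f) (N.restrict f)).obj U :=
    fun m n => Mod48.tp (O := X.sheaf) (M := CohB1.toPMod (M.restrict f)) (N := CohB1.toPMod (N.restrict f))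
      (X := U) m n
  let b : (CohB1.tensorPre M N).obj (op (f ''ᵁ U.unop)) →+
      (CohB1.tensorPre (M.restrict f) (N.restrict f)).obj U :=
    TensorProduct.liftAddHom
      { toFun := fun m =>
          { toFun := fun n => tX m n
            map_zero' := TensorProduct.tmul_zero _ _
            map_add' := fun a a' => Mod48.tp_add_right (O := X.sheaf) _ _ _ }
        map_zero' := AddMonoidHom.ext fun n => TensorProduct.zero_tmul _ _
        map_add' := fun a a' => AddMonoidHom.ext fun n => Mod48.tp_add_left (O := X.sheaf) _ _ _ }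
      (fun c m n => by
        obtain ⟨a, rfl⟩ : ∃ a, (restrictRingMap f).app U a = c :=
          (ConcreteCategory.bijective_of_isIso (f.appIso U.unop).inv).2 c
        exact (Mod48.tp_smul_left (O := X.sheaf) (M := CohB1.toPMod (M.restrict f))
          (N := CohB1.toPMod (N.restrict f)) (X := U) a m n).trans
          (Mod48.tp_smul_right (O := X.sheaf) (M := CohB1.toPMod (M.restrict f))
          (N := CohB1.toPMod (N.restrict f)) (X := U) a m n).symm)
  refine Function.bijective_iff_has_inverse.mpr ⟨b, fun z => ?_, fun z => ?_⟩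
  · induction z using TensorProduct.induction_on with
    | zero => exact (congrArg b (map_zero (tensorRestrictApp f M N U).hom)).trans (map_zero b)
    | tmul m n => exact (congrArg b (tensorRestrictApp_tp f M N U m n)).trans rfl
    | add z z' hz hz' =>
      exact (congrArg b (map_add (tensorRestrictApp f M N U).hom z z')).trans
        ((map_add b _ _).trans (congrArg₂ (· + ·) hz hz'))
  · induction z using TensorProduct.induction_on with
    | zero => exact (congrArg (tensorRestrictApp f M N U) (map_zero b)).trans (map_zero (tensorRestrictApp f M N U).hom)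
    | tmul m n =>
      exact (congrArg (tensorRestrictApp f M N U) (show _ = tX m n from rfl)).trans
        (tensorRestrictApp_tp f M N U m n)
    | add z z' hz hz' =>
      exact (congrArg (tensorRestrictApp f M N U) (map_add b z z')).trans
        ((map_add (tensorRestrictApp f M N U).hom _ _).trans (congrArg₂ (· + ·) hz hz'))

/-- `f|(M) ⊗ f|(N) → f|(M ⊗ N)` on presheaves. -/
def tensorRestrictPre (M N : Y.Modules) :
    CohB1.tensorPre (M.restrict f) (N.restrict f) ⟶ (preRestrict f).obj (CohB1.tensorPre M N) where
  app U := tensorRestrictApp f M N U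
  naturality {U V} i := ModuleCat.MonoidalCategory.tensor_ext (fun m n =>
    (tensorRestrictApp_tp f M N V ((M.restrict f).presheaf.map i m) ((N.restrict f).presheaf.map i n)).trans
      (Mod48.map_tp (O := Y.sheaf) (M := CohB1.toPMod M) (N := CohB1.toPMod N) (f.opensFunctor.map i.unop).op
        m n).symm)

/-- Restriction to an open commutes with `⊗`. -/
def tensorRestrictIso (M N : Y.Modules) :
    CohB1.tensorMod (M.restrict f) (N.restrict f) ≅ (CohB1.tensorMod M N).restrict f :=
  have hψ : IsIso ((Mod48.shf (O := X.sheaf)).map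
      (show CohB1.tensorPre (M.restrict f) (N.restrict f) ⟶ Mod48.pre (O := X.sheaf) ((CohB1.tensorMod M N).restrict f)
        from tensorRestrictPre f M N ≫ (preRestrict f).map (Mod48.shfU (O := Y.sheaf) (CohB1.tensorPre M N)))) := by
    rw [Mod48.isIso_shf_map_iff_isLocalIso]
    have h := (Mod48.isIso_shf_map_iff_isLocalIso (O := Y.sheaf) (Mod48.shfU (CohB1.tensorPre M N))).mp inferInstance
    have hw := h.inj
    have hw' := h.surj
    have hWi := Presheaf.isLocallyInjective_whisker (Opens.grothendieckTopology X) (Opens.grothendieckTopology Y)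
      f.opensFunctor ((PresheafOfModules.toPresheaf _).map (Mod48.shfU (O := Y.sheaf) (CohB1.tensorPre M N)))
    have hWs := Presheaf.isLocallySurjective_whisker (Opens.grothendieckTopology X) (Opens.grothendieckTopology Y)
      f.opensFunctor ((PresheafOfModules.toPresheaf _).map (Mod48.shfU (O := Y.sheaf) (CohB1.tensorPre M N)))
    have hi1 : Presheaf.IsLocallyInjective (Opens.grothendieckTopology X)
        ((PresheafOfModules.toPresheaf _).map (tensorRestrictPre f M N)) :=
      Presheaf.isLocallyInjective_of_injective _ _ fun U => (tensorRestrictApp_bijective f M N U).injective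
    have hs1 : Presheaf.IsLocallySurjective (Opens.grothendieckTopology X)
        ((PresheafOfModules.toPresheaf _).map (tensorRestrictPre f M N)) :=
      Presheaf.isLocallySurjective_of_surjective _ _ fun U => (tensorRestrictApp_bijective f M N U).surjective
    constructor
    · rw [Functor.map_comp]
      exact @Presheaf.isLocallyInjective_comp _ _ _ _ _ _ _ _ (Opens.grothendieckTopology X) _ _ _
        ((PresheafOfModules.toPresheaf _).map (tensorRestrictPre f M N)) _ hi1 hWi
    · rw [Functor.map_comp]
      exact @Presheaf.isLocallySurjective_comp _ _ (Opens.grothendieckTopology X) _ _ _ _ _ _ _ _ _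
        ((PresheafOfModules.toPresheaf _).map (tensorRestrictPre f M N)) _ hs1 hWs
  @asIso _ _ _ _ _ hψ ≪≫ (Mod48.shfCounitIso (O := X.sheaf)).app _

end Groth.Agent.EGA73

end
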