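import Groth.Agent.EGA73.GammaStar
import Groth.Agent.QC70.Hom

/-!
The comparison of the tilde of twisted sections with the module.
-/

set_option autoImplicit false
set_option backward.isDefEq.respectTransparency.types false

universe u

open CategoryTheory Limits AlgebraicGeometry TopologicalSpace Opposite
open GrTilde hiding res

noncomputable section

namespace Groth.Agent.EGA73

/-- A morphism inverse to which exists on the opens of an affine cover is an isomorphism. -/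
theorem isIso_of_bijective_cover {X : Scheme.{u}} {M N : X.Modules} [M.IsQuasicoherent] [N.IsQuasicoherent]
    (φ : M ⟶ N) {ι : Type u} (U : ι → X.Opens) (hU : ∀ i, IsAffineOpen (U i)) (hcov : ∀ x : X, ∃ i, x ∈ U i)
    (h : ∀ i, Function.Bijective (φ.app (U i))) : IsIso φ := by
  have hψ : ∀ i, ∃ ψ : QC70.HomOn N M (U i), ∀ (W : X.Opens) (hW : W ≤ U i),
      (∀ s, ψ.app W hW (φ.app W s) = s) ∧ ∀ t, φ.app W (ψ.app W hW t) = t := by
    intro i
    let φ₀ := (QC70.HomOn.ofHom φ (U i)).app (U i) le_rfl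
    let e := LinearEquiv.ofBijective φ₀ (h i)
    refine ⟨QC70.HomOn.ofLinear (hU i) e.symm.toLinearMap, fun W hW => ⟨fun s => ?_, fun t => ?_⟩⟩
    · refine QC70.HomOn.ext_of_affine (hU i) (QC70.isLocAt_of_isQuasicoherent M (hU i))
        ((QC70.HomOn.ofHom φ (U i)).comp (QC70.HomOn.ofLinear (hU i) e.symm.toLinearMap))
        (QC70.HomOn.ofHom (𝟙 M) (U i)) ?_ hW s
      refine LinearMap.ext fun x => ?_
      show (QC70.HomOn.ofLinear (hU i) e.symm.toLinearMap).app (U i) le_rfl (e x) = x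
      rw [QC70.HomOn.ofLinear_app_self]
      exact e.symm_apply_apply x
    · refine QC70.HomOn.ext_of_affine (hU i) (QC70.isLocAt_of_isQuasicoherent N (hU i))
        ((QC70.HomOn.ofLinear (hU i) e.symm.toLinearMap).comp (QC70.HomOn.ofHom φ (U i)))
        (QC70.HomOn.ofHom (𝟙 N) (U i)) ?_ hW t
      refine LinearMap.ext fun x => ?_
      show φ₀ ((QC70.HomOn.ofLinear (hU i) e.symm.toLinearMap).app (U i) le_rfl x) = x
      rw [QC70.HomOn.ofLinear_app_self]
      exact e.apply_symm_apply x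
  choose ψ hψ using hψ
  have : Mono φ := QC70.mono_of_app_injective φ fun W a b hab => QC70.section_ext M a b fun p hp => by
    obtain ⟨i, hi⟩ := hcov p
    refine ⟨W ⊓ U i, inf_le_left, ⟨hp, hi⟩, ?_⟩
    rw [← (hψ i _ inf_le_right).1 (QC70.res M inf_le_left a), ← (hψ i _ inf_le_right).1 (QC70.res M inf_le_left b),
      QC70.app_res, QC70.app_res, hab]
  have : Epi φ := QC70.epi_of_locally_surjective φ fun W t p hp => by
    obtain ⟨i, hi⟩ := hcov p
    exact ⟨W ⊓ U i, inf_le_left, (ψ i).app _ inf_le_right (QC70.res N inf_le_left t), ⟨hp, hi⟩,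
      (hψ i _ inf_le_right).2 _⟩
  exact isIso_of_mono_of_epi φ

namespace GammaStar

open Groth.Agent.Var76.LineBundle Groth.Agent.Var76.ZeroScheme

variable {R A : Type u} [CommRing R] [CommRing A] [Algebra R A] {𝒜 : ℕ → Submodule R A} [GradedAlgebra 𝒜]
  {s : Finset A} {hs1 : ∀ f ∈ s, f ∈ 𝒜 1} {F : (Proj 𝒜).Modules} (N : Sub 𝒜 s hs1 F)

/-- The section `z / g ^ k`. -/
def zsec (g : s) {k : ℕ} (z : N.grading k) :
    Γ(GrTilde.tilde 𝒜 N.grading 0, Proj.basicOpen 𝒜 (g : A)) :=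
  fracSect (U := ProjectiveSpectrum.basicOpen 𝒜 (g : A)) z.2 (h := (g : A) ^ k)
    (by simpa using SetLike.pow_mem_graded k (hs1 g g.2)) (fun x => pow_notMem x.2 k) (by simp)

/-- The coefficient of `z` at `g`. -/
def val' (g : s) {k : ℕ} (z : N.grading k) : Γ(F, Proj.basicOpen 𝒜 (g : A)) := ((z : N.Ty).1 g).coeff k

/-- Multiplication by a homogeneous element. -/
def hsmul {j k m : ℕ} {a : A} (ha : a ∈ 𝒜 j) (hm : j + k = m) (z : N.grading k) : N.grading m :=
  ⟨a • (z : N.Ty), hm ▸ EGA73.gsmul_mem 𝒜 N.grading ha z.2⟩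

theorem val_hsmul (g : s) {j k m : ℕ} {a : A} (ha : a ∈ 𝒜 j) (hm : j + k = m) (z : N.grading k) :
    val' N g (hsmul N ha hm z) = fr 𝒜 (hs1 g g.2) ha • val' N g z := by
  subst hm
  show ((a • (z : N.Ty)).1 g).coeff (j + k) = _
  rw [coe_smul_apply N ha, if_pos (Nat.le_add_right j k), Nat.add_sub_cancel_left]
  rfl

theorem exists_zsec (g : s) (σ : Γ(GrTilde.tilde 𝒜 N.grading 0, Proj.basicOpen 𝒜 (g : A))) :
    ∃ (k : ℕ) (z : N.grading k), zsec N g z = σ := by
  obtain ⟨k, i, m, hm, hi, hσ⟩ := exists_frac_eq (ℳ := N.grading) one_pos (hs1 g g.2)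
    (σ : sect 𝒜 N.grading 0 (op (ProjectiveSpectrum.basicOpen 𝒜 (g : A))))
  have : i = k := by exact_mod_cast (by simpa using hi : (i : ℤ) = (k : ℤ))
  subst this
  exact ⟨i, ⟨m, hm⟩, sect_ext fun x => (hσ x).symm⟩

theorem zsec_hsmul_pow (g : s) {k m : ℕ} (j : ℕ) (hm : j + k = m) (z : N.grading k) :
    zsec N g (hsmul N (by simpa using SetLike.pow_mem_graded j (hs1 g g.2) : (g : A) ^ j ∈ 𝒜 j) hm z) =
      zsec N g z := by
  subst hm
  refine sect_ext fun x => ?_
  show frac x.1 ((g : A) ^ j • (z : N.Ty)) ((g : A) ^ (j + k)) _ = frac x.1 (z : N.Ty) ((g : A) ^ k) _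
  exact frac_congr (by rw [smul_smul, ← pow_add, add_comm])

theorem zsec_add (g : s) {k : ℕ} (y z : N.grading k) : zsec N g (y + z) = zsec N g y + zsec N g z := by
  refine sect_ext fun x => ?_
  show frac x.1 ((y : N.Ty) + z) ((g : A) ^ k) (pow_notMem x.2 k) =
    frac x.1 (y : N.Ty) ((g : A) ^ k) (pow_notMem x.2 k) + frac x.1 (z : N.Ty) ((g : A) ^ k) (pow_notMem x.2 k)
  rw [frac, frac, frac, LocalizedModule.mk_add_mk]
  refine frac_congr ?_
  simp [Submonoid.smul_def, smul_add, smul_smul]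

theorem smul_zsec (g : s) {k m l : ℕ} {a : A} (ha : a ∈ 𝒜 l) (hm : l + k = m) (z : N.grading k) :
    fr 𝒜 (hs1 g g.2) ha • zsec N g z = zsec N g (hsmul N ha hm z) := by
  subst hm
  refine sect_ext fun x => ?_
  show (a0Frac x.1 ha (by simpa using SetLike.pow_mem_graded l (hs1 g g.2)) (pow_notMem x.2 l)) •
      frac x.1 (z : N.Ty) ((g : A) ^ k) (pow_notMem x.2 k) =
    frac x.1 (a • (z : N.Ty)) ((g : A) ^ (l + k)) (pow_notMem x.2 _)
  rw [a0_smul_def, a0Frac, HomogeneousLocalization.val_mk]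
  refine (LocalizedModule.mk_smul_mk _ _ _ _).trans (frac_congr ?_)
  simp [pow_add]

theorem val_eq_of_zsec_eq (g : s) {k k' : ℕ} (y : N.grading k) (z : N.grading k')
    (h : zsec N g y = zsec N g z) : val' N g y = val' N g z := by
  have hp : ∀ j, (g : A) ^ j ∈ 𝒜 j := fun j => by simpa using SetLike.pow_mem_graded j (hs1 g g.2)
  let y' := hsmul N (hp k') (add_comm k' k) y
  let z' := hsmul N (hp k) rfl z
  have h0 : ∀ x : ProjectiveSpectrum.basicOpen 𝒜 (g : A),
      frac x.1 (((y' - z' : N.grading (k + k')) : N.Ty)) ((g : A) ^ (k + k')) (pow_notMem x.2 _) = 0 := fun x => by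
    have hx := congrArg (fun t => (t.1 x).1) h
    change frac x.1 (y : N.Ty) ((g : A) ^ k) _ = frac x.1 (z : N.Ty) ((g : A) ^ k') _ at hx
    obtain ⟨a, ha, e⟩ := frac_eq_iff.1 hx
    refine frac_eq_zero_iff.2 ⟨a, ha, ?_⟩
    exact e
  obtain ⟨K, hK⟩ := exists_pow_smul_eq_zero_of_frac (ℳ := N.grading) one_pos (hs1 g g.2) (y' - z').2 _ h0
  have h1 : hsmul N (hp K) rfl y' = hsmul N (hp K) rfl z' := by
    refine Subtype.ext ?_
    have : (g : A) ^ K • ((y' : N.Ty) - z') = 0 := hK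
    rwa [smul_sub, sub_eq_zero] at this
  have h2 := congrArg (val' N g) h1
  simpa only [y', z', val_hsmul, fr_pow_self, one_smul] using h2

/-- The comparison on a chart. -/
def chartFun (g : s) (σ : Γ(GrTilde.tilde 𝒜 N.grading 0, Proj.basicOpen 𝒜 (g : A))) :
    Γ(F, Proj.basicOpen 𝒜 (g : A)) :=
  val' N g (exists_zsec N g σ).choose_spec.choose

theorem chartFun_zsec (g : s) {k : ℕ} (z : N.grading k) : chartFun N g (zsec N g z) = val' N g z :=
  val_eq_of_zsec_eq N g _ z (exists_zsec N g (zsec N g z)).choose_spec.choose_spec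

/-- The comparison on a chart, as a linear map. -/
def chartLin (g : s) : Γ(GrTilde.tilde 𝒜 N.grading 0, Proj.basicOpen 𝒜 (g : A)) →ₗ[Γ(Proj 𝒜, Proj.basicOpen 𝒜 (g : A))]
    Γ(F, Proj.basicOpen 𝒜 (g : A)) where
  toFun := chartFun N g
  map_add' σ τ := by
    obtain ⟨k, y, rfl⟩ := exists_zsec N g σ
    obtain ⟨k', z, rfl⟩ := exists_zsec N g τ
    rw [← zsec_hsmul_pow N g k' (add_comm k' k) y, ← zsec_hsmul_pow N g k rfl z, ← zsec_add, chartFun_zsec,
      chartFun_zsec, chartFun_zsec]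
    rfl
  map_smul' r σ := by
    obtain ⟨k, z, rfl⟩ := exists_zsec N g σ
    obtain ⟨l, a, ha, hfl, hr⟩ := exists_away_value one_pos (hs1 g g.2) r
    have ha' : a ∈ 𝒜 l := by simpa using ha
    have hr' : r = fr 𝒜 (hs1 g g.2) ha' := Subtype.ext (funext fun x => (hr x).trans (by
      rw [fr_apply]
      refine HomogeneousLocalization.val_injective _ ?_
      simp only [a0Frac, HomogeneousLocalization.val_mk]))
    show chartFun N g (r • zsec N g z) = r • chartFun N g (zsec N g z)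
    rw [hr', smul_zsec N g ha' rfl z, chartFun_zsec, chartFun_zsec, val_hsmul]

theorem chartLin_zsec (g : s) {k : ℕ} (z : N.grading k) : chartLin N g (zsec N g z) = val' N g z :=
  chartFun_zsec N g z

theorem zsec_res (g g' : s) {k : ℕ} (z : N.grading k) (W : (Proj 𝒜).Opens)
    (h : W ≤ Proj.basicOpen 𝒜 (g : A)) (h' : W ≤ Proj.basicOpen 𝒜 (g' : A)) :
    res (GrTilde.tilde 𝒜 N.grading 0) h' (zsec N g' z) =
      fres h' (fr 𝒜 (hs1 g' g'.2) (hs1 g g.2)) ^ k • res (GrTilde.tilde 𝒜 N.grading 0) h (zsec N g z) := by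
  refine sect_ext fun x => ?_
  show frac x.1 (z : N.Ty) ((g' : A) ^ k) (pow_notMem (h' x.2) k) =
    ((fr 𝒜 (hs1 g' g'.2) (hs1 g g.2)).1 ⟨x.1, h' x.2⟩ ^ k : Twist.A0 𝒜 x.1) •
      frac x.1 (z : N.Ty) ((g : A) ^ k) (pow_notMem (h x.2) k)
  rw [fr_apply, smul_pow_frac]
  refine frac_congr ?_
  rw [smul_smul]
  congr 1
  ring

theorem basicOpen_fr (g g' : s) :
    (Proj 𝒜).basicOpen (fr 𝒜 (hs1 g' g'.2) (hs1 g g.2)) = Proj.basicOpen 𝒜 ((g' : A) * g) :=
  proj_basicOpen_eq (l := 1) (d := 1) _ (by simpa using hs1 g g.2)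
    (by simpa using hs1 g' g'.2) fun x => by
      rw [fr_apply]

variable (hF : Coh.IsQCoh F)
include hF

omit hF in
theorem exists_hom : ∃ φ : GrTilde.tilde 𝒜 N.grading 0 ⟶ F,
    (hcov : ∀ x : Proj 𝒜, ∃ g : s, x ∈ Proj.basicOpen 𝒜 (g : A)) →
      ∀ (g : s) (σ : Γ(GrTilde.tilde 𝒜 N.grading 0, Proj.basicOpen 𝒜 (g : A))), φ.app _ σ = chartLin N g σ := by
  classical
  by_cases hcov : ∀ x : Proj 𝒜, ∃ g : s, x ∈ Proj.basicOpen 𝒜 (g : A)
  swap
  · exact ⟨0, fun h => absurd h hcov⟩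
  have : (GrTilde.tilde 𝒜 N.grading 0).IsQuasicoherent := isQCoh_tilde 𝒜 N.grading 0
  let T := GrTilde.tilde 𝒜 N.grading 0
  have hU : ∀ g : s, IsAffineOpen (Proj.basicOpen 𝒜 (g : A)) := fun g =>
    Proj.isAffineOpen_basicOpen 𝒜 _ (hs1 g g.2) one_pos
  let φ : ∀ g : s, QC70.HomOn T F (Proj.basicOpen 𝒜 (g : A)) := fun g => QC70.HomOn.ofLinear (hU g) (chartLin N g)
  have hc : QC70.HomOn.Compatible φ := by
    intro g g' V hg hg' σ
    let r := fr 𝒜 (hs1 g' g'.2) (hs1 g g.2)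
    let W := (Proj 𝒜).basicOpen r
    have hWg : W ≤ Proj.basicOpen 𝒜 (g : A) := (basicOpen_fr g g').le.trans fun x hx => by
      rw [Proj.basicOpen_mul] at hx; exact hx.2
    have hWg' : W ≤ Proj.basicOpen 𝒜 (g' : A) := (Proj 𝒜).basicOpen_le r
    have hVW : V ≤ W := fun x hx => (basicOpen_fr g g').ge (by
      rw [Proj.basicOpen_mul]; exact ⟨hg' hx, hg hx⟩)
    refine QC70.HomOn.ext_of_affine ((hU g').basicOpen r)
      (QC70.isLocAt_of_isQuasicoherent T ((hU g').basicOpen r)) ((φ g).mono hWg) ((φ g').mono hWg') ?_ hVW σ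
    refine LinearMap.ext fun t => ?_
    show (φ g).app W hWg t = (φ g').app W hWg' t
    obtain ⟨n, t', ht'⟩ := (QC70.isLocAt_of_isQuasicoherent T (hU g')).exists_of r t
    obtain ⟨k, z, hz⟩ := exists_zsec N g' t'
    have hu : IsUnit (QC70.resO (Proj 𝒜) hWg' r ^ n) := (RingedSpace.isUnit_res_basicOpen _ r).pow n
    refine hu.smul_left_cancel.1 ?_
    rw [← LinearMap.map_smul, ← LinearMap.map_smul, ← ht', ← hz]
    have e1 : (φ g').app W hWg' (res T hWg' (zsec N g' z)) = res F hWg' (val' N g' z) := by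
      have e := (φ g').app_res (le_refl _) hWg' (zsec N g' z)
      refine e.trans ?_
      show res F hWg' ((φ g').app _ le_rfl (zsec N g' z)) = _
      rw [show (φ g').app _ le_rfl = chartLin N g' from QC70.HomOn.ofLinear_app_self _ _, chartLin_zsec]
    have e2 : (φ g).app W hWg (res T hWg (zsec N g z)) = res F hWg (val' N g z) := by
      have e := (φ g).app_res (le_refl _) hWg (zsec N g z)
      refine e.trans ?_
      show res F hWg ((φ g).app _ le_rfl (zsec N g z)) = _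
      rw [show (φ g).app _ le_rfl = chartLin N g from QC70.HomOn.ofLinear_app_self _ _, chartLin_zsec]
    show (φ g).app W hWg (res T hWg' (zsec N g' z)) = (φ g').app W hWg' (res T hWg' (zsec N g' z))
    rw [e1, zsec_res N g g' z W hWg hWg', LinearMap.map_smul, e2]
    exact (N.compat _ (z : N.Ty).2 g g' k W hWg hWg').symm
  have htop : (⊤ : (Proj 𝒜).Opens) ≤ ⨆ g : s, Proj.basicOpen 𝒜 (g : A) := fun x _ => by
    obtain ⟨g, hg⟩ := hcov x
    exact Opens.mem_iSup.2 ⟨g, hg⟩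
  refine ⟨(QC70.HomOn.glue hc htop).toHom, fun _ g σ => ?_⟩
  rw [QC70.HomOn.toHom_app, QC70.HomOn.glue_app hc htop _ g le_rfl,
    show (φ g).app _ le_rfl = chartLin N g from QC70.HomOn.ofLinear_app_self _ _]

theorem chartLin_injective (g : s) : Function.Injective (chartLin N g) := by
  refine (injective_iff_map_eq_zero _).2 fun σ hσ => ?_
  obtain ⟨k, z, rfl⟩ := exists_zsec N g σ
  rw [chartLin_zsec] at hσ
  have hk : ∀ g' : s, ∃ K : ℕ, fr 𝒜 (hs1 g' g'.2) (hs1 g g.2) ^ K • val' N g' z = 0 := by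
    intro g'
    refine (QC70.isLocAt_of_isQuasicoherent F (Proj.isAffineOpen_basicOpen 𝒜 _ (hs1 g' g'.2) one_pos)).eq_zero_of _ _ ?_
    have hg : (Proj 𝒜).basicOpen (fr 𝒜 (hs1 g' g'.2) (hs1 g g.2)) ≤ Proj.basicOpen 𝒜 (g : A) :=
      (basicOpen_fr g g').le.trans fun x hx => by rw [Proj.basicOpen_mul] at hx; exact hx.2
    refine (N.compat _ (z : N.Ty).2 g g' k _ hg ((Proj 𝒜).basicOpen_le _)).trans ?_
    show _ • res F hg (val' N g z) = 0
    rw [hσ, show res F hg 0 = 0 from map_zero (F.presheaf.map _).hom, smul_zero]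
  choose K hK using hk
  let K₀ := Finset.univ.sup K
  have hp : (g : A) ^ K₀ ∈ 𝒜 K₀ := by simpa using SetLike.pow_mem_graded K₀ (hs1 g g.2)
  have h0 : hsmul N hp rfl z = 0 := by
    refine Subtype.ext (ty_ext N fun g' i => ?_)
    by_cases hi : i = K₀ + k
    · subst hi
      show val' N g' (hsmul N hp rfl z) = 0
      rw [val_hsmul]
      have hpow : fr 𝒜 (hs1 g' g'.2) hp = fr 𝒜 (hs1 g' g'.2) (hs1 g g.2) ^ K₀ := by
        refine Subtype.ext (funext fun x => ?_)
        show _ = (fr 𝒜 (hs1 g' g'.2) (hs1 g g.2)).1 x ^ K₀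
        rw [fr_apply, fr_apply]
        refine HomogeneousLocalization.val_injective _ ?_
        rw [a0Frac_pow _ _ _ _ _ (by rw [pow_one]; exact pow_notMem x.2 K₀)]
        simp only [a0Frac, HomogeneousLocalization.val_mk, pow_one]
      rw [hpow, show K₀ = K₀ - K g' + K g' from (Nat.sub_add_cancel (Finset.le_sup (f := K) (Finset.mem_univ g'))).symm,
        pow_add, mul_smul, hK, smul_zero]
    · exact (hsmul N hp rfl z).2 g' i hi
  rw [← zsec_hsmul_pow N g K₀ rfl z, h0]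
  exact sect_ext fun x => LocalizedModule.zero_mk _

/-- The comparison is an isomorphism when the coefficients generate. -/
theorem nonempty_iso (hcov : ∀ x : Proj 𝒜, ∃ g : s, x ∈ Proj.basicOpen 𝒜 (g : A))
    (hgen : ∀ g : s, Submodule.span Γ(Proj 𝒜, Proj.basicOpen 𝒜 (g : A))
      {v | ∃ (k : ℕ) (z : N.grading k), val' N g z = v} = ⊤) :
    Nonempty (GrTilde.tilde 𝒜 N.grading 0 ≅ F) := by
  obtain ⟨φ, hφ⟩ := exists_hom N
  have : (GrTilde.tilde 𝒜 N.grading 0).IsQuasicoherent := isQCoh_tilde 𝒜 N.grading 0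
  have : IsIso φ := isIso_of_bijective_cover φ (fun g : s => Proj.basicOpen 𝒜 (g : A))
    (fun g => Proj.isAffineOpen_basicOpen 𝒜 _ (hs1 g g.2) one_pos) hcov fun g => by
      have e : ⇑(φ.app (Proj.basicOpen 𝒜 (g : A))) = ⇑(chartLin N g) := funext fun σ => hφ hcov g σ
      rw [e]
      refine ⟨chartLin_injective N hF g, LinearMap.range_eq_top.1 (top_le_iff.1 ?_)⟩
      rw [← hgen g, Submodule.span_le]
      rintro _ ⟨k, z, rfl⟩
      exact ⟨zsec N g z, chartLin_zsec N g z⟩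
  exact ⟨asIso φ⟩

omit N in
/-- Every section on a chart is a coefficient of a twisted section. -/
theorem exists_compat (g : s) (σ : Γ(F, Proj.basicOpen 𝒜 (g : A))) :
    ∃ (k : ℕ) (w : Carrier 𝒜 s F), IsCompat 𝒜 s hs1 F w ∧ (∀ g' i, i ≠ k → (w g').coeff i = 0) ∧
      (w g).coeff k = σ := by
  classical
  let r : ∀ g' : s, Γ(Proj 𝒜, Proj.basicOpen 𝒜 (g' : A)) := fun g' => fr 𝒜 (hs1 g' g'.2) (hs1 g g.2)
  have hU : ∀ g' : s, IsAffineOpen (Proj.basicOpen 𝒜 (g' : A)) := fun g' =>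
    Proj.isAffineOpen_basicOpen 𝒜 _ (hs1 g' g'.2) one_pos
  have hloc : ∀ g' : s, QC70.IsLocAt F (Proj.basicOpen 𝒜 (g' : A)) := fun g' =>
    QC70.isLocAt_of_isQuasicoherent F (hU g')
  have hle : ∀ g' : s, (Proj 𝒜).basicOpen (r g') ≤ Proj.basicOpen 𝒜 (g : A) := fun g' =>
    (basicOpen_fr g g').le.trans fun x hx => by rw [Proj.basicOpen_mul] at hx; exact hx.2
  have hext : ∀ g' : s, ∃ (n : ℕ) (t : Γ(F, Proj.basicOpen 𝒜 (g' : A))),
      res F ((Proj 𝒜).basicOpen_le (r g')) t = fres ((Proj 𝒜).basicOpen_le (r g')) (r g') ^ n • res F (hle g') σ :=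
    fun g' => (hloc g').exists_of (r g') (res F (hle g') σ)
  choose n t ht using hext
  let n₀ := Finset.univ.sup n
  have hfp : ∀ {U V : (Proj 𝒜).Opens} (h : V ≤ U) (a : Γ(Proj 𝒜, U)) (m : ℕ), fres h (a ^ m) = fres h a ^ m :=
    fun {U V} h a m => map_pow ((Proj 𝒜).presheaf.map (homOfLE h).op).hom a m
  obtain ⟨t₁, ht₁⟩ : ∃ t₁ : ∀ g' : s, Γ(F, Proj.basicOpen 𝒜 (g' : A)), ∀ g',
      res F ((Proj 𝒜).basicOpen_le (r g')) (t₁ g') =
        fres ((Proj 𝒜).basicOpen_le (r g')) (r g') ^ n₀ • res F (hle g') σ := by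
    refine ⟨fun g' => r g' ^ (n₀ - n g') • t g', fun g' => ?_⟩
    rw [res_smul, ht, smul_smul]
    show (fres _ (r g' ^ (n₀ - n g')) * _) • _ = _
    rw [hfp, ← pow_add, Nat.sub_add_cancel (Finset.le_sup (f := n) (Finset.mem_univ g'))]
  let W₀ : s → s → (Proj 𝒜).Opens := fun g' g'' => (Proj 𝒜).basicOpen (fr 𝒜 (hs1 g'' g''.2) (hs1 g' g'.2))
  have hW1 : ∀ g' g'', W₀ g' g'' ≤ Proj.basicOpen 𝒜 (g'' : A) := fun g' g'' => (Proj 𝒜).basicOpen_le _
  have hW2 : ∀ g' g'', W₀ g' g'' ≤ Proj.basicOpen 𝒜 (g' : A) := fun g' g'' =>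
    (basicOpen_fr g' g'').le.trans fun x hx => by rw [Proj.basicOpen_mul] at hx; exact hx.2
  have hmul : ∀ (g' g'' : s) (W : (Proj 𝒜).Opens) (h' : W ≤ Proj.basicOpen 𝒜 (g' : A))
      (h'' : W ≤ Proj.basicOpen 𝒜 (g'' : A)),
      fres h'' (r g'') = fres h'' (fr 𝒜 (hs1 g'' g''.2) (hs1 g' g'.2)) * fres h' (r g') := fun g' g'' W h' h'' => by
    rw [fr_res 𝒜 (hs1 g' g'.2) (hs1 g'' g''.2) (hs1 g g.2) W h' h'', pow_one]
  have hN : ∀ g' g'' : s, ∃ M : ℕ, fres (hW1 g' g'') (r g'') ^ M • (res F (hW1 g' g'') (t₁ g'') -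
      fres (hW1 g' g'') (fr 𝒜 (hs1 g'' g''.2) (hs1 g' g'.2)) ^ n₀ • res F (hW2 g' g'') (t₁ g')) = 0 := by
    intro g' g''
    refine (QC70.isLocAt_of_isQuasicoherent F ((hU g'').basicOpen _)).eq_zero_of _ _ ?_
    let W := (Proj 𝒜).basicOpen (fres (hW1 g' g'') (r g''))
    have hWW : W ≤ W₀ g' g'' := (Proj 𝒜).basicOpen_le _
    have hWr'' : W ≤ (Proj 𝒜).basicOpen (r g'') :=
      (Scheme.basicOpen_res _ (r g'') (homOfLE (hW1 g' g'')).op).le.trans inf_le_right
    have hWr' : W ≤ (Proj 𝒜).basicOpen (r g') := fun x hx => (basicOpen_fr g g').ge (by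
      rw [Proj.basicOpen_mul]; exact ⟨hW2 g' g'' (hWW hx), hle g'' (hWr'' hx)⟩)
    refine (map_sub (F.presheaf.map _).hom _ _).trans (sub_eq_zero.2 ?_)
    show res F hWW (res F (hW1 g' g'') (t₁ g'')) = res F hWW (_ • res F (hW2 g' g'') (t₁ g'))
    rw [res_smul, res_res, res_res,
      ← res_res F ((Proj 𝒜).basicOpen_le (r g'')) hWr'' (t₁ g''),
      ← res_res F ((Proj 𝒜).basicOpen_le (r g')) hWr' (t₁ g'), ht₁, ht₁, res_smul, res_smul, res_res, res_res,
      smul_smul]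
    congr 1
    show fres hWr'' (fres _ (r g'') ^ n₀) = fres hWW (fres (hW1 g' g'') _ ^ n₀) * fres hWr' (fres _ (r g') ^ n₀)
    rw [hfp, hfp, hfp, fres_fres, fres_fres, fres_fres, ← mul_pow,
      ← hmul g' g'' W (hWW.trans (hW2 g' g'')) (hWW.trans (hW1 g' g''))]
  choose M hM using hN
  let M₀ := Finset.univ.sup fun p : s × s => M p.1 p.2
  let w : Carrier 𝒜 s F := fun g' => PolynomialModule.single _ (n₀ + M₀) (r g' ^ M₀ • t₁ g')
  have hw : ∀ g' i, (w g').coeff i = if i = n₀ + M₀ then r g' ^ M₀ • t₁ g' else 0 := fun g' i => by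
    show (PolynomialModule.single _ _ _).coeff i = _
    rw [PolynomialModule.coeff_single, Finsupp.single_apply]
    split_ifs <;> grind
  refine ⟨n₀ + M₀, w, fun g' g'' i W h' h'' => ?_, fun g' i hi => by rw [hw, if_neg hi], ?_⟩
  · rw [hw, hw]
    split_ifs with hi
    · subst hi
      have hW : W ≤ W₀ g' g'' := fun x hx => (basicOpen_fr g' g'').ge (by
        rw [Proj.basicOpen_mul]; exact ⟨h'' hx, h' hx⟩)
      have h0 := congrArg (res F hW) (hM g' g'')
      rw [res_smul, show res F hW 0 = 0 from map_zero (F.presheaf.map _).hom] at h0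
      change fres hW (fres (hW1 g' g'') (r g'') ^ M g' g'') • res F hW (_ - _) = 0 at h0
      rw [hfp, fres_fres, show res F hW (_ - _) = res F hW _ - res F hW _ from map_sub (F.presheaf.map _).hom _ _,
        res_smul, res_res, res_res] at h0
      have h1 : fres h'' (r g'') ^ M₀ • (res F h'' (t₁ g'') -
          fres h'' (fr 𝒜 (hs1 g'' g''.2) (hs1 g' g'.2)) ^ n₀ • res F h' (t₁ g')) = 0 := by
        rw [show M₀ = M₀ - M g' g'' + M g' g'' from (Nat.sub_add_cancel (Finset.le_sup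
          (f := fun p : s × s => M p.1 p.2) (Finset.mem_univ (g', g'')))).symm, pow_add, mul_smul]
        refine (congrArg (_ • ·) ?_).trans (smul_zero _)
        refine Eq.trans ?_ h0
        congr 2
      rw [res_smul, res_smul]
      show fres h'' (r g'' ^ M₀) • _ = _ • fres h' (r g' ^ M₀) • _
      rw [hfp, hfp]
      rw [smul_sub, sub_eq_zero] at h1
      rw [h1, smul_smul, smul_smul, hmul g' g'' W h' h'']
      congr 1
      ring
    · rw [show res F h'' 0 = 0 from map_zero (F.presheaf.map _).hom,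
        show res F h' 0 = 0 from map_zero (F.presheaf.map _).hom, smul_zero]
  · rw [hw, if_pos rfl]
    have hr : r g = 1 := fr_self 𝒜 (hs1 g g.2)
    rw [hr, one_pow, one_smul]
    have hb : Proj.basicOpen 𝒜 (g : A) ≤ (Proj 𝒜).basicOpen (r g) := by
      rw [hr, Scheme.basicOpen_of_isUnit _ isUnit_one]
    have h := congrArg (res F hb) (ht₁ g)
    rw [res_smul, res_res, res_res, Amp73.res_self, Amp73.res_self] at h
    refine h.trans ?_
    show fres hb (fres _ (r g) ^ n₀) • σ = σ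
    have key : ∀ (a : Γ(Proj 𝒜, Proj.basicOpen 𝒜 (g : A))) (hab : Proj.basicOpen 𝒜 (g : A) ≤ Proj.basicOpen 𝒜 (g : A)),
        a = 1 → fres hab a ^ n₀ • σ = σ := fun a hab ha => by
      rw [ha, Amp73.fres_self, one_pow, one_smul]
    rw [hfp, fres_fres]
    exact key _ _ hr

omit N in
/-- A quasi-coherent module is the tilde of its twisted sections. -/
theorem nonempty_iso_top (hcov : ∀ x : Proj 𝒜, ∃ g : s, x ∈ Proj.basicOpen 𝒜 (g : A)) :
    Nonempty (GrTilde.tilde 𝒜 (Sub.top 𝒜 s hs1 F).grading 0 ≅ F) := by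
  refine nonempty_iso (Sub.top 𝒜 s hs1 F) hF hcov fun g => top_le_iff.1 fun σ _ => Submodule.subset_span ?_
  obtain ⟨k, w, hw, hw0, hwk⟩ := exists_compat (hs1 := hs1) hF g σ
  exact ⟨k, ⟨⟨w, hw⟩, hw0⟩, hwk⟩

omit N in
/-- A quasi-coherent module of finite type is the tilde of a finitely generated graded module. -/
theorem exists_sub_finite [F.IsFiniteType] (hcov : ∀ x : Proj 𝒜, ∃ g : s, x ∈ Proj.basicOpen 𝒜 (g : A)) :
    ∃ N : Sub 𝒜 s hs1 F, Module.Finite A N.Ty ∧ Nonempty (GrTilde.tilde 𝒜 N.grading 0 ≅ F) := by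
  classical
  let := moduleA 𝒜 s hs1 F
  have hfin : ∀ g : s, ∃ T : Finset Γ(F, Proj.basicOpen 𝒜 (g : A)),
      Submodule.span Γ(Proj 𝒜, Proj.basicOpen 𝒜 (g : A)) (T : Set Γ(F, Proj.basicOpen 𝒜 (g : A))) = ⊤ := fun g =>
    (QC70.finite_sections_of_isFiniteType F (Proj.isAffineOpen_basicOpen 𝒜 _ (hs1 g g.2) one_pos)).fg_top
  choose T hT using hfin
  choose k w hw hw0 hwk using fun p : Σ g : s, T g => exists_compat (hs1 := hs1) hF p.1 p.2.1
  let S : Submodule A (Carrier 𝒜 s F) := Submodule.span A (Set.range w)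
  have hS : ∀ v ∈ S, IsCompat 𝒜 s hs1 F v := fun v hv =>
    (Submodule.span_le (p := sectionsSubmodule 𝒜 s hs1 F)).2 (by rintro _ ⟨p, rfl⟩; exact hw p) hv
  have hcomp : ∀ v ∈ S, ∀ n, comp 𝒜 s F n v ∈ S := by
    intro v hv n
    induction hv using Submodule.closure_induction with
    | zero => rw [map_zero]; exact zero_mem _
    | add a b _ _ ha hb => rw [map_add]; exact add_mem ha hb
    | smul_mem a x hx =>
      obtain ⟨p, rfl⟩ := hx
      induction a using DirectSum.Decomposition.inductionOn 𝒜 with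
      | zero => rw [zero_smul, map_zero]; exact zero_mem _
      | homogeneous b =>
        rename_i j
        by_cases hn : n = j + k p
        · have : comp 𝒜 s F n ((b : A) • w p) = (b : A) • w p := by
            refine funext fun g => PolynomialModule.ext (Finsupp.ext fun i => ?_)
            rw [coeff_comp, coeff_smul_mem 𝒜 s hs1 F b.2]
            split_ifs with h1 h2 <;> try rfl
            rw [hw0 p g (i - j) (by omega), smul_zero]
          rw [this]
          exact Submodule.smul_mem _ _ (Submodule.subset_span ⟨p, rfl⟩)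
        · have : comp 𝒜 s F n ((b : A) • w p) = 0 := by
            refine funext fun g => PolynomialModule.ext (Finsupp.ext fun i => ?_)
            rw [coeff_comp, coeff_smul_mem 𝒜 s hs1 F b.2]
            split_ifs with h1 h2 <;> try rfl
            rw [hw0 p g (i - j) (by omega), smul_zero]
            rfl
          rw [this]
          exact zero_mem _
      | add b c hb hc => rw [add_smul, map_add]; exact add_mem hb hc
  let N : Sub 𝒜 s hs1 F := ⟨S, hS, hcomp⟩
  refine ⟨N, Module.Finite.span_of_finite A (Set.finite_range w), nonempty_iso N hF hcov fun g => ?_⟩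
  rw [← top_le_iff, ← hT g]
  refine Submodule.span_mono fun v hv => ?_
  exact ⟨k ⟨g, ⟨v, hv⟩⟩, ⟨⟨w ⟨g, ⟨v, hv⟩⟩, Submodule.subset_span ⟨_, rfl⟩⟩, hw0 _⟩, hwk ⟨g, ⟨v, hv⟩⟩⟩

end GammaStar

end Groth.Agent.EGA73
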