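import Groth.Agent.WC97.Dim
import Groth.Prelude.Def_Curv2
import Mathlib.Topology.KrullDimension
import Mathlib.Topology.Sober

/-! Heights and coheights in the specialization order, and transcendence degrees. -/

universe u

open CategoryTheory AlgebraicGeometry TopologicalSpace

namespace Groth.Agent.EGA73

variable {X : Scheme.{u}}

theorem dim_closure_eq_height (x : X) :
    topologicalKrullDim ↥(closure ({x} : Set X)) = Order.height x := by
  have hcl : Topology.IsClosedEmbedding (Subtype.val : ↥(closure ({x} : Set X)) → X) :=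
    isClosed_closure.isClosedEmbedding_subtypeVal
  have : QuasiSober ↥(closure ({x} : Set X)) := hcl.quasiSober
  rw [Order.height_eq_krullDim_Iic]
  let e := irreducibleSetEquivPoints (α := ↥(closure ({x} : Set X)))
  let v : ↥(closure ({x} : Set X)) ≃ ↥(Set.Iic x) :=
    { toFun := fun y => ⟨y.1, (specializes_iff_mem_closure.2 y.2 : x ⤳ y.1)⟩
      invFun := fun y => ⟨y.1, specializes_iff_mem_closure.1 y.2⟩ }
  exact Order.krullDim_eq_of_orderIso
    { toEquiv := e.toEquiv.trans v
      map_rel_iff' := fun {a b} =>
        ((hcl.isInducing.specializes_iff : ((e b).1 ⤳ (e a).1) ↔ _).trans e.map_rel_iff) }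

theorem isMin_iff_isClosed (c : X) : IsMin c ↔ IsClosed ({c} : Set X) := by
  constructor
  · intro h
    rw [← closure_eq_iff_isClosed]
    refine Set.Subset.antisymm (fun y hy => ?_) subset_closure
    have h1 : c ⤳ y := specializes_iff_mem_closure.2 hy
    exact (h1.antisymm (h h1 : y ⤳ c)).eq.symm
  · intro h y (hy : c ⤳ y)
    have : y = c := hy.mem_closed h rfl
    subst this
    exact le_rfl

theorem closure_mem_irreducibleComponents_iff (x : X) :
    closure ({x} : Set X) ∈ irreducibleComponents (X : Type u) ↔ IsMax x := by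
  constructor
  · intro h y (hy : y ⤳ x)
    exact specializes_iff_mem_closure.2
      (h.2 isIrreducible_singleton.closure (specializes_iff_closure_subset.1 hy) (subset_closure rfl))
  · intro h
    refine ⟨isIrreducible_singleton.closure, fun S hS hle => ?_⟩
    obtain ⟨g, hg⟩ := QuasiSober.sober hS.closure isClosed_closure
    have h1 : g ⤳ x := specializes_iff_mem_closure.2 (hg.def.symm ▸ subset_closure (hle (subset_closure rfl)))
    have h2 : x ⤳ g := h h1
    refine Set.Subset.trans subset_closure ?_
    rw [← hg.def]
    exact specializes_iff_closure_subset.1 h2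

theorem exists_isMax_ge (c : X) : ∃ ξ : X, IsMax ξ ∧ c ≤ ξ := by
  obtain ⟨g, hg⟩ := QuasiSober.sober (isIrreducible_irreducibleComponent (x := c))
    isClosed_irreducibleComponent
  refine ⟨g, (closure_mem_irreducibleComponents_iff g).1 ?_,
    specializes_iff_mem_closure.2 (hg.def.symm ▸ mem_irreducibleComponent)⟩
  rw [hg.def]
  exact irreducibleComponent_mem_irreducibleComponents c

/-- All maximal points have height one iff all closed points have coheight one. -/
theorem height_max_iff_coheight_closed [CompactSpace X] :
    (∀ x : X, IsMax x → Order.height x = 1) ↔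
      ∀ x : X, IsClosed ({x} : Set X) → Order.coheight x = 1 := by
  constructor
  · intro h c hc
    refine le_antisymm ?_ (Order.one_le_iff_pos.2 (pos_iff_ne_zero.2 fun h0 => ?_))
    · refine (Order.coheight_le_coe_iff (n := 1)).2 fun y hy => ?_
      have : IsMax y := fun z hz => by
        by_contra hzy
        have hyz : y < z := lt_iff_le_not_ge.2 ⟨hz, hzy⟩
        obtain ⟨ξ, hξ, hle⟩ := exists_isMax_ge z
        have h2 := (Order.height_add_one_le (lt_of_lt_of_le hyz hle)).trans (h ξ hξ).le
        have h3 : Order.height y = 0 := by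
          by_contra h4
          have : (1 : ℕ∞) ≤ Order.height y := Order.one_le_iff_pos.2 (pos_iff_ne_zero.2 h4)
          exact absurd ((add_le_add_left this 1).trans h2) (by decide)
        exact (Order.height_eq_zero.1 h3).not_lt hy
      rw [Order.coheight_eq_zero.2 this]
      exact_mod_cast Nat.one_pos
    · have hmax := Order.coheight_eq_zero.1 h0
      have h1 := h c hmax
      rw [Order.height_eq_zero.2 ((isMin_iff_isClosed c).2 hc)] at h1
      exact zero_ne_one h1
  · intro h ξ hξ
    refine le_antisymm ((Order.height_le_coe_iff (n := 1)).2 fun y hy => ?_)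
      (Order.one_le_iff_pos.2 (pos_iff_ne_zero.2 fun h0 => ?_))
    · have : IsMin y := (isMin_iff_isClosed y).2 <| by
        by_contra hy'
        obtain ⟨c, hc, hcc⟩ := (isClosed_closure (s := ({y} : Set X))).exists_closed_singleton
          ⟨y, subset_closure rfl⟩
        have hsp : y ⤳ c := specializes_iff_mem_closure.2 hc
        have hcy : c < y := lt_iff_le_not_ge.2
          ⟨hsp, fun (h' : c ⤳ y) => hy' (by rwa [← (h'.antisymm hsp).eq])⟩
        have h1 := (Order.coheight_add_one_le hcy).trans (h c hcc).le
        have h2 : (1 : ℕ∞) ≤ Order.coheight y := Order.one_le_iff_pos.2 (pos_iff_ne_zero.2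
          fun h0 => (Order.coheight_eq_zero.1 h0).not_lt hy)
        exact absurd ((add_le_add_left h2 1).trans h1) (by decide)
      rw [Order.height_eq_zero.2 this]
      exact_mod_cast Nat.one_pos
    · have h1 := h ξ ((isMin_iff_isClosed ξ).1 (Order.height_eq_zero.1 h0))
      rw [Order.coheight_eq_zero.2 hξ] at h1
      exact zero_ne_one h1

section

variable {k : Type u} [Field k] [X.Over (Spec (CommRingCat.of k))]

theorem resMap_eq_kStr (x : X) :
    Curv2.resMap k X x = WC97.kStr (X ↘ Spec (CommRingCat.of k)) x := by
  have h : CommRingCat.ofHom (Curv2.resMap k X x) =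
      CommRingCat.ofHom (WC97.kStr (X ↘ Spec (CommRingCat.of k)) x) := by
    apply Spec.map_injective
    rw [WC97.kStr_spec]
    have hs : X.fromSpecStalk x ≫ (X ↘ Spec (CommRingCat.of k)) =
        Spec.map (CommRingCat.ofHom (Curv2.stalkMap k X x)) := by
      rw [← cancel_mono (Spec (CommRingCat.of k)).toSpecΓ, Category.assoc,
        Scheme.toSpecΓ_naturality, Scheme.fromSpecStalk_toSpecΓ_assoc, ← SpecMap_ΓSpecIso_hom,
        ← Spec.map_comp, ← Spec.map_comp]
      congr 1
      ext r
      simp [Curv2.stalkMap, Coh.toGlobal]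
    rw [Scheme.fromSpecResidueField, Category.assoc, hs, ← Spec.map_comp]
    rfl
  exact congrArg CommRingCat.Hom.hom h

variable [LocallyOfFiniteType (X ↘ Spec (CommRingCat.of k))]

theorem trdeg_eq_one_iff_height (x : X) :
    (letI := Curv2.resAlgebra k X x; Algebra.trdeg k (X.residueField x) = 1) ↔
      Order.height x = 1 := by
  have h1 : (letI := Curv2.resAlgebra k X x; Algebra.trdeg k (X.residueField x)) =
      (WC97.tdegN (X ↘ Spec (CommRingCat.of k)) x : Cardinal.{u}) := by
    rw [← WC97.tdeg_eq_natCast, WC97.tdeg, Curv2.resAlgebra, resMap_eq_kStr]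
  have h2 : (Order.height x : ℕ∞) = WC97.tdegN (X ↘ Spec (CommRingCat.of k)) x := by
    have := (dim_closure_eq_height x).symm.trans
      (WC97.topologicalKrullDim_closure (X ↘ Spec (CommRingCat.of k)) x)
    exact_mod_cast this
  rw [h1, h2]
  norm_cast

end

end Groth.Agent.EGA73
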