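import Groth.Agent.EGA73.ExtendCodimOne
import Groth.Prelude.Def_Pi1
import Mathlib.AlgebraicGeometry.Morphisms.Integral
import Mathlib.AlgebraicGeometry.FunctionField
import Mathlib.RingTheory.LocalProperties.IntegrallyClosed
import Mathlib.RingTheory.Ideal.GoingUp
import Mathlib.AlgebraicGeometry.Morphisms.Finite

/-!
Integral morphisms to normal integral schemes.
-/

universe u

open CategoryTheory AlgebraicGeometry Limits IsLocalRing TopologicalSpace

namespace Groth.Agent.EGA73

theorem isIntegrallyClosed_sections {Y : Scheme.{u}} [IsIntegral Y] (hY : Pi1.IsNormalScheme Y)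
    {V : Y.Opens} (hV : IsAffineOpen V) [Nonempty V] : IsIntegrallyClosed Γ(Y, V) := by
  refine IsIntegrallyClosed.of_localization_maximal fun P _ hP => ?_
  let z : PrimeSpectrum Γ(Y, V) := ⟨P, hP.isPrime⟩
  have hz : hV.fromSpec z ∈ (V : Set Y) := hV.range_fromSpec ▸ ⟨z, rfl⟩
  let _ : Algebra Γ(Y, V) (Y.presheaf.stalk (hV.fromSpec z)) :=
    TopCat.Presheaf.algebra_section_stalk Y.presheaf (⟨hV.fromSpec z, hz⟩ : V)
  have : IsLocalization P.primeCompl (Y.presheaf.stalk (hV.fromSpec z)) := hV.isLocalization_stalk' z hz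
  have := (hY (hV.fromSpec z)).2
  exact IsIntegrallyClosed.of_equiv
    (IsLocalization.algEquiv P.primeCompl (Y.presheaf.stalk (hV.fromSpec z)) (Localization.AtPrime P)).toRingEquiv

/-- An integral ring map into the function field factors through the sections of a normal affine open. -/
theorem exists_factor {Y : Scheme.{u}} [IsIntegral Y] (hY : Pi1.IsNormalScheme Y)
    {V : Y.Opens} (hV : IsAffineOpen V) [Nonempty V] {A B : CommRingCat.{u}} (φ : A ⟶ B)
    (hφ : φ.hom.IsIntegral) (a : A ⟶ Γ(Y, V)) (b : B ⟶ Y.functionField)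
    (hab : φ ≫ b = a ≫ Y.germToFunctionField V) :
    ∃ ψ : B ⟶ Γ(Y, V), ψ ≫ Y.germToFunctionField V = b := by
  have := functionField_isFractionRing_of_isAffineOpen Y V hV
  have := isIntegrallyClosed_sections hY hV
  have hmem : ∀ x, b.hom x ∈ (Y.germToFunctionField V).hom.range := fun x => by
    obtain ⟨p, hp, hpx⟩ := hφ x
    refine IsIntegrallyClosed.isIntegral_iff.mp (⟨p.map a.hom, hp.map _, ?_⟩ : IsIntegral Γ(Y, V) (b.hom x))
    rw [Polynomial.eval₂_map, RingHom.algebraMap_toAlgebra, ← CommRingCat.hom_comp, ← hab, CommRingCat.hom_comp,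
      ← Polynomial.hom_eval₂, hpx, map_zero]
  let e := RingEquiv.ofBijective (Y.germToFunctionField V).hom.rangeRestrict
    ⟨fun x y h => Y.germToFunctionField_injective V (congrArg Subtype.val h), RingHom.rangeRestrict_surjective _⟩
  refine ⟨CommRingCat.ofHom (e.symm.toRingHom.comp (b.hom.codRestrict _ hmem)), ?_⟩
  ext x
  exact congrArg Subtype.val (e.apply_symm_apply ⟨b.hom x, hmem x⟩)

theorem fromSpecStalk_genericPoint {Y : Scheme.{u}} [IsIntegral Y] {V : Y.Opens} (hV : IsAffineOpen V)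
    [Nonempty V] :
    Spec.map (Y.germToFunctionField V) ≫ hV.fromSpec = Y.fromSpecStalk (genericPoint Y) :=
  IsAffineOpen.fromSpecStalk_eq_fromSpecStalk hV _

/-- A rational lift through an integral morphism extends over a normal integral scheme. -/
theorem extend_integral {Y X X' : Scheme.{u}} [IsIntegral Y] (hY : Pi1.IsNormalScheme Y) (g : X' ⟶ X)
    [IsIntegralHom g] (U : Y.Opens) (hU : Dense (U : Set Y)) (f : (U : Scheme.{u}) ⟶ X') (h : Y ⟶ X)
    (hfh : f ≫ g = U.ι ≫ h) : ∃ f' : Y ⟶ X', U.ι ≫ f' = f ∧ f' ≫ g = h := by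
  let ξ := genericPoint Y
  have hξU : ξ ∈ U := by
    obtain ⟨x, hx⟩ := hU.nonempty
    exact ((genericPoint_spec Y).specializes trivial).mem_open U.2 hx
  have hr : Set.range (Y.fromSpecStalk ξ) ⊆ Set.range U.ι := by
    rw [Scheme.range_fromSpecStalk, Scheme.Opens.range_ι]
    intro z hz
    exact hz.mem_open U.2 hξU
  let k := IsOpenImmersion.lift U.ι (Y.fromSpecStalk ξ) hr
  have hk : k ≫ U.ι = Y.fromSpecStalk ξ := IsOpenImmersion.lift_fac _ _ _
  obtain ⟨T, hUT, g', hg', hres, hT⟩ := exists_extension g h U hU f hfh Set.univ fun y _ => by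
    obtain ⟨_, ⟨A, hA, rfl⟩, hyA, -⟩ :=
      X.isBasis_affineOpens.exists_subset_of_mem_open (Set.mem_univ (h y)) isOpen_univ
    obtain ⟨_, ⟨V, hV, rfl⟩, hyV, hVA⟩ :=
      Y.isBasis_affineOpens.exists_subset_of_mem_open hyA (A.2.preimage h.continuous)
    replace hA : IsAffineOpen A := hA
    replace hV : IsAffineOpen V := hV
    have : Nonempty V := ⟨⟨y, hyV⟩⟩
    have hξV : ξ ∈ V := ((genericPoint_spec Y).specializes trivial).mem_open V.2 hyV
    have hB : IsAffineOpen (g ⁻¹ᵁ A) := hA.preimage g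
    have hrange : Set.range (k ≫ f) ⊆ Set.range hB.fromSpec := by
      rw [hB.range_fromSpec]
      rintro _ ⟨c, rfl⟩
      show g ((k ≫ f) c) ∈ (A : Set X)
      rw [← Scheme.Hom.comp_apply, Category.assoc, hfh, ← Category.assoc, hk, Scheme.Hom.comp_apply]
      have hc : Y.fromSpecStalk ξ c ⤳ ξ := by
        have : Y.fromSpecStalk ξ c ∈ Set.range (Y.fromSpecStalk ξ) := ⟨c, rfl⟩
        rwa [Scheme.range_fromSpecStalk] at this
      exact hVA (hc.mem_open V.2 hξV)
    let e := IsOpenImmersion.lift hB.fromSpec (k ≫ f) hrange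
    have he : e ≫ hB.fromSpec = k ≫ f := IsOpenImmersion.lift_fac _ _ _
    obtain ⟨b, hb⟩ := Spec.map_surjective e
    obtain ⟨ψ, hψ⟩ := exists_factor hY hV (g.app A) (IsIntegralHom.isIntegral_app g A hA)
      (h.appLE A V hVA) b (by
        apply Spec.map_injective
        rw [← cancel_mono hA.fromSpec, Spec.map_comp, Spec.map_comp, Category.assoc, Category.assoc,
          Scheme.Hom.app_eq_appLE, hA.SpecMap_appLE_fromSpec g hB, hA.SpecMap_appLE_fromSpec h hV,
          ← Category.assoc (Spec.map (Y.germToFunctionField V)), fromSpecStalk_genericPoint hV, ← Category.assoc,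
          hb, he, Category.assoc, hfh, ← Category.assoc, hk])
    let gV : (V : Scheme.{u}) ⟶ X' := hV.isoSpec.hom ≫ Spec.map ψ ≫ hB.fromSpec
    have hgV : gV ≫ g = Scheme.Opens.ι V ≫ h := by
      have hψ' : g.app A ≫ ψ = h.appLE A V hVA := by
        ext x
        apply Y.germToFunctionField_injective V
        rw [← CommRingCat.comp_apply, ← CommRingCat.comp_apply, Category.assoc, hψ]
        apply congrArg (fun m : Γ(X, A) ⟶ Y.functionField => m.hom x)
        apply Spec.map_injective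
        rw [← cancel_mono hA.fromSpec, Spec.map_comp, Spec.map_comp, Category.assoc, Category.assoc,
          Scheme.Hom.app_eq_appLE, hA.SpecMap_appLE_fromSpec g hB, hA.SpecMap_appLE_fromSpec h hV,
          ← Category.assoc (Spec.map (Y.germToFunctionField V)), fromSpecStalk_genericPoint hV, ← Category.assoc,
          hb, he, Category.assoc, hfh, ← Category.assoc, hk]
      rw [Category.assoc, Category.assoc, ← hA.SpecMap_appLE_fromSpec g hB le_rfl, ← Spec.map_comp_assoc,
        ← Scheme.Hom.app_eq_appLE, hψ', hA.SpecMap_appLE_fromSpec h hV hVA,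
        IsAffineOpen.fromSpec, ← Category.assoc, Iso.hom_inv_id_assoc]
    refine ⟨V, gV, hyV, hgV, ?_⟩
    have hr' : Set.range (Y.fromSpecStalk ξ) ⊆ Set.range (Scheme.Opens.ι (V ⊓ U)) := by
      rw [Scheme.range_fromSpecStalk, Scheme.Opens.range_ι]
      intro z hz
      exact ⟨hz.mem_open V.2 hξV, hz.mem_open U.2 hξU⟩
    let m := IsOpenImmersion.lift (Scheme.Opens.ι (V ⊓ U)) (Y.fromSpecStalk ξ) hr'
    have hm : m ≫ (Scheme.Opens.ι (V ⊓ U)) = Y.fromSpecStalk ξ := IsOpenImmersion.lift_fac _ _ _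
    have : IsDominant m := by
      refine ⟨fun z => ?_⟩
      obtain ⟨c⟩ : Nonempty (Spec (Y.presheaf.stalk ξ)) := ⟨IsLocalRing.closedPoint _⟩
      have hsp : m (IsLocalRing.closedPoint _) ⤳ z := by
        rw [← (Scheme.Opens.ι (V ⊓ U)).isOpenEmbedding.toIsInducing.specializes_iff, ← Scheme.Hom.comp_apply, hm,
          Scheme.fromSpecStalk_closedPoint]
        exact (genericPoint_spec Y).specializes trivial
      exact closure_mono (Set.singleton_subset_iff.mpr (Set.mem_range_self _)) hsp.mem_closure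
    refine ext_of_isDominant_of_isSeparated g ?_ m ?_
    · rw [Category.assoc, hgV, Category.assoc, hfh, Scheme.homOfLE_ι_assoc, Scheme.homOfLE_ι_assoc]
    · have h1 : m ≫ Y.homOfLE (inf_le_left : V ⊓ U ≤ V) ≫ hV.isoSpec.hom = Spec.map (Y.germToFunctionField V) := by
        rw [← cancel_mono hV.fromSpec, fromSpecStalk_genericPoint hV, ← hm]
        rw [IsAffineOpen.fromSpec]
        simp only [Category.assoc, Iso.hom_inv_id_assoc, Scheme.homOfLE_ι]
      have h2 : m ≫ Y.homOfLE (inf_le_right : V ⊓ U ≤ U) = k := by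
        rw [← cancel_mono U.ι, Category.assoc, Scheme.homOfLE_ι, hm, hk]
      rw [reassoc_of% h1, reassoc_of% h2, ← Spec.map_comp_assoc, hψ, hb, he]
  have hTtop : T = ⊤ := eq_top_iff.mpr fun x _ => hT x trivial
  subst hTtop
  refine ⟨(Scheme.topIso Y).inv ≫ g', ?_, ?_⟩
  · rw [← Category.assoc]
    convert hres using 2
    rw [← cancel_mono (⊤ : Y.Opens).ι, Category.assoc]
    simp
  · rw [Category.assoc, hg', ← Category.assoc]
    simp

theorem isIso_of_integral_of_lift {X X' : Scheme.{u}} [IsIntegral X] (hX : Pi1.IsNormalScheme X) (g : X' ⟶ X)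
    [IsIntegralHom g]
    (hb : ∀ (V : X.Opens), IsAffineOpen V → ∀ [Nonempty V], ∃ b : Γ(X', g ⁻¹ᵁ V) ⟶ X.functionField,
      Function.Injective b.hom ∧ g.app V ≫ b = X.germToFunctionField V) : IsIso g := by
  have : ∀ x : X, ∃ V : X.affineOpens, x ∈ V.1 := fun x => by
    obtain ⟨_, ⟨V, hV, rfl⟩, hxV, -⟩ := X.isBasis_affineOpens.exists_subset_of_mem_open (Set.mem_univ x) isOpen_univ
    exact ⟨⟨V, hV⟩, hxV⟩
  choose V hxV using this
  refine (IsZariskiLocalAtTarget.iff_of_iSup_eq_top (P := MorphismProperty.isomorphisms Scheme)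
    (fun x => (V x).1) (eq_top_iff.mpr fun x _ => Opens.mem_iSup.mpr ⟨x, hxV x⟩)).mpr fun x => ?_
  show IsIso (g ∣_ (V x).1)
  rw [isIso_morphismRestrict_iff_isIso_app g (V x).2]
  have : Nonempty (V x).1 := ⟨⟨x, hxV x⟩⟩
  obtain ⟨b, hbinj, hb⟩ := hb (V x).1 (V x).2
  obtain ⟨ψ, hψ⟩ := exists_factor hX (V x).2 (g.app (V x).1)
    (IsIntegralHom.isIntegral_app g _ (V x).2) (𝟙 _) b (by rw [Category.id_comp]; exact hb)
  refine ⟨ψ, ?_, ?_⟩
  · ext a
    apply X.germToFunctionField_injective (V x).1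
    rw [← CommRingCat.comp_apply, Category.assoc, hψ, hb]
    rfl
  · ext a
    apply hbinj
    show (ψ ≫ g.app _ ≫ b).hom a = _
    rw [hb, hψ]
    rfl

/-- A point over the generic point gives an injective lift on affine opens. -/
theorem exists_injective_lift {X X' : Scheme.{u}} [IsIntegral X] [IsIntegral X'] (g : X' ⟶ X) [IsIntegralHom g]
    (e : Spec X.functionField ⟶ X') (he : e ≫ g = X.fromSpecStalk (genericPoint X))
    (V : X.Opens) (hV : IsAffineOpen V) [Nonempty V] :
    ∃ b : Γ(X', g ⁻¹ᵁ V) ⟶ X.functionField,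
      Function.Injective b.hom ∧ g.app V ≫ b = X.germToFunctionField V := by
  have hB : IsAffineOpen (g ⁻¹ᵁ V) := hV.preimage g
  have hξV : genericPoint X ∈ V :=
    ((genericPoint_spec X).mem_open_set_iff V.isOpen).mpr (by simpa using ‹Nonempty V›)
  have hr : Set.range e ⊆ Set.range hB.fromSpec := by
    rw [hB.range_fromSpec]
    rintro _ ⟨c, rfl⟩
    show g (e c) ∈ (V : Set X)
    rw [← Scheme.Hom.comp_apply, he]
    have hc : X.fromSpecStalk (genericPoint X) c ∈ Set.range (X.fromSpecStalk (genericPoint X)) := ⟨c, rfl⟩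
    rw [Scheme.range_fromSpecStalk] at hc
    exact Specializes.mem_open hc V.2 hξV
  obtain ⟨b, hb⟩ := Spec.map_surjective (IsOpenImmersion.lift hB.fromSpec e hr)
  have hbV : g.app V ≫ b = X.germToFunctionField V := by
    apply Spec.map_injective
    rw [← cancel_mono hV.fromSpec, Spec.map_comp, Category.assoc, Scheme.Hom.app_eq_appLE,
      hV.SpecMap_appLE_fromSpec g hB, fromSpecStalk_genericPoint hV, hb, ← Category.assoc,
      IsOpenImmersion.lift_fac, he]
  have : Nonempty (g ⁻¹ᵁ V) := ⟨⟨_, (hB.range_fromSpec ▸ hr) ⟨IsLocalRing.closedPoint _, rfl⟩⟩⟩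
  refine ⟨b, (RingHom.injective_iff_ker_eq_bot _).mpr ?_, hbV⟩
  let _ : Algebra Γ(X, V) Γ(X', g ⁻¹ᵁ V) := (g.app V).hom.toAlgebra
  have : Algebra.IsIntegral Γ(X, V) Γ(X', g ⁻¹ᵁ V) := ⟨IsIntegralHom.isIntegral_app g V hV⟩
  have : (RingHom.ker b.hom).IsPrime := RingHom.ker_isPrime _
  refine Ideal.eq_bot_of_comap_eq_bot (R := Γ(X, V)) (eq_bot_iff.mpr fun a ha => ?_)
  apply X.germToFunctionField_injective V
  rw [map_zero, ← hbV]
  exact ha

theorem genericPoint_of_isDominant {X S : Scheme.{u}} [IsIntegral X] [IsIntegral S] (f : X ⟶ S) [IsDominant f] :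
    f (genericPoint X) = genericPoint S := by
  refine ((genericPoint_spec X).image f.continuous).eq ?_
  rw [isGenericPoint_def, genericPoint_closure]
  exact (by simpa using (IsDominant.denseRange (f := f)).closure_eq.symm)

/-- Function field extensions of integral and of finite morphisms. -/
theorem stalkMap_generic {X S : Scheme.{u}} [IsIntegral X] [IsIntegral S] (f : X ⟶ S) [IsDominant f]
    [IsIntegralHom f] :
    (f.stalkMap (genericPoint X)).hom.IsIntegral ∧
      (IsFinite f → (f.stalkMap (genericPoint X)).hom.Finite) := by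
  classical
  let ξ := genericPoint X
  obtain ⟨_, ⟨V, hV, rfl⟩, hξV, -⟩ :=
    S.isBasis_affineOpens.exists_subset_of_mem_open (Set.mem_univ (f ξ)) isOpen_univ
  replace hV : IsAffineOpen V := hV
  have hB : IsAffineOpen (f ⁻¹ᵁ V) := hV.preimage f
  have : Nonempty (f ⁻¹ᵁ V) := ⟨⟨ξ, hξV⟩⟩
  have := functionField_isFractionRing_of_isAffineOpen X _ hB
  have hfield : IsField (S.presheaf.stalk (f ξ)) := by
    rw [genericPoint_of_isDominant f]
    exact Field.toIsField S.functionField
  let _ : Field (S.presheaf.stalk (f ξ)) := hfield.toField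
  let φ := (f.stalkMap ξ).hom
  let _ : Algebra (S.presheaf.stalk (f ξ)) X.functionField := φ.toAlgebra
  have hgerm : ∀ b : Γ(X, f ⁻¹ᵁ V), IsIntegral (S.presheaf.stalk (f ξ)) (X.germToFunctionField (f ⁻¹ᵁ V) b) := by
    intro b
    obtain ⟨p, hp, hpb⟩ := IsIntegralHom.isIntegral_app f V hV b
    refine ⟨p.map (S.presheaf.germ V (f ξ) hξV).hom, hp.map _, ?_⟩
    rw [Polynomial.eval₂_map, RingHom.algebraMap_toAlgebra, show φ.comp (S.presheaf.germ V (f ξ) hξV).hom =
      (X.germToFunctionField (f ⁻¹ᵁ V)).hom.comp (f.app V).hom from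
        congrArg CommRingCat.Hom.hom (Scheme.Hom.germ_stalkMap f V ξ hξV), ← Polynomial.hom_eval₂, hpb, map_zero]
  have hint : φ.IsIntegral := fun z => by
    obtain ⟨b, c, -, rfl⟩ := IsFractionRing.div_surjective (A := Γ(X, f ⁻¹ᵁ V)) z
    rw [div_eq_mul_inv]
    exact (hgerm b).mul (hgerm c).inv
  refine ⟨hint, fun hf => ?_⟩
  let _ : Algebra Γ(S, V) Γ(X, f ⁻¹ᵁ V) := (f.app V).hom.toAlgebra
  have : Module.Finite Γ(S, V) Γ(X, f ⁻¹ᵁ V) := IsFinite.finite_app f V hV
  obtain ⟨s, hs⟩ := Module.Finite.fg_top (R := Γ(S, V)) (M := Γ(X, f ⁻¹ᵁ V))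
  let T : Set X.functionField := (fun b => X.germToFunctionField (f ⁻¹ᵁ V) b) '' (s : Set Γ(X, f ⁻¹ᵁ V))
  let L := Algebra.adjoin (S.presheaf.stalk (f ξ)) T
  have hbL : ∀ b : Γ(X, f ⁻¹ᵁ V), X.germToFunctionField (f ⁻¹ᵁ V) b ∈ L := by
    intro b
    have hb : b ∈ Submodule.span Γ(S, V) (s : Set Γ(X, f ⁻¹ᵁ V)) := by rw [hs]; trivial
    induction hb using Submodule.span_induction with
    | mem b hb => exact Algebra.subset_adjoin ⟨b, hb, rfl⟩
    | zero => rw [map_zero]; exact zero_mem _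
    | add b c _ _ hb hc => rw [map_add]; exact add_mem hb hc
    | smul a b _ hb =>
      rw [Algebra.smul_def, map_mul]
      refine mul_mem ?_ hb
      rw [show X.germToFunctionField (f ⁻¹ᵁ V) (algebraMap Γ(S, V) Γ(X, f ⁻¹ᵁ V) a) =
        algebraMap (S.presheaf.stalk (f ξ)) X.functionField (S.presheaf.germ V (f ξ) hξV a) from
          (congrArg (fun m : Γ(S, V) ⟶ X.functionField => m.hom a) (Scheme.Hom.germ_stalkMap f V ξ hξV)).symm]
      exact L.algebraMap_mem _
  have : Algebra.IsIntegral (S.presheaf.stalk (f ξ)) X.functionField := ⟨hint⟩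
  have htop : L = ⊤ := eq_top_iff.mpr fun z _ => by
    obtain ⟨b, c, -, rfl⟩ := IsFractionRing.div_surjective (A := Γ(X, f ⁻¹ᵁ V)) z
    rw [div_eq_mul_inv]
    exact mul_mem (hbL b) (L.inv_mem_of_algebraic (x := (⟨_, hbL c⟩ : L))
      (Algebra.IsAlgebraic.isAlgebraic _))
  refine ⟨?_⟩
  have hfg := fg_adjoin_of_finite (R := S.presheaf.stalk (f ξ)) (s.finite_toSet.image _ : T.Finite)
    (fun x _ => hint x)
  change (L.toSubmodule).FG at hfg
  rw [htop, Algebra.top_toSubmodule] at hfg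
  exact hfg

end Groth.Agent.EGA73
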