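import Groth.Agent.EGA73.CurveBasics
import Groth.Agent.EGA73.IntegralNormal
import Groth.Agent.EGA73.CurveDim
import Mathlib.AlgebraicGeometry.Normalization

/-!
Curves finite over curves.
-/

set_option autoImplicit false
set_option linter.style.haveILetI false

universe u

open CategoryTheory AlgebraicGeometry TopologicalSpace

namespace Groth.Agent.EGA73

/-- A scheme finite over a curve, with a single point over the generic point, is a curve. -/
theorem curve_of_finite {k : Type u} [Field k] {X X' : Scheme.{u}} (p : X ⟶ Spec (CommRingCat.of k))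
    [LocallyOfFiniteType p] [QuasiCompact p] [IrreducibleSpace X] [IrreducibleSpace X']
    (hX : ∀ x : X, IsClosed ({x} : Set X) → ringKrullDim (X.presheaf.stalk x) = 1)
    (f : X' ⟶ X) [IsFinite f] (hfib : f.base ⁻¹' {genericPoint X} = {genericPoint X'})
    (x' : X') (hx' : IsClosed ({x'} : Set X')) : ringKrullDim (X'.presheaf.stalk x') = 1 := by
  obtain ⟨_, _, _, _⟩ := fieldFT_instances k p
  obtain ⟨_, _, _, hJ⟩ := fieldFT_instances k (f ≫ p)
  have hgen : f (genericPoint X') = genericPoint X := hfib.ge rfl
  have hne : ∀ y : X', y ≠ genericPoint X' → IsClosed ({f y} : Set X) := fun y hy => by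
    by_contra h
    exact hy (hfib.le (eq_genericPoint_of_not_isClosed hX (f y) h))
  have hclosed : ∀ y : X', y ≠ genericPoint X' → IsClosed ({y} : Set X') := by
    intro y hy
    have hc := (hne y hy).preimage f.continuous
    have : JacobsonSpace ↥(f ⁻¹' {f y}) :=
      JacobsonSpace.of_isClosedEmbedding hc.isClosedEmbedding_subtypeVal
    have hfin : (Set.univ : Set ↥(f ⁻¹' {f y})).Finite :=
      Set.finite_univ_iff.2 (f.finite_preimage_singleton (f y)).to_subtype
    have h1 := hc.isClosedEmbedding_subtypeVal.isClosedMap _
      (isClosed_singleton_of_finite_jacobson hfin ⟨y, rfl⟩)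
    rwa [Set.image_singleton] at h1
  have hne' : x' ≠ genericPoint X' := by
    rintro rfl
    refine genericPoint_not_isClosed hX ?_
    rw [← hgen, ← Set.image_singleton]
    exact f.isClosedMap _ hx'
  rw [ringKrullDim_stalk_eq_coheight]
  suffices Order.coheight x' = 1 by rw [this]; rfl
  refine le_antisymm ((Order.coheight_le_coe_iff (n := 1)).2 fun y hy => ?_)
    (Order.one_le_iff_pos.2 (pos_iff_ne_zero.2 fun h0 => ?_))
  · have hsp : y ⤳ x' := hy.le
    have hyg : y = genericPoint X' := by
      by_contra h
      exact hy.ne (hsp.mem_closed (hclosed y h) rfl)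
    subst hyg
    rw [Order.coheight_eq_zero.2 (fun z _ => genericPoint_specializes z)]
    exact_mod_cast Nat.one_pos
  · have hsp : x' ⤳ genericPoint X' :=
      Order.coheight_eq_zero.1 h0 (genericPoint_specializes x')
    exact hne' (hsp.antisymm (genericPoint_specializes x')).eq

end Groth.Agent.EGA73
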