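import Mathlib.AlgebraicGeometry.Properties
import Mathlib.AlgebraicGeometry.Noetherian
import Mathlib.AlgebraicGeometry.FunctionField
import Mathlib.AlgebraicGeometry.Morphisms.Finite
import Mathlib.Topology.JacobsonSpace

/-! Irreducible schemes of finite type over a field whose closed points have one-dimensional local
rings. -/

universe u

open CategoryTheory AlgebraicGeometry TopologicalSpace

namespace Groth.Agent.EGA73

theorem eq_genericPoint_of_not_isClosed {X : Scheme.{u}} [CompactSpace X] [IrreducibleSpace X]
    (hcurve : ∀ x : X, IsClosed ({x} : Set X) → ringKrullDim (X.presheaf.stalk x) = 1)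
    (x : X) (hx : ¬ IsClosed ({x} : Set X)) : x = genericPoint X := by
  obtain ⟨c, hc, hcc⟩ := (isClosed_closure (s := ({x} : Set X))).exists_closed_singleton
    ⟨x, subset_closure rfl⟩
  have hsp : x ⤳ c := specializes_iff_mem_closure.2 hc
  have hne : ¬ c ⤳ x := fun h => hx (by rwa [← (h.antisymm hsp).eq])
  have hlt : c < x := lt_iff_le_not_ge.2 ⟨hsp, hne⟩
  have h1 := Order.coheight_add_one_le hlt
  have h2 := hcurve c hcc
  rw [ringKrullDim_stalk_eq_coheight] at h2
  have h3 : Order.coheight c = 1 := by exact_mod_cast h2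
  rw [h3] at h1
  have h0 : Order.coheight x = 0 := by
    by_contra h
    have : (1 : ℕ∞) ≤ Order.coheight x := Order.one_le_iff_pos.2 (pos_iff_ne_zero.2 h)
    have h4 : (2 : ℕ∞) ≤ 1 := (by exact (add_le_add_left this 1).trans h1)
    exact absurd h4 (by decide)
  have hmax : IsMax x := Order.coheight_eq_zero.1 h0
  have hξ : genericPoint X ⤳ x := genericPoint_specializes x
  have hxξ : x ⤳ genericPoint X := hmax hξ
  exact (hxξ.antisymm hξ).eq

theorem genericPoint_not_isClosed {X : Scheme.{u}} [CompactSpace X] [IrreducibleSpace X]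
    (hcurve : ∀ x : X, IsClosed ({x} : Set X) → ringKrullDim (X.presheaf.stalk x) = 1) :
    ¬ IsClosed ({genericPoint X} : Set X) := by
  intro h
  have h2 := hcurve _ h
  rw [ringKrullDim_stalk_eq_coheight] at h2
  have h0 : Order.coheight (genericPoint X) = 0 := by
    refine Order.coheight_eq_zero.2 fun y hy => ?_
    exact genericPoint_specializes y
  rw [h0] at h2
  exact absurd h2 (by simp)

theorem finite_of_closed_ne_univ {X : Scheme.{u}} [CompactSpace X] [NoetherianSpace X]
    [IrreducibleSpace X]
    (hcurve : ∀ x : X, IsClosed ({x} : Set X) → ringKrullDim (X.presheaf.stalk x) = 1)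
    {F : Set X} (hF : IsClosed F) (hne : F ≠ Set.univ) :
    F.Finite ∧ ∀ x ∈ F, IsClosed ({x} : Set X) := by
  have hξ : genericPoint X ∉ F := fun h => hne (Set.eq_univ_of_forall fun y =>
    (genericPoint_specializes y).mem_closed hF h)
  have hpt : ∀ x ∈ F, IsClosed ({x} : Set X) := fun x hx => by
    by_contra h
    exact hξ (eq_genericPoint_of_not_isClosed hcurve x h ▸ hx)
  refine ⟨?_, hpt⟩
  obtain ⟨S, hSf, hSc, hS, hFe⟩ := NoetherianSpace.exists_finite_set_isClosed_irreducible hF
  rw [hFe]
  refine hSf.sUnion fun t ht => Set.Subsingleton.finite fun a ha b hb => ?_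
  obtain ⟨g, hg⟩ := QuasiSober.sober (hS t ht) (hSc t ht)
  have hgF : g ∈ F := hFe ▸ Set.mem_sUnion_of_mem hg.mem ht
  have := hpt g hgF
  rw [IsGenericPoint, this.closure_eq] at hg
  rw [← hg] at ha hb
  rw [ha, hb]

end Groth.Agent.EGA73

namespace Groth.Agent.EGA73

theorem fieldFT_instances (k : Type u) [Field k] {X : Scheme.{u}}
    (p : X ⟶ Spec (CommRingCat.of k)) [LocallyOfFiniteType p] [QuasiCompact p] :
    CompactSpace X ∧ NoetherianSpace X ∧ IsLocallyNoetherian X ∧ JacobsonSpace X := by
  have hc : CompactSpace X := QuasiCompact.compactSpace_of_compactSpace p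
  have : IsLocallyNoetherian X := LocallyOfFiniteType.isLocallyNoetherian p
  have : IsNoetherian X := {}
  exact ⟨hc, inferInstance, inferInstance, LocallyOfFiniteType.jacobsonSpace p⟩

/-- In a finite Jacobson space every point is closed. -/
theorem isClosed_singleton_of_finite_jacobson {X : Type*} [TopologicalSpace X] [JacobsonSpace X]
    (h : (Set.univ : Set X).Finite) (x : X) : IsClosed ({x} : Set X) := by
  have : Finite X := Set.finite_univ_iff.1 h
  have : DiscreteTopology X := inferInstance
  exact isClosed_discrete _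

end Groth.Agent.EGA73
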