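import Groth.Agent.EGA73.FunctionFieldVal
import Groth.Agent.EGA73.CurveBasics
import Groth.Agent.EGA73.CurveDim
import Groth.Agent.EGA73.IntegralNormal
import Groth.Agent.EGA73.ExtendCodimOne
import Groth.Agent.Crv77.Basic
import Mathlib.AlgebraicGeometry.SpreadingOut

/-!
Local rings of normal curves, centres of valuations, and extension of morphisms into proper schemes.
-/

set_option autoImplicit false
set_option linter.style.haveILetI false

universe u

open CategoryTheory AlgebraicGeometry TopologicalSpace IsLocalRing

namespace Groth.Agent.EGA73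

/-- A curve (closed points have one-dimensional local rings) has dimension one. -/
theorem topologicalKrullDim_eq_one {X : Scheme.{u}} [IrreducibleSpace X] [CompactSpace X]
    (h : ∀ x : X, IsClosed ({x} : Set X) → ringKrullDim (X.presheaf.stalk x) = 1) :
    topologicalKrullDim X = 1 := by
  have hmax : IsMax (genericPoint X) := fun y _ => genericPoint_specializes y
  have h1 : Order.height (genericPoint X) = 1 := height_max_iff_coheight_closed.2
    (fun x hx => by
      have := h x hx
      rw [ringKrullDim_stalk_eq_coheight] at this
      exact_mod_cast this) _ hmax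
  have h2 := dim_closure_eq_height (genericPoint X)
  rw [genericPoint_closure, h1] at h2
  rw [← (Homeomorph.Set.univ X).isHomeomorph.topologicalKrullDim_eq]
  exact h2.trans (by norm_cast)

/-- Closed points of an irreducible one-dimensional scheme have one-dimensional local rings. -/
theorem ringKrullDim_stalk_eq_one {X : Scheme.{u}} [IrreducibleSpace X] [CompactSpace X]
    (h : topologicalKrullDim X = 1) (x : X) (hx : IsClosed ({x} : Set X)) :
    ringKrullDim (X.presheaf.stalk x) = 1 := by
  have h2 := dim_closure_eq_height (genericPoint X)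
  rw [genericPoint_closure, (Homeomorph.Set.univ X).isHomeomorph.topologicalKrullDim_eq, h] at h2
  have h1 : Order.height (genericPoint X) = 1 := by exact_mod_cast h2.symm
  rw [ringKrullDim_stalk_eq_coheight, height_max_iff_coheight_closed.1 (fun y hy => ?_) x hx]
  · rfl
  · have hsp : y ⤳ genericPoint X := hy (genericPoint_specializes y)
    rwa [(hsp.antisymm (genericPoint_specializes y)).eq]

/-- Local rings of normal curves are valuation rings. -/
theorem valuationRing_stalk {X : Scheme.{u}} [IsLocallyNoetherian X] (hn : Pi1.IsNormalScheme X)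
    (hdim : topologicalKrullDim X ≤ 1) (x : X) :
    ∃ _ : IsDomain (X.presheaf.stalk x), ValuationRing (X.presheaf.stalk x) := by
  obtain ⟨h1, h2⟩ := hn x
  haveI := h1
  haveI := h2
  exact ⟨h1, (Crv77.valuationRing_stalk hdim x).2⟩

variable {X : Scheme.{u}} [IsIntegral X]

theorem isDominant_fromSpecStalk_genericPoint :
    IsDominant (X.fromSpecStalk (genericPoint X)) := by
  refine ⟨dense_iff_closure_eq.2 (Set.eq_univ_of_univ_subset ?_)⟩
  rw [← genericPoint_closure]
  refine closure_mono (Set.singleton_subset_iff.2 ?_)
  exact ⟨closedPoint _, Scheme.fromSpecStalk_closedPoint⟩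

/-- The subring of the function field given by a local ring. -/
noncomputable def stalkValRing (x : X) [ValuationRing (X.presheaf.stalk x)] :
    ValuationSubring X.functionField :=
  { (algebraMap (X.presheaf.stalk x) X.functionField).range with
    mem_or_inv_mem' := fun z => (ValuationRing.isInteger_or_isInteger (X.presheaf.stalk x) z).imp id id }

theorem coe_stalkValRing (x : X) [ValuationRing (X.presheaf.stalk x)] :
    (stalkValRing x : Set X.functionField) =
      Set.range (algebraMap (X.presheaf.stalk x) X.functionField) :=
  RingHom.coe_range _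

theorem stalkValRing_ne_top (x : X) [ValuationRing (X.presheaf.stalk x)]
    (hx : ringKrullDim (X.presheaf.stalk x) = 1) : stalkValRing x ≠ ⊤ := by
  intro h
  have hsurj : Function.Surjective (algebraMap (X.presheaf.stalk x) X.functionField) := fun z => by
    have hz : z ∈ stalkValRing x := by rw [h]; trivial
    exact hz
  have e := RingEquiv.ofBijective _ ⟨IsFractionRing.injective (X.presheaf.stalk x) X.functionField, hsurj⟩
  rw [ringKrullDim_eq_zero_of_isField (e.toMulEquiv.isField (Field.toIsField _))] at hx
  exact zero_ne_one hx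

/-- Two points with the same local ring inside the function field coincide on a separated scheme. -/
theorem eq_of_range_eq [X.IsSeparated] (R : ValuationSubring X.functionField) {x y : X}
    (hx : (R : Set X.functionField) = Set.range (algebraMap (X.presheaf.stalk x) X.functionField))
    (hy : (R : Set X.functionField) = Set.range (algebraMap (X.presheaf.stalk y) X.functionField)) :
    x = y := by
  have key : ∀ z : X, (R : Set X.functionField) =
      Set.range (algebraMap (X.presheaf.stalk z) X.functionField) →
      ∃ l : Spec (CommRingCat.of R) ⟶ X, l (closedPoint R) = z ∧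
        Spec.map (CommRingCat.ofHom R.subtype) ≫ l = X.fromSpecStalk (genericPoint X) := by
    intro z hz
    let σ := X.presheaf.stalkSpecializes ((genericPoint_spec X).specializes (y := z) trivial)
    let ψ : X.presheaf.stalk z →+* R :=
      σ.hom.codRestrict R.toSubring fun a => hz.ge ⟨a, rfl⟩
    have hb : Function.Bijective ψ := ⟨fun a b hab =>
        IsFractionRing.injective (X.presheaf.stalk z) X.functionField (congrArg Subtype.val hab),
      fun r => by
        obtain ⟨a, ha⟩ := hz.le r.2
        exact ⟨a, Subtype.ext ha⟩⟩
    refine ⟨Spec.map (CommRingCat.ofHom ψ) ≫ X.fromSpecStalk z, ?_, ?_⟩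
    · have hloc : IsLocalHom ψ := ⟨fun a ha =>
        (isUnit_map_iff (RingEquiv.ofBijective ψ hb) a).1 ha⟩
      have : IsLocalHom (CommRingCat.ofHom ψ).hom := hloc
      have h2 : Spec.map (CommRingCat.ofHom ψ) (closedPoint R) = closedPoint (X.presheaf.stalk z) :=
        IsLocalRing.comap_closedPoint ψ
      rw [Scheme.Hom.comp_apply, h2, Scheme.fromSpecStalk_closedPoint]
    · rw [← Spec.map_comp_assoc]
      exact (Scheme.SpecMap_stalkSpecializes_fromSpecStalk ((genericPoint_spec X).specializes (y := z) trivial))
  obtain ⟨l, hl, hl'⟩ := key x hx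
  obtain ⟨m, hm, hm'⟩ := key y hy
  rw [← hl, ← hm, ext_of_generic R.subtype Subtype.val_injective (hl'.trans hm'.symm)]

/-- A valuation ring of the function field over the base has a centre on a proper scheme. -/
theorem exists_centre {S : Scheme.{u}} (c : X ⟶ S) [IsProper c] (R : ValuationSubring X.functionField)
    (h : Spec (CommRingCat.of R) ⟶ S)
    (hh : Spec.map (CommRingCat.ofHom R.subtype) ≫ h = X.fromSpecStalk (genericPoint X) ≫ c) :
    ∃ x : X, (∀ a : X.presheaf.stalk x, algebraMap (X.presheaf.stalk x) X.functionField a ∈ R) ∧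
      ∀ a ∈ maximalIdeal (X.presheaf.stalk x),
        R.valuation (algebraMap (X.presheaf.stalk x) X.functionField a) < 1 := by
  let sq : ValuativeCommSq c :=
    { R := R
      K := X.functionField
      i₁ := X.fromSpecStalk (genericPoint X)
      i₂ := h
      commSq := ⟨hh.symm⟩ }
  have hval : ValuativeCriterion c := by
    have hp : IsProper c := inferInstance
    rw [IsProper.eq_valuativeCriterion] at hp
    exact hp.1.1.1
  obtain ⟨⟨l⟩⟩ := hval.existence sq
  refine ⟨_, dominates_of_hom R l.l
    (X.presheaf.stalkSpecializes ((genericPoint_spec X).specializes trivial)) ?_⟩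
  rw [Scheme.SpecMap_stalkSpecializes_fromSpecStalk]
  exact l.fac_left.symm

/-- A valuation ring containing a local valuation ring and centred at it equals it. -/
theorem eq_range_of_centre (R : ValuationSubring X.functionField) (x : X)
    [ValuationRing (X.presheaf.stalk x)]
    (h1 : ∀ a : X.presheaf.stalk x, algebraMap (X.presheaf.stalk x) X.functionField a ∈ R)
    (h2 : ∀ a ∈ maximalIdeal (X.presheaf.stalk x),
        R.valuation (algebraMap (X.presheaf.stalk x) X.functionField a) < 1) :
    (R : Set X.functionField) = Set.range (algebraMap (X.presheaf.stalk x) X.functionField) := by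
  refine Set.Subset.antisymm (fun z hz => ?_) (by rintro _ ⟨a, rfl⟩; exact h1 a)
  rcases ValuationRing.isInteger_or_isInteger (X.presheaf.stalk x) z with h | ⟨b, hb⟩
  · exact h
  by_cases hz0 : z = 0
  · exact ⟨0, by rw [hz0, map_zero]⟩
  by_cases hbu : IsUnit b
  · obtain ⟨u, rfl⟩ := hbu
    exact ⟨↑u⁻¹, by rw [map_units_inv, hb, inv_inv]⟩
  · have hlt := h2 b hbu
    rw [hb, map_inv₀] at hlt
    have hle : R.valuation z ≤ 1 := (R.valuation_le_one_iff z).2 hz
    exact absurd hle (not_le.2 ((inv_lt_one_iff₀.mp hlt).resolve_left
      (not_le.2 (zero_lt_iff.2 (R.valuation.ne_zero_iff.2 hz0)))))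

/-- Morphisms from a normal curve to a proper scheme are determined by, and extend from, the generic
point. -/
theorem existsUnique_hom {S Y : Scheme.{u}} (q : Y ⟶ S) [IsProper q] (p : X ⟶ S)
    [IsLocallyNoetherian X]
    (hval : ∀ x : X, ∃ _ : IsDomain (X.presheaf.stalk x), ValuationRing (X.presheaf.stalk x))
    (g : Spec X.functionField ⟶ Y) (hg : g ≫ q = X.fromSpecStalk (genericPoint X) ≫ p) :
    ∃! u : X ⟶ Y, u ≫ q = p ∧ X.fromSpecStalk (genericPoint X) ≫ u = g := by
  haveI := isDominant_fromSpecStalk_genericPoint (X := X)
  refine existsUnique_of_exists_of_unique ?_ fun u v hu hv =>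
    ext_of_isDominant_of_isSeparated q (hu.1.trans hv.1.symm) (X.fromSpecStalk (genericPoint X))
      (hu.2.trans hv.2.symm)
  obtain ⟨V, hV, f, hf1, hf2⟩ := spread_out_of_isGermInjective' p q (x := genericPoint X) g hg
  have hd : Dense (V : Set X) := dense_iff_closure_eq.2 (Set.eq_univ_of_univ_subset (by
    rw [← genericPoint_closure]
    exact closure_mono (Set.singleton_subset_iff.2 hV)))
  obtain ⟨U, hVU, g', hg1, hg2, hUall⟩ := extend_proper_codim_one q p (Set.univ : Set X)
    (fun y _ => hval y) V hd f hf2
  obtain rfl : U = ⊤ := top_le_iff.1 fun y _ => hUall y trivial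
  refine ⟨X.topIso.inv ≫ g', by rw [Category.assoc, hg1, ← Scheme.topIso_hom, Iso.inv_hom_id_assoc], ?_⟩
  rw [hf1, ← hg2, ← V.fromSpecStalkOfMem_ι (genericPoint X) hV, Category.assoc]
  congr 1
  rw [← Category.assoc]
  congr 1
  rw [Iso.comp_inv_eq, Scheme.topIso_hom, Scheme.homOfLE_ι]

end Groth.Agent.EGA73
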