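import Groth.Agent.FEt83.FFNorm
import Groth.Agent.EGA73.CurveVal
import Groth.Agent.S10862
import Groth.Agent.Div89.Basic

/-!
Normalization of an integral scheme in an arbitrary extension of its function field.
-/

set_option autoImplicit false
set_option linter.style.haveILetI false
set_option backward.isDefEq.respectTransparency.types false

universe u

open CategoryTheory AlgebraicGeometry TopologicalSpace IsLocalRing

namespace Groth.Agent.EGA73

variable {X : Scheme.{u}} [IsIntegral X] (L : Type u) [Field L] [Algebra X.functionField L]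
variable [QuasiCompact (FEt83.ffPoint (X := X) L)] [QuasiSeparated (FEt83.ffPoint (X := X) L)]

local notation "N" => Scheme.Hom.normalization (FEt83.ffPoint (X := X) L)
local notation "ν" => Scheme.Hom.fromNormalization (FEt83.ffPoint (X := X) L)
local notation "τ" => Scheme.Hom.toNormalization (FEt83.ffPoint (X := X) L)

theorem toNormalization_preimage_eq_top (U : X.Opens) [Nonempty U] :
    (τ) ⁻¹ᵁ ((ν) ⁻¹ᵁ U) = ⊤ := by
  rw [← Scheme.Hom.comp_preimage, Scheme.Hom.toNormalization_fromNormalization,
    FEt83.ffPoint_preimage]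

theorem genericPoint_normalization : (τ) (closedPoint L) = genericPoint (N) := by
  have h : (τ) (genericPoint (Spec (CommRingCat.of L))) = genericPoint (N) :=
    genericPoint_of_isDominant _
  rw [← h]
  exact congrArg _ (Subsingleton.elim (α := PrimeSpectrum L) _ _)

/-- Sections of the normalization are the integral closure, compatibly with the evaluation at the
generic point. -/
theorem exists_sectionsIso_val (U : X.Opens) (hU : IsAffineOpen U) [Nonempty U]
    [Algebra Γ(X, U) L] [IsScalarTower Γ(X, U) X.functionField L] :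
    ∃ j : Γ((N), (ν) ⁻¹ᵁ U) ≅ CommRingCat.of (integralClosure Γ(X, U) L),
      (ν).app U ≫ j.hom = CommRingCat.ofHom (algebraMap Γ(X, U) (integralClosure Γ(X, U) L)) ∧
      ∀ (h : (τ) (closedPoint L) ∈ (ν) ⁻¹ᵁ U) (b : Γ((N), (ν) ⁻¹ᵁ U)),
        (Scheme.stalkClosedPointTo (τ)).hom ((N).presheaf.germ _ _ h b) = ((j.hom b : integralClosure Γ(X, U) L) : L) := by
  let f := FEt83.ffPoint (X := X) L
  let i : Γ(Spec (CommRingCat.of L), f ⁻¹ᵁ U) ≅ CommRingCat.of L :=
    (Spec _).presheaf.mapIso (eqToIso (FEt83.ffPoint_preimage L U)).symm.op ≪≫ Scheme.ΓSpecIso _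
  let := (f.app U).hom.toAlgebra
  obtain ⟨j₀, hj₀⟩ := FEt83.exists_sectionsIso L U hU
  have hi : f.app U ≫ i.hom = CommRingCat.ofHom (algebraMap Γ(X, U) L) := by
    rw [IsScalarTower.algebraMap_eq Γ(X, U) X.functionField L]
    have hη : genericPoint X ∈ U :=
      ((genericPoint_spec X).mem_open_set_iff U.isOpen).mpr (by simpa using ‹Nonempty U›)
    have h2 := Scheme.germ_stalkClosedPointTo_Spec_fromSpecStalk
      (f := CommRingCat.ofHom (algebraMap X.functionField L)) (x := genericPoint X) U
      (hU := by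
        show f (closedPoint L) ∈ U
        show closedPoint L ∈ f ⁻¹ᵁ U
        rw [FEt83.ffPoint_preimage]
        trivial)
    rw [Scheme.germ_stalkClosedPointTo] at h2
    exact h2
  let e : Γ(Spec (CommRingCat.of L), f ⁻¹ᵁ U) ≃ₐ[Γ(X, U)] L :=
    { i.commRingCatIsoToRingEquiv with
      commutes' := fun a => congrArg (fun φ => φ.hom a) hi }
  let φ := e.mapIntegralClosure
  refine ⟨f.normalizationObjIso hU ≪≫ φ.toRingEquiv.toCommRingCatIso, ?_, fun h b => ?_⟩
  · rw [f.fromNormalization_app hU, Iso.trans_hom, Category.assoc, Iso.inv_hom_id_assoc]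
    ext a
    exact congrArg Subtype.val (φ.commutes a)
  · have h1 := congr($(Scheme.germ_stalkClosedPointTo (τ) ((ν) ⁻¹ᵁ U) h) b)
    refine h1.trans ?_
    have h3 := congr($(Scheme.Hom.normalizationObjIso_hom_val f hU) b)
    show _ = i.hom ((Subalgebra.val _).toRingHom ((f.normalizationObjIso hU).hom b))
    rw [show (Subalgebra.val _).toRingHom ((f.normalizationObjIso hU).hom b) =
      (τ).appLE ((ν) ⁻¹ᵁ U) (f ⁻¹ᵁ U) (by
        rw [← Scheme.Hom.comp_preimage, Scheme.Hom.toNormalization_fromNormalization]) b from h3]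
    simp only [i, Scheme.Hom.appLE, Iso.trans_hom, Functor.mapIso_hom, CategoryTheory.comp_apply]
    congr 1

/-- The normalization is a normal scheme. -/
theorem isNormalScheme_normalization : Pi1.IsNormalScheme (N) := by
  intro y
  obtain ⟨_, ⟨U, hU, rfl⟩, hyU, -⟩ :=
    X.isBasis_affineOpens.exists_subset_of_mem_open (Set.mem_univ ((ν) y)) isOpen_univ
  replace hU : IsAffineOpen U := hU
  have : Nonempty U := ⟨⟨_, hyU⟩⟩
  let _ : Algebra Γ(X, U) L :=
    ((algebraMap X.functionField L).comp (algebraMap Γ(X, U) X.functionField)).toAlgebra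
  have : IsScalarTower Γ(X, U) X.functionField L := IsScalarTower.of_algebraMap_eq fun _ => rfl
  obtain ⟨j, -, -⟩ := exists_sectionsIso_val L U hU
  let V := (ν) ⁻¹ᵁ U
  have hV : IsAffineOpen V := hU.preimage _
  let B := integralClosure Γ(X, U) L
  have hB : IsIntegrallyClosed B := by
    refine (isIntegrallyClosed_iff (FractionRing B)).2 fun {x} hx => ?_
    let ψ : FractionRing B →ₐ[B] L :=
      IsFractionRing.liftAlgHom (g := Algebra.ofId B L) Subtype.val_injective
    have hy : IsIntegral B (ψ x) := hx.map ψ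
    have : Algebra.IsIntegral Γ(X, U) B := IsIntegralClosure.isIntegral_algebra _ L
    exact ⟨⟨ψ x, isIntegral_trans _ hy⟩, ψ.toRingHom.injective (ψ.commutes _)⟩
  have : IsIntegrallyClosed Γ((N), V) :=
    @IsIntegrallyClosed.of_equiv _ _ _ _ j.commRingCatIsoToRingEquiv.symm hB
  have : IsDomain Γ((N), V) := j.commRingCatIsoToRingEquiv.toMulEquiv.isDomain B
  let _ := TopCat.Presheaf.algebra_section_stalk (N).presheaf (⟨y, hyU⟩ : V)
  have := hV.isLocalization_stalk ⟨y, hyU⟩
  exact ⟨IsLocalization.isDomain_of_le_nonZeroDivisors _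
      (hV.primeIdealOf ⟨y, hyU⟩).asIdeal.primeCompl_le_nonZeroDivisors,
    isIntegrallyClosed_of_isLocalization _ (hV.primeIdealOf ⟨y, hyU⟩).asIdeal.primeCompl
      (hV.primeIdealOf ⟨y, hyU⟩).asIdeal.primeCompl_le_nonZeroDivisors⟩

/-- Only the generic point lies over the generic point. -/
theorem fibre_genericPoint :
    (ν).base ⁻¹' {genericPoint X} = {genericPoint (N)} := by
  obtain ⟨_, ⟨U, hU, rfl⟩, hηU, -⟩ :=
    X.isBasis_affineOpens.exists_subset_of_mem_open (Set.mem_univ (genericPoint X)) isOpen_univ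
  replace hU : IsAffineOpen U := hU
  have : Nonempty U := ⟨⟨_, hηU⟩⟩
  have hgen : (ν) (genericPoint (N)) = genericPoint X := by
    rw [← genericPoint_normalization L, ← Scheme.Hom.comp_apply,
      Scheme.Hom.toNormalization_fromNormalization, FEt83.ffPoint, Scheme.Hom.comp_apply]
    have h2 : (Spec.map (CommRingCat.ofHom (algebraMap X.functionField L))) (closedPoint L) =
        closedPoint X.functionField := Subsingleton.elim (α := PrimeSpectrum X.functionField) _ _
    rw [h2]
    exact Scheme.fromSpecStalk_closedPoint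
  refine Set.Subset.antisymm (fun y hy => ?_) (by rintro _ rfl; exact hgen)
  let V := (ν) ⁻¹ᵁ U
  have hV : IsAffineOpen V := hU.preimage _
  have hyV : y ∈ V := show (ν) y ∈ U from (Set.mem_singleton_iff.1 hy).symm ▸ hηU
  have hgV : genericPoint (N) ∈ V := show (ν) _ ∈ U from hgen.symm ▸ hηU
  have : Nonempty V := ⟨⟨y, hyV⟩⟩
  let _ : Algebra Γ(X, U) Γ((N), V) := ((ν).app U).hom.toAlgebra
  have : Algebra.IsIntegral Γ(X, U) Γ((N), V) := ⟨IsIntegralHom.isIntegral_app (ν) U hU⟩
  have hinj : Function.Injective (algebraMap Γ(X, U) Γ((N), V)) := by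
    refine (injective_iff_map_eq_zero _).2 fun a ha => X.germToFunctionField_injective U ?_
    apply (algebraMap X.functionField L).injective
    let _ : Algebra Γ(X, U) L :=
      ((algebraMap X.functionField L).comp (algebraMap Γ(X, U) X.functionField)).toAlgebra
    have : IsScalarTower Γ(X, U) X.functionField L := IsScalarTower.of_algebraMap_eq fun _ => rfl
    obtain ⟨j, hj, -⟩ := exists_sectionsIso_val L U hU
    have h1 := congr((($hj) a : integralClosure Γ(X, U) L))
    have h2 : (ν).app U a = 0 := ha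
    rw [CategoryTheory.comp_apply, h2, map_zero] at h1
    rw [map_zero, map_zero]
    exact (congrArg Subtype.val h1).symm
  let P := (hV.primeIdealOf ⟨y, hyV⟩).asIdeal
  have hP : P = ⊥ := by
    refine Ideal.eq_bot_of_comap_eq_bot (R := Γ(X, U)) (eq_bot_iff.2 fun a ha => ?_)
    by_contra ha0
    have hmem : (ν) y ∈ X.basicOpen a := by
      rw [Set.mem_singleton_iff.1 hy]
      refine ((genericPoint_spec X).mem_open_set_iff (X.basicOpen a).isOpen).2 ?_
      rw [Set.univ_inter, Set.nonempty_iff_ne_empty]
      intro he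
      exact ha0 ((basicOpen_eq_bot_iff a).1 (Opens.ext he))
    have h1 : y ∈ (N).basicOpen ((ν).app U a) := by
      rw [← Scheme.preimage_basicOpen]
      exact hmem
    exact (Div89.mem_basicOpen_iff_notMem ⟨V, hV⟩ y hyV _).1 h1 ha
  refine Set.mem_singleton_iff.2 ((genericPoint_specializes y).antisymm ?_).eq.symm
  rw [Div89.specializes_iff_primeAt_le ⟨V, hV⟩ hgV hyV]
  show P ≤ _
  rw [hP]
  exact bot_le

/-- The function field of the normalization is the algebraic closure. -/
theorem range_stalkClosedPointTo :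
    Set.range (Scheme.stalkClosedPointTo (τ)).hom =
      {y : L | ∃ q : Polynomial X.functionField, q.Monic ∧
        Polynomial.eval₂ (algebraMap X.functionField L) y q = 0} := by
  obtain ⟨_, ⟨U, hU, rfl⟩, hηU, -⟩ :=
    X.isBasis_affineOpens.exists_subset_of_mem_open (Set.mem_univ (genericPoint X)) isOpen_univ
  replace hU : IsAffineOpen U := hU
  have : Nonempty U := ⟨⟨_, hηU⟩⟩
  let _ : Algebra Γ(X, U) L :=
    ((algebraMap X.functionField L).comp (algebraMap Γ(X, U) X.functionField)).toAlgebra
  have : IsScalarTower Γ(X, U) X.functionField L := IsScalarTower.of_algebraMap_eq fun _ => rfl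
  obtain ⟨j, -, hval⟩ := exists_sectionsIso_val L U hU
  let V := (ν) ⁻¹ᵁ U
  have hV : IsAffineOpen V := hU.preimage _
  have hmem : (τ) (closedPoint L) ∈ V :=
    (toNormalization_preimage_eq_top L U).ge (trivial : closedPoint L ∈ (⊤ : (Spec (CommRingCat.of L)).Opens))
  have hfield : IsField ((N).presheaf.stalk ((τ) (closedPoint L))) := by
    rw [genericPoint_normalization L]
    exact Field.toIsField (N).functionField
  have hfrac : ∀ z : (N).presheaf.stalk ((τ) (closedPoint L)), ∃ a b : Γ((N), V),
      IsUnit ((N).presheaf.germ V _ hmem b) ∧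
        (N).presheaf.germ V _ hmem b * z = (N).presheaf.germ V _ hmem a := by
    suffices ∀ (p : (N)) (hp : p ∈ V), p = genericPoint (N) → ∀ z : (N).presheaf.stalk p,
        ∃ a b : Γ((N), V), IsUnit ((N).presheaf.germ V p hp b) ∧
          (N).presheaf.germ V p hp b * z = (N).presheaf.germ V p hp a from
      this _ hmem (genericPoint_normalization L)
    rintro p hp rfl z
    have : Nonempty V := ⟨⟨_, hp⟩⟩
    have := functionField_isFractionRing_of_isAffineOpen (N) V hV
    obtain ⟨⟨a, b⟩, hab⟩ := IsLocalization.surj (nonZeroDivisors Γ((N), V)) (z : (N).functionField)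
    exact ⟨a, b.1, IsLocalization.map_units (N).functionField b, (mul_comm _ _).trans hab⟩
  let σ := (Scheme.stalkClosedPointTo (τ)).hom
  have hint : ∀ b : Γ((N), V), IsIntegral Γ(X, U) (σ ((N).presheaf.germ V _ hmem b)) := fun b => by
    rw [hval hmem b]
    exact (j.hom b).2
  ext y
  constructor
  · rintro ⟨z, rfl⟩
    obtain ⟨a, b, hb, hab⟩ := hfrac z
    have h := congrArg σ hab
    rw [map_mul] at h
    have hz : σ z = σ ((N).presheaf.germ V _ hmem a) * (σ ((N).presheaf.germ V _ hmem b))⁻¹ := by
      rw [← h, mul_comm, ← mul_assoc, inv_mul_cancel₀ (hb.map σ).ne_zero, one_mul]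
    have hi : IsIntegral X.functionField (σ z) := by
      rw [hz]
      exact (IsIntegral.tower_top (hint a)).mul (IsIntegral.inv (IsIntegral.tower_top (hint b)))
    exact hi
  · intro hy
    have := functionField_isFractionRing_of_isAffineOpen X U hU
    obtain ⟨m, hm⟩ := IsIntegral.exists_multiple_integral_of_isLocalization
      (nonZeroDivisors Γ(X, U)) (Rₘ := X.functionField) y hy
    obtain ⟨b, hb⟩ := (ConcreteCategory.bijective_of_isIso j.hom).2 ⟨m.1 • y, hm⟩
    obtain ⟨c, hc⟩ := (ConcreteCategory.bijective_of_isIso j.hom).2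
      (algebraMap Γ(X, U) (integralClosure Γ(X, U) L) m.1)
    have hm0 : algebraMap Γ(X, U) L m.1 ≠ 0 := by
      rw [IsScalarTower.algebraMap_apply Γ(X, U) X.functionField L]
      simp only [ne_eq, map_eq_zero, FaithfulSMul.algebraMap_eq_zero_iff]
      exact nonZeroDivisors.ne_zero m.2
    have hσc : σ ((N).presheaf.germ V _ hmem c) = algebraMap Γ(X, U) L m.1 := by
      rw [hval hmem c, hc]; rfl
    have hσb : σ ((N).presheaf.germ V _ hmem b) = algebraMap Γ(X, U) L m.1 * y := by
      rw [hval hmem b, hb]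
      exact Algebra.smul_def _ _
    obtain ⟨i, hi⟩ := hfield.mul_inv_cancel (a := (N).presheaf.germ V _ hmem c) fun h0 => hm0 (by
      rw [← hσc, h0, map_zero])
    refine ⟨i * (N).presheaf.germ V _ hmem b, ?_⟩
    have h1 : σ i * algebraMap Γ(X, U) L m.1 = 1 := by
      rw [← hσc, ← map_mul, mul_comm, hi, map_one]
    show σ _ = y
    rw [map_mul, hσb, ← mul_assoc, h1, one_mul]

/-- Finiteness over a scheme of finite type over a field. -/
theorem isFinite_fromNormalization_of_field (k : Type u) [Field k] (p : X ⟶ Spec (CommRingCat.of k))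
    [LocallyOfFiniteType p] [FiniteDimensional X.functionField L] : IsFinite (ν) := by
  refine (isFinite_iff _).mpr ⟨inferInstance, fun U hU => ?_⟩
  rcases isEmpty_or_nonempty U with hUe | hUne
  · have : Subsingleton Γ(X, U) := by
      rw [show U = ⊥ from TopologicalSpace.Opens.ext (Set.isEmpty_coe_sort.mp hUe)]
      infer_instance
    have : Subsingleton Γ((N), (ν) ⁻¹ᵁ U) := subsingleton_of_zero_eq_one (by
      rw [← map_one ((ν).app U).hom, Subsingleton.elim (1 : Γ(X, U)) 0, map_zero])
    exact RingHom.Finite.of_surjective _ fun b => ⟨0, Subsingleton.elim _ _⟩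
  let _ : Algebra Γ(X, U) L :=
    ((algebraMap X.functionField L).comp (algebraMap Γ(X, U) X.functionField)).toAlgebra
  have : IsScalarTower Γ(X, U) X.functionField L := IsScalarTower.of_algebraMap_eq fun _ => rfl
  obtain ⟨j, hj, -⟩ := exists_sectionsIso_val L U hU
  have := functionField_isFractionRing_of_isAffineOpen X U hU
  let f : k →+* Γ(X, U) := ((Scheme.ΓSpecIso (CommRingCat.of k)).inv ≫ p.appLE ⊤ U le_top).hom
  let := f.toAlgebra
  have : Algebra.FiniteType k Γ(X, U) := by
    have h := p.finiteType_appLE (isAffineOpen_top _) hU le_top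
    exact (RingHom.FiniteType.comp h (RingHom.FiniteType.of_surjective _
      (Scheme.ΓSpecIso (CommRingCat.of k)).commRingCatIsoToRingEquiv.symm.surjective))
  have : Module.Finite Γ(X, U) (integralClosure Γ(X, U) L) :=
    S10862.result k Γ(X, U) X.functionField L
  rw [← Category.comp_id ((ν).app U), ← j.hom_inv_id, ← Category.assoc, hj, CommRingCat.hom_comp]
  exact (RingHom.Finite.of_surjective _ (ConcreteCategory.bijective_of_isIso j.inv).2).comp
    (RingHom.finite_algebraMap.mpr this)

end Groth.Agent.EGA73
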