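import Groth.Agent.EGA73.ProjMor
import Groth.Agent.Amp73.FrameGlue
import Groth.Agent.Amp73.PullTensor
import Groth.Agent.Var76.ProjFrame
import Groth.Agent.Var76.Frames
import Groth.Agent.Mero90.Triv
import Groth.Agent.Mero90.OfMero
import Groth.Agent.EGAProj74.GenDegOne
import Groth.Agent.EGA73.TwistInvertible
import Groth.Prelude.Def_ProjUP
import Mathlib.LinearAlgebra.SymmetricAlgebra.Basic

/-!
The universal property of the `Proj` of a symmetric algebra.
-/

set_option autoImplicit false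
set_option backward.isDefEq.respectTransparency.types false

universe u

open CategoryTheory CategoryTheory.Limits AlgebraicGeometry Opposite TopologicalSpace
open HomogeneousLocalization

noncomputable section

namespace Groth.Agent.EGA73.ProjUniv

open Groth.Agent.Var76.LineBundle Groth.Agent.Var76.ZeroScheme Groth.Agent.Amp73

variable {A : Type u} [CommRing A] {S : Type u} [CommRing S] [Algebra A S] {𝒮 : ℕ → Submodule A S}
  [GradedAlgebra 𝒮] {M : Type u} [AddCommGroup M] [Module A M] {ι : M →ₗ[A] S}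

/-- Two algebra maps differing by a unit in degree one differ by its powers in higher degrees. -/
theorem eq_pow_mul (hι : ∀ m : M, ι m ∈ 𝒮 1) (hsym : IsSymmetricAlgebra ι) {B : Type u} [CommRing B]
    [Algebra A B] (ρ ρ' : S →ₐ[A] B) (u : B) (h : ∀ m, ρ (ι m) = u * ρ' (ι m)) (d : ℕ) (x : S)
    (hx : x ∈ 𝒮 d) : ρ x = u ^ d * ρ' x := by
  classical
  suffices key : ∀ (y : S) (n : ℕ),
      ρ (DirectSum.decompose 𝒮 y n : S) = u ^ n * ρ' (DirectSum.decompose 𝒮 y n : S) by
    simpa [DirectSum.decompose_of_mem_same 𝒮 hx] using key x d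
  intro y
  induction y using hsym.induction with
  | algebraMap r =>
    intro n
    have h0 : algebraMap A S r ∈ 𝒮 0 := SetLike.algebraMap_mem_graded 𝒮 r
    by_cases hn : n = 0
    · subst hn
      rw [DirectSum.decompose_of_mem_same 𝒮 h0, AlgHom.commutes, AlgHom.commutes, pow_zero, one_mul]
    · rw [DirectSum.decompose_of_mem_ne 𝒮 h0 (Ne.symm hn)]
      simp
  | ι m =>
    intro n
    by_cases hn : n = 1
    · subst hn
      simp [DirectSum.decompose_of_mem_same 𝒮 (hι m), h]
    · simp [DirectSum.decompose_of_mem_ne 𝒮 (hι m) (Ne.symm hn)]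
  | mul a b ha hb =>
    intro n
    rw [DirectSum.decompose_mul, DirectSum.coe_mul_apply, map_sum, map_sum, Finset.mul_sum]
    refine Finset.sum_congr rfl fun ij hij => ?_
    rw [← (Finset.mem_filter.1 hij).2, map_mul, map_mul, ha, hb, pow_add]
    ring
  | add a b ha hb =>
    intro n
    simp only [DirectSum.decompose_add, DirectSum.add_apply, Submodule.coe_add, map_add, ha, hb]
    ring

/-- The irrelevant ideal of a symmetric algebra is generated in degree one. -/
theorem irrelevant_eq_span_one (hι : ∀ m : M, ι m ∈ 𝒮 1) (hsym : IsSymmetricAlgebra ι) :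
    (HomogeneousIdeal.irrelevant 𝒮).toIdeal = Ideal.span (𝒮 1 : Set S) := by
  refine le_antisymm (EGAProj74.irrelevant_le_span_one_of_gen (top_le_iff.1 fun x _ => ?_))
    (Ideal.span_le.2 fun a ha => HomogeneousIdeal.mem_irrelevant_of_mem 𝒮 zero_lt_one ha)
  induction x using hsym.induction with
  | algebraMap r => exact Subring.subset_closure (Or.inl (SetLike.algebraMap_mem_graded 𝒮 r))
  | ι m => exact Subring.subset_closure (Or.inr (hι m))
  | mul a b ha hb => exact mul_mem (ha trivial) (hb trivial)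
  | add a b ha hb => exact add_mem (ha trivial) (hb trivial)

variable {X : Scheme.{u}} (q : X ⟶ Spec (CommRingCat.of A))

/-- The constants on an open. -/
def constOn (W : X.Opens) : A →+* Γ(X, W) :=
  (X.presheaf.map (homOfLE (le_top : W ≤ ⊤)).op).hom.comp (ProjUP.toGlobal q)

theorem toSpecΓ_constOn (W : X.Opens) :
    W.toSpecΓ ≫ Spec.map (CommRingCat.ofHom (constOn q W)) = W.ι ≫ q := by
  have h : CommRingCat.ofHom (constOn q W) = (Scheme.ΓSpecIso (CommRingCat.of A)).inv ≫ q.appTop ≫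
      X.presheaf.map (homOfLE (le_top : W ≤ ⊤)).op := rfl
  rw [h]
  simp only [Spec.map_comp]
  rw [← Category.assoc W.toSpecΓ, ← Category.assoc W.toSpecΓ]
  rw [Scheme.Opens.toSpecΓ_SpecMap_presheaf_map_top, Category.assoc, Category.assoc,
    ← Scheme.toSpecΓ_naturality_assoc, ← SpecMap_ΓSpecIso_hom, ← Spec.map_comp, Iso.inv_hom_id,
    Spec.map_id, Category.comp_id]

/-- Some generating section is a frame near every point. -/
theorem exists_mem_genLocus (L : X.Modules) (hL : PicF.IsInvertible L) {J : Type*}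
    (s : J → ProjUP.Γm L) (hs : ProjUP.GeneratedBy L s) (x : X) :
    ∃ j, x ∈ CohB1.genLocus L (Var76.Frames.ofSection L (s j)) := by
  classical
  obtain ⟨U, hxU, e, he⟩ := Mero90.exists_frame' hL x
  by_contra hno
  push Not at hno
  have hgen := Mero90.isGen_germ he ⟨x, hxU⟩
  obtain ⟨a, ha⟩ : ∃ a : X.presheaf.stalk x, a = 1 := ⟨1, rfl⟩
  have key : ∀ j, (L.presheaf.germ ⊤ x trivial).hom (s j) ∈
      IsLocalRing.maximalIdeal (X.presheaf.stalk x) • (⊤ : Submodule (X.presheaf.stalk x) (L.presheaf.stalk x)) := by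
    intro j
    obtain ⟨c, hc⟩ := exists_coord (Var76.Frames.ofSection L (s j)) he
    have hloc := genLocus_inf_eq_basicOpen _ he hc
    rw [Var76.Frames.val_ofSection] at hc
    have hnu : X.presheaf.germ U x hxU c ∈ IsLocalRing.maximalIdeal (X.presheaf.stalk x) := by
      intro hu
      exact hno j (hloc.ge ((X.mem_basicOpen c x hxU).2 hu)).1
    have h2 := congrArg (L.presheaf.germ U x hxU) hc
    rw [Mero.germ_smul, TopCat.Presheaf.germ_res_apply] at h2
    rw [← h2]
    exact Submodule.smul_mem_smul hnu Submodule.mem_top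
  have htop : (⊤ : Submodule (X.presheaf.stalk x) (L.presheaf.stalk x)) ≤
      IsLocalRing.maximalIdeal (X.presheaf.stalk x) • ⊤ :=
    (hs x).ge.trans (Submodule.span_le.2 (Set.range_subset_iff.2 key))
  obtain ⟨c, hcm, hc⟩ : ∃ c ∈ IsLocalRing.maximalIdeal (X.presheaf.stalk x),
      c • L.presheaf.germ U x hxU e = L.presheaf.germ U x hxU e := by
    have hmem := htop (x := L.presheaf.germ U x hxU e) Submodule.mem_top
    refine Submodule.smul_induction_on (p := fun z => ∃ c ∈ IsLocalRing.maximalIdeal (X.presheaf.stalk x),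
      c • L.presheaf.germ U x hxU e = z) hmem (fun r hr n _ => ?_) (fun z w hz hw => ?_)
    · obtain ⟨d, rfl⟩ := hgen.2 n
      exact ⟨r * d, Ideal.mul_mem_right _ _ hr, mul_smul _ _ _⟩
    · obtain ⟨c, hc, rfl⟩ := hz
      obtain ⟨d, hd, rfl⟩ := hw
      exact ⟨c + d, add_mem hc hd, add_smul _ _ _⟩
  have h1 : c = 1 := hgen.1 (hc.trans (one_smul _ _).symm)
  exact hcm (h1 ▸ isUnit_one)

/-- Existence in the universal property of `Proj` of a symmetric algebra. -/
theorem exists_to_proj (hι : ∀ m : M, ι m ∈ 𝒮 1) (hsym : IsSymmetricAlgebra ι) (L : X.Modules)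
    (hL : PicF.IsInvertible L) (v : M →+ ProjUP.Γm L)
    (hv : ∀ (a : A) (m : M), v (a • m) = ProjUP.toGlobal q a • v m) (hgen : ProjUP.GeneratedBy L v) :
    ∃ (r : X ⟶ Proj 𝒮) (_ : r ≫ Proj.toSpecZero 𝒮 ≫ Spec.map (CommRingCat.ofHom (algebraMap A (𝒮 0))) = q)
      (τ : (Scheme.Modules.pullback r).obj (Twist.twist 𝒮 1) ≅ L),
      ∀ m : M, τ.hom.app ⊤ (ProjUP.pullSec r (Twist.twist 𝒮 1) (Twist.globalOf 𝒮 ⟨ι m, hι m⟩)) = v m := by
  classical
  let s : M → (Coh.structureModule X ⟶ L) := fun m => Var76.Frames.ofSection L (v m)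
  let G : M → X.Opens := fun m => CohB1.genLocus L (s m)
  have hG : ⨆ m, G m = ⊤ := eq_top_iff.2 fun x _ => by
    obtain ⟨m, hm⟩ := exists_mem_genLocus L hL v hgen x
    exact Opens.mem_iSup.2 ⟨m, hm⟩
  let e : ∀ m, Γ(L, G m) := fun m => res L le_top (v m)
  have he : ∀ m, IsFrame L (G m) (e m) := fun m => by
    have := isFrame_genLocus (s m)
    rwa [Var76.Frames.val_ofSection] at this
  let coefE : ∀ m, Γ(X, G m) ≃ₗ[Γ(X, G m)] Γ(L, G m) := fun m =>
    LinearEquiv.ofBijective (LinearMap.toSpanSingleton Γ(X, G m) Γ(L, G m) (res L le_rfl (e m)))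
      (he m _ le_rfl)
  letI : ∀ m, Algebra A Γ(X, G m) := fun m => (constOn q (G m)).toAlgebra
  let c : ∀ m, M →ₗ[A] Γ(X, G m) := fun m =>
    { toFun := fun m' => (coefE m).symm (res L le_top (v m'))
      map_add' := fun a b => by rw [map_add, res_add, map_add]
      map_smul' := fun a b => by
        rw [hv, res_smul, map_smul]
        rfl }
  have hc : ∀ m m', c m m' • e m = res L le_top (v m') := fun m m' => by
    have h := (coefE m).apply_symm_apply (res L le_top (v m'))
    change c m m' • res L le_rfl (e m) = _ at h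
    rwa [res_self] at h
  have hc1 : ∀ m, c m m = 1 := fun m => by
    show (coefE m).symm (res L le_top (v m)) = 1
    rw [LinearEquiv.symm_apply_eq]
    show res L le_top (v m) = (1 : Γ(X, G m)) • res L le_rfl (e m)
    rw [one_smul, res_self]
  let ρ : ∀ m, S →ₐ[A] Γ(X, G m) := fun m => hsym.lift (c m)
  have hρ : ∀ m m', ρ m (ι m') = c m m' := fun m m' => hsym.lift_eq (c m) m'
  have hcompat : ∀ (j k : M) (d : ℕ), ∀ x ∈ 𝒮 d,
      X.presheaf.map (homOfLE (inf_le_left : G j ⊓ G k ≤ G j)).op (ρ j x) =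
        X.presheaf.map (homOfLE (inf_le_left : G j ⊓ G k ≤ G j)).op (ρ j (ι k)) ^ d *
          X.presheaf.map (homOfLE (inf_le_right : G j ⊓ G k ≤ G k)).op (ρ k x) := by
    intro j k d x hx
    letI : Algebra A Γ(X, G j ⊓ G k) := (constOn q (G j ⊓ G k)).toAlgebra
    let rj : Γ(X, G j) →ₐ[A] Γ(X, G j ⊓ G k) :=
      { (X.presheaf.map (homOfLE (inf_le_left : G j ⊓ G k ≤ G j)).op).hom with
        commutes' := fun a => fres_fres (le_top : G j ≤ ⊤) inf_le_left (ProjUP.toGlobal q a) }
    let rk : Γ(X, G k) →ₐ[A] Γ(X, G j ⊓ G k) :=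
      { (X.presheaf.map (homOfLE (inf_le_right : G j ⊓ G k ≤ G k)).op).hom with
        commutes' := fun a => fres_fres (le_top : G k ≤ ⊤) inf_le_right (ProjUP.toGlobal q a) }
    refine eq_pow_mul hι hsym (rj.comp (ρ j)) (rk.comp (ρ k)) (rj (ρ j (ι k))) (fun m => ?_) d x hx
    show rj (ρ j (ι m)) = rj (ρ j (ι k)) * rk (ρ k (ι m))
    rw [hρ, hρ, hρ]
    refine ((he j).res inf_le_left _ le_rfl).1 ?_
    show fres inf_le_left (c j m) • res L le_rfl (res L inf_le_left (e j)) =
      (fres inf_le_left (c j k) * fres inf_le_right (c k m)) • res L le_rfl (res L inf_le_left (e j))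
    rw [res_self, ← res_smul, hc, mul_comm, mul_smul, ← res_smul, hc, res_res, res_res]
    show _ = fres inf_le_right (c k m) • res L (inf_le_left.trans le_top) (v k)
    rw [← res_res L (le_top : G k ≤ ⊤) (inf_le_right : G j ⊓ G k ≤ G k) (v k), ← res_smul, hc, res_res]
  obtain ⟨r, hr⟩ := ProjMor.exists_hom (𝒜 := 𝒮) (fun m => ι m) hι G hG (fun m => (ρ m).toRingHom)
    (fun m => (hρ m m).trans (hc1 m)) hcompat
  choose hle hfac hev using hr
  have hq : r ≫ Proj.toSpecZero 𝒮 ≫ Spec.map (CommRingCat.ofHom (algebraMap A (𝒮 0))) = q := by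
    refine (X.openCoverOfIsOpenCover G hG).hom_ext _ _ fun m => ?_
    show (G m).ι ≫ _ = (G m).ι ≫ q
    rw [← toSpecΓ_constOn q (G m), ← Category.assoc, hfac, Category.assoc, Category.assoc,
      Proj.awayι_toSpecZero_assoc, ← Spec.map_comp, ← Spec.map_comp]
    congr 2
    refine CommRingCat.hom_ext (RingHom.ext fun a => ?_)
    show ProjMor.ev (ρ m).toRingHom (f := ι m)
        ((((hρ m m).trans (hc1 m)) : (ρ m).toRingHom (ι m) = 1).symm ▸ isUnit_one)
        (HomogeneousLocalization.fromZeroRingHom 𝒮 _ (algebraMap A (𝒮 0) a)) =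
      constOn q (G m) a
    have h := ProjMor.ev_mk (ρ m).toRingHom (f := ι m)
      ((((hρ m m).trans (hc1 m)) : (ρ m).toRingHom (ι m) = 1).symm ▸ isUnit_one)
      ⟨0, algebraMap A (𝒮 0) a, ⟨1, SetLike.GradedOne.one_mem⟩, one_mem _⟩
    refine (mul_one _).symm.trans (Eq.trans ?_ (h.trans ((ρ m).commutes a)))
    congr 1
    exact (map_one (ρ m).toRingHom).symm
  let P := (Scheme.Modules.pullback r).obj (Twist.twist 𝒮 1)
  let f1 : M → 𝒮 1 := fun m => ⟨ι m, hι m⟩
  let σ : ∀ m, Γ(P, G m) := fun m =>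
    res P (hle m) (pullS r (Twist.twist 𝒮 1) (Proj.basicOpen 𝒮 (ι m))
      (res (Twist.twist 𝒮 1) le_top (Var76.ProjFrame.sect 𝒮 (f1 m))))
  have hkey : ∀ m m', res P le_top (ProjUP.pullSec r (Twist.twist 𝒮 1) (Var76.ProjFrame.sect 𝒮 (f1 m'))) =
      c m m' • σ m := by
    intro m m'
    let z : Away 𝒮 (ι m) := HomogeneousLocalization.mk ⟨1, f1 m', f1 m, ⟨1, pow_one _⟩⟩
    have hz : r.appLE _ (G m) (hle m) (Proj.awayToSection 𝒮 (ι m) z) = c m m' := by
      refine (hev m z).trans ?_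
      have h := ProjMor.ev_mk (ρ m).toRingHom (f := ι m)
        ((((hρ m m).trans (hc1 m)) : (ρ m).toRingHom (ι m) = 1).symm ▸ isUnit_one)
        ⟨1, f1 m', f1 m, ⟨1, pow_one _⟩⟩
      change _ * ρ m (ι m) = ρ m (ι m') at h
      refine (mul_one _).symm.trans (Eq.trans ?_ (h.trans (hρ m m')))
      congr 1
      exact ((hρ m m).trans (hc1 m)).symm
    have h0 : res P le_top (ProjUP.pullSec r (Twist.twist 𝒮 1) (Var76.ProjFrame.sect 𝒮 (f1 m'))) =
        res P (hle m) (pullS r (Twist.twist 𝒮 1) (Proj.basicOpen 𝒮 (ι m))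
          (res (Twist.twist 𝒮 1) le_top (Var76.ProjFrame.sect 𝒮 (f1 m')))) := by
      rw [← res_pullS, res_res]
      rfl
    rw [h0, ← Var76.ProjFrame.away_smul_frame 𝒮 (f1 m) (f1 m'), pullS_smul, res_smul]
    refine congrArg (· • σ m) ?_
    refine Eq.trans ?_ hz
    rfl
  obtain ⟨φ, hφ⟩ := exists_hom_of_frames (M := P) G hG e he σ (by
    intro i j V hi hj a h
    have ha : fres hi (c i j) = a := by
      refine ((he i).res hi _ le_rfl).1 ?_
      show fres hi (c i j) • res L le_rfl (res L hi (e i)) = a • res L le_rfl (res L hi (e i))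
      rw [res_self, ← res_smul, hc, res_res, ← h, res_res]
    have h1 := congrArg (res P hi) (hkey i j)
    have h2 := congrArg (res P hj) (hkey j j)
    rw [hc1, one_smul, res_res] at h2
    rw [res_smul, res_res] at h1
    rw [← ha]
    exact h2.symm.trans h1)
  have hpull : ∀ m, φ.app ⊤ (v m) = ProjUP.pullSec r (Twist.twist 𝒮 1) (Var76.ProjFrame.sect 𝒮 (f1 m)) := by
    intro m
    refine eq_of_locally P _ _ fun x _ => ?_
    obtain ⟨m0, hm0⟩ := Opens.mem_iSup.1 (hG.ge (trivial : x ∈ (⊤ : X.Opens)))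
    refine ⟨G m0, le_top, hm0, ?_⟩
    rw [← Mero90.app_res, ← hc m0 m, Scheme.Modules.Hom.app_smul, hφ, hkey m0 m]
  have : IsIso φ := isIso_of_frames φ fun x => by
    obtain ⟨m, hm⟩ := Opens.mem_iSup.1 (hG.ge (trivial : x ∈ (⊤ : X.Opens)))
    refine ⟨G m, e m, hm, he m, ?_⟩
    rw [hφ]
    exact (isFrame_pullS r (EGA73.isInvertible_twist (irrelevant_eq_span_one hι hsym) 1)
      (Var76.ProjFrame.isFrame 𝒮 (f1 m))).res (hle m)
  refine ⟨r, hq, (asIso φ).symm, fun m => ?_⟩
  show (inv φ).app ⊤ _ = v m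
  refine (congrArg ((inv φ).app ⊤) (hpull m)).symm.trans ?_
  exact ConcreteCategory.congr_hom
    (congrArg (fun g => Scheme.Modules.Hom.app g ⊤) (IsIso.hom_inv_id φ)) (v m)

end Groth.Agent.EGA73.ProjUniv
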