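import Groth.Agent.Amp73.ProjAmple
import Groth.Agent.Amp73.QA
import Groth.Agent.EGA73.ProjUniv
import Groth.Agent.EGA73.PolySym
import Groth.Prelude.Def_LCI2

/-!
`O(1)` on projective space over a scheme is relatively ample.
-/

set_option autoImplicit false
set_option backward.isDefEq.respectTransparency.types false

universe u

open CategoryTheory CategoryTheory.Limits AlgebraicGeometry Opposite TopologicalSpace

noncomputable section

namespace Groth.Agent.EGA73.VeryAmplePnAmple

open Groth.Agent.Amp73

theorem isAmple_twistProjSpace (R : Type u) [CommRing R] (n : ℕ) :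
    CohB1.IsAmple (Twist.twistProjSpace n R 1) := by
  classical
  refine isAmple_twist_one (𝒜 := CohB1.polyGrading n R)
    (Finset.univ.image fun k : Fin (n + 1) => (MvPolynomial.X k : MvPolynomial (Fin (n + 1)) R)) (fun f hf => ?_) ?_
  · obtain ⟨k, -, rfl⟩ := Finset.mem_image.1 hf
    exact MvPolynomial.isHomogeneous_X R k
  · refine le_antisymm ((ProjUniv.irrelevant_eq_span_one (PolySym.linForm_mem n R)
      (PolySym.isSymmetricAlgebra_linForm n R)).trans_le (Ideal.span_le.2 fun a ha => ?_)) (Ideal.span_le.2 ?_)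
    · have hc : a ∈ Submodule.span R (Set.range (MvPolynomial.X : Fin (n + 1) → MvPolynomial (Fin (n + 1)) R)) := by
        rw [← MvPolynomial.homogeneousSubmodule_one_eq_span_X]
        exact ha
      induction hc using Submodule.span_induction with
      | mem z hz =>
        obtain ⟨k, rfl⟩ := hz
        exact Ideal.subset_span (Finset.mem_image_of_mem _ (Finset.mem_univ k))
      | zero => exact zero_mem _
      | add z w hz hw iz iw =>
        have mk : ∀ {v}, v ∈ Submodule.span R (Set.range (MvPolynomial.X : Fin (n + 1) → MvPolynomial (Fin (n + 1)) R)) →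
            v ∈ CohB1.polyGrading n R 1 := fun hv => by
          rw [← MvPolynomial.homogeneousSubmodule_one_eq_span_X] at hv; exact hv
        exact add_mem (iz (mk hz)) (iw (mk hw))
      | smul r z hz iz =>
        have mk : ∀ {v}, v ∈ Submodule.span R (Set.range (MvPolynomial.X : Fin (n + 1) → MvPolynomial (Fin (n + 1)) R)) →
            v ∈ CohB1.polyGrading n R 1 := fun hv => by
          rw [← MvPolynomial.homogeneousSubmodule_one_eq_span_X] at hv; exact hv
        rw [MvPolynomial.smul_eq_C_mul]
        exact Ideal.mul_mem_left _ _ (iz (mk hz))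
    · intro f hf
      obtain ⟨k, -, rfl⟩ := Finset.mem_image.1 (Finset.mem_coe.1 hf)
      exact HomogeneousIdeal.mem_irrelevant_of_mem _ one_pos (MvPolynomial.isHomogeneous_X R k)

theorem isRelAmple_twistOver (n : ℕ) (S : Scheme.{u}) :
    RelAmple.IsRelAmple (CohB1.ProjSpaceOver.toBase n S) (Twist.twistOver n S 1) := by
  let Z := ULift.{u} ℤ
  have h := isAmple_twistProjSpace Z n
  have : CompactSpace (CohB1.ProjSpace n Z) := h.2.1
  have : QuasiCompact (CohB1.ProjSpace.toSpec n Z) := HasAffineProperty.iff_of_isAffine.2 ‹_›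
  exact isRelAmple_baseChange (CohB1.ProjSpace.toSpec n Z) (specULiftZIsTerminal.from S)
    ((isRelAmple_iff_isAmple _).2 h)

theorem isRelAmple_of_isRelVeryAmplePn {X S : Scheme.{u}} {f : X ⟶ S} [QuasiCompact f] {L : X.Modules}
    (h : RelAmple.IsRelVeryAmplePn f L) : RelAmple.IsRelAmple f L := by
  obtain ⟨n, i, hi, rfl, ⟨e⟩⟩ := h
  have hh := isRelAmple_twistOver n S
  have := hh.1
  have hsep : IsSeparated (CohB1.ProjSpace.toSpec n (ULift.{u} ℤ)) := by
    have := Proj.isSeparated (CohB1.polyGrading n (ULift.{u} ℤ))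
    exact @MorphismProperty.comp_mem _ _ @IsSeparated _ _ _ _ (Proj.toSpecZero (CohB1.polyGrading n (ULift.{u} ℤ))) _ this
      (inferInstanceAs (IsSeparated (Spec.map (CommRingCat.ofHom (algebraMap (ULift.{u} ℤ) (CohB1.polyGrading n (ULift.{u} ℤ) 0))))))
  have : IsSeparated (pullback.snd (CohB1.ProjSpace.toSpec n (ULift.{u} ℤ)) (specULiftZIsTerminal.from S)) :=
    MorphismProperty.pullback_snd _ _ hsep
  have : QuasiSeparated (CohB1.ProjSpaceOver.toBase n S) := @IsSeparated.instQuasiSeparated _ _ _ this
  have : QuasiCompact (i ≫ CohB1.ProjSpaceOver.toBase n S) := ‹QuasiCompact (i ≫ _)›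
  have : QuasiCompact i := QuasiCompact.of_comp i (CohB1.ProjSpaceOver.toBase n S)
  exact isRelAmple_of_iso e.symm (isRelAmple_pullback_comp i (isQuasiAffine_of_isEmbedding i i.isEmbedding) hh)

end Groth.Agent.EGA73.VeryAmplePnAmple

end
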