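import Groth.Agent.EGA73.ImmersionPn
import Groth.Agent.Amp73.GlobGen
import Groth.Agent.Amp73.Avoid

/-!
High twists by an ample module are very ample relative to any morphism locally of finite type.
-/

set_option autoImplicit false
set_option backward.isDefEq.respectTransparency.types false

universe u

open CategoryTheory CategoryTheory.Limits AlgebraicGeometry Opposite TopologicalSpace

noncomputable section

namespace Groth.Agent.EGA73.AmpleImmersion

open Groth.Agent.Var76.LineBundle Groth.Agent.Var76.ZeroScheme Groth.Agent.Amp73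

variable {X S : Scheme.{u}}

theorem genLocus_ofSection_val {M : X.Modules} (h : Coh.structureModule X ⟶ M) :
    CohB1.genLocus M (Var76.Frames.ofSection M (val M h ⊤)) = CohB1.genLocus M h := by
  have e : ∀ W : X.Opens, val M (Var76.Frames.ofSection M (val M h ⊤)) W = val M h W := fun W => by
    rw [Var76.Frames.val_ofSection, res_val]
  refine le_antisymm ?_ ?_
  · rw [← isFrame_iff_le_genLocus]
    have h1 := (isFrame_iff_le_genLocus (Var76.Frames.ofSection M (val M h ⊤)) _).2 le_rfl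
    rwa [e] at h1
  · rw [← isFrame_iff_le_genLocus, e]
    exact (isFrame_iff_le_genLocus _ _).2 le_rfl

/-- Functions on the locus where a coordinate is invertible. -/
theorem closure_eq_top_of_basicOpen (f : X ⟶ S) {V : S.Opens} {G : X.Opens} (hG : IsAffineOpen G)
    (hle : G ≤ f ⁻¹ᵁ V) (A : Set Γ(X, G)) (hA : Subring.closure (Set.range (f.appLE V G hle) ∪ A) = ⊤)
    (c : Γ(X, G)) (G' : X.Opens) (hG' : G' = X.basicOpen c) (hle' : G' ≤ f ⁻¹ᵁ V) (hGG : G' ≤ G)
    (B : Set Γ(X, G')) (hAB : ∀ a ∈ A, fres hGG a ∈ B) (hc : ∀ b : Γ(X, G'), b * fres hGG c = 1 → b ∈ B) :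
    Subring.closure (Set.range (f.appLE V G' hle') ∪ B) = ⊤ := by
  subst hG'
  have := hG.isLocalization_basicOpen c
  let φ : Γ(X, G) →+* Γ(X, X.basicOpen c) := (X.presheaf.map (homOfLE hGG).op).hom
  have hres : ∀ a, φ a ∈ Subring.closure (Set.range (f.appLE V (X.basicOpen c) hle') ∪ B) := fun a => by
    have ha : a ∈ (Subring.closure (Set.range (f.appLE V (X.basicOpen c) hle') ∪ B)).comap φ := by
      refine (Subring.closure_le.2 ?_) (hA.ge (Subring.mem_top a))
      rintro z (⟨v, rfl⟩ | hz)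
      · refine Subring.subset_closure (Or.inl ⟨v, ?_⟩)
        exact (ConcreteCategory.congr_hom (Scheme.Hom.appLE_map f hle (homOfLE hGG).op) v).symm
      · exact Subring.subset_closure (Or.inr (hAB z hz))
    exact ha
  refine eq_top_iff.2 fun z _ => ?_
  obtain ⟨⟨a, ⟨_, k, rfl⟩⟩, hz⟩ := IsLocalization.surj (Submonoid.powers c) z
  obtain ⟨b, hb⟩ : ∃ b : Γ(X, X.basicOpen c), b * φ c = 1 :=
    isUnit_iff_exists_inv'.1 (RingedSpace.isUnit_res_basicOpen _ c)
  have hz' : z * φ c ^ k = φ a := by rw [← map_pow]; exact hz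
  have : z = φ a * b ^ k := by
    rw [← hz', mul_assoc, ← mul_pow, mul_comm (φ c), hb, one_pow, mul_one]
  rw [this]
  exact Subring.mul_mem _ (hres a) (Subring.pow_mem _ (Subring.subset_closure (Set.mem_union_right _ (hc b hb))) k)

/-- For `L` ample, finitely many sections of `L' ⊗ L ^ n` give affine loci with functions generated by ratios. -/
theorem eventually_exists_sections (f : X ⟶ S) [LocallyOfFiniteType f] {L L' : X.Modules}
    (hL : CohB1.IsAmple L) (hL' : PicF.IsInvertible L') :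
    ∃ n₀ : ℕ, 0 < n₀ ∧ ∀ n, n₀ ≤ n →
      ∃ (M : X.Modules) (_ : PicF.IsInvertible M) (_ : M ≅ CohB1.tensorMod L' (CohB1.tensorPow L n))
        (J : Type u) (_ : Finite J) (uJ : J → ProjUP.Γm M),
        ∀ z : X, ∃ (j : J) (V : S.Opens) (_ : IsAffineOpen V)
          (hle : CohB1.genLocus M (Var76.Frames.ofSection M (uJ j)) ≤ f ⁻¹ᵁ V),
          z ∈ CohB1.genLocus M (Var76.Frames.ofSection M (uJ j)) ∧
            IsAffineOpen (CohB1.genLocus M (Var76.Frames.ofSection M (uJ j))) ∧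
            Subring.closure (Set.range (f.appLE V _ hle) ∪
              {a | ∃ j', a • res M (le_top : CohB1.genLocus M (Var76.Frames.ofSection M (uJ j)) ≤ ⊤) (uJ j) =
                res M (le_top : CohB1.genLocus M (Var76.Frames.ofSection M (uJ j)) ≤ ⊤) (uJ j')}) = ⊤ := by
  classical
  have := hL.2.1
  have := quasiSeparatedSpace_of_isAmple hL
  have hV : ∀ x : X, ∃ (V : S.Opens) (W : X.Opens) (m : ℕ) (s : Coh.structureModule X ⟶ CohB1.tensorPow L (m + 1))
      (eL : Γ(L, W)) (eL' : Γ(L', W)), IsAffineOpen V ∧ IsFrame L W eL ∧ IsFrame L' W eL' ∧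
        x ∈ CohB1.genLocus _ s ∧ IsAffineOpen (CohB1.genLocus _ s) ∧ CohB1.genLocus _ s ≤ W ∧ W ≤ f ⁻¹ᵁ V := by
    intro x
    obtain ⟨V, hV, hxV, -⟩ := exists_isAffineOpen_mem_and_subset (U := (⊤ : S.Opens)) (x := f x) trivial
    obtain ⟨W₁, hxW₁, hle₁, e, he⟩ := Mero90.exists_affine_frame hL.1 x (f ⁻¹ᵁ V) hxV
    obtain ⟨W₂, hxW₂, hle₂, e', he'⟩ := Mero90.exists_affine_frame hL' x W₁.1 hxW₁
    obtain ⟨_, ⟨m, s, rfl⟩, hxG, hG, ha⟩ := exists_affine_genSet_le hL x W₂.1 hxW₂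
    exact ⟨V, W₂.1, m, s, res L hle₂ e, e', hV, he.res hle₂, he', hxG, ha, hG, hle₂.trans hle₁⟩
  choose V W m s eL eL' hV heL heL' hxG hGa hGW hWV using hV
  obtain ⟨Z, hZ⟩ := isCompact_univ.elim_finite_subcover (fun x => (CohB1.genLocus _ (s x) : Set X))
    (fun x => (CohB1.genLocus _ (s x)).2) fun x _ => Set.mem_iUnion.2 ⟨x, hxG x⟩
  obtain ⟨m₀, σ, hσ⟩ := exists_common_exponent hL.1 (fun x : Z => m x.1) fun x => s x.1
  let e := m₀ + 1
  let P : ℕ → X.Modules := fun r => CohB1.tensorMod L' (CohB1.tensorPow L r)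
  have hP : ∀ r, PicF.IsInvertible (P r) := fun r =>
    EGA73.isInvertible_tensorMod hL' (EGA73.isInvertible_tensorPow hL.1 r)
  have hPq : ∀ r, Coh.IsQCoh (P r) := fun r => Mero90.isQCoh_of_isInvertible (hP r)
  have hM : PicF.IsInvertible (CohB1.tensorPow L e) := EGA73.isInvertible_tensorPow hL.1 e
  obtain ⟨n₁, hn₁⟩ := eventually_spanAt_twist hL (isCoh_of_isInvertible hL')
  have hT : ∀ r : Fin e, ∃ T : Finset Γ(P (n₁ + r), ⊤), ∀ z : X,
      ∃ t ∈ T, z ∈ CohB1.genLocus _ (Var76.Frames.ofSection (P (n₁ + r)) t) := by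
    intro r
    have h : ∀ z : X, ∃ t : Γ(P (n₁ + r), ⊤), z ∈ CohB1.genLocus _ (Var76.Frames.ofSection (P (n₁ + r)) t) :=
      fun z => by
        obtain ⟨U, hzU, hU, hspan⟩ := hn₁ (n₁ + r) (Nat.le_add_right _ _) z
        exact exists_genLocus_of_spanAt (hP _) hU hspan hzU
    choose t ht using h
    obtain ⟨F, hF⟩ := isCompact_univ.elim_finite_subcover
      (fun z => (CohB1.genLocus _ (Var76.Frames.ofSection (P (n₁ + r)) (t z)) : Set X))
      (fun z => (CohB1.genLocus _ _).2) fun z _ => Set.mem_iUnion.2 ⟨z, ht z⟩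
    refine ⟨F.image t, fun z => ?_⟩
    obtain ⟨y, hy, hzy⟩ := Set.mem_iUnion₂.1 (hF (Set.mem_univ z))
    exact ⟨t y, Finset.mem_image_of_mem t hy, hzy⟩
  choose T hT using hT
  let G : Z → X.Opens := fun x => CohB1.genLocus _ (σ x)
  have hGa' : ∀ x, IsAffineOpen (G x) := fun x => (show G x = _ from hσ x) ▸ hGa x.1
  have hGV : ∀ x, G x ≤ f ⁻¹ᵁ V x.1 := fun x => (hσ x).trans_le ((hGW x.1).trans (hWV x.1))
  have hA : ∀ x : Z, ∃ A : Finset Γ(X, G x),
      Subring.closure (Set.range (f.appLE (V x.1) (G x) (hGV x)) ∪ (A : Set Γ(X, G x))) = ⊤ := fun x => by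
    let := (f.appLE (V x.1) (G x) (hGV x)).hom.toAlgebra
    have : Algebra.FiniteType Γ(S, V x.1) Γ(X, G x) := f.finiteType_appLE (hV x.1) (hGa' x) (hGV x)
    obtain ⟨A, hA⟩ := this.out
    refine ⟨A, ?_⟩
    have h2 := congrArg Subalgebra.toSubring hA
    rw [Algebra.adjoin_eq_ring_closure, Algebra.top_toSubring] at h2
    exact h2
  choose A hA using hA
  let ε : ∀ (r : Fin e) (x : Z), Γ(P (n₁ + r), G x) := fun r x =>
    tm L' (CohB1.tensorPow L (n₁ + r)) (res L' ((hσ x).trans_le (hGW x.1)) (eL' x.1))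
      (epow (res L ((hσ x).trans_le (hGW x.1)) (eL x.1)) (n₁ + r))
  have hε : ∀ (r : Fin e) (x : Z), IsFrame (P (n₁ + r)) (G x) (ε r x) := fun r x =>
    isFrame_tm ((heL' x.1).res _) (isFrame_epow ((heL x.1).res _) _)
  let y : ∀ (r : Fin e) (x : Z), T r → Option (A x) → Γ(P (n₁ + r), G x) := fun r x t o =>
    o.elim (ε r x) fun a => a.1 • res (P (n₁ + r)) le_top t.1
  have hN : ∀ (r : Fin e) (x : Z) (t : T r) (o : Option (A x)), ∃ N, ∀ q, N ≤ q →
      ∃ t' : Γ(CohB1.tensorMod (P (n₁ + r)) (CohB1.tensorPow (CohB1.tensorPow L e) q), ⊤),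
        res _ (le_top : G x ≤ ⊤) t' = tw (σ x) q (P (n₁ + r)) (y r x t o) :=
    fun r x t o => exists_tw_extend hM (σ x) (hPq _) _
  choose N hN using hN
  let N₀ := Finset.univ.sup fun r => Finset.univ.sup fun x => Finset.univ.sup fun t => Finset.univ.sup (N r x t)
  refine ⟨n₁ + e * (N₀ + 1), Nat.add_pos_right _ (Nat.mul_pos (Nat.succ_pos _) (Nat.succ_pos _)), fun n hn => ?_⟩
  let r : Fin e := ⟨(n - n₁) % e, Nat.mod_lt _ (Nat.succ_pos _)⟩
  let q := (n - n₁) / e
  have hq : N₀ + 1 ≤ q := (Nat.le_div_iff_mul_le (Nat.succ_pos _)).2 (by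
    show (N₀ + 1) * e ≤ n - n₁
    rw [Nat.mul_comm]
    omega)
  have hn' : n₁ + (r : ℕ) + e * q = n := by
    have h1 := Nat.mod_add_div (n - n₁) e
    have h2 : (r : ℕ) = (n - n₁) % e := rfl
    have h3 : e * q = e * ((n - n₁) / e) := rfl
    omega
  have hNq : ∀ x t o, N r x t o ≤ q := fun x t o => by
    have : N r x t o ≤ N₀ :=
      (Finset.le_sup (f := N r x t) (Finset.mem_univ o)).trans <|
        (Finset.le_sup (f := fun t => Finset.univ.sup (N r x t)) (Finset.mem_univ t)).trans <|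
          (Finset.le_sup (f := fun x => Finset.univ.sup fun t => Finset.univ.sup (N r x t)) (Finset.mem_univ x)).trans
            (Finset.le_sup (f := fun r => Finset.univ.sup fun x => Finset.univ.sup fun t => Finset.univ.sup (N r x t))
              (Finset.mem_univ r))
    omega
  choose ext hext using fun x t o => hN r x t o q (hNq x t o)
  let Pr := P (n₁ + r)
  let Mn := CohB1.tensorMod Pr (CohB1.tensorPow (CohB1.tensorPow L e) q)
  have hMn : PicF.IsInvertible Mn := EGA73.isInvertible_tensorMod (hP _) (EGA73.isInvertible_tensorPow hM q)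
  let base : ∀ (x : Z), T r → (Coh.structureModule X ⟶ Mn) := fun x t =>
    SecTwist.tmulHom (Var76.Frames.ofSection Pr t.1) (SecTwist.powHom (σ x) q)
  let uJ : (Σ x : Z, (T r) × Option (Option (A x))) → ProjUP.Γm Mn := fun j =>
    j.2.2.elim (val Mn (base j.1 j.2.1) ⊤) (ext j.1 j.2.1)
  refine ⟨Mn, hMn, EGA73.tensAssoc' L' (CohB1.tensorPow L (n₁ + r)) (CohB1.tensorPow (CohB1.tensorPow L e) q) ≪≫
      EGA73.tensIso (Iso.refl L') (EGA73.tensIso (Iso.refl _) (powMul L e q) ≪≫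
        powAdd L (n₁ + r) (e * q) ≪≫ eqToIso (congrArg _ hn')), _, inferInstance, uJ, fun z => ?_⟩
  obtain ⟨x₀, hx₀, hzx⟩ := Set.mem_iUnion₂.1 (hZ (Set.mem_univ z))
  let x : Z := ⟨x₀, hx₀⟩
  have hzG : z ∈ G x := (hσ x).ge hzx
  obtain ⟨t₀, ht₀, hzt⟩ := hT r z
  let t : T r := ⟨t₀, ht₀⟩
  obtain ⟨c, hc⟩ := exists_coord (Var76.Frames.ofSection Pr t.1) (hε r x)
  have hloc : CohB1.genLocus Mn (Var76.Frames.ofSection Mn (uJ ⟨x, t, none⟩)) = X.basicOpen c := by
    show CohB1.genLocus Mn (Var76.Frames.ofSection Mn (val Mn (base x t) ⊤)) = _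
    rw [genLocus_ofSection_val, genLocus_tmulHom (hP _) (EGA73.isInvertible_tensorPow hM q),
      genLocus_powHom hM (σ x) q (by omega)]
    exact genLocus_inf_eq_basicOpen _ (hε r x) hc
  have hGG : CohB1.genLocus Mn (Var76.Frames.ofSection Mn (uJ ⟨x, t, none⟩)) ≤ G x :=
    hloc.trans_le (X.basicOpen_le c)
  refine ⟨⟨x, t, none⟩, V x.1, hV x.1, hGG.trans (hGV x), ?_, hloc.symm ▸ (hGa' x).basicOpen c, ?_⟩
  · rw [hloc, ← genLocus_inf_eq_basicOpen _ (hε r x) hc]
    exact ⟨hzt, hzG⟩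
  refine closure_eq_top_of_basicOpen f (hGa' x) (hGV x) _ (hA x) c _ hloc _ hGG _ (fun a ha => ?_) fun b hb => ?_
  all_goals
    have hbase : ∀ W : X.Opens, res Mn (le_top : W ≤ ⊤) (uJ ⟨x, t, none⟩) = tw (σ x) q Pr (res Pr le_top t.1) :=
      fun W => by
        show res Mn le_top (val Mn (base x t) ⊤) = _
        rw [res_val, Amp73.val_tmulHom, Var76.Frames.val_ofSection, val_powHom]
  · refine ⟨⟨x, t, some (some ⟨a, ha⟩)⟩, ?_⟩
    show fres hGG a • res Mn le_top _ = res Mn le_top (ext x t (some ⟨a, ha⟩))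
    rw [hbase, ← res_res Mn (le_top : G x ≤ ⊤) hGG, hext, res_tw, tw, tw, ← tm_smul_left]
    show tm Pr _ (fres hGG a • res Pr le_top t.1) _ = tm Pr _ (res Pr hGG (a • res Pr le_top t.1)) _
    rw [res_smul, res_res]
  · refine ⟨⟨x, t, some none⟩, ?_⟩
    show b • res Mn le_top _ = res Mn le_top (ext x t none)
    rw [hbase, ← res_res Mn (le_top : G x ≤ ⊤) hGG, hext, res_tw, tw, tw, ← tm_smul_left]
    refine congrArg (fun s => tm Pr _ s _) ?_
    show b • res Pr le_top t.1 = res Pr hGG (ε r x)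
    rw [← res_res Pr (le_top : G x ≤ ⊤) hGG, ← Var76.Frames.val_ofSection Pr t.1 (G x), ← hc, res_smul,
      smul_smul, hb, one_smul]

/-- EGA II 4.5.10: high twists by an ample module are very ample. -/
theorem eventually_isRelVeryAmplePn (f : X ⟶ S) [LocallyOfFiniteType f] {L L' : X.Modules}
    (hL : CohB1.IsAmple L) (hL' : PicF.IsInvertible L') :
    ∃ n₀ : ℕ, 0 < n₀ ∧
      ∀ n, n₀ ≤ n → RelAmple.IsRelVeryAmplePn f (CohB1.tensorMod L' (CohB1.tensorPow L n)) := by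
  obtain ⟨n₀, hn₀, h⟩ := eventually_exists_sections f hL hL'
  refine ⟨n₀, hn₀, fun n hn => ?_⟩
  obtain ⟨M, hM, φ, J, hJ, uJ, hu⟩ := h n hn
  obtain ⟨k, i, hi, hif, ⟨ψ⟩⟩ := ImmersionPn.isRelVeryAmplePn_of_sections f M hM uJ hu
  exact ⟨k, i, hi, hif, ⟨φ.symm ≪≫ ψ⟩⟩

end Groth.Agent.EGA73.AmpleImmersion

end
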