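import Groth.Prelude.Def_RelProj
import Mathlib.RingTheory.Ideal.Operations

/-!
Generation in degree one and finite type of the degree one part are local on the base.
-/

set_option autoImplicit false

universe u

open CategoryTheory AlgebraicGeometry TopologicalSpace Opposite DirectSum

noncomputable section

namespace Groth.Agent.EGA73

variable {S : Scheme.{u}} (𝒮 : RelProj.QCGrAlg S) {U : S.Opens} (hU : IsAffineOpen U)

include hU in
/-- Membership in a subgroup stable under functions is local. -/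
theorem mem_of_locally_mem (M : AddSubgroup (𝒮.presheaf.obj (op U)))
    (hM : ∀ (r : Γ(S, U)) (c : 𝒮.presheaf.obj (op U)), c ∈ M → (𝒮.str.app (op U)).hom r * c ∈ M)
    {x : 𝒮.presheaf.obj (op U)}
    (h : ∀ z ∈ U, ∃ r : Γ(S, U), z ∈ S.basicOpen r ∧ ∃ k : ℕ, (𝒮.str.app (op U)).hom r ^ k * x ∈ M) : x ∈ M := by
  let I : Ideal Γ(S, U) :=
    { carrier := {r | (𝒮.str.app (op U)).hom r * x ∈ M}
      zero_mem' := by simp
      add_mem' := fun {a b} ha hb => by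
        show (𝒮.str.app (op U)).hom (a + b) * x ∈ M
        rw [map_add, add_mul]; exact add_mem ha hb
      smul_mem' := fun a b hb => by
        show (𝒮.str.app (op U)).hom (a * b) * x ∈ M
        rw [map_mul, mul_assoc]; exact hM a _ hb }
  choose r hr k hk using h
  have htop : Ideal.span (Set.range fun z : U => r z.1 z.2) = ⊤ := by
    refine (hU.iSup_basicOpen_eq_self_iff (s := Set.range fun z : U => r z.1 z.2)).mp (le_antisymm ?_ ?_)
    · exact iSup_le fun f => S.basicOpen_le _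
    · exact fun z hz => Opens.mem_iSup.2 ⟨⟨_, ⟨z, hz⟩, rfl⟩, hr z hz⟩
  have hI : I = ⊤ := by
    refine Ideal.radical_eq_top.1 (top_le_iff.1 (htop ▸ Ideal.span_le.2 ?_))
    rintro _ ⟨z, rfl⟩
    exact ⟨k z.1 z.2, show (𝒮.str.app (op U)).hom (r z.1 z.2 ^ k z.1 z.2) * x ∈ M by
      rw [map_pow]; exact hk z.1 z.2⟩
  have : (1 : Γ(S, U)) ∈ I := hI ▸ trivial
  simpa [I] using (show (𝒮.str.app (op U)).hom 1 * x ∈ M from this)

theorem exists_deg_pow_mul (r : Γ(S, U)) {d : ℕ} {y : 𝒮.presheaf.obj (op (S.basicOpen r))}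
    (hy : y ∈ 𝒮.deg (S.basicOpen r) (hU.basicOpen r) d) :
    ∃ (k : ℕ) (z : 𝒮.presheaf.obj (op U)), z ∈ 𝒮.deg U hU d ∧
      𝒮.res hU (hU.basicOpen r) (S.basicOpen_le r) ((𝒮.str.app (op U)).hom r ^ k) * y =
        𝒮.res hU (hU.basicOpen r) (S.basicOpen_le r) z := by
  let ψ := 𝒮.res hU (hU.basicOpen r) (S.basicOpen_le r)
  let _inst := (𝒮.presheaf.map (homOfLE (S.basicOpen_le r)).op).hom.toAlgebra
  let c := (𝒮.str.app (op U)).hom r
  have hloc : IsLocalization.Away c (𝒮.presheaf.obj (op (S.basicOpen r))) := 𝒮.isQC U hU r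
  obtain ⟨⟨x, s, hs⟩, hxs⟩ := IsLocalization.surj (Submonoid.powers c) y
  obtain ⟨k, rfl⟩ := (Submonoid.mem_powers_iff _ _).mp hs
  change y * ψ (c ^ k) = ψ x at hxs
  refine ⟨k, decompose (𝒮.deg U hU) x d, SetLike.coe_mem _, ?_⟩
  have hc0 : ψ (c ^ k) ∈ 𝒮.deg (S.basicOpen r) (hU.basicOpen r) 0 := by
    rw [map_pow]
    simpa using SetLike.pow_mem_graded k (ψ.map_mem (𝒮.str_mem U hU r))
  have hyd : y * ψ (c ^ k) ∈ 𝒮.deg (S.basicOpen r) (hU.basicOpen r) d := by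
    simpa only [add_zero] using SetLike.mul_mem_graded (A := 𝒮.deg (S.basicOpen r) (hU.basicOpen r)) hy hc0
  show ψ (c ^ k) * y = _
  rw [GradedRingHom.map_directSumDecompose, ← hxs, DirectSum.decompose_of_mem_same _ hyd, mul_comm]

theorem exists_pow_mul_sub_eq_zero (r : Γ(S, U)) {x c : 𝒮.presheaf.obj (op U)} {k : ℕ}
    (h : 𝒮.res hU (hU.basicOpen r) (S.basicOpen_le r) ((𝒮.str.app (op U)).hom r ^ k) *
      𝒮.res hU (hU.basicOpen r) (S.basicOpen_le r) x = 𝒮.res hU (hU.basicOpen r) (S.basicOpen_le r) c) :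
    ∃ m : ℕ, (𝒮.str.app (op U)).hom r ^ (m + k) * x = (𝒮.str.app (op U)).hom r ^ m * c := by
  let _inst := (𝒮.presheaf.map (homOfLE (S.basicOpen_le r)).op).hom.toAlgebra
  have hloc : IsLocalization.Away ((𝒮.str.app (op U)).hom r) (𝒮.presheaf.obj (op (S.basicOpen r))) := 𝒮.isQC U hU r
  rw [← map_mul] at h
  obtain ⟨⟨_, m, rfl⟩, hm⟩ := (IsLocalization.eq_iff_exists
    (Submonoid.powers ((𝒮.str.app (op U)).hom r)) (𝒮.presheaf.obj (op (S.basicOpen r)))).1 h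
  exact ⟨m, by rw [pow_add, mul_assoc]; exact hm⟩

/-- Generation in degree one is local. -/
theorem isGenDegOne_of_local
    (h : ∀ (U : S.Opens) (hU : IsAffineOpen U), ∀ z ∈ U, ∃ r : Γ(S, U), z ∈ S.basicOpen r ∧
      Subring.closure ((𝒮.deg (S.basicOpen r) (hU.basicOpen r) 0 : Set (𝒮.presheaf.obj (op (S.basicOpen r)))) ∪
        (𝒮.deg (S.basicOpen r) (hU.basicOpen r) 1 : Set (𝒮.presheaf.obj (op (S.basicOpen r))))) = ⊤) :
    𝒮.IsGenDegOne := fun U hU => by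
  let C := Subring.closure ((𝒮.deg U hU 0 : Set (𝒮.presheaf.obj (op U))) ∪ (𝒮.deg U hU 1 : Set _))
  have hC : ∀ r : Γ(S, U), (𝒮.str.app (op U)).hom r ∈ C := fun r =>
    Subring.subset_closure (Or.inl (𝒮.str_mem U hU r))
  refine eq_top_iff.2 fun x _ => mem_of_locally_mem 𝒮 hU C.toAddSubgroup (fun r c hc => C.mul_mem (hC r) hc) fun z hz => ?_
  obtain ⟨r, hzr, hgen⟩ := h U hU z hz
  refine ⟨r, hzr, ?_⟩
  let ψ := 𝒮.res hU (hU.basicOpen r) (S.basicOpen_le r)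
  let c := (𝒮.str.app (op U)).hom r
  have hmem : ∀ y : 𝒮.presheaf.obj (op (S.basicOpen r)), ∃ k : ℕ, ∃ e ∈ C, ψ (c ^ k) * y = ψ e := fun y => by
    have hy : y ∈ Subring.closure ((𝒮.deg (S.basicOpen r) (hU.basicOpen r) 0 : Set _) ∪
        (𝒮.deg (S.basicOpen r) (hU.basicOpen r) 1 : Set _)) := hgen ▸ trivial
    induction hy using Subring.closure_induction with
    | mem y hy =>
      rcases hy with hy | hy <;> obtain ⟨k, e, he, hk⟩ := exists_deg_pow_mul 𝒮 hU r hy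
      · exact ⟨k, e, Subring.subset_closure (Or.inl he), hk⟩
      · exact ⟨k, e, Subring.subset_closure (Or.inr he), hk⟩
    | zero => exact ⟨0, 0, zero_mem C, by simp⟩
    | one => exact ⟨0, 1, one_mem C, by simp⟩
    | neg y _ hy => obtain ⟨k, e, he, hk⟩ := hy; exact ⟨k, -e, neg_mem he, by rw [mul_neg, hk, map_neg]⟩
    | add y y' _ _ hy hy' =>
      obtain ⟨k, e, he, hk⟩ := hy
      obtain ⟨k', e', he', hk'⟩ := hy'
      refine ⟨k + k', c ^ k' * e + c ^ k * e', add_mem (mul_mem (pow_mem (hC r) _) he) (mul_mem (pow_mem (hC r) _) he'), ?_⟩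
      rw [pow_add, map_mul, map_add, map_mul, map_mul, ← hk, ← hk']
      ring
    | mul y y' _ _ hy hy' =>
      obtain ⟨k, e, he, hk⟩ := hy
      obtain ⟨k', e', he', hk'⟩ := hy'
      refine ⟨k + k', e * e', mul_mem he he', ?_⟩
      rw [pow_add, map_mul, map_mul, ← hk, ← hk']
      ring
  obtain ⟨k, e, he, hk⟩ := hmem (ψ x)
  obtain ⟨m, hm⟩ := exists_pow_mul_sub_eq_zero 𝒮 hU r hk
  exact ⟨m + k, hm ▸ C.mul_mem (pow_mem (hC r) _) he⟩

/-- Finite type of a graded piece is local. -/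
theorem isFTDeg_of_local (d : ℕ)
    (h : ∀ (U : S.Opens) (hU : IsAffineOpen U), ∀ z ∈ U, ∃ r : Γ(S, U), z ∈ S.basicOpen r ∧
      ∃ T : Finset (𝒮.presheaf.obj (op (S.basicOpen r))), (↑T : Set (𝒮.presheaf.obj (op (S.basicOpen r)))) ⊆ (𝒮.deg (S.basicOpen r) (hU.basicOpen r) d : Set (𝒮.presheaf.obj (op (S.basicOpen r)))) ∧
        ∀ y ∈ 𝒮.deg (S.basicOpen r) (hU.basicOpen r) d, ∃ c : 𝒮.presheaf.obj (op (S.basicOpen r)) → Γ(S, S.basicOpen r),
          y = ∑ t ∈ T, (𝒮.str.app (op (S.basicOpen r))).hom (c t) * t) :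
    𝒮.IsFTDeg d := fun U hU => by
  classical
  choose r hzr T hT hspan using h U hU
  obtain ⟨F, hF⟩ := hU.isCompact.elim_finite_subcover (fun z : U => (S.basicOpen (r z.1 z.2) : Set S))
    (fun z => (S.basicOpen _).2) fun z hz => Set.mem_iUnion.2 ⟨⟨z, hz⟩, hzr z hz⟩
  choose k w hw hk using fun (z : U) (t : T z.1 z.2) => exists_deg_pow_mul 𝒮 hU (r z.1 z.2) (hT z.1 z.2 t.2)
  let T' : Finset (𝒮.presheaf.obj (op U)) := F.biUnion fun z => Finset.univ.image (w z)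
  refine ⟨T', fun t ht => ?_, fun x hx => ?_⟩
  · obtain ⟨z, -, hz⟩ := Finset.mem_biUnion.1 ht
    obtain ⟨t', -, rfl⟩ := Finset.mem_image.1 hz
    exact hw z t'
  let M : AddSubgroup (𝒮.presheaf.obj (op U)) :=
    { carrier := {x | ∃ c : 𝒮.presheaf.obj (op U) → Γ(S, U), x = ∑ t ∈ T', (𝒮.str.app (op U)).hom (c t) * t}
      zero_mem' := ⟨0, by simp⟩
      add_mem' := by
        rintro _ _ ⟨a, rfl⟩ ⟨b, rfl⟩
        exact ⟨a + b, by simp [add_mul, Finset.sum_add_distrib]⟩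
      neg_mem' := by
        rintro _ ⟨a, rfl⟩
        exact ⟨-a, by simp⟩ }
  have hM : ∀ (s : Γ(S, U)) c, c ∈ M → (𝒮.str.app (op U)).hom s * c ∈ M := by
    rintro s _ ⟨a, rfl⟩
    exact ⟨fun t => s * a t, by simp [Finset.mul_sum, mul_assoc]⟩
  refine mem_of_locally_mem 𝒮 hU M hM fun z hz => ?_
  obtain ⟨z', hz'F, hz'⟩ := Set.mem_iUnion₂.1 (hF hz)
  refine ⟨r z'.1 z'.2, hz', ?_⟩
  let f := r z'.1 z'.2
  let ψ := 𝒮.res hU (hU.basicOpen f) (S.basicOpen_le f)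
  let c := (𝒮.str.app (op U)).hom f
  have hmem : ∀ y : 𝒮.presheaf.obj (op (S.basicOpen f)),
      (∃ b : 𝒮.presheaf.obj (op (S.basicOpen f)) → Γ(S, S.basicOpen f), y = ∑ t ∈ T z'.1 z'.2, (𝒮.str.app (op (S.basicOpen f))).hom (b t) * t) →
      ∃ k : ℕ, ∃ e ∈ M, ψ (c ^ k) * y = ψ e := by
    rintro _ ⟨b, rfl⟩
    refine Finset.sum_induction _ (fun y => ∃ k : ℕ, ∃ e ∈ M, ψ (c ^ k) * y = ψ e) ?_ ⟨0, 0, zero_mem M, by simp⟩ fun t ht => ?_
    · rintro y y' ⟨k, e, he, hk⟩ ⟨k', e', he', hk'⟩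
      refine ⟨k + k', c ^ k' * e + c ^ k * e', add_mem ?_ ?_, ?_⟩
      · rw [← map_pow]; exact hM _ _ he
      · rw [← map_pow]; exact hM _ _ he'
      · rw [pow_add, map_mul, map_add, map_mul, map_mul, ← hk, ← hk']
        ring
    · have hloc : IsLocalization.Away f Γ(S, S.basicOpen f) := hU.isLocalization_basicOpen f
      obtain ⟨⟨a, ⟨_, j, rfl⟩⟩, hj⟩ := IsLocalization.surj (Submonoid.powers f) (b t)
      let l := k z' ⟨t, ht⟩
      refine ⟨j + l, (𝒮.str.app (op U)).hom a * w z' ⟨t, ht⟩, hM _ _ ?_, ?_⟩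
      · refine ⟨fun x => if x = w z' ⟨t, ht⟩ then 1 else 0, ?_⟩
        rw [Finset.sum_eq_single (w z' ⟨t, ht⟩) (fun x _ hx => by simp [hx]) fun hn =>
          absurd (Finset.mem_biUnion.2 ⟨z', hz'F, Finset.mem_image_of_mem (w z') (Finset.mem_univ (⟨t, ht⟩ : T z'.1 z'.2))⟩) hn]
        simp
      · have hres : ∀ q : Γ(S, U), ψ ((𝒮.str.app (op U)).hom q) =
            (𝒮.str.app (op (S.basicOpen f))).hom (S.presheaf.map (homOfLE (S.basicOpen_le f)).op q) := fun q =>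
          (ConcreteCategory.congr_hom (𝒮.str.naturality (homOfLE (S.basicOpen_le f)).op) q).symm
        have hj' : ψ (c ^ j) * (𝒮.str.app (op (S.basicOpen f))).hom (b t) = ψ ((𝒮.str.app (op U)).hom a) := by
          rw [← map_pow, hres, hres, ← map_mul, mul_comm]
          exact congrArg _ hj
        rw [pow_add, map_mul, map_mul, ← hj', ← hk z' ⟨t, ht⟩]
        ring
  obtain ⟨n, e, he, hn⟩ := hmem (ψ x) (hspan z'.1 z'.2 _ (ψ.map_mem hx))
  obtain ⟨m, hm⟩ := exists_pow_mul_sub_eq_zero 𝒮 hU f hn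
  exact ⟨m + n, hm ▸ (map_pow (𝒮.str.app (op U)).hom f m ▸ hM _ _ he)⟩

end Groth.Agent.EGA73

end
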