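import Groth.Agent.EGA73.PBundleClosed
import Groth.Agent.EGA73.GrAlgLocal
import Groth.Agent.EGAProj74.GrSymExists
import Groth.Agent.AlgSub72.Basic
import Mathlib.LinearAlgebra.SymmetricAlgebra.Basis
import Mathlib.AlgebraicGeometry.Modules.Tilde

/-!
Projective space is projective.
-/

set_option autoImplicit false
set_option backward.isDefEq.respectTransparency.types false

universe u

open CategoryTheory CategoryTheory.Limits AlgebraicGeometry TopologicalSpace Opposite
open scoped HomogeneousIdeal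

noncomputable section

namespace Groth.Agent.EGA73.ProjSpaceProjective

open EGAProj74

theorem exists_ringEquiv (R : Type u) [CommRing R] (n : ℕ) :
    ∃ (E : (Spec (CommRingCat.of R)).Modules) (_ : E.IsQuasicoherent)
      (𝒯 : RelProj.QCGrAlg (Spec (CommRingCat.of R))) (j : E ⟶ 𝒯.toModule) (_ : RelProj.IsGrSymAlg E 𝒯 j)
      (Φ : MvPolynomial (Fin (n + 1)) R ≃+* 𝒯.presheaf.obj (op ⊤)),
      (∀ r, Φ (MvPolynomial.C r) = (𝒯.str.app (op ⊤)).hom ((Scheme.ΓSpecIso (CommRingCat.of R)).inv r)) ∧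
        (∀ k, Φ (MvPolynomial.X k) ∈ 𝒯.deg ⊤ (isAffineOpen_top _) 1) ∧
        Module.Finite Γ(Spec (CommRingCat.of R), ⊤) Γ(E, ⊤) := by
  let R' : CommRingCat.{u} := CommRingCat.of R
  let M : ModuleCat.{u} R' := ModuleCat.of R (Fin (n + 1) → R)
  let E : (Spec R').Modules := tilde M
  have hE : E.IsQuasicoherent := inferInstance
  obtain ⟨𝒯, j, hj⟩ := exists_isGrSymAlg (E := E) hE
  obtain ⟨e, he, hej⟩ := exists_symAlg_equiv hE hj.1 ⊤ (isAffineOpen_top _)
  let g : R ≃+* Γ(Spec R', ⊤) := (Scheme.ΓSpecIso R').symm.commRingCatIsoToRingEquiv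
  let τ : M ≃ₗ[R'] ((modulesSpecToSheaf.obj E).presheaf.obj (op ⊤)) := (tilde.isoTop M).toLinearEquiv
  let ε : Γ(E, ⊤) ≃ₗ[Γ(Spec R', ⊤)] (Fin (n + 1) → Γ(Spec R', ⊤)) :=
    { toFun := fun x k => g ((show Fin (n + 1) → R from τ.symm x) k)
      invFun := fun c => τ (show M from fun k => g.symm (c k))
      map_add' := fun x y => funext fun k => by
        refine Eq.trans ?_ (map_add g _ _)
        exact congrArg (fun v : Fin (n + 1) → R => g (v k)) (map_add τ.symm x y)
      map_smul' := fun r x => funext fun k => by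
        obtain ⟨r, rfl⟩ := g.surjective r
        refine Eq.trans ?_ (map_mul g r _)
        exact congrArg (fun v : Fin (n + 1) → R => g (v k)) (τ.symm.map_smul r x)
      left_inv := fun x => by
        refine (congrArg τ ?_).trans (τ.apply_symm_apply x)
        exact funext fun k => g.symm_apply_apply _
      right_inv := fun c => funext fun k => by
        refine (congrArg (fun v : Fin (n + 1) → R => g (v k)) (τ.symm_apply_apply _)).trans ?_
        exact g.apply_symm_apply _ }
  let b : Module.Basis (Fin (n + 1)) Γ(Spec R', ⊤) Γ(E, ⊤) := Module.Basis.ofEquivFun ε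
  let Φ : MvPolynomial (Fin (n + 1)) R ≃+* 𝒯.presheaf.obj (op ⊤) :=
    (MvPolynomial.mapEquiv (Fin (n + 1)) g).trans
      ((SymmetricAlgebra.equivMvPolynomial b).symm.toRingEquiv.trans e.symm)
  have hC : ∀ r, Φ (MvPolynomial.C r) = (𝒯.str.app (op ⊤)).hom (g r) := fun r => by
    refine (RingEquiv.symm_apply_eq e).2 ?_
    rw [he]
    simp
    exact AlgEquiv.commutes _ (g r)
  have hX : ∀ k, Φ (MvPolynomial.X k) = j.app ⊤ (b k) := fun k => by
    refine (RingEquiv.symm_apply_eq e).2 ?_
    rw [hej]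
    simp
  exact ⟨E, hE, 𝒯, j, hj, Φ, hC, fun k => hX k ▸ hj.2 ⊤ (isAffineOpen_top _) (b k), Module.Finite.of_basis b⟩

theorem isProjective_toSpec (R : Type u) [CommRing R] (n : ℕ) :
    RelProj.IsProjective (CohB1.ProjSpace.toSpec n R) := by
  classical
  obtain ⟨E, hE, 𝒯, j, hj, Φ, hC, hX, hfin⟩ := exists_ringEquiv R n
  let T := 𝒯.deg ⊤ (isAffineOpen_top (Spec (CommRingCat.of R)))
  have hdeg : ∀ (d : ℕ) (q : MvPolynomial (Fin (n + 1)) R), q ∈ CohB1.polyGrading n R d → Φ q ∈ T d := by
    intro d q hq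
    rw [q.as_sum, map_sum]
    refine sum_mem fun s hs => ?_
    rw [MvPolynomial.monomial_eq, map_mul, hC]
    have hd : ∑ k ∈ s.support, s k = d := by
      have := hq (MvPolynomial.mem_support_iff.1 hs)
      simpa [Finsupp.weight_apply, Finsupp.sum] using this
    have hprod : Φ (s.prod fun k e => MvPolynomial.X k ^ e) ∈ T d := by
      rw [Finsupp.prod, map_prod, ← hd]
      refine SetLike.prod_mem_graded (T) (fun k => s k) _ fun k _ => ?_
      rw [map_pow]
      simpa using SetLike.pow_mem_graded (s k) (hX k)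
    simpa using SetLike.mul_mem_graded (𝒯.str_mem ⊤ (isAffineOpen_top _) _) hprod
  let ψ : CohB1.polyGrading n R →+*ᵍ T := { Φ.toRingHom with map_mem := fun hq => hdeg _ _ hq }
  have hinv : ∀ (d : ℕ) (x : 𝒯.presheaf.obj (op ⊤)), x ∈ T d → Φ.symm x ∈ CohB1.polyGrading n R d := by
    intro d x hx
    have h1 := (GradedRingHom.map_directSumDecompose (CohB1.polyGrading n R) T ψ (x := Φ.symm x) (i := d))
    have h2 : Φ (DirectSum.decompose (CohB1.polyGrading n R) (Φ.symm x) d : MvPolynomial (Fin (n + 1)) R) = x := by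
      refine h1.trans ?_
      show (DirectSum.decompose T (Φ (Φ.symm x)) d : 𝒯.presheaf.obj (op ⊤)) = x
      rw [Φ.apply_symm_apply, DirectSum.decompose_of_mem_same _ hx]
    rw [← h2, Φ.symm_apply_apply]
    exact SetLike.coe_mem _
  let χ : T →+*ᵍ CohB1.polyGrading n R := { Φ.symm.toRingHom with map_mem := fun hx => hinv _ _ hx }
  have hψ : (T₊) ≤ ((CohB1.polyGrading n R)₊).map ψ := by
    rw [HomogeneousIdeal.irrelevant_le]
    intro i hi x hx
    rw [show x = ψ (Φ.symm x) from (Φ.apply_symm_apply x).symm]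
    exact Ideal.mem_map_of_mem ψ (HomogeneousIdeal.mem_irrelevant_of_mem _ hi (hinv i x hx))
  have hχ : ((CohB1.polyGrading n R)₊) ≤ (T₊).map χ := by
    rw [HomogeneousIdeal.irrelevant_le]
    intro i hi x hx
    rw [show x = χ (Φ x) from (Φ.symm_apply_apply x).symm]
    exact Ideal.mem_map_of_mem χ (HomogeneousIdeal.mem_irrelevant_of_mem _ hi (hdeg i x hx))
  let α : Proj T ≅ Proj (CohB1.polyGrading n R) :=
    { hom := Proj.map ψ hψ
      inv := Proj.map χ hχ
      hom_inv_id := by
        rw [← Proj.map_comp, map_congr (show ψ.comp χ = GradedRingHom.id T from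
          GradedRingHom.ext fun x => Φ.apply_symm_apply x) _ (by simp), Proj.map_id]
      inv_hom_id := by
        rw [← Proj.map_comp, map_congr (show χ.comp ψ = GradedRingHom.id (CohB1.polyGrading n R) from
          GradedRingHom.ext fun x => Φ.symm_apply_apply x) _ (by simp), Proj.map_id] }
  have hP := isRelProj_relProj 𝒯
  let em := RelProj.emb (relProjTo 𝒯) (relProjChart 𝒯) ⊤ (isAffineOpen_top _)
  have : IsIso em := by
    refine (isIso_iff_isOpenImmersion_and_epi_base _).mpr ⟨inferInstance, ?_⟩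
    rw [TopCat.epi_iff_surjective]
    intro y
    have : y ∈ em.opensRange := by rw [opensRange_emb, Scheme.Hom.preimage_top]; trivial
    exact this
  have hover : α.inv ≫ em ≫ relProjTo 𝒯 = CohB1.ProjSpace.toSpec n R := by
    rw [emb_p hP, IsAffineOpen.fromSpec_top, Scheme.isoSpec_Spec_inv, ← Spec.map_comp]
    show Proj.map χ hχ ≫ Proj.toSpecZero T ≫ _ = _
    rw [← Category.assoc, show Proj.map χ hχ ≫ Proj.toSpecZero T =
      Proj.toSpecZero (CohB1.polyGrading n R) ≫ Spec.map (CommRingCat.ofHom (zeroHom χ)) from by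
        have : IsIso (RelCone.domOpen χ).ι := by
          rw [domOpen_eq_top_of_le _ hχ]
          exact inferInstanceAs (IsIso (Scheme.topIso _).hom)
        rw [← cancel_epi (RelCone.domOpen χ).ι, ← Category.assoc, ι_map_eq_domMap, domMap_toSpecZero],
      Category.assoc, ← Spec.map_comp]
    refine congrArg (fun a => Proj.toSpecZero (CohB1.polyGrading n R) ≫ Spec.map a) ?_
    refine CommRingCat.hom_ext (RingHom.ext fun r => Subtype.ext ?_)
    show Φ.symm ((𝒯.str.app (op ⊤)).hom ((Scheme.ΓSpecIso (CommRingCat.of R)).inv r)) = algebraMap R _ r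
    rw [RingEquiv.symm_apply_eq, MvPolynomial.algebraMap_eq, hC]
  refine ⟨𝒯, relProj 𝒯, relProjTo 𝒯, relProjChart 𝒯, α.symm ≪≫ asIso em, isGenDegOne_grSym hE hj, ?_, hP, ?_⟩
  · have := hE
    exact PBundleClosed.isFTDeg_one_grSym hE (QC70.isFiniteType_of_finite_sections E (fun _ : PUnit.{u + 1} => ⊤)
      (iSup_const) (fun _ => isAffineOpen_top _) fun _ => hfin) hj
  · simp only [Iso.trans_hom, Iso.symm_hom, asIso_hom, Category.assoc]
    exact hover

theorem isProjective_toBase (n : ℕ) (Y : Scheme.{u}) :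
    RelProj.IsProjective (CohB1.ProjSpaceOver.toBase n Y) :=
  isProjective_of_isPullback (IsPullback.of_hasPullback _ _) (isProjective_toSpec (ULift.{u} ℤ) n)

theorem isProjective_of_isHProjective {X Y : Scheme.{u}} {f : X ⟶ Y} (h : RelProj.IsHProjective f) :
    RelProj.IsProjective f := by
  obtain ⟨n, i, hi, rfl⟩ := h
  exact isProjective_closedImmersion_comp i (isProjective_toBase n Y)

end Groth.Agent.EGA73.ProjSpaceProjective

end
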