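import Groth.Agent.EGAProj74.PBundle
import Groth.Agent.EGAProj74.Dom
import Groth.Agent.EGAProj74.RelBasic
import Mathlib.AlgebraicGeometry.ProjectiveSpectrum.Proper
import Mathlib.RingTheory.MvPolynomial.Homogeneous

/-!
`Proj` of a graded ring generated in degree one by finitely many elements is proper over any ring over whose image
the degree one part is spanned by them.
-/

set_option autoImplicit false
set_option backward.isDefEq.respectTransparency.types false

universe u

open CategoryTheory AlgebraicGeometry MvPolynomial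
open scoped HomogeneousIdeal

noncomputable section

namespace Groth.Agent.EGA73

variable {A σ : Type u} [CommRing A] [SetLike σ A] [AddSubgroupClass σ A] {𝒜 : ℕ → σ} [GradedRing 𝒜]

theorem isProper_projTo_of_gen {R : CommRingCat.{u}}
    (hgen : Subring.closure ((𝒜 0 : Set A) ∪ (𝒜 1 : Set A)) = ⊤)
    (ρ : R ⟶ CommRingCat.of (𝒜 0)) (T : Finset A) (hT : (↑T : Set A) ⊆ (𝒜 1 : Set A))
    (hspan : ∀ x ∈ 𝒜 1, ∃ c : A → R, x = ∑ t ∈ T, (ρ.hom (c t) : A) * t) :
    IsProper (Proj.toSpecZero 𝒜 ≫ Spec.map ρ) := by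
  classical
  let Pg := MvPolynomial.homogeneousSubmodule T R
  let := (MvPolynomial.gradedAlgebra : GradedAlgebra Pg)
  let ρ' : R →+* A :=
    { toFun := fun r => (ρ.hom r : A)
      map_one' := by rw [map_one]; rfl
      map_mul' := fun a b => by rw [map_mul]; rfl
      map_zero' := by rw [map_zero]; rfl
      map_add' := fun a b => by rw [map_add]; rfl }
  let ψ : Pg →+*ᵍ 𝒜 :=
    { eval₂Hom ρ' (fun t : T => (t : A)) with
      map_mem := fun {n p} hp => by
        show eval₂ ρ' (fun t : T => (t : A)) p ∈ 𝒜 n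
        rw [eval₂_eq]
        refine sum_mem fun m hm => ?_
        have hdeg : ∑ i ∈ m.support, m i = n := by
          have := (mem_homogeneousSubmodule n p).1 hp (mem_support_iff.1 hm)
          simpa [Finsupp.weight_apply, Finsupp.sum] using this
        have h1 : ∀ s : Finset T, (∏ i ∈ s, (i : A) ^ m i) ∈ 𝒜 (∑ i ∈ s, m i) := fun s => by
          refine SetLike.prod_mem_graded _ _ _ fun i _ => ?_
          simpa using SetLike.pow_mem_graded (m i) (hT i.2)
        have := SetLike.mul_mem_graded (A := 𝒜) (ρ.hom (coeff m p)).2 (h1 m.support)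
        rwa [zero_add, hdeg] at this }
  have hψX : ∀ t : T, ψ (X t) = (t : A) := fun t => eval₂_X _ _ _
  have hψC : ∀ r, ψ (C r) = (ρ.hom r : A) := fun r => eval₂_C _ _ _
  have h1 : Set.SurjOn ψ (Pg 1) (𝒜 1) := fun x hx => by
    obtain ⟨c, rfl⟩ := hspan x hx
    refine ⟨∑ t : T, C (c t) * X t, sum_mem fun t _ => (isHomogeneous_C_mul_X _ t), ?_⟩
    rw [map_sum, ← Finset.sum_coe_sort T]
    exact Finset.sum_congr rfl fun t _ => by rw [map_mul, hψX, hψC]
  have hs : ∀ n, 1 ≤ n → Set.SurjOn ψ (Pg n) (𝒜 n) := EGAProj74.surjOn_pos_of_gen ψ hgen h1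
  have := EGAProj74.isClosedImmersion_domMap ψ 1 hs
  let C0 : R →+* Pg 0 := algebraMap R (Pg 0)
  have hsurj : Function.Surjective C0 := fun p => by
    refine ⟨coeff 0 p.1, Subtype.ext ?_⟩
    rw [SetLike.GradeZero.coe_algebraMap, MvPolynomial.algebraMap_eq, ← homogeneousComponent_zero,
      homogeneousComponent_of_mem p.2, if_pos rfl]
  have : IsScalarTower R (Pg 0) (MvPolynomial T R) :=
    IsScalarTower.of_algebraMap_eq (R := R) (S := Pg 0) (A := MvPolynomial T R) fun r => rfl
  have : Algebra.FiniteType (Pg 0) (MvPolynomial T R) := Algebra.FiniteType.of_restrictScalars_finiteType R (Pg 0) _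
  have : IsClosedImmersion (Spec.map (CommRingCat.ofHom C0)) := IsClosedImmersion.spec_of_surjective _ hsurj
  have hcomp : CommRingCat.ofHom C0 ≫ CommRingCat.ofHom (EGAProj74.zeroHom ψ) = ρ := by
    ext r : 2
    exact Subtype.ext (hψC r)
  have e : (RelCone.domOpen ψ).ι ≫ Proj.toSpecZero 𝒜 ≫ Spec.map ρ =
      EGAProj74.domMap ψ ≫ Proj.toSpecZero Pg ≫ Spec.map (CommRingCat.ofHom C0) := by
    rw [← hcomp, Spec.map_comp, ← Category.assoc (EGAProj74.domMap ψ), EGAProj74.domMap_toSpecZero]
    simp only [Category.assoc]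
  have : IsIso (RelCone.domOpen ψ).ι := by
    rw [EGAProj74.domOpen_eq_top_of_surjOn ψ 1 hs]; exact inferInstanceAs (IsIso (Proj 𝒜).topIso.hom)
  rw [← MorphismProperty.cancel_left_of_respectsIso @IsProper (RelCone.domOpen ψ).ι, e]
  infer_instance

/-- A relative Proj generated in degree one with degree-one part of finite type is proper. -/
theorem isProper_relProj {S P : Scheme.{u}} {𝒮 : RelProj.QCGrAlg S} {p : P ⟶ S}
    {chart : ∀ (U : S.Opens) (hU : IsAffineOpen U), (((p ⁻¹ᵁ U : P.Opens) : Scheme.{u}) ≅ Proj (𝒮.deg U hU))}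
    (hgen : 𝒮.IsGenDegOne) (hft : 𝒮.IsFTDeg 1) (hP : RelProj.IsRelProj 𝒮 p chart) : IsProper p := by
  refine EGAProj74.restrict_of_chart (Q := @IsProper) hP fun U hU => ?_
  obtain ⟨T, hT, hspan⟩ := hft U hU
  exact isProper_projTo_of_gen (hgen U hU) (𝒮.strZero U hU) T hT hspan

end Groth.Agent.EGA73

end
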