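import Groth.Agent.EGAProj74.RelGenLocus
import Groth.Agent.EGAProj74.RelBasic
import Groth.Agent.EGAProj74.RelFiniteType
import Groth.Agent.Amp73.Local
import Groth.Agent.Var76.Frames
import Groth.Prelude.Def_LCI2

/-!
`O(1)` is relatively ample on a relative Proj generated in degree one with degree-one part of finite type.
-/

set_option autoImplicit false
set_option backward.isDefEq.respectTransparency.types false

universe u

open CategoryTheory CategoryTheory.Limits AlgebraicGeometry TopologicalSpace Opposite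
open scoped HomogeneousIdeal

noncomputable section

namespace Groth.Agent.EGA73

open Var76.LineBundle Var76.ZeroScheme Amp73 EGAProj74

variable {S P : Scheme.{u}} {𝒮 : RelProj.QCGrAlg S} {p : P ⟶ S}
  {chart : ∀ (U : S.Opens) (hU : IsAffineOpen U), (((p ⁻¹ᵁ U : P.Opens) : Scheme.{u}) ≅ Proj (𝒮.deg U hU))}
  {L : P.Modules}
  {lam : ∀ (U : S.Opens) (hU : IsAffineOpen U),
    L ⟶ (Scheme.Modules.pushforward (RelProj.emb p chart U hU)).obj (GrTwist.twist (𝒮.deg U hU) (1 : ℕ))}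

variable (hgen : 𝒮.IsGenDegOne) (hL : RelProj.IsRelTwist 𝒮 p chart ((1 : ℕ) : ℤ) L lam)
  {U : S.Opens} (hU : IsAffineOpen U) {f : 𝒮.presheaf.obj (op U)}

include hgen hL in
/-- A section with values `f / 1` can only be a frame inside `D₊(f)`. -/
theorem mem_basicOpen_of_frame {V : P.Opens} (hV : V ≤ p ⁻¹ᵁ U) (g : Γ(L, V)) (hframe : IsFrame L V g)
    (hval : ∀ y : (RelProj.emb p chart U hU ⁻¹ᵁ V : (Proj (𝒮.deg U hU)).Opens),
      GrTwist.val (V := RelProj.emb p chart U hU ⁻¹ᵁ V) ((lam U hU).app V g) y = Localization.mk f 1)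
    (y : Proj (𝒮.deg U hU)) (hy : (RelProj.emb p chart U hU).base y ∈ V) :
    y ∈ Proj.basicOpen (𝒮.deg U hU) f := by
  obtain ⟨D, hyD, ⟨e⟩⟩ := GrT.exists_unit_of_generated (𝒜 := 𝒮.deg U hU) (le_antisymm
    (irrelevant_le_span_one_of_gen (hgen U hU))
    (Ideal.span_le.mpr fun a ha => HomogeneousIdeal.mem_irrelevant_of_mem _ one_pos ha)) ((1 : ℕ) : ℤ) y
  let V' := V ⊓ RelProj.emb p chart U hU ''ᵁ D
  have hV' : V' ≤ V := inf_le_left
  have hyV : (RelProj.emb p chart U hU).base y ∈ V' := ⟨hy, y, hyD, rfl⟩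
  have hpre : RelProj.emb p chart U hU ⁻¹ᵁ V' ≤ D := fun w hw =>
    ((RelProj.emb p chart U hU).preimage_image_eq D).le hw.2
  obtain ⟨g', hg'⟩ := (hL.bijective U hU V' (hV'.trans hV)).surjective (e.res hpre).fwd
  obtain ⟨a, ha⟩ := (hframe V' hV').2 g'
  have h1 : (lam U hU).app V' (a • mres L hV' g) = (e.res hpre).fwd := (congrArg _ ha).trans hg'
  have h1' := ((Scheme.Modules.Hom.app_smul (lam U hU) a (mres L hV' g)).symm.trans h1)
  have h2 := (congrArg (fun q => GrTwist.val (V := RelProj.emb p chart U hU ⁻¹ᵁ V') q ⟨y, hyV⟩) h1')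
  have hval' : GrTwist.val (V := RelProj.emb p chart U hU ⁻¹ᵁ V') ((lam U hU).app V' (mres L hV' g)) ⟨y, hyV⟩ =
      Localization.mk f 1 := by
    refine (congrArg (fun q => GrTwist.val (V := RelProj.emb p chart U hU ⁻¹ᵁ V') q ⟨y, hyV⟩) (mres_app (lam U hU) hV' g)).trans ?_
    exact (val_mres_pushforward _ hV' _ ⟨y, hyV⟩).trans (hval ⟨y, hy⟩)
  have h3 : (((RelProj.emb p chart U hU).app V' a).1 ⟨y, hyV⟩).val * Localization.mk f 1 = (e.fwd.1 ⟨y, hpre hyV⟩).1 := by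
    refine Eq.trans ?_ h2
    refine Eq.trans ?_ (GrTwist.coe_smul_val ((1 : ℕ) : ℤ) y _ _).symm
    exact congrArg _ hval'.symm
  have h4 : IsUnit ((algebraMap (𝒮.presheaf.obj (op U)) (GrTwist.Loc (𝒮.deg U hU) y)) f) := by
    rw [← Localization.mk_one_eq_algebraMap]
    refine IsUnit.of_mul_eq_one (((((RelProj.emb p chart U hU).app V' a).1 ⟨y, hyV⟩).val) * (e.bwd.1 ⟨y, hpre hyV⟩).1) ?_
    rw [← mul_assoc, mul_comm (Localization.mk f 1), h3, e.mul_eq]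
  exact (IsLocalization.AtPrime.isUnit_to_map_iff (GrTwist.Loc (𝒮.deg U hU) y) _ f).mp h4

include hL in
/-- A section with values `f / 1` is a frame inside `D₊(f)`. -/
theorem isFrame_of_val (hf : f ∈ 𝒮.deg U hU 1) {V : P.Opens} (hVU : V ≤ p ⁻¹ᵁ U)
    (hVD : RelProj.emb p chart U hU ⁻¹ᵁ V ≤ Proj.basicOpen (𝒮.deg U hU) f) (g : Γ(L, V))
    (hval : ∀ y : (RelProj.emb p chart U hU ⁻¹ᵁ V : (Proj (𝒮.deg U hU)).Opens),
      GrTwist.val (V := RelProj.emb p chart U hU ⁻¹ᵁ V) ((lam U hU).app V g) y = Localization.mk f 1) :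
    IsFrame L V g := by
  intro V' hV'
  obtain ⟨e', he'⟩ := exists_unit_mk_one (𝒜 := 𝒮.deg U hU) hf
  have hpre : RelProj.emb p chart U hU ⁻¹ᵁ V' ≤ Proj.basicOpen (𝒮.deg U hU) f :=
    fun w hw => hVD (hV' hw)
  refine bijective_smul_of_unit hL hU e' (hV'.trans hVU) hpre (mres L hV' g) fun w => ?_
  refine Eq.trans ?_ (he' ⟨w.1, hpre w.2⟩).symm
  refine (congrArg (fun q => GrTwist.val (V := RelProj.emb p chart U hU ⁻¹ᵁ V') q w) (mres_app (lam U hU) hV' g)).trans ?_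
  exact (val_mres_pushforward _ hV' _ w).trans (hval ⟨w.1, hV' w.2⟩)

include hgen hL in
/-- Over an affine open of the base, degree one elements give sections of `O(1)` with the expected loci. -/
theorem exists_hom_genLocus (hf : f ∈ 𝒮.deg U hU 1) :
    ∃ s : Coh.structureModule (p ⁻¹ᵁ U : P.Opens) ⟶ L.restrict (p ⁻¹ᵁ U).ι,
      CohB1.genLocus _ s =
        (p ⁻¹ᵁ U).ι ⁻¹ᵁ (RelProj.emb p chart U hU ''ᵁ Proj.basicOpen (𝒮.deg U hU) f) := by
  obtain ⟨g, hg⟩ := (hL.bijective U hU (p ⁻¹ᵁ U) le_rfl).surjective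
    (mres (GrTwist.twist (𝒮.deg U hU) ((1 : ℕ) : ℤ)) (le_top : RelProj.emb p chart U hU ⁻¹ᵁ (p ⁻¹ᵁ U) ≤ ⊤)
      (GrTwist.globalOf (𝒮.deg U hU) ⟨f, hf⟩))
  have hU' : (p ⁻¹ᵁ U).ι ''ᵁ ⊤ ≤ p ⁻¹ᵁ U := (p ⁻¹ᵁ U).ι_image_top.le
  have hle : ∀ W : ((p ⁻¹ᵁ U : P.Opens) : Scheme.{u}).Opens, (p ⁻¹ᵁ U).ι ''ᵁ W ≤ p ⁻¹ᵁ U :=
    fun W => ((p ⁻¹ᵁ U).ι.image_mono le_top).trans hU'
  have hval : ∀ (V : P.Opens) (hV : V ≤ p ⁻¹ᵁ U) (y : (RelProj.emb p chart U hU ⁻¹ᵁ V : (Proj (𝒮.deg U hU)).Opens)),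
      GrTwist.val (V := RelProj.emb p chart U hU ⁻¹ᵁ V) ((lam U hU).app V (mres L hV g)) y =
        Localization.mk f 1 := by
    intro V hV y
    refine (congrArg (fun q => GrTwist.val (V := RelProj.emb p chart U hU ⁻¹ᵁ V) q y) (mres_app (lam U hU) hV g)).trans ?_
    refine (val_mres_pushforward _ hV _ y).trans ?_
    exact congrArg (fun q => GrTwist.val (V := RelProj.emb p chart U hU ⁻¹ᵁ (p ⁻¹ᵁ U)) q ⟨y.1, hV y.2⟩) hg
  refine ⟨Var76.Frames.ofSection (L.restrict (p ⁻¹ᵁ U).ι) (mres L hU' g), ?_⟩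
  have hfr : ∀ W : ((p ⁻¹ᵁ U : P.Opens) : Scheme.{u}).Opens,
      W ≤ CohB1.genLocus _ (Var76.Frames.ofSection (L.restrict (p ⁻¹ᵁ U).ι) (mres L hU' g)) ↔
        IsFrame L ((p ⁻¹ᵁ U).ι ''ᵁ W) (mres L (hle W) g) := by
    intro W
    rw [← isFrame_iff_le_genLocus, isFrame_restrict_iff, Var76.Frames.val_ofSection]
    exact iff_of_eq (congrArg (IsFrame L _) (mres_mres L hU' ((p ⁻¹ᵁ U).ι.image_mono (le_top (a := W))) g))
  refine le_antisymm (fun z hz => ?_) ?_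
  · obtain ⟨y, hy⟩ : ((p ⁻¹ᵁ U).ι.base z) ∈ (RelProj.emb p chart U hU).opensRange := by
      rw [opensRange_emb]; exact z.2
    exact ⟨y, mem_basicOpen_of_frame hgen hL hU (hle _) _ ((hfr _).1 le_rfl) (hval _ (hle _)) y
      ⟨z, hz, hy.symm⟩, hy⟩
  · rw [hfr]
    refine isFrame_of_val hL hU hf (hle _) (fun w hw => ?_) _ (hval _ (hle _))
    obtain ⟨w', hw', e'⟩ := hw
    refine ((RelProj.emb p chart U hU).preimage_image_eq _).le ?_
    show (RelProj.emb p chart U hU).base w ∈ RelProj.emb p chart U hU ''ᵁ _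
    rw [← e']
    exact hw'

omit hgen hL in
theorem isRelAmple_relTwist_one (hgen : 𝒮.IsGenDegOne)
    (hL : RelProj.IsRelTwist 𝒮 p chart ((1 : ℕ) : ℤ) L lam) [QuasiCompact p] :
    RelAmple.IsRelAmple p L := by
  refine ⟨inferInstance, fun ⟨U, hU⟩ => ?_⟩
  have := compactSpace_preimage p hU
  refine isAmple_iff.2 ⟨EGA73.isInvertible_restrict (isInvertible_of_isGenDegOne hL hgen) _, inferInstance, fun z => ?_⟩
  obtain ⟨y, hy⟩ : ((p ⁻¹ᵁ U).ι.base z) ∈ (RelProj.emb p chart U hU).opensRange := by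
    rw [opensRange_emb]; exact z.2
  obtain ⟨f, hf, hyf⟩ : ∃ f ∈ 𝒮.deg U hU 1, f ∉ (y : ProjectiveSpectrum (𝒮.deg U hU)).asHomogeneousIdeal := by
    by_contra H
    push Not at H
    exact ProjectiveSpectrum.not_irrelevant_le y
      ((irrelevant_le_span_one_of_gen (hgen U hU)).trans (Ideal.span_le.mpr H))
  obtain ⟨s, hs⟩ := exists_hom_genLocus hgen hL hU hf
  refine ⟨_, mem_genSet_one s, ?_, ?_⟩ <;> rw [hs]
  · exact ⟨y, hyf, hy⟩
  · refine IsAffineOpen.preimage_of_isOpenImmersion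
      ((Proj.isAffineOpen_basicOpen _ f hf zero_lt_one).image_of_isOpenImmersion _) _ ?_
    rw [Scheme.Opens.opensRange_ι]
    exact ((RelProj.emb p chart U hU).image_le_opensRange _).trans_eq (opensRange_emb U hU)

end Groth.Agent.EGA73

end
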