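import Groth.Agent.EGA73.RelAmpleComp
import Groth.Agent.EGA73.AmpleImmersion
import Groth.Agent.EGA73.VeryAmplePnAmple
import Groth.Agent.EGA73.ProjSpaceProjective
import Groth.Agent.S4418

/-!
Quasi-projective morphisms to a base with an ample module embed into projective spaces.
-/

set_option autoImplicit false
set_option backward.isDefEq.respectTransparency.types false

universe u

open CategoryTheory CategoryTheory.Limits AlgebraicGeometry

noncomputable section

namespace Groth.Agent.EGA73.AmpleBaseImmersion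

variable {X Y : Scheme.{u}}

theorem exists_immersion (hY : ∃ M : Y.Modules, CohB1.IsAmple M) {f : X ⟶ Y} (hf : RelProj.IsQuasiProjective f) :
    ∃ (r : ℕ) (i : X ⟶ CohB1.ProjSpaceOver r Y), IsImmersion i ∧ i ≫ CohB1.ProjSpaceOver.toBase r Y = f := by
  obtain ⟨M, hM⟩ := hY
  obtain ⟨h1, h2, L, hL⟩ := hf
  obtain ⟨n₀, -, h⟩ := RelAmpleComp.eventually_isAmple_comp f hL hM
  obtain ⟨d₀, -, hd⟩ := AmpleImmersion.eventually_isRelVeryAmplePn f (h n₀ le_rfl)
    EGA73.isInvertible_structureModule
  obtain ⟨r, i, hi, hif, -⟩ := hd d₀ le_rfl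
  exact ⟨r, i, hi, hif⟩

theorem isQuasiProjective_of_immersion {f : X ⟶ Y} [LocallyOfFiniteType f] [QuasiCompact f] {r : ℕ}
    (i : X ⟶ CohB1.ProjSpaceOver r Y) [IsImmersion i] (hi : i ≫ CohB1.ProjSpaceOver.toBase r Y = f) :
    RelProj.IsQuasiProjective f :=
  ⟨inferInstance, inferInstance, _,
    VeryAmplePnAmple.isRelAmple_of_isRelVeryAmplePn ⟨r, i, inferInstance, hi, ⟨Iso.refl _⟩⟩⟩

/-- A proper immersion is a closed immersion. -/
theorem isClosedImmersion_of_isImmersion_of_isProper {Z : Scheme.{u}} (i : X ⟶ Z) [IsImmersion i] [IsProper i] :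
    IsClosedImmersion i :=
  IsClosedImmersion.iff_isPreimmersion.2 ⟨inferInstance, i.isClosedMap.isClosed_range⟩

theorem isProjective_iff_isHProjective (hY : ∃ M : Y.Modules, CohB1.IsAmple M) (f : X ⟶ Y) :
    RelProj.IsProjective f ↔ RelProj.IsHProjective f := by
  refine ⟨fun h => ?_, ProjSpaceProjective.isProjective_of_isHProjective⟩
  obtain ⟨hq, hp⟩ := S4418.result f h
  obtain ⟨r, i, hi, hif⟩ := exists_immersion hY hq
  have := ProjSpaceProjective.isProjective_toBase r Y
  have := (S4418.result _ this).2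
  have : IsProper (i ≫ CohB1.ProjSpaceOver.toBase r Y) := hif ▸ hp
  have : IsProper i := IsProper.of_comp i (CohB1.ProjSpaceOver.toBase r Y)
  exact ⟨r, i, isClosedImmersion_of_isImmersion_of_isProper i, hif⟩

end Groth.Agent.EGA73.AmpleBaseImmersion
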