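import Groth.Agent.EGAProj74.RelTwistMap
import Groth.Agent.EGAProj74.GrT.TildeQCoh
import Groth.Agent.EGAProj74.BaseChange
import Groth.Agent.SchBasics.PullSpan
import Groth.Agent.Amp73.Pullback
import Groth.Prelude.Def_Twist2
import Groth.Agent.EGA73.GammaStarIso

/-!
Twisting sheaves under base change of the coefficient ring.
-/

set_option autoImplicit false
set_option backward.isDefEq.respectTransparency.types false
set_option linter.style.haveILetI false

universe u

open CategoryTheory CategoryTheory.Limits AlgebraicGeometry TopologicalSpace Opposite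
open scoped HomogeneousIdeal TensorProduct

noncomputable section

namespace Groth.Agent.EGA73.TwistBaseChange

open Var76.LineBundle EGAProj74

theorem add_smul_sec {X : Scheme.{u}} (M : X.Modules) {U : X.Opens} (a b : Γ(X, U)) (m : Γ(M, U)) :
    (a + b) • m = a • m + b • m := add_smul a b m

section one

variable {R A : Type u} [CommRing R] [CommRing A] [Algebra R A] {𝒜 : ℕ → Submodule R A} [GradedAlgebra 𝒜]
  {d : ℕ} {f : A} (hf : f ∈ 𝒜 d)

include hf in
theorem pow_mem (k : ℕ) : f ^ k ∈ 𝒜 (k * d) := by simpa using SetLike.pow_mem_graded k hf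

/-- The function `a / f ^ l` on `D₊(f)`. -/
def fn (l : ℕ) {a : A} (ha : a ∈ 𝒜 (l * d)) : Γ(Proj 𝒜, Proj.basicOpen 𝒜 f) :=
  ⟨fun x => GrT.a0Frac x.1 ha (pow_mem hf l) (GrT.pow_notMem x.2 l), fun x =>
    ⟨_, x.2, 𝟙 _, l * d, ⟨a, ha⟩, ⟨f ^ l, pow_mem hf l⟩, fun y => GrT.pow_notMem y.2 l, fun _ => rfl⟩⟩

theorem fn_val (l : ℕ) {a : A} (ha : a ∈ 𝒜 (l * d)) (x : ProjectiveSpectrum.basicOpen 𝒜 f) :
    ((fn hf l ha).1 x).val = Localization.mk a ⟨f ^ l, GrT.pow_notMem x.2 l⟩ :=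
  HomogeneousLocalization.val_mk _

theorem sec_ext {U : (Proj 𝒜).Opens} {s t : Γ(Proj 𝒜, U)} (h : ∀ x : U, (s.1 x).val = (t.1 x).val) : s = t :=
  Subtype.ext (funext fun x => HomogeneousLocalization.val_injective _ (h x))

theorem exists_fn_eq (hd : 0 < d) (r : Γ(Proj 𝒜, Proj.basicOpen 𝒜 f)) :
    ∃ (l : ℕ) (a : A) (ha : a ∈ 𝒜 (l * d)), r = fn hf l ha := by
  obtain ⟨l, a, ha, hfl, hr⟩ := GrT.exists_away_value hd hf r
  exact ⟨l, a, ha, Subtype.ext (funext hr)⟩

include hf in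
theorem algebraMap_mem (r : R) : algebraMap R A r ∈ 𝒜 (0 * d) := by
  rw [zero_mul, Algebra.algebraMap_eq_smul_one]
  exact Submodule.smul_mem _ r SetLike.GradedOne.one_mem

/-- The constant function `r`. -/
def cst (r : R) : Γ(Proj 𝒜, Proj.basicOpen 𝒜 f) := fn hf 0 (algebraMap_mem hf r)

theorem cst_val (r : R) (x : ProjectiveSpectrum.basicOpen 𝒜 f) :
    ((cst hf r).1 x).val = algebraMap A (GrTwist.Loc 𝒜 x.1) (algebraMap R A r) := by
  rw [cst, fn_val, ← Localization.mk_one_eq_algebraMap]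
  refine congrArg (Localization.mk _) (Subtype.ext ?_)
  simp

theorem cst_mul (r r' : R) : cst hf (r * r') = cst hf r * cst hf r' := by
  refine sec_ext fun x => ?_
  rw [cst_val, map_mul, map_mul, ← cst_val hf r x, ← cst_val hf r' x, ← HomogeneousLocalization.val_mul]
  rfl

theorem cst_add (r r' : R) : cst hf (r + r') = cst hf r + cst hf r' := by
  refine sec_ext fun x => ?_
  rw [cst_val, map_add, map_add, ← cst_val hf r x, ← cst_val hf r' x, ← HomogeneousLocalization.val_add]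
  rfl

variable {n : ℤ}

/-- The section `a / f ^ k` of `O(n)` on `D₊(f)`. -/
def tw (k i : ℕ) (hi : (i : ℤ) = (k * d : ℕ) + n) {a : A} (ha : a ∈ 𝒜 i) :
    Γ(GrTwist.twist 𝒜 n, Proj.basicOpen 𝒜 f) :=
  (⟨fun x => ⟨Localization.mk a ⟨f ^ k, GrT.pow_notMem x.2 k⟩,
    Submodule.subset_span ⟨i, k * d, ⟨a, ha⟩, ⟨f ^ k, pow_mem hf k⟩, GrT.pow_notMem x.2 k, hi, rfl⟩⟩,
    fun x => ⟨_, x.2, 𝟙 _, i, k * d, ⟨a, ha⟩, ⟨f ^ k, pow_mem hf k⟩, fun y => GrT.pow_notMem y.2 k,
      Or.inl hi, fun _ => rfl⟩⟩ : GrTwist.sectN (𝒜 := 𝒜) n (op (ProjectiveSpectrum.basicOpen 𝒜 f)))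

/-- The value of a section of `O(n)`. -/
def tval (s : Γ(GrTwist.twist 𝒜 n, Proj.basicOpen 𝒜 f)) (x : ProjectiveSpectrum.basicOpen 𝒜 f) :
    GrTwist.Loc 𝒜 x.1 :=
  ((s : GrTwist.sectN (𝒜 := 𝒜) n (op (ProjectiveSpectrum.basicOpen 𝒜 f))).1 x).1

theorem tval_tw (k i : ℕ) (hi : (i : ℤ) = (k * d : ℕ) + n) {a : A} (ha : a ∈ 𝒜 i)
    (x : ProjectiveSpectrum.basicOpen 𝒜 f) :
    tval (tw hf k i hi ha) x = Localization.mk a ⟨f ^ k, GrT.pow_notMem x.2 k⟩ := rfl

theorem tw_ext {s t : Γ(GrTwist.twist 𝒜 n, Proj.basicOpen 𝒜 f)} (h : ∀ x, tval s x = tval t x) : s = t :=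
  Subtype.ext (funext fun x => Subtype.ext (h x))

theorem tval_smul (c : Γ(Proj 𝒜, Proj.basicOpen 𝒜 f)) (s : Γ(GrTwist.twist 𝒜 n, Proj.basicOpen 𝒜 f))
    (x : ProjectiveSpectrum.basicOpen 𝒜 f) : tval (c • s) x = (c.1 x).val * tval s x :=
  GrTwist.coe_smul_val n _ _ _

theorem tw_congr {k i : ℕ} {hi : (i : ℤ) = (k * d : ℕ) + n} {a b : A} {ha : a ∈ 𝒜 i} {hb : b ∈ 𝒜 i}
    (h : a = b) : tw hf k i hi ha = tw hf k i hi hb := by subst h; rfl

theorem tw_add (k i : ℕ) (hi : (i : ℤ) = (k * d : ℕ) + n) {a b : A} (ha : a ∈ 𝒜 i) (hb : b ∈ 𝒜 i) :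
    tw hf k i hi (add_mem ha hb) = tw hf k i hi ha + tw hf k i hi hb := by
  refine tw_ext fun x => ?_
  show Localization.mk (a + b) _ = Localization.mk a _ + Localization.mk b _
  exact (Localization.add_mk_self a _ b).symm

theorem tw_zero (k i : ℕ) (hi : (i : ℤ) = (k * d : ℕ) + n) :
    tw hf k i hi (zero_mem (𝒜 i)) = 0 := tw_ext fun _ => Localization.mk_zero _

theorem tw_shift (k N i : ℕ) (hi : (i : ℤ) = (k * d : ℕ) + n) {a : A} (ha : a ∈ 𝒜 i)
    (hi' : ((N * d + i : ℕ) : ℤ) = ((N + k) * d : ℕ) + n) (ha' : f ^ N * a ∈ 𝒜 (N * d + i)) :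
    tw hf (N + k) (N * d + i) hi' ha' = tw hf k i hi ha := by
  refine tw_ext fun x => ?_
  rw [tval_tw, tval_tw, Localization.mk_eq_mk_iff, Localization.r_iff_exists]
  exact ⟨1, by simp [pow_add]; ring⟩

theorem exists_tw_eq (hd : 0 < d) (s : Γ(GrTwist.twist 𝒜 n, Proj.basicOpen 𝒜 f)) :
    ∃ (k i : ℕ) (hi : (i : ℤ) = (k * d : ℕ) + n) (a : A) (ha : a ∈ 𝒜 i), s = tw hf k i hi ha := by
  obtain ⟨k, i, a, ha, hi, h⟩ := GrT.exists_frac_eq (ℳ := 𝒜) hd hf
    (GrT.toTildeFun n (op (ProjectiveSpectrum.basicOpen 𝒜 f)) s)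
  exact ⟨k, i, by push_cast; exact hi, a, ha, tw_ext h⟩

theorem exists_pow_mul_eq_zero (hd : 0 < d) {k i : ℕ} {hi : (i : ℤ) = (k * d : ℕ) + n} {a : A} {ha : a ∈ 𝒜 i}
    (h : tw hf k i hi ha = 0) : ∃ N : ℕ, f ^ N * a = 0 :=
  GrT.exists_pow_smul_eq_zero_of_frac (ℳ := 𝒜) hd hf ha (h := f ^ k) (fun x => GrT.pow_notMem x.2 k)
    (fun x => congrArg (fun q => tval q x) h)

theorem cst_smul_tw (r : R) (k i : ℕ) (hi : (i : ℤ) = (k * d : ℕ) + n) {a : A} (ha : a ∈ 𝒜 i)
    (ha' : r • a ∈ 𝒜 i) : cst hf r • tw hf k i hi ha = tw hf k i hi ha' := by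
  refine tw_ext fun x => ?_
  rw [tval_smul, cst_val, tval_tw, tval_tw, Algebra.smul_def, ← Localization.mk_one_eq_algebraMap,
    Localization.mk_mul, one_mul]

end one

section two

variable {R R' A B : Type u} [CommRing R'] [CommRing R] [Algebra R' R]
  [CommRing B] [Algebra R' B] {ℬ : ℕ → Submodule R' B} [GradedAlgebra ℬ]
  [CommRing A] [Algebra R A] [Algebra R' A] [IsScalarTower R' R A] {𝒜 : ℕ → Submodule R A} [GradedAlgebra 𝒜]
  [Algebra B A] [IsScalarTower R' B A] [Algebra.IsPushout R' R B A]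
  (φ : ℬ →+*ᵍ 𝒜) (hφA : ∀ b : B, φ b = algebraMap B A b)
  (hφ : HomogeneousIdeal.irrelevant 𝒜 ≤ (HomogeneousIdeal.irrelevant ℬ).map φ) {n : ℤ}
  {d : ℕ} {g : B} (hg : g ∈ ℬ d)

theorem app_fn (l : ℕ) {b : B} (hb : b ∈ ℬ (l * d)) :
    (Proj.map φ hφ).app (Proj.basicOpen ℬ g) (fn hg l hb) = fn (φ.map_mem hg) l (φ.map_mem hb) := by
  refine sec_ext fun x => ?_
  refine (map_app_val φ hφ _ _ x.1 x.2).trans ?_
  erw [fn_val, fn_val, GrTwist.locMap_mk]
  refine congrArg (Localization.mk _) (Subtype.ext ?_)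
  exact map_pow φ g l

include hφA in
theorem app_cst (r : R') :
    (Proj.map φ hφ).app (Proj.basicOpen ℬ g) (cst hg r) = cst (φ.map_mem hg) (algebraMap R' R r) := by
  rw [cst, app_fn]
  refine sec_ext fun x => ?_
  erw [fn_val, cst_val]
  rw [← Localization.mk_one_eq_algebraMap]
  refine congr (congrArg Localization.mk ?_) (Subtype.ext (pow_zero _))
  erw [hφA]
  rw [← IsScalarTower.algebraMap_apply, ← IsScalarTower.algebraMap_apply]

theorem comap_tw (k i : ℕ) (hi : (i : ℤ) = (k * d : ℕ) + n) {b : B} (hb : b ∈ ℬ i) :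
    (GrTwist.comap φ hφ n).app (Proj.basicOpen ℬ g) (tw hg k i hi hb) =
      tw (φ.map_mem hg) k i hi (φ.map_mem hb) := by
  refine tw_ext fun x => ?_
  have hx : ProjectiveSpectrum.comap φ hφ x.1 ∈ ProjectiveSpectrum.basicOpen ℬ g := x.2
  refine Eq.trans (b := GrTwist.locMap φ hφ x.1
    (Localization.mk b ⟨g ^ k, GrT.pow_notMem hx k⟩)) rfl ?_
  rw [GrTwist.locMap_mk, tval_tw]
  exact congrArg (Localization.mk _) (Subtype.ext (map_pow φ g k))

/-- The adjoint of the comparison map. -/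
def adjunct : (Scheme.Modules.pullback (Proj.map φ hφ)).obj (GrTwist.twist ℬ n) ⟶ GrTwist.twist 𝒜 n :=
  ((Scheme.Modules.pullbackPushforwardAdjunction (Proj.map φ hφ)).homEquiv _ _).symm (GrTwist.comap φ hφ n)

theorem adjunct_pullS (W : (Proj ℬ).Opens) (s : Γ(GrTwist.twist ℬ n, W)) :
    (adjunct φ hφ).app (Proj.map φ hφ ⁻¹ᵁ W) (Amp73.pullS (Proj.map φ hφ) _ W s) =
      (GrTwist.comap φ hφ n).app W s := by
  have h := Equiv.apply_symm_apply ((Scheme.Modules.pullbackPushforwardAdjunction (Proj.map φ hφ)).homEquiv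
    (GrTwist.twist ℬ n) (GrTwist.twist 𝒜 n)) (GrTwist.comap φ hφ n)
  rw [Adjunction.homEquiv_unit] at h
  exact ConcreteCategory.congr_hom (congrArg (fun a => Scheme.Modules.Hom.app a W) h) s

include hg hφA in
theorem bijective_adjunct_app (hd : 0 < d) :
    Function.Bijective ((adjunct (n := n) φ hφ).app (Proj.map φ hφ ⁻¹ᵁ Proj.basicOpen ℬ g)) := by
  classical
  let F := Proj.map φ hφ
  let D := Proj.basicOpen ℬ g
  let M := GrTwist.twist ℬ n
  let c : R → Γ(Proj 𝒜, F ⁻¹ᵁ D) := cst (φ.map_mem hg)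
  let fnV : ∀ (l : ℕ) {a : A}, a ∈ 𝒜 (l * d) → Γ(Proj 𝒜, F ⁻¹ᵁ D) := fun l {_} ha => fn (φ.map_mem hg) l ha
  let Q : Γ(M, D) → Γ((Scheme.Modules.pullback F).obj M, F ⁻¹ᵁ D) := Amp73.pullS F M D
  let e := Algebra.IsPushout.equiv R' R B A
  have he : ∀ (r : R) (b : B), e (r ⊗ₜ b) = r • φ b := fun r b => by
    rw [Algebra.IsPushout.equiv_tmul, hφA, Algebra.smul_def]
  have hadd : ∀ s t, Q (s + t) = Q s + Q t := fun s t => map_add _ s t
  have hproj : ∀ (i : ℕ) (b : B), GradedAlgebra.proj ℬ i b ∈ ℬ i := fun i b => SetLike.coe_mem _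
  have hprojA : ∀ (i : ℕ) (a : A), GradedAlgebra.proj 𝒜 i a ∈ 𝒜 i := fun i a => SetLike.coe_mem _
  have hprojφ : ∀ (i : ℕ) (b : B), φ (GradedAlgebra.proj ℬ i b) = GradedAlgebra.proj 𝒜 i (φ b) := fun i b => by
    rw [GradedAlgebra.proj_apply, GradedAlgebra.proj_apply, GradedRingHom.map_directSumDecompose]
  -- `r ⊗ b ↦ r • b_i / g ^ k`
  let L₀ : ∀ (k i : ℕ), (i : ℤ) = (k * d : ℕ) + n → R →+ B →+ Γ((Scheme.Modules.pullback F).obj M, F ⁻¹ᵁ D) := fun k i hi =>
    AddMonoidHom.mk' (fun r => AddMonoidHom.mk' (fun b => c r • Q (tw hg k i hi (hproj i b))) fun a b => by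
      rw [← smul_add, ← hadd, ← tw_add]
      exact congrArg (fun q => c r • Q q) (tw_congr hg (map_add _ a b)))
      fun r r' => by
        ext b
        simp only [AddMonoidHom.mk'_apply, AddMonoidHom.add_apply, c, cst_add]
        exact add_smul_sec _ _ _ _
  let L : ∀ (k i : ℕ), (i : ℤ) = (k * d : ℕ) + n → R ⊗[R'] B →+ Γ((Scheme.Modules.pullback F).obj M, F ⁻¹ᵁ D) := fun k i hi =>
    TensorProduct.liftAddHom (L₀ k i hi) fun r' r b => by
      show c (r' • r) • Q _ = c r • Q _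
      have h2 : tw hg k i hi (hproj i (r' • b)) = cst hg r' • tw hg k i hi (hproj i b) := by
        rw [cst_smul_tw hg r' k i hi (hproj i b) (Submodule.smul_mem _ r' (hproj i b))]
        exact tw_congr hg (map_smul _ r' b)
      rw [h2]
      simp only [Q, Amp73.pullS_smul, F, D, app_cst φ hφA hφ hg, smul_smul]
      rw [Algebra.smul_def, mul_comm (algebraMap R' R r') r]
      exact congrArg (· • _) (cst_mul _ _ _)
  have hαL : ∀ k i hi t, (adjunct (n := n) φ hφ).app (F ⁻¹ᵁ D) (L k i hi t) =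
      tw (φ.map_mem hg) k i hi (hprojA i (e t)) := by
    intro k i hi t
    induction t using TensorProduct.induction_on with
    | zero =>
      rw [map_zero, map_zero]
      exact ((tw_congr _ (by rw [map_zero, map_zero])).trans (tw_zero (φ.map_mem hg) k i hi)).symm
    | add x y hx hy =>
      rw [map_add, map_add, hx, hy]
      exact (tw_add (φ.map_mem hg) k i hi (hprojA i (e x)) (hprojA i (e y))).symm.trans
        (tw_congr _ (by rw [map_add, map_add]))
    | tmul r b =>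
      show (adjunct (n := n) φ hφ).app (F ⁻¹ᵁ D) (c r • Q _) = _
      rw [Scheme.Modules.Hom.app_smul]
      erw [adjunct_pullS, comap_tw]
      erw [cst_smul_tw (φ.map_mem hg) r k i hi (φ.map_mem (hproj i b))
        (Submodule.smul_mem _ r (φ.map_mem (hproj i b)))]
      exact tw_congr _ (by rw [he, map_smul]; exact congrArg (r • ·) (hprojφ i b))
  have hshift : ∀ (k N i : ℕ) (hi : (i : ℤ) = (k * d : ℕ) + n)
      (hi' : ((N * d + i : ℕ) : ℤ) = ((N + k) * d : ℕ) + n) (t : R ⊗[R'] B),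
      L (N + k) (N * d + i) hi' (((LinearMap.mulLeft R' (g ^ N)).comp (GradedAlgebra.proj ℬ i)).lTensor R t) =
        L k i hi t := by
    intro k N i hi hi' t
    induction t using TensorProduct.induction_on with
    | zero => simp only [map_zero]
    | add x y hx hy => simp only [map_add, hx, hy]
    | tmul r b =>
      have hm : g ^ N * GradedAlgebra.proj ℬ i b ∈ ℬ (N * d + i) :=
        SetLike.mul_mem_graded (pow_mem hg N) (hproj i b)
      show c r • Q (tw hg _ _ hi' (hproj (N * d + i) (g ^ N * GradedAlgebra.proj ℬ i b))) = c r • Q _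
      refine congrArg (fun q => c r • Q q) ((tw_congr hg ?_).trans (tw_shift hg k N i hi (hproj i b) hi' hm))
      rw [GradedAlgebra.proj_apply, DirectSum.decompose_of_mem_same ℬ hm]
  -- everything comes from some `L k i`
  let S : AddSubgroup Γ((Scheme.Modules.pullback F).obj M, F ⁻¹ᵁ D) := AddSubgroup.closure {p | ∃ (r : R) (m : Γ(M, D)), p = c r • Q m}
  have hS : ∀ p : Γ((Scheme.Modules.pullback F).obj M, F ⁻¹ᵁ D), p ∈ S := by
    have hmul : ∀ (x : Γ(Proj 𝒜, F ⁻¹ᵁ D)) (p : Γ((Scheme.Modules.pullback F).obj M, F ⁻¹ᵁ D)), p ∈ S → x • p ∈ S := by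
      intro x p hp
      induction hp using AddSubgroup.closure_induction with
      | zero => rw [smul_zero]; exact zero_mem _
      | add a b _ _ ha hb => rw [smul_add]; exact add_mem ha hb
      | neg a _ ha => rw [smul_neg]; exact neg_mem ha
      | mem p hp =>
        obtain ⟨r₀, m, rfl⟩ := hp
        obtain ⟨l, a, ha, rfl⟩ := exists_fn_eq (φ.map_mem hg) hd x
        have key : ∀ t : R ⊗[R'] B, fnV l (hprojA (l * d) (e t)) • c r₀ • Q m ∈ S := by
          intro t
          induction t using TensorProduct.induction_on with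
          | zero =>
            have h0 : fn (φ.map_mem hg) l (hprojA (l * d) (e 0)) = 0 := sec_ext fun x => by
              rw [fn_val]
              simp only [map_zero, Localization.mk_zero]
              exact HomogeneousLocalization.val_zero.symm
            rw [show fnV l (hprojA (l * d) (e 0)) = 0 from h0, zero_smul]
            exact zero_mem _
          | add t₁ t₂ h₁ h₂ =>
            have h0 : fn (φ.map_mem hg) l (hprojA (l * d) (e (t₁ + t₂))) =
                fn (φ.map_mem hg) l (hprojA (l * d) (e t₁)) + fn (φ.map_mem hg) l (hprojA (l * d) (e t₂)) :=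
              sec_ext fun x => by
                rw [fn_val]
                simp only [map_add]
                refine ((Localization.add_mk_self _ _ _).symm.trans ?_)
                refine Eq.trans ?_ (HomogeneousLocalization.val_add _ _).symm
                rw [fn_val, fn_val]
            rw [show fnV l (hprojA (l * d) (e (t₁ + t₂))) = fnV l (hprojA (l * d) (e t₁)) + fnV l (hprojA (l * d) (e t₂)) from h0,
              add_smul_sec]
            exact add_mem h₁ h₂
          | tmul r b =>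
            have h0 : fn (φ.map_mem hg) l (hprojA (l * d) (e (r ⊗ₜ b))) =
                c r * F.app D (fn hg l (hproj (l * d) b)) := sec_ext fun x => by
              erw [app_fn]
              refine Eq.trans ?_ (HomogeneousLocalization.val_mul _ _).symm
              erw [fn_val, cst_val, fn_val]
              rw [← Localization.mk_one_eq_algebraMap, Localization.mk_mul, one_mul, he, map_smul,
                Algebra.smul_def]
              erw [hprojφ]
            rw [show fnV l (hprojA (l * d) (e (r ⊗ₜ b))) = _ from h0, smul_smul, mul_comm (c r) (F.app D _), mul_assoc, mul_comm, mul_smul,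
              ← Amp73.pullS_smul]
            exact AddSubgroup.subset_closure ⟨r * r₀, fn hg l (hproj (l * d) b) • m,
              congrArg (· • _) (cst_mul (φ.map_mem hg) r r₀).symm⟩
        obtain ⟨t, ht⟩ := e.surjective a
        have : fn (φ.map_mem hg) l ha = fn (φ.map_mem hg) l (hprojA (l * d) (e t)) := by
          refine sec_ext fun x => ?_
          rw [fn_val, fn_val, ht, GradedAlgebra.proj_apply, DirectSum.decompose_of_mem_same 𝒜 ha]
        rw [this]
        exact key t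
    haveI : M.IsQuasicoherent := GrT.isQCoh_twist ℬ n
    intro p
    have hpre : F ⁻¹ᵁ D = Proj.basicOpen 𝒜 (φ g) := rfl
    have hV : IsAffineOpen (F ⁻¹ᵁ D) := hpre ▸ Proj.isAffineOpen_basicOpen 𝒜 _ (φ.map_mem hg) hd
    have hspan := SchBasics.span_pullSect F M hV (Proj.isAffineOpen_basicOpen ℬ g hg hd) le_rfl
    have hp : p ∈ Submodule.span Γ(Proj 𝒜, F ⁻¹ᵁ D) (Set.range fun m : Γ(M, D) =>
        res ((Scheme.Modules.pullback F).obj M) le_rfl (OmegaSh.pullSect F M D m)) := hspan.ge trivial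
    induction hp using Submodule.span_induction with
    | zero => exact zero_mem _
    | add a b _ _ ha hb => exact add_mem ha hb
    | smul x a _ ha => exact hmul x a ha
    | mem a ha =>
      obtain ⟨m, rfl⟩ := ha
      refine AddSubgroup.subset_closure ⟨1, m, ?_⟩
      have h1 : c 1 = 1 := sec_ext fun x => by
        show ((cst (φ.map_mem hg) (1 : R)).1 x).val = _
        rw [cst_val, map_one, map_one]
        exact HomogeneousLocalization.val_one.symm
      rw [h1, one_smul]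
      exact Amp73.res_self _ _
  have hlift : ∀ p : Γ((Scheme.Modules.pullback F).obj M, F ⁻¹ᵁ D), ∃ k₀, ∀ k, k₀ ≤ k → ∃ i hi t, p = L k i hi t := by
    intro p
    induction hS p using AddSubgroup.closure_induction with
    | mem p hp =>
      obtain ⟨r, m, rfl⟩ := hp
      obtain ⟨k₀, i, hi, b, hb, rfl⟩ := exists_tw_eq hg hd m
      refine ⟨k₀, fun k hk => ?_⟩
      obtain ⟨N, rfl⟩ : ∃ N, k = N + k₀ := ⟨k - k₀, by omega⟩
      have hi' : ((N * d + i : ℕ) : ℤ) = ((N + k₀) * d : ℕ) + n := by push_cast at hi ⊢; rw [hi]; ring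
      refine ⟨N * d + i, hi', r ⊗ₜ (g ^ N * b), ?_⟩
      have hm : g ^ N * b ∈ ℬ (N * d + i) := SetLike.mul_mem_graded (pow_mem hg N) hb
      show _ = c r • Q _
      refine congrArg (fun q => c r • Q q) ((tw_shift hg k₀ N i hi hb hi' hm).symm.trans (tw_congr hg ?_))
      rw [GradedAlgebra.proj_apply, DirectSum.decompose_of_mem_same ℬ hm]
    | zero =>
      refine ⟨n.natAbs, fun k hk => ⟨(((k * d : ℕ) : ℤ) + n).toNat, ?_, 0, (map_zero _).symm⟩⟩
      have : k ≤ k * d := Nat.le_mul_of_pos_right k hd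
      omega
    | add a b _ _ ha hb =>
      obtain ⟨k₁, h₁⟩ := ha
      obtain ⟨k₂, h₂⟩ := hb
      refine ⟨max k₁ k₂, fun k hk => ?_⟩
      obtain ⟨i, hi, t, rfl⟩ := h₁ k (le_trans (le_max_left _ _) hk)
      obtain ⟨i', hi', t', rfl⟩ := h₂ k (le_trans (le_max_right _ _) hk)
      obtain rfl : i' = i := by omega
      exact ⟨i', hi, t + t', (map_add _ _ _).symm⟩
    | neg a _ ha =>
      obtain ⟨k₁, h₁⟩ := ha
      refine ⟨k₁, fun k hk => ?_⟩
      obtain ⟨i, hi, t, rfl⟩ := h₁ k hk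
      exact ⟨i, hi, -t, (map_neg _ _).symm⟩
  constructor
  · refine (injective_iff_map_eq_zero ((adjunct (n := n) φ hφ).app (F ⁻¹ᵁ D)).hom).mpr fun p hp => ?_
    obtain ⟨k₀, hk⟩ := hlift p
    obtain ⟨i, hi, t, rfl⟩ := hk k₀ le_rfl
    have h0 : tw (φ.map_mem hg) k₀ i hi (hprojA i (e t)) = 0 := (hαL k₀ i hi t).symm.trans hp
    obtain ⟨N, hN⟩ := exists_pow_mul_eq_zero (φ.map_mem hg) hd h0
    have hi' : ((N * d + i : ℕ) : ℤ) = ((N + k₀) * d : ℕ) + n := by push_cast at hi ⊢; rw [hi]; ring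
    rw [← hshift k₀ N i hi hi' t]
    have h1 : ∀ s : R ⊗[R'] B,
        e (((LinearMap.mulLeft R' (g ^ N)).comp (GradedAlgebra.proj ℬ i)).lTensor R s) =
          φ g ^ N * GradedAlgebra.proj 𝒜 i (e s) := by
      intro s
      induction s using TensorProduct.induction_on with
      | zero => simp only [map_zero, mul_zero]
      | add x y hx hy => simp only [map_add, hx, hy, mul_add]
      | tmul r b =>
        show e (r ⊗ₜ (g ^ N * GradedAlgebra.proj ℬ i b)) = _
        rw [he, he, map_smul, map_mul, map_pow, hprojφ, mul_smul_comm]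
    rw [e.injective (((h1 t).trans hN).trans (map_zero e).symm), map_zero]
  · intro s
    obtain ⟨k, i, hi, a, ha, rfl⟩ := exists_tw_eq (φ.map_mem hg) hd s
    obtain ⟨t, rfl⟩ := e.surjective a
    exact ⟨L k i hi t, (hαL k i hi t).trans
      (tw_congr _ (by rw [GradedAlgebra.proj_apply, DirectSum.decompose_of_mem_same 𝒜 ha]))⟩

include hφA in
theorem nonempty_pullback_twist_iso (n : ℤ) :
    Nonempty ((Scheme.Modules.pullback (Proj.map φ hφ)).obj (Twist.twist ℬ n) ≅ Twist.twist 𝒜 n) := by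
  have : IsIso (adjunct (n := n) φ hφ) := by
    have : (GrTwist.twist ℬ n).IsQuasicoherent := GrT.isQCoh_twist ℬ n
    have : (GrTwist.twist 𝒜 n).IsQuasicoherent := GrT.isQCoh_twist 𝒜 n
    have := QCPull72.isQuasicoherent_pullback (Proj.map φ hφ) (GrTwist.twist ℬ n)
    refine EGA73.isIso_of_bijective_cover _
      (fun i : Σ e : {e : ℕ // 0 < e}, ℬ e.1 => Proj.map φ hφ ⁻¹ᵁ Proj.basicOpen ℬ (i.2 : B))
      (fun i => Proj.isAffineOpen_basicOpen 𝒜 _ (φ.map_mem i.2.2) i.1.2) (fun x => ?_)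
      fun i => bijective_adjunct_app φ hφA hφ i.2.2 i.1.2
    obtain ⟨e, b, he, hb, hbx⟩ := GrT.exists_pos_notMem ℬ (ProjectiveSpectrum.comap φ hφ x)
    exact ⟨⟨⟨e, he⟩, ⟨b, hb⟩⟩, hbx⟩
  exact ⟨(asIso (adjunct (n := n) φ hφ) :
    (Scheme.Modules.pullback (Proj.map φ hφ)).obj (GrTwist.twist ℬ n) ≅ GrTwist.twist 𝒜 n)⟩

end two

end Groth.Agent.EGA73.TwistBaseChange

end
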