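import Groth.Agent.E4O.DvrCrit
import Mathlib.AlgebraicGeometry.ValuativeCriterion
import Mathlib.RingTheory.FiniteType
import Mathlib.FieldTheory.IntermediateField.Adjoin.Algebra

/-!
Valuation rings and discrete valuation rings through a specialization.
-/

universe u

open CategoryTheory AlgebraicGeometry Limits IsLocalRing

namespace Groth.Agent.EGA73

theorem residueField_fg {X Y : Scheme.{u}} (p : X ⟶ Y) [LocallyOfFiniteType p] (x : X) :
    letI := (p.residueFieldMap x).hom.toAlgebra
    (⊤ : IntermediateField (Y.residueField (p x)) (X.residueField x)).FG := by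
  let := (p.residueFieldMap x).hom.toAlgebra
  have h1 : (p.stalkMap x).hom.EssFiniteType := LocallyOfFiniteType.stalkMap p x
  have h2 : (p.residueFieldMap x).hom.EssFiniteType := RingHom.EssFiniteType.residueFieldMap h1
  exact IntermediateField.fg_top_iff.mpr h2

/-- A point of `Spec` of a valuation ring other than `⊤` of the field: the closed one is not generic. -/
theorem exists_valuationRing_hom {X Y : Scheme.{u}} (p : X ⟶ Y) (x : X) (y' : Y)
    (hsp : p x ⤳ y') (hne : y' ≠ p x) :
    ∃ (A : ValuationSubring (X.residueField x)) (h : Spec (CommRingCat.of A) ⟶ Y), A ≠ ⊤ ∧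
      h (IsLocalRing.closedPoint A) = y' ∧
      Spec.map (CommRingCat.ofHom A.subtype) ≫ h = X.fromSpecResidueField x ≫ p := by
  let σ : Y.presheaf.stalk y' ⟶ X.residueField x :=
    Y.presheaf.stalkSpecializes hsp ≫ p.stalkMap x ≫ X.residue x
  obtain ⟨A, hA, hloc⟩ := exists_factor_valuationRing σ.hom
  let τ : Y.presheaf.stalk y' →+* A := σ.hom.codRestrict _ hA
  have : IsLocalHom τ := hloc
  let h : Spec (CommRingCat.of A) ⟶ Y := Spec.map (CommRingCat.ofHom τ) ≫ Y.fromSpecStalk y'
  have w : Spec.map (CommRingCat.ofHom A.subtype) ≫ h = X.fromSpecResidueField x ≫ p := by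
    rw [Scheme.fromSpecResidueField, Category.assoc, ← Scheme.SpecMap_stalkMap_fromSpecStalk,
      ← Scheme.SpecMap_stalkSpecializes_fromSpecStalk hsp]
    simp_rw [← Spec.map_comp_assoc, h, ← Spec.map_comp_assoc]
    rfl
  have hcl : h (closedPoint A) = y' := by
    simp only [h, Scheme.Hom.comp_apply]
    rw [show Spec.map (CommRingCat.ofHom τ) (closedPoint A) = closedPoint (Y.presheaf.stalk y') from
      comap_closedPoint τ, Y.fromSpecStalk_closedPoint]
  refine ⟨A, h, fun htop => hne ?_, hcl, w⟩
  let c : Spec (CommRingCat.of (X.residueField x)) := closedPoint (X.residueField x)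
  have hsurj : Function.Surjective A.subtype := fun z => ⟨⟨z, htop ▸ trivial⟩, rfl⟩
  have : IsLocalHom A.subtype := IsLocalHom.of_surjective _ hsurj
  rw [← hcl, ← show Spec.map (CommRingCat.ofHom A.subtype) c = closedPoint A from
    comap_closedPoint A.subtype, ← Scheme.Hom.comp_apply, w, Scheme.Hom.comp_apply]
  exact congrArg _ (Scheme.fromSpecResidueField_apply _ _)

theorem exists_dvr_hom {X Y : Scheme.{u}} [IsLocallyNoetherian Y] (p : X ⟶ Y) [LocallyOfFiniteType p]
    (x : X) (y' : Y) (hsp : p x ⤳ y') (hne : y' ≠ p x) :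
    ∃ (A : ValuationSubring (X.residueField x)) (h : Spec (CommRingCat.of A) ⟶ Y),
      IsDiscreteValuationRing A ∧ h (IsLocalRing.closedPoint A) = y' ∧
      Spec.map (CommRingCat.ofHom A.subtype) ≫ h = X.fromSpecResidueField x ≫ p := by
  let := (p.residueFieldMap x).hom.toAlgebra
  obtain ⟨V, hV, g, hg, -, hw⟩ := E4O.exists_dvr_hom hsp hne.symm (X.residueField x) (residueField_fg p x)
  exact ⟨V, g, hV, hg, hw.trans (Scheme.Hom.SpecMap_residueFieldMap_fromSpecResidueField p x)⟩

/-- The integral closure in a finitely generated extension is the intersection of discrete valuation rings. -/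
theorem isIntegral_iff_forall_dvr {A : Type u} [CommRing A] [IsNoetherianRing A] {K : Type u}
    [Field K] [Algebra A K] {L : Type u} [Field L] [Algebra K L] [Algebra A L] [IsScalarTower A K L]
    (hK : IsFractionRing A K) (hfg : (⊤ : IntermediateField K L).FG) (x : L) :
    IsIntegral A x ↔ ∀ R : ValuationSubring L, IsDiscreteValuationRing R → (∀ a : A, algebraMap A L a ∈ R) → x ∈ R := by
  classical
  constructor
  · intro hx R _ hR
    obtain ⟨q, hq, hq0⟩ := hx
    have hcl : IsIntegrallyClosedIn R.toSubring L := inferInstanceAs (IsIntegrallyClosedIn R L)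
    refine (Subring.isIntegrallyClosedIn_iff).mp hcl
      ⟨q.map ((algebraMap A L).codRestrict R.toSubring hR), hq.map _, ?_⟩
    rw [Polynomial.eval₂_map]
    exact hq0
  · intro h
    by_contra hx
    have hx0 : x ≠ 0 := fun h0 => hx (h0 ▸ isIntegral_zero)
    let _ : Invertible x := invertibleOfNonzero hx0
    let B := Algebra.adjoin A ({x⁻¹} : Set L)
    let y : B.toSubring := ⟨x⁻¹, Algebra.subset_adjoin rfl⟩
    have hy : ¬ IsUnit y := by
      intro hu
      obtain ⟨z, hz⟩ := hu.exists_right_inv
      have hzx : (z : L) = x := by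
        have := congrArg Subtype.val hz
        simp only [MulMemClass.coe_mul, OneMemClass.coe_one, y] at this
        calc (z : L) = x * (x⁻¹ * z) := by field_simp
          _ = x := by rw [this, mul_one]
      have hmem : (z : L) ∈ Algebra.adjoin A ({x⁻¹} : Set L) := z.2
      rw [hzx] at hmem
      rw [Algebra.adjoin_singleton_eq_range_aeval] at hmem
      obtain ⟨p, hp⟩ := hmem
      change Polynomial.aeval x⁻¹ p = x at hp
      -- clear denominators
      refine hx ⟨Polynomial.X ^ (p.natDegree + 1) - p.reflect p.natDegree, ?_, ?_⟩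
      · refine Polynomial.monic_X_pow_sub ?_
        refine (Polynomial.degree_le_natDegree).trans_lt (WithBot.coe_lt_coe.mpr ?_)
        exact Nat.lt_succ_of_le ((Polynomial.natDegree_reflect_le (p := p) (N := p.natDegree)).trans (by simp))
      · have h1 : Polynomial.eval₂ (algebraMap A L) x (p.reflect p.natDegree) = x ^ (p.natDegree + 1) := by
          have := Polynomial.eval₂_reflect_mul_pow (algebraMap A L) x⁻¹ p.natDegree p le_rfl
          rw [invOf_eq_inv, inv_inv, ← Polynomial.aeval_def, ← Polynomial.aeval_def, hp] at this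
          rw [← Polynomial.aeval_def, pow_succ']
          calc Polynomial.aeval x (p.reflect p.natDegree)
              = Polynomial.aeval x (p.reflect p.natDegree) * x⁻¹ ^ p.natDegree * x ^ p.natDegree := by
                rw [inv_pow, mul_assoc, inv_mul_cancel₀ (pow_ne_zero _ hx0), mul_one]
            _ = x * x ^ p.natDegree := by rw [this]
        rw [Polynomial.eval₂_sub, Polynomial.eval₂_X_pow, h1, sub_self]
    obtain ⟨m, hm, hym⟩ := exists_max_ideal_of_mem_nonunits hy
    have : Algebra.FiniteType A B := .adjoin_of_finite (Set.finite_singleton _)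
    have : IsNoetherianRing B := Algebra.FiniteType.isNoetherianRing A B
    let D := LocalSubring.ofPrime B.toSubring m
    have : IsNoetherianRing D.toSubring :=
      IsLocalization.isNoetherianRing m.primeCompl D.toSubring (inferInstanceAs (IsNoetherianRing B.toSubring))
    have hyD : x⁻¹ ∈ D.toSubring := LocalSubring.le_ofPrime _ _ y.2
    have hymax : (⟨x⁻¹, hyD⟩ : D.toSubring) ∈ maximalIdeal D.toSubring := by
      have := (IsLocalization.AtPrime.to_map_mem_maximal_iff D.toSubring m y).mpr hym
      exact this
    let F := Subfield.closure (D.toSubring : Set L)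
    let _ : Algebra D.toSubring F :=
      (D.toSubring.subtype.codRestrict F fun z => Subfield.subset_closure z.2).toAlgebra
    have : IsScalarTower D.toSubring F L := IsScalarTower.of_algebraMap_eq fun _ => rfl
    have hDF : IsFractionRing D.toSubring F := by
      have : FaithfulSMul D.toSubring F := (faithfulSMul_iff_algebraMap_injective _ _).2
        fun a b h => Subtype.ext (congrArg (fun t : F => (t : L)) h)
      refine IsFractionRing.of_field D.toSubring F fun z => ?_
      obtain ⟨a, ha, b, hb, hab⟩ := Subfield.mem_closure_iff.mp z.2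
      rw [Subring.closure_eq] at ha hb
      exact ⟨⟨a, ha⟩, ⟨b, hb⟩, Subtype.ext hab.symm⟩
    have hfgF : (⊤ : IntermediateField F L).FG := by
      have hKF : ∀ k : K, algebraMap K L k ∈ F := by
        intro k
        obtain ⟨a, b, -, rfl⟩ := IsFractionRing.div_surjective (A := A) k
        rw [map_div₀, ← IsScalarTower.algebraMap_apply, ← IsScalarTower.algebraMap_apply]
        exact F.div_mem (Subfield.subset_closure (LocalSubring.le_ofPrime _ _ (B.algebraMap_mem a)))
          (Subfield.subset_closure (LocalSubring.le_ofPrime _ _ (B.algebraMap_mem b)))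
      let _ : Algebra K F := ((algebraMap K L).codRestrict F hKF).toAlgebra
      have : IsScalarTower K F L := IsScalarTower.of_algebraMap_eq fun _ => rfl
      have : Algebra.EssFiniteType K L := IntermediateField.fg_top_iff.mp hfg
      exact IntermediateField.fg_top_iff.mpr (Algebra.EssFiniteType.of_comp K F L)
    have hnf : ¬ IsField D.toSubring := fun hf => by
      rw [IsLocalRing.isField_iff_maximalIdeal_eq] at hf
      rw [hf, Ideal.mem_bot] at hymax
      exact inv_ne_zero hx0 (congrArg Subtype.val hymax)
    obtain ⟨V, hV, hVD, hVm⟩ := E4O.exists_dvr_dominating hnf F L hfgF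
    have hxV := h V hV fun a => hVD ⟨_, LocalSubring.le_ofPrime _ _ (B.algebraMap_mem a)⟩
    have h2 : V.valuation x⁻¹ < 1 := hVm ⟨x⁻¹, hyD⟩ hymax
    have h1 : V.valuation x ≤ 1 := (V.valuation_le_one_iff x).2 hxV
    rw [map_inv₀] at h2
    exact absurd h1 (not_le.2 ((inv_lt_one_iff₀.mp h2).resolve_left (not_le.2 (zero_lt_iff.2 (V.valuation.ne_zero_iff.2 hx0)))))

end Groth.Agent.EGA73
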