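import Groth.Agent.EGA73.UnivClosedFT
import Groth.Agent.EGA73.DvrPoints
import Mathlib.AlgebraicGeometry.Morphisms.Proper

/-!
Criteria of properness.
-/

universe u

open CategoryTheory AlgebraicGeometry Limits

namespace Groth.Agent.EGA73

theorem universallyClosed_of_dvr {X Y : Scheme.{u}} [IsLocallyNoetherian Y] (f : X ⟶ Y)
    [LocallyOfFiniteType f] [QuasiCompact f]
    (h : ∀ (A : Type u) [CommRing A] [IsDomain A] [IsDiscreteValuationRing A]
      (x : (Spec (CommRingCat.of (FractionRing A))) ⟶ X) (y : (Spec (CommRingCat.of A)) ⟶ Y),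
      x ≫ f = (Spec.map (CommRingCat.ofHom (algebraMap A (FractionRing A)))) ≫ y →
        ∃ l : (Spec (CommRingCat.of A)) ⟶ X, l ≫ f = y ∧
          (Spec.map (CommRingCat.ofHom (algebraMap A (FractionRing A)))) ≫ l = x) :
    UniversallyClosed f := by
  refine universallyClosed_of_forall_finiteType f fun U hU A' _ _ _ => ?_
  have : IsNoetherianRing Γ(Y, U) := IsLocallyNoetherian.component_noetherian ⟨U, hU⟩
  have : IsNoetherianRing A' := Algebra.FiniteType.isNoetherianRing Γ(Y, U) A'
  let w := Spec.map (CommRingCat.ofHom (algebraMap Γ(Y, U) A')) ≫ hU.fromSpec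
  rw [isClosedMap_iff_specializingMap]
  intro z w' hw'
  by_cases he : w' = pullback.snd f w z
  · exact ⟨z, specializes_rfl, he.symm⟩
  obtain ⟨A, g, hA, hcl, hg⟩ := exists_dvr_hom (pullback.snd f w) z w' hw' he
  let e := IsLocalization.algEquiv (nonZeroDivisors A) (FractionRing A) ((pullback f w).residueField z)
  let k := Spec.map (CommRingCat.ofHom e.symm.toRingEquiv.toRingHom) ≫ (pullback f w).fromSpecResidueField z
  have he' : Spec.map (CommRingCat.ofHom (algebraMap A (FractionRing A))) =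
      Spec.map (CommRingCat.ofHom e.symm.toRingEquiv.toRingHom) ≫ Spec.map (CommRingCat.ofHom A.subtype) := by
    rw [← Spec.map_comp, ← CommRingCat.ofHom_comp]
    exact congrArg (fun k => Spec.map (CommRingCat.ofHom k)) (RingHom.ext fun a => (e.symm.commutes a).symm)
  have hk : k ≫ pullback.snd f w = Spec.map (CommRingCat.ofHom (algebraMap A (FractionRing A))) ≫ g := by
    rw [he', Category.assoc, Category.assoc, hg]
  obtain ⟨l, hl1, hl2⟩ := h A (k ≫ pullback.fst f w) (g ≫ w)
    (by rw [Category.assoc, pullback.condition, ← Category.assoc, hk, Category.assoc])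
  let L := pullback.lift l g hl1
  have hL : Spec.map (CommRingCat.ofHom (algebraMap A (FractionRing A))) ≫ L = k := by
    apply pullback.hom_ext
    · rw [Category.assoc, pullback.lift_fst, hl2]
    · rw [Category.assoc, pullback.lift_snd, hk]
  let c : Spec (CommRingCat.of (FractionRing A)) := IsLocalRing.closedPoint (FractionRing A)
  refine ⟨L (IsLocalRing.closedPoint A), ?_, ?_⟩
  · have h1 : L (Spec.map (CommRingCat.ofHom (algebraMap A (FractionRing A))) c) = z := by
      rw [← Scheme.Hom.comp_apply, hL, Scheme.Hom.comp_apply, Scheme.fromSpecResidueField_apply]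
    show z ⤳ _
    have h2 := (IsLocalRing.specializes_closedPoint (R := A)
      (Spec.map (CommRingCat.ofHom (algebraMap A (FractionRing A))) c)).map L.continuous
    exact (specializes_of_eq h1.symm).trans h2
  · rw [← Scheme.Hom.comp_apply, pullback.lift_snd]
    exact hcl

/-- Closedness over all affine spaces gives universal closedness. -/
theorem universallyClosed_of_affineSpace {X S : Scheme.{u}} (f : X ⟶ S) [QuasiCompact f]
    (h : ∀ n : ℕ, IsClosedMap (pullback.snd f (𝔸(ULift.{u} (Fin n); S) ↘ S))) : UniversallyClosed f := by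
  refine universallyClosed_of_forall_finiteType f fun U hU A' _ _ _ => ?_
  obtain ⟨n, φ, hφ⟩ := Algebra.FiniteType.iff_quotient_mvPolynomial''.mp
    (inferInstance : Algebra.FiniteType Γ(S, U) A')
  let N := ULift.{u} (Fin n)
  let ψ : MvPolynomial N Γ(S, U) →ₐ[Γ(S, U)] A' :=
    φ.comp (MvPolynomial.renameEquiv Γ(S, U) Equiv.ulift).toAlgHom
  have hψ : Function.Surjective ψ := hφ.comp (MvPolynomial.renameEquiv Γ(S, U) Equiv.ulift).surjective
  let i₁ := Spec.map (CommRingCat.ofHom ψ.toRingHom)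
  have : IsClosedImmersion i₁ := IsClosedImmersion.spec_of_surjective _ hψ
  have : IsOpenImmersion (AffineSpace.map N hU.fromSpec) :=
    MorphismProperty.of_isPullback (AffineSpace.isPullback_map hU.fromSpec).flip inferInstance
  let d : Spec (CommRingCat.of A') ⟶ 𝔸(N; S) :=
    (i₁ ≫ (AffineSpace.SpecIso N Γ(S, U)).inv) ≫ AffineSpace.map N hU.fromSpec
  have hd : d ≫ 𝔸(N; S) ↘ S = Spec.map (CommRingCat.ofHom (algebraMap Γ(S, U) A')) ≫ hU.fromSpec := by
    simp only [d, i₁, Category.assoc, AffineSpace.map_over, AffineSpace.SpecIso_inv_over_assoc,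
      ← Spec.map_comp_assoc, ← CommRingCat.ofHom_comp]
    congr 3
    exact ψ.comp_algebraMap
  rw [← hd]
  let m := pullback.map f (d ≫ 𝔸(N; S) ↘ S) f (𝔸(N; S) ↘ S) (𝟙 X) d (𝟙 S) (by simp) (by simp)
  have hm1 : m ≫ pullback.fst f (𝔸(N; S) ↘ S) = pullback.fst f (d ≫ 𝔸(N; S) ↘ S) :=
    (pullback.lift_fst _ _ _).trans (Category.comp_id _)
  have hm2 : m ≫ pullback.snd f (𝔸(N; S) ↘ S) = pullback.snd f (d ≫ 𝔸(N; S) ↘ S) ≫ d := pullback.lift_snd _ _ _
  exact isClosedMap_of_isPullback (a := m)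
    (IsPullback.of_right (hm1 ▸ IsPullback.of_hasPullback f (d ≫ 𝔸(N; S) ↘ S))
      hm2 (IsPullback.of_hasPullback f (𝔸(N; S) ↘ S)))
    (h n)

/-- Properness on a finite closed cover. -/
theorem universallyClosed_of_closed_cover {X Y : Scheme.{u}} (f : X ⟶ Y) {ι : Type u} [Finite ι]
    (Xi : ι → Scheme.{u}) (j : ∀ i, Xi i ⟶ X) (hc : ∀ i, UniversallyClosed (j i ≫ f))
    (hcov : ∀ x : X, ∃ i, x ∈ Set.range (j i)) : UniversallyClosed f := by
  rw [universallyClosed_eq]
  intro X' W a w b sq Z hZ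
  let a' : X' ⟶ X := a
  have hZu : b '' Z = ⋃ i, (pullback.fst a' (j i) ≫ b) '' (pullback.fst a' (j i) ⁻¹' Z) := by
    ext p
    constructor
    · rintro ⟨z, hz, rfl⟩
      obtain ⟨i, t, ht⟩ := hcov (a' z)
      obtain ⟨q, hq1, hq2⟩ := Scheme.Pullback.exists_preimage_pullback (f := a') (g := j i) z t ht.symm
      exact Set.mem_iUnion.mpr ⟨i, q, (show pullback.fst a' (j i) q ∈ Z from hq1 ▸ hz), by
        rw [Scheme.Hom.comp_apply, hq1]⟩
    · intro hp
      obtain ⟨i, q, hq, rfl⟩ := Set.mem_iUnion.mp hp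
      exact ⟨_, hq, (Scheme.Hom.comp_apply _ _ _).symm⟩
  rw [hZu]
  refine isClosed_iUnion_of_finite fun i => ?_
  exact (hc i).universally_isClosedMap _ _ _
    ((IsPullback.of_hasPullback a' (j i)).paste_horiz sq) _
    (hZ.preimage (pullback.fst a' (j i)).continuous)

/-- Closedness of all maps induced on base changes over `S` gives universal closedness. -/
theorem universallyClosed_of_baseChange_over {X Y S : Scheme.{u}} (q : Y ⟶ S) (f : X ⟶ Y) [IsSeparated q]
    (h : ∀ (S' : Scheme.{u}) (g : S' ⟶ S),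
      IsClosedMap (pullback.map (f ≫ q) g q g f (𝟙 S') (𝟙 S) (Category.comp_id (f ≫ q))
        ((Category.comp_id g).trans (Category.id_comp g).symm))) : UniversallyClosed f := by
  rw [universallyClosed_eq]
  intro X' W a w b sq
  let F := pullback.map (f ≫ q) (w ≫ q) q (w ≫ q) f (𝟙 W) (𝟙 S) (Category.comp_id (f ≫ q))
    ((Category.comp_id (w ≫ q)).trans (Category.id_comp _).symm)
  let Γ' : W ⟶ pullback q (w ≫ q) := pullback.lift w (𝟙 W) (by rw [Category.id_comp])
  have : IsClosedImmersion (Γ' ≫ pullback.snd q (w ≫ q)) := by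
    rw [pullback.lift_snd]; infer_instance
  have : IsClosedImmersion Γ' := IsClosedImmersion.of_comp Γ' (pullback.snd q (w ≫ q))
  let a' : X' ⟶ pullback (f ≫ q) (w ≫ q) :=
    pullback.lift a b (by rw [← Category.assoc, ← Category.assoc, sq.w])
  refine isClosedMap_of_isPullback (a := a') (d := Γ') (c := F) ?_ (h W (w ≫ q))
  have hF1 : F ≫ pullback.fst q (w ≫ q) = pullback.fst (f ≫ q) (w ≫ q) ≫ f := pullback.lift_fst _ _ _
  have hF2 : F ≫ pullback.snd q (w ≫ q) = pullback.snd (f ≫ q) (w ≫ q) :=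
    (pullback.lift_snd _ _ _).trans (Category.comp_id _)
  have ha1 : a' ≫ pullback.fst (f ≫ q) (w ≫ q) = a := pullback.lift_fst _ _ _
  have ha2 : a' ≫ pullback.snd (f ≫ q) (w ≫ q) = b := pullback.lift_snd _ _ _
  have hG1 : Γ' ≫ pullback.fst q (w ≫ q) = w := pullback.lift_fst _ _ _
  have hG2 : Γ' ≫ pullback.snd q (w ≫ q) = 𝟙 W := pullback.lift_snd _ _ _
  have hF : IsPullback (pullback.fst (f ≫ q) (w ≫ q)) F f (pullback.fst q (w ≫ q)) := by
    refine IsPullback.of_bot ?_ hF1.symm (IsPullback.of_hasPullback q (w ≫ q))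
    rw [hF2]
    exact IsPullback.of_hasPullback (f ≫ q) (w ≫ q)
  refine IsPullback.of_right ?_ ?_ hF
  · rw [ha1, hG1]
    exact sq.flip
  · apply pullback.hom_ext
    · rw [Category.assoc, hF1, ← Category.assoc, ha1, Category.assoc, hG1, sq.w]
    · rw [Category.assoc, hF2, ha2, Category.assoc, hG2, Category.comp_id]

end Groth.Agent.EGA73
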