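import Groth.Agent.EGA73.ProjUnivExt
import Groth.Agent.EGA73.PolySym
import Groth.Agent.Props58.LocFree.Affine
import Groth.Agent.Mero90.Triv
import Groth.Agent.QC70.Hom
import Groth.Agent.QC70.StalkLoc
import Groth.Agent.S3572

/-!
Generated invertible modules on affine schemes and their global sections.
-/

set_option autoImplicit false
set_option backward.isDefEq.respectTransparency.types false

universe u

open CategoryTheory CategoryTheory.Limits AlgebraicGeometry Opposite TopologicalSpace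

noncomputable section

namespace Groth.Agent.EGA73.AffineSections

open Groth.Agent.Var76.LineBundle Groth.Agent.Var76.ZeroScheme Groth.Agent.Amp73

variable {X : Scheme.{u}} [IsAffine X] {L : X.Modules} {ι : Type*}

/-- Near each point one of the generators is a basis of the global sections up to localisation. -/
theorem exists_basis_near (hL : PicF.IsInvertible L) (t : ι → ProjUP.Γm L) (h : ProjUP.GeneratedBy L t)
    (x : X) :
    ∃ (j : ι) (g : Γ(X, ⊤)), x ∈ X.basicOpen g ∧
      (∀ y : ProjUP.Γm L, ∃ (k : ℕ) (r : Γ(X, ⊤)), g ^ k • y = r • t j) ∧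
      ∀ r : Γ(X, ⊤), r • t j = 0 → ∃ k : ℕ, g ^ k * r = 0 := by
  obtain ⟨j, hj⟩ := ProjUniv.exists_mem_genLocus L hL t h x
  obtain ⟨g, hg, hxg⟩ := (isAffineOpen_top X).exists_basicOpen_le ⟨x, hj⟩ (Set.mem_univ x)
  have hfr : IsFrame L (X.basicOpen g) (res L (X.basicOpen_le g) (t j)) := by
    have h1 := (isFrame_genLocus (Var76.Frames.ofSection L (t j))).res hg
    rw [Var76.Frames.val_ofSection, res_res] at h1
    exact h1
  have := (isAffineOpen_top X).isLocalization_basicOpen g
  have hloc := isLocAt (Mero90.isQCoh_of_isInvertible hL) (isAffineOpen_top X)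
  refine ⟨j, g, hxg, fun y => ?_, fun r hr => ?_⟩
  · obtain ⟨c, hc⟩ := (hfr _ le_rfl).2 (res L (X.basicOpen_le g) y)
    change c • res L le_rfl (res L (X.basicOpen_le g) (t j)) = res L (X.basicOpen_le g) y at hc
    rw [res_self] at hc
    obtain ⟨n, c', hc'⟩ := IsLocalization.Away.surj g c
    change c * fres (X.basicOpen_le g) g ^ n = fres (X.basicOpen_le g) c' at hc'
    have hfp : fres (X.basicOpen_le g) (g ^ n) = fres (X.basicOpen_le g) g ^ n :=
      map_pow (X.presheaf.map (homOfLE (X.basicOpen_le g)).op).hom g n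
    have h0 : res L (X.basicOpen_le g) (g ^ n • y - c' • t j) = 0 := by
      refine (map_sub (L.presheaf.map _).hom _ _).trans (sub_eq_zero.2 ?_)
      show res L _ (g ^ n • y) = res L _ (c' • t j)
      rw [res_smul, res_smul]
      show fres (X.basicOpen_le g) (g ^ n) • _ = fres (X.basicOpen_le g) c' • _
      rw [hfp, ← hc, smul_smul, mul_comm, hc']
    obtain ⟨m, hm⟩ := hloc.eq_zero_of g _ h0
    refine ⟨m + n, g ^ m * c', ?_⟩
    rw [smul_sub, sub_eq_zero] at hm
    rw [pow_add, mul_smul, mul_smul, hm]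
  · have h1 : fres (X.basicOpen_le g) r = 0 := by
      refine (hfr _ le_rfl).1 ?_
      show fres (X.basicOpen_le g) r • res L le_rfl (res L (X.basicOpen_le g) (t j)) =
        (0 : Γ(X, X.basicOpen g)) • res L le_rfl (res L (X.basicOpen_le g) (t j))
      rw [res_self, zero_smul, ← res_smul, hr]
      exact map_zero (L.presheaf.map _).hom
    obtain ⟨⟨a, k, hk⟩, ha⟩ := (IsLocalization.map_eq_zero_iff (Submonoid.powers g) Γ(X, X.basicOpen g) r).1 h1
    exact ⟨k, by subst hk; exact ha⟩

/-- Generating global sections span the global sections. -/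
theorem span_eq_top (hL : PicF.IsInvertible L) (t : ι → ProjUP.Γm L) (h : ProjUP.GeneratedBy L t) :
    Submodule.span Γ(X, ⊤) (Set.range t) = ⊤ := by
  refine top_le_iff.1 fun y _ => ?_
  let I : Ideal Γ(X, ⊤) := (Submodule.span Γ(X, ⊤) (Set.range t)).comap (LinearMap.toSpanSingleton _ _ y)
  suffices hI : I = ⊤ by
    have := (Ideal.eq_top_iff_one I).1 hI
    simpa [I] using this
  by_contra hI
  obtain ⟨m, hm, hIm⟩ := Ideal.exists_le_maximal I hI
  let x : X := (isAffineOpen_top X).fromSpec ⟨m, hm.isPrime⟩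
  obtain ⟨j, g, hxg, hsur, -⟩ := exists_basis_near hL t h x
  obtain ⟨k, r, hkr⟩ := hsur y
  have hgm : g ^ k ∈ m := hIm (show g ^ k • y ∈ Submodule.span Γ(X, ⊤) (Set.range t) from
    hkr ▸ Submodule.smul_mem _ r (Submodule.subset_span ⟨j, rfl⟩))
  have hx : (⟨m, hm.isPrime⟩ : PrimeSpectrum Γ(X, ⊤)) ∈ PrimeSpectrum.basicOpen g := by
    rw [← (isAffineOpen_top X).fromSpec_preimage_basicOpen g]
    exact hxg
  exact hx (hm.isPrime.mem_of_pow_mem k hgm)

/-- Global linear maps extend. -/
theorem exists_hom_of_linear {M : X.Modules} (hL : PicF.IsInvertible L)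
    (l : ProjUP.Γm L →ₗ[Γ(X, ⊤)] ProjUP.Γm M) :
    ∃ φ : L ⟶ M, ∀ y, φ.app ⊤ y = l y := by
  have : L.IsQuasicoherent := Mero90.isQCoh_of_isInvertible hL
  refine ⟨(QC70.HomOn.ofLinear (isAffineOpen_top X) l).toHom, fun y => ?_⟩
  rw [QC70.HomOn.toHom_app, QC70.HomOn.ofLinear_app_self]

/-- Morphisms agreeing on generators are equal. -/
theorem hom_ext (hL : PicF.IsInvertible L) (t : ι → ProjUP.Γm L) (h : ProjUP.GeneratedBy L t)
    {M : X.Modules} (φ ψ : L ⟶ M) (he : ∀ i, φ.app ⊤ (t i) = ψ.app ⊤ (t i)) : φ = ψ := by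
  have : L.IsQuasicoherent := Mero90.isQCoh_of_isInvertible hL
  refine Scheme.Modules.hom_ext φ ψ fun W => ?_
  refine ConcreteCategory.hom_ext _ _ fun s => ?_
  have hl : (QC70.HomOn.ofHom φ ⊤).app ⊤ le_rfl = (QC70.HomOn.ofHom ψ ⊤).app ⊤ le_rfl := by
    refine LinearMap.ext_on_range (span_eq_top hL t h) fun i => ?_
    rw [QC70.HomOn.ofHom_app, QC70.HomOn.ofHom_app]
    exact he i
  have := QC70.HomOn.ext_of_affine (isAffineOpen_top X)
    (QC70.isLocAt_of_isQuasicoherent L (isAffineOpen_top X)) _ _ hl (le_top : W ≤ ⊤) s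
  rwa [QC70.HomOn.ofHom_app, QC70.HomOn.ofHom_app] at this

/-- A generated invertible module is determined by the relations of its generators. -/
theorem exists_iso_of_relations {κ : Type u} [Fintype κ] {L' : X.Modules} (hL : PicF.IsInvertible L)
    (hL' : PicF.IsInvertible L') (t : κ → ProjUP.Γm L) (t' : κ → ProjUP.Γm L')
    (h : ProjUP.GeneratedBy L t) (h' : ProjUP.GeneratedBy L' t')
    (hk : ∀ c : κ → Γ(X, ⊤), (∑ i, c i • t i) = 0 ↔ (∑ i, c i • t' i) = 0) :
    ∃ τ : L ≅ L', ∀ i, τ.hom.app ⊤ (t i) = t' i := by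
  classical
  let F := Fintype.linearCombination Γ(X, ⊤) t
  let F' := Fintype.linearCombination Γ(X, ⊤) t'
  have hker : LinearMap.ker F = LinearMap.ker F' := by
    ext c
    simp [F, F', Fintype.linearCombination_apply, hk]
  have hr : LinearMap.range F = ⊤ := by rw [Fintype.range_linearCombination, span_eq_top hL t h]
  have hr' : LinearMap.range F' = ⊤ := by rw [Fintype.range_linearCombination, span_eq_top hL' t' h']
  let E := (F.quotKerEquivOfSurjective (LinearMap.range_eq_top.1 hr)).symm.trans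
    ((Submodule.quotEquivOfEq _ _ hker).trans (F'.quotKerEquivOfSurjective (LinearMap.range_eq_top.1 hr')))
  have hE : ∀ c, E (F c) = F' c := fun c => by
    have h1 : (F.quotKerEquivOfSurjective (LinearMap.range_eq_top.1 hr)).symm (F c) = Submodule.Quotient.mk c := by
      rw [LinearEquiv.symm_apply_eq]
      rfl
    show (F'.quotKerEquivOfSurjective (LinearMap.range_eq_top.1 hr')) (Submodule.quotEquivOfEq _ _ hker
      ((F.quotKerEquivOfSurjective (LinearMap.range_eq_top.1 hr)).symm (F c))) = F' c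
    rw [h1]
    rfl
  have hs : ∀ (N : X.Modules) (s : κ → ProjUP.Γm N) i,
      Fintype.linearCombination Γ(X, ⊤) s (Pi.single i 1) = s i := fun N s i => by
    rw [Fintype.linearCombination_apply_single, one_smul]
  obtain ⟨φ, hφ⟩ := exists_hom_of_linear hL E.toLinearMap
  obtain ⟨ψ, hψ⟩ := exists_hom_of_linear hL' E.symm.toLinearMap
  have h1 : ∀ i, φ.app ⊤ (t i) = t' i := fun i => by
    rw [hφ, ← hs L t i]
    exact (hE _).trans (hs L' t' i)
  have h2 : ∀ i, ψ.app ⊤ (t' i) = t i := fun i => by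
    rw [hψ, ← h1 i, hφ]
    exact E.symm_apply_apply _
  refine ⟨⟨φ, ψ, hom_ext hL t h _ _ fun i => ?_, hom_ext hL' t' h' _ _ fun i => ?_⟩, h1⟩
  · show ψ.app ⊤ (φ.app ⊤ (t i)) = t i
    rw [h1, h2]
  · show φ.app ⊤ (ψ.app ⊤ (t' i)) = t' i
    rw [h2, h1]

end Groth.Agent.EGA73.AffineSections

namespace Groth.Agent.EGA73.AffineSections

open Groth.Agent.Var76.LineBundle Groth.Agent.Var76.ZeroScheme Groth.Agent.Amp73

variable {R : Type u} [CommRing R] {Q : Type u} [AddCommGroup Q] [Module R Q]

/-- A module with a local generator has rank one. -/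
theorem finrank_eq_one_of_local (p : Ideal R) [p.IsPrime] (g : R) (hg : g ∈ p.primeCompl) (m : Q)
    (hsur : ∀ y : Q, ∃ (k : ℕ) (r : R), g ^ k • y = r • m)
    (hinj : ∀ r : R, r • m = 0 → ∃ k : ℕ, g ^ k * r = 0) :
    Module.finrank (Localization.AtPrime p) (LocalizedModule p.primeCompl Q) = 1 := by
  let f := LinearMap.toSpanSingleton (Localization.AtPrime p) (LocalizedModule p.primeCompl Q)
    (LocalizedModule.mk m 1 : LocalizedModule p.primeCompl Q)
  have hf : ∀ (r : R) (s : p.primeCompl), f (Localization.mk r s) = LocalizedModule.mk (r • m) s := fun r s => by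
    show Localization.mk r s • (LocalizedModule.mk m 1 : LocalizedModule p.primeCompl Q) = _
    rw [LocalizedModule.mk_smul_mk, mul_one]
  have hbij : Function.Bijective f := by
    refine ⟨(injective_iff_map_eq_zero f).2 fun z hz => ?_, fun z => ?_⟩
    · induction z using Localization.induction_on with
      | H x =>
        obtain ⟨r, s⟩ := x
        rw [hf, ← LocalizedModule.zero_mk s, LocalizedModule.mk_eq] at hz
        obtain ⟨v, hv⟩ := hz
        simp only [Submonoid.smul_def, smul_zero, smul_smul] at hv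
        obtain ⟨k, hk⟩ := hinj _ hv
        show Localization.mk r s = 0
        rw [Localization.mk_eq_mk', IsLocalization.mk'_eq_zero_iff]
        exact ⟨⟨g ^ k, pow_mem hg k⟩ * v * s, by rw [← hk]; push_cast; ring⟩
    · induction z using LocalizedModule.induction_on with
      | h y s =>
        obtain ⟨k, r, hkr⟩ := hsur y
        refine ⟨Localization.mk r (s * ⟨g ^ k, pow_mem hg k⟩), ?_⟩
        rw [hf, ← hkr, LocalizedModule.mk_eq]
        exact ⟨1, by simp [Submonoid.smul_def, smul_smul]⟩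
  rw [← (LinearEquiv.ofBijective f hbij).finrank_eq, Module.finrank_self]

/-- A finite projective module of rank one at a prime has a local generator there. -/
theorem exists_local_of_finrank_eq_one [Module.Finite R Q] [Module.Projective R Q] (p : Ideal R) [p.IsPrime]
    (h : Module.finrank (Localization.AtPrime p) (LocalizedModule p.primeCompl Q) = 1) :
    ∃ (g : R) (_ : g ∈ p.primeCompl) (m : Q), (∀ y : Q, ∃ (k : ℕ) (r : R), g ^ k • y = r • m) ∧
      ∀ r : R, r • m = 0 → ∃ k : ℕ, g ^ k * r = 0 := by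
  have := Module.finitePresentation_of_projective R Q
  have : Module.Free (Localization.AtPrime p) (LocalizedModule p.primeCompl Q) :=
    Module.free_of_flat_of_isLocalRing
  obtain ⟨g, hg, hfree, hrank⟩ := Module.FinitePresentation.exists_free_localizedModule_powers
    p.primeCompl (LocalizedModule.mkLinearMap p.primeCompl Q) (Localization.AtPrime p)
  rw [h] at hrank
  have : Module.Finite (Localization (Submonoid.powers g)) (LocalizedModule.Away g Q) :=
    Module.Finite.of_isLocalizedModule (Submonoid.powers g) (Rₚ := Localization (Submonoid.powers g))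
      (LocalizedModule.mkLinearMap (Submonoid.powers g) Q)
  have : Nontrivial (Localization (Submonoid.powers g)) :=
    (IsLocalization.map (M := Submonoid.powers g) (T := p.primeCompl) (Localization.AtPrime p)
      (RingHom.id R) (Submonoid.powers_le.mpr hg) : Localization (Submonoid.powers g) →+* _).domain_nontrivial
  let E : LocalizedModule.Away g Q ≃ₗ[Localization (Submonoid.powers g)] Localization (Submonoid.powers g) :=
    (Module.finBasisOfFinrankEq _ _ hrank).equivFun ≪≫ₗ LinearEquiv.funUnique (Fin 1) _ _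
  obtain ⟨⟨m, ⟨_, k, rfl⟩⟩, hm⟩ := Quotient.exists_rep (E.symm 1)
  have hm' : LocalizedModule.mk m (⟨g ^ k, k, rfl⟩ : Submonoid.powers g) = E.symm 1 := hm
  let u : Localization (Submonoid.powers g) := algebraMap R _ (g ^ k)
  have hu : IsUnit u := IsLocalization.map_units _ (⟨g ^ k, k, rfl⟩ : Submonoid.powers g)
  have hEm : E (LocalizedModule.mk m 1) = u := by
    have : (LocalizedModule.mk m 1 : LocalizedModule.Away g Q) = u • E.symm 1 := by
      rw [← hm']
      show _ = Localization.mk (g ^ k) 1 • _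
      rw [LocalizedModule.mk_smul_mk, one_mul, LocalizedModule.mk_eq]
      exact ⟨1, by simp [Submonoid.smul_def]⟩
    rw [this, map_smul, LinearEquiv.apply_symm_apply, smul_eq_mul, mul_one]
  refine ⟨g, hg, m, fun y => ?_, fun r hr => ?_⟩
  · obtain ⟨a, ⟨_, i, rfl⟩, hz⟩ :=
      IsLocalization.exists_mk'_eq (Submonoid.powers g) (E (LocalizedModule.mk y 1) * ↑hu.unit⁻¹)
    have h1 : (LocalizedModule.mk y 1 : LocalizedModule.Away g Q) =
        (Localization.mk a (⟨g ^ i, i, rfl⟩ : Submonoid.powers g)) • LocalizedModule.mk m 1 := by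
      refine E.injective ?_
      rw [map_smul, hEm, Localization.mk_eq_mk', hz, smul_eq_mul, mul_assoc, hu.val_inv_mul, mul_one]
    rw [LocalizedModule.mk_smul_mk, LocalizedModule.mk_eq] at h1
    obtain ⟨⟨_, j, rfl⟩, hj⟩ := h1
    refine ⟨j + i, g ^ j * a, ?_⟩
    simpa [Submonoid.smul_def, smul_smul, pow_add] using hj
  · have h1 : (algebraMap R (Localization (Submonoid.powers g)) r) * u = 0 := by
      rw [← hEm, ← smul_eq_mul, ← map_smul]
      show E (Localization.mk r 1 • _) = 0
      rw [LocalizedModule.mk_smul_mk, hr, LocalizedModule.zero_mk, map_zero]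
    rw [hu.mul_left_eq_zero, IsLocalization.map_eq_zero_iff (Submonoid.powers g)] at h1
    obtain ⟨⟨_, j, rfl⟩, hj⟩ := h1
    exact ⟨j, hj⟩

variable {X : Scheme.{u}} {M : X.Modules}

/-- A finite locally free module with local generators of its global sections is invertible. -/
theorem isInvertible_of_gen [IsAffine X] (hfl : FlatMod.IsFinLocFree M)
    (h : ∀ x : X, ∃ (m : ProjUP.Γm M) (g : Γ(X, ⊤)), x ∈ X.basicOpen g ∧
      (∀ y : ProjUP.Γm M, ∃ (k : ℕ) (r : Γ(X, ⊤)), g ^ k • y = r • m) ∧
      ∀ r : Γ(X, ⊤), r • m = 0 → ∃ k : ℕ, g ^ k * r = 0) : PicF.IsInvertible M := by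
  have := Props58.LocFree.isQuasicoherent_of_isFinLocFree hfl
  refine Mero90.isInvertible_of_frames fun x => ?_
  obtain ⟨U, n, s, hxU, hs⟩ := Props58.LocFree.isFinLocFree_iff.mp hfl x
  obtain ⟨m, g, hxg, hsur, hinj⟩ := h x
  let ε := M.presheaf.germ ⊤ x trivial m
  have hU := isAffineOpen_top X
  have hloc := QC70.isLocAt_of_isQuasicoherent M hU
  have hu : IsUnit (X.presheaf.germ ⊤ x trivial g) := (X.mem_basicOpen g x trivial).1 hxg
  have hbij : Function.Bijective (LinearMap.toSpanSingleton (X.presheaf.stalk x) (M.presheaf.stalk x) ε) := by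
    refine ⟨(injective_iff_map_eq_zero _).2 fun c hc => ?_, fun z => ?_⟩
    · let _ : Algebra Γ(X, ⊤) (X.presheaf.stalk x) := (X.presheaf.germ ⊤ x trivial).hom.toAlgebra
      have := hU.isLocalization_stalk ⟨x, trivial⟩
      obtain ⟨⟨r, s⟩, hc'⟩ := IsLocalization.surj (hU.primeIdealOf ⟨x, trivial⟩).asIdeal.primeCompl c
      have hs : IsUnit (algebraMap Γ(X, ⊤) (X.presheaf.stalk x) s) := IsLocalization.map_units _ s
      have h1 : QC70.germM M ⊤ x trivial (r • m) = 0 := by
        show M.presheaf.germ ⊤ x trivial (r • m) = 0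
        rw [Mero.germ_smul]
        show algebraMap Γ(X, ⊤) (X.presheaf.stalk x) r • ε = 0
        rw [← hc', mul_comm, mul_smul, show c • ε = 0 from hc, smul_zero]
      obtain ⟨f, hxf, hf⟩ := QC70.stalk_exists_smul_eq_zero hloc hU (show x ∈ (⊤ : X.Opens) from trivial) _ h1
      rw [smul_smul] at hf
      obtain ⟨k, hk⟩ := hinj _ hf
      have h2 := congrArg (X.presheaf.germ ⊤ x trivial) hk
      rw [map_mul, map_mul, map_pow, map_zero, (hu.pow k).mul_right_eq_zero,
        ((X.mem_basicOpen f x trivial).1 hxf).mul_right_eq_zero] at h2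
      change algebraMap Γ(X, ⊤) (X.presheaf.stalk x) r = 0 at h2
      rw [← hc', hs.mul_left_eq_zero] at h2
      exact h2
    · let _ := QC70.stalkModule M (show x ∈ (⊤ : X.Opens) from trivial)
      obtain ⟨f, y, hxf, hy⟩ := QC70.stalk_exists_smul hloc hU (show x ∈ (⊤ : X.Opens) from trivial) z
      obtain ⟨k, r, hkr⟩ := hsur y
      have hf : IsUnit (X.presheaf.germ ⊤ x trivial f) := (X.mem_basicOpen f x trivial).1 hxf
      refine ⟨↑((hu.pow k).mul hf).unit⁻¹ * X.presheaf.germ ⊤ x trivial r, ?_⟩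
      show (↑((hu.pow k).mul hf).unit⁻¹ * X.presheaf.germ ⊤ x trivial r) • ε = z
      rw [mul_smul, ← Mero.germ_smul, ← hkr, Mero.germ_smul, map_pow]
      change _ • (_ • QC70.germM M ⊤ x trivial y) = z
      rw [← hy]
      show _ • (_ • (X.presheaf.germ ⊤ x trivial f • z)) = z
      rw [smul_smul, smul_smul, mul_assoc, ((hu.pow k).mul hf).val_inv_mul, one_smul]
  have hn : n = 1 := by
    have h1 := (hs.stalkEquiv x hxU).finrank_eq
    rw [Module.finrank_fin_fun, ← (LinearEquiv.ofBijective _ hbij).finrank_eq, Module.finrank_self] at h1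
    exact h1
  subst hn
  refine ⟨U, hxU, s 0, fun W hW => ?_⟩
  have hb := (hs.bijective hW).comp (Equiv.funUnique (Fin 1) Γ(X, W)).symm.bijective
  refine (show (fun c : Γ(X, W) => c • res M hW (s 0)) = _ from ?_) ▸ hb
  funext c
  simp

/-- Pulled back coordinates generate. -/
theorem generatedBy_pullSec (n : ℕ) {X : Scheme.{u}} (r : X ⟶ CohB1.ProjSpace n R) :
    ProjUP.GeneratedBy ((Scheme.Modules.pullback r).obj (Twist.twistProjSpace n R 1))
      fun i => ProjUP.pullSec r (Twist.twistProjSpace n R 1) (ProjUP.coord n R i) := by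
  intro x
  have hι := PolySym.linForm_mem n R
  have hsym := PolySym.isSymmetricAlgebra_linForm n R
  obtain ⟨j, hj⟩ := ProjUniv.exists_mem_basicOpen (𝒮 := CohB1.polyGrading n R) hι hsym (Pi.basisFun R (Fin (n + 1)))
    (Module.Basis.span_eq _) (r x)
  rw [Pi.basisFun_apply, PolySym.linForm_single] at hj
  have hinv : PicF.IsInvertible (Twist.twist (CohB1.polyGrading n R) 1) :=
    EGA73.isInvertible_twist (ProjUniv.irrelevant_eq_span_one hι hsym) 1
  let P := (Scheme.Modules.pullback r).obj (Twist.twist (CohB1.polyGrading n R) 1)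
  let f : CohB1.polyGrading n R 1 := ⟨MvPolynomial.X j, MvPolynomial.isHomogeneous_X R j⟩
  let r' : X ⟶ Proj (CohB1.polyGrading n R) := r
  have hfr := isFrame_pullS r' hinv (Var76.ProjFrame.isFrame (CohB1.polyGrading n R) f)
  rw [← res_pullS r'] at hfr
  refine top_le_iff.1 fun z _ => ?_
  obtain ⟨c, hc⟩ := (Mero90.frame_germ_bijective hfr ⟨x, hj⟩).2 z
  rw [← hc]
  refine Submodule.smul_mem _ _ (Submodule.subset_span ⟨j, ?_⟩)
  exact (TopCat.Presheaf.germ_res_apply _ _ _ _ _).symm

theorem isInvertible_pullback_coord (n : ℕ) {X : Scheme.{u}} (r : X ⟶ CohB1.ProjSpace n R) :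
    PicF.IsInvertible ((Scheme.Modules.pullback r).obj (Twist.twistProjSpace n R 1)) :=
  isInvertible_pullback r (EGA73.isInvertible_twist (ProjUniv.irrelevant_eq_span_one
    (PolySym.linForm_mem n R) (PolySym.isSymmetricAlgebra_linForm n R)) 1)

theorem mem_secKernel (n : ℕ) (s : Spec (CommRingCat.of R) ⟶ CohB1.ProjSpace n R) (c : Fin (n + 1) → R) :
    c ∈ ProjUP.secKernel n R s ↔ ∑ i, (Scheme.ΓSpecIso (CommRingCat.of R)).inv.hom (c i) •
      ProjUP.pullSec s (Twist.twistProjSpace n R 1) (ProjUP.coord n R i) = 0 :=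
  Iff.rfl

/-- A section of projective space is determined by its relations. -/
theorem section_ext (n : ℕ) (s₁ s₂ : Spec (CommRingCat.of R) ⟶ CohB1.ProjSpace n R)
    (h₁ : s₁ ≫ CohB1.ProjSpace.toSpec n R = 𝟙 _) (h₂ : s₂ ≫ CohB1.ProjSpace.toSpec n R = 𝟙 _)
    (h : ProjUP.secKernel n R s₁ = ProjUP.secKernel n R s₂) : s₁ = s₂ := by
  have hb := ConcreteCategory.bijective_of_isIso (Scheme.ΓSpecIso (CommRingCat.of R)).inv
  obtain ⟨τ, hτ⟩ := exists_iso_of_relations (κ := ULift.{u} (Fin (n + 1)))
    (isInvertible_pullback_coord n s₁) (isInvertible_pullback_coord n s₂)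
    (fun i => ProjUP.pullSec s₁ (Twist.twistProjSpace n R 1) (ProjUP.coord n R i.down))
    (fun i => ProjUP.pullSec s₂ (Twist.twistProjSpace n R 1) (ProjUP.coord n R i.down))
    (fun x => top_le_iff.1 ((generatedBy_pullSec n s₁ x).ge.trans
      (Submodule.span_mono (by rintro _ ⟨i, rfl⟩; exact ⟨⟨i⟩, rfl⟩))))
    (fun x => top_le_iff.1 ((generatedBy_pullSec n s₂ x).ge.trans
      (Submodule.span_mono (by rintro _ ⟨i, rfl⟩; exact ⟨⟨i⟩, rfl⟩))))
    (fun c => by
      choose d hd using fun i : Fin (n + 1) => hb.2 (c ⟨i⟩)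
      have key := SetLike.ext_iff.1 h d
      rw [mem_secKernel, mem_secKernel] at key
      have hc : ∀ i, (Scheme.ΓSpecIso (CommRingCat.of R)).inv.hom (d i) = c ⟨i⟩ := hd
      simp only [hc] at key
      rw [← Equiv.ulift.symm.sum_comp, ← Equiv.ulift.symm.sum_comp]
      exact key)
  refine ProjUniv.hom_ext_of_iso (A := R) (PolySym.linForm_mem n R)
    (PolySym.isSymmetricAlgebra_linForm n R) (Pi.basisFun R (Fin (n + 1))) (Module.Basis.span_eq _)
    s₁ s₂ (h₁.trans h₂.symm) τ fun i => ?_
  simp only [Pi.basisFun_apply, PolySym.linForm_single]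
  exact hτ ⟨i⟩

/-- `ProjUP.Γm` of an invertible module on a spectrum as an `R`-module. -/
abbrev moduleR {A : CommRingCat.{u}} (L : (Spec A).Modules) : Module A (ProjUP.Γm L) :=
  Module.compHom _ (Scheme.ΓSpecIso A).inv.hom

/-- A quotient presenting generated global sections is invertible. -/
theorem invertible_quotient (n : ℕ) (s : Spec (CommRingCat.of R) ⟶ CohB1.ProjSpace n R) :
    Module.Projective R ((Fin (n + 1) → R) ⧸ ProjUP.secKernel n R s) ∧
      ∀ p : PrimeSpectrum R, Module.finrank (Localization.AtPrime p.asIdeal)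
        (LocalizedModule p.asIdeal.primeCompl ((Fin (n + 1) → R) ⧸ ProjUP.secKernel n R s)) = 1 := by
  classical
  let L := (Scheme.Modules.pullback s).obj (Twist.twistProjSpace n R 1)
  let t : Fin (n + 1) → ProjUP.Γm L := fun i =>
    ProjUP.pullSec s (Twist.twistProjSpace n R 1) (ProjUP.coord n R i)
  have hL : PicF.IsInvertible L := isInvertible_pullback_coord n s
  have hgen : ProjUP.GeneratedBy L t := generatedBy_pullSec n s
  let φ := (Scheme.ΓSpecIso (CommRingCat.of R)).inv.hom
  have hφ : Function.Bijective φ := ConcreteCategory.bijective_of_isIso (Scheme.ΓSpecIso (CommRingCat.of R)).inv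
  let _ : Module R (ProjUP.Γm L) := Module.compHom _ φ
  let F := Fintype.linearCombination R t
  have hF : Function.Surjective F := fun y => by
    obtain ⟨c, hc⟩ := (Submodule.mem_span_range_iff_exists_fun Γ(Spec (CommRingCat.of R), ⊤)).1
      ((span_eq_top hL t hgen).ge (Submodule.mem_top (x := y)))
    choose d hd using fun i => hφ.2 (c i)
    refine ⟨d, ?_⟩
    rw [Fintype.linearCombination_apply, ← hc]
    exact Finset.sum_congr rfl fun i _ => by rw [← hd]; rfl
  have hker : LinearMap.ker F = ProjUP.secKernel n R s := rfl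
  let e : ((Fin (n + 1) → R) ⧸ ProjUP.secKernel n R s) ≃ₗ[R] ProjUP.Γm L :=
    (Submodule.quotEquivOfEq _ _ hker.symm).trans (F.quotKerEquivOfSurjective hF)
  refine ⟨?_, fun p => ?_⟩
  · have hfl : FlatMod.IsFinLocFree L := fun x => by
      obtain ⟨U, hx, hU⟩ := Mero90.isFinLocFreeOfRank_of_isInvertible hL x
      exact ⟨U, 1, hx, hU⟩
    have := Props58.LocFree.projective_sections hfl (isAffineOpen_top _)
    let ψ : Γ(Spec (CommRingCat.of R), ⊤) →+* R := (Scheme.ΓSpecIso (CommRingCat.of R)).hom.hom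
    have hψφ : ∀ a, ψ (φ a) = a := fun a => Iso.inv_hom_id_apply (Scheme.ΓSpecIso (CommRingCat.of R)) a
    let φ' : R →+* Γ(Spec (CommRingCat.of R), ⊤) := φ
    have hφψ : ∀ a, φ' (ψ a) = a := fun a => Iso.hom_inv_id_apply (Scheme.ΓSpecIso (CommRingCat.of R)) a
    let _ : RingHomInvPair ψ φ' := ⟨RingHom.ext hφψ, RingHom.ext hψφ⟩
    let _ : RingHomInvPair φ' ψ := ⟨RingHom.ext hψφ, RingHom.ext hφψ⟩
    let e' : ProjUP.Γm L ≃ₛₗ[ψ]
        ((Fin (n + 1) → R) ⧸ ProjUP.secKernel n R s) :=
      { toFun := e.symm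
        invFun := e
        map_add' := fun a b => map_add e.symm a b
        map_smul' := fun a b => by
          obtain ⟨a, rfl⟩ := hφ.2 a
          rw [hψφ]
          exact map_smul e.symm a b
        left_inv := e.apply_symm_apply
        right_inv := e.symm_apply_apply }
    exact Module.Projective.of_equiv e'
  · obtain ⟨j, g, hg, hsur, hinj⟩ := exists_basis_near hL t hgen (p : Spec (CommRingCat.of R))
    obtain ⟨g', rfl⟩ := hφ.2 g
    have hgp : g' ∈ p.asIdeal.primeCompl := by
      rw [basicOpen_eq_of_affine] at hg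
      exact hg
    refine finrank_eq_one_of_local p.asIdeal g' hgp (e.symm (t j)) (fun y => ?_) fun r hr => ?_
    · obtain ⟨k, r, hkr⟩ := hsur (e y)
      obtain ⟨r', rfl⟩ := hφ.2 r
      refine ⟨k, r', e.injective ?_⟩
      rw [map_smul, map_smul, LinearEquiv.apply_symm_apply]
      show φ (g' ^ k) • e y = φ r' • t j
      rwa [map_pow]
    · have hr' : φ r • t j = 0 := by
        have := congrArg e hr
        rw [map_smul, LinearEquiv.apply_symm_apply, map_zero] at this
        exact this
      obtain ⟨k, hk⟩ := hinj _ hr'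
      exact ⟨k, hφ.1 (by rw [map_mul, map_pow, map_zero]; exact hk)⟩

/-- An invertible quotient of a free module comes from a section of projective space. -/
theorem exists_section (n : ℕ) (F : Submodule R (Fin (n + 1) → R))
    (hproj : Module.Projective R ((Fin (n + 1) → R) ⧸ F))
    (hrank : ∀ p : PrimeSpectrum R, Module.finrank (Localization.AtPrime p.asIdeal)
      (LocalizedModule p.asIdeal.primeCompl ((Fin (n + 1) → R) ⧸ F)) = 1) :
    ∃ s : Spec (CommRingCat.of R) ⟶ CohB1.ProjSpace n R,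
      s ≫ CohB1.ProjSpace.toSpec n R = 𝟙 _ ∧ ProjUP.secKernel n R s = F := by
  classical
  let A := CommRingCat.of R
  let Q : ModuleCat.{u} A := ModuleCat.of A ((Fin (n + 1) → R) ⧸ F)
  let L := tilde Q
  let e := Props58.LocFree.tildeTopEquiv Q
  let φ := (Scheme.ΓSpecIso A).inv.hom
  have hφ : Function.Bijective φ := ConcreteCategory.bijective_of_isIso (Scheme.ΓSpecIso A).inv
  let q : Fin (n + 1) → Q := fun i => (Submodule.Quotient.mk (Pi.single i (1 : R)) : (Fin (n + 1) → R) ⧸ F)
  let t : Fin (n + 1) → ProjUP.Γm L := fun i => e (q i)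
  have hcomb : ∀ c : Fin (n + 1) → R, ∑ i, φ (c i) • t i =
      e (Submodule.Quotient.mk c : (Fin (n + 1) → R) ⧸ F) := fun c => by
    have h1 : (Submodule.Quotient.mk c : (Fin (n + 1) → R) ⧸ F) = ∑ i, c i • (q i) := by
      conv_lhs => rw [pi_eq_sum_univ' c]
      rw [← Submodule.mkQ_apply, map_sum]
      exact Finset.sum_congr rfl fun i _ => map_smul F.mkQ _ _
    rw [h1, map_sum]
    exact Finset.sum_congr rfl fun i _ => (map_smulₛₗ e (c i) (q i)).symm
  have hfl : FlatMod.IsFinLocFree L :=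
    (Props58.LocFree.isFinLocFree_tilde_iff Q).2 ⟨Module.Finite.quotient R F, hproj⟩
  have hU := isAffineOpen_top (Spec A)
  have := Props58.LocFree.isQuasicoherent_of_isFinLocFree hfl
  have hgen : ProjUP.GeneratedBy L t := fun x => by
    refine top_le_iff.1 fun z _ => ?_
    let _ := QC70.stalkModule L (show x ∈ (⊤ : (Spec A).Opens) from trivial)
    have := QC70.isLocalizedModule_germ (QC70.isLocAt_of_isQuasicoherent L hU) hU
      (show x ∈ (⊤ : (Spec A).Opens) from trivial)
    obtain ⟨⟨y, a⟩, hy⟩ := IsLocalizedModule.surj (hU.primeIdealOf ⟨x, trivial⟩).asIdeal.primeCompl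
      (QC70.germLinear L (show x ∈ (⊤ : (Spec A).Opens) from trivial)) z
    have hu : IsUnit ((Spec A).presheaf.germ ⊤ x trivial a.1) :=
      ((Spec A).mem_basicOpen a.1 x trivial).1 ((QC70.mem_basicOpen_iff_primeCompl hU trivial a.1).2 a.2)
    obtain ⟨y', rfl⟩ := e.surjective y
    obtain ⟨c, rfl⟩ := Submodule.Quotient.mk_surjective F y'
    change (Spec A).presheaf.germ ⊤ x trivial a.1 • z =
      L.presheaf.germ ⊤ x trivial (e (Submodule.Quotient.mk c : (Fin (n + 1) → R) ⧸ F)) at hy
    rw [← hcomb, map_sum] at hy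
    refine (Submodule.smul_mem_iff_of_isUnit _ hu).1 (hy ▸ Submodule.sum_mem _ fun i _ => ?_)
    rw [Mero.germ_smul]
    exact Submodule.smul_mem _ _ (Submodule.subset_span ⟨i, rfl⟩)
  have hinv : PicF.IsInvertible L := by
    refine isInvertible_of_gen hfl fun x => ?_
    obtain ⟨g, hg, m, hsur, hinj⟩ :=
      exists_local_of_finrank_eq_one (Q := (Fin (n + 1) → R) ⧸ F) (x : PrimeSpectrum R).asIdeal (hrank x)
    refine ⟨e m, φ g, ?_, fun y => ?_, fun r hr => ?_⟩
    · rw [basicOpen_eq_of_affine]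
      exact hg
    · obtain ⟨y, rfl⟩ := e.surjective y
      obtain ⟨k, r, hkr⟩ := hsur y
      exact ⟨k, φ r, by rw [← map_pow]; exact ((map_smulₛₗ e _ _).symm.trans (congrArg e hkr)).trans (map_smulₛₗ e _ _)⟩
    · obtain ⟨r, rfl⟩ := hφ.2 r
      have : r • m = 0 := e.injective ((map_smulₛₗ e r m).trans (hr.trans (map_zero e).symm))
      obtain ⟨k, hk⟩ := hinj r this
      exact ⟨k, by rw [← map_pow, ← map_mul, hk, map_zero]⟩
  obtain ⟨s, hs, τ, hτ⟩ := S3572.result n (𝟙 _) L hinv t hgen
  refine ⟨s, hs, ?_⟩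
  ext c
  rw [mem_secKernel]
  let l : ProjUP.Γm ((Scheme.Modules.pullback s).obj (Twist.twistProjSpace n R 1)) →ₗ[Γ(Spec A, ⊤)] ProjUP.Γm L :=
    { toFun := τ.hom.app ⊤, map_add' := map_add _, map_smul' := fun a m => Scheme.Modules.Hom.app_smul _ a m }
  have hl : Function.Injective l := (ConcreteCategory.bijective_of_isIso (τ.hom.app ⊤)).1
  rw [← map_eq_zero_iff l hl, map_sum]
  have h1 : ∀ i, l (φ (c i) • ProjUP.pullSec s (Twist.twistProjSpace n R 1) (ProjUP.coord n R i)) =
      φ (c i) • t i := fun i => by rw [map_smul]; exact congrArg (φ (c i) • ·) (hτ i)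
  simp only [A, φ] at h1 hcomb
  rw [Finset.sum_congr rfl fun i _ => h1 i, hcomb, LinearEquiv.map_eq_zero_iff]
  exact Submodule.Quotient.mk_eq_zero F

end Groth.Agent.EGA73.AffineSections
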