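import Groth.Agent.EGA73.ProjUniv
import Groth.Agent.EGA73.PolySym
import Groth.Agent.Amp73.Product
import Groth.Agent.Amp73.ProjAmple
import Groth.Prelude.Def_LCI2

/-!
Immersions into projective space over a scheme by sections of an invertible module.
-/

set_option autoImplicit false
set_option backward.isDefEq.respectTransparency.types false

universe u

open CategoryTheory CategoryTheory.Limits AlgebraicGeometry Opposite TopologicalSpace
open HomogeneousLocalization

noncomputable section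

namespace Groth.Agent.EGA73.ImmersionPn

open Groth.Agent.Var76.LineBundle Groth.Agent.Var76.ZeroScheme Groth.Agent.Amp73

variable {X S : Scheme.{u}}

/-- Closed immersions are detected by surjectivity on affine opens. -/
theorem isClosedImmersion_restrict {Y : Scheme.{u}} (f : X ⟶ Y) {O : Y.Opens} (hO : IsAffineOpen O)
    (hG : IsAffineOpen (f ⁻¹ᵁ O)) (h : Function.Surjective (f.app O)) : IsClosedImmersion (f ∣_ O) := by
  have : IsAffine (O : Scheme.{u}) := hO
  have : IsAffine (f ⁻¹ᵁ O : Scheme.{u}) := hG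
  refine IsClosedImmersion.of_surjective_of_isAffine _ ?_
  rw [morphismRestrict_appTop]
  refine (ConcreteCategory.bijective_of_isIso (X.presheaf.map _)).2.comp ?_
  have key : ∀ (V : Y.Opens) (e : V = O), Function.Surjective (f.app V) := fun V e => e ▸ h
  exact key _ O.ι_image_top

/-- Generating loci covering mean that the sections generate. -/
theorem generatedBy_of_genLocus (M : X.Modules) {J : Type*} (s : J → ProjUP.Γm M)
    (h : ∀ x : X, ∃ j, x ∈ CohB1.genLocus M (Var76.Frames.ofSection M (s j))) : ProjUP.GeneratedBy M s := by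
  intro x
  obtain ⟨j, hj⟩ := h x
  have he := isFrame_genLocus (Var76.Frames.ofSection M (s j))
  rw [Var76.Frames.val_ofSection] at he
  refine eq_top_iff.2 fun z _ => ?_
  obtain ⟨a, ha⟩ := (Mero90.isGen_germ he ⟨x, hj⟩).2 z
  rw [← ha]
  refine Submodule.smul_mem _ a (Submodule.subset_span ⟨j, ?_⟩)
  exact (TopCat.Presheaf.germ_res_apply _ _ _ _ _).symm

/-- Sections whose ratios generate the functions on affine generating loci give an immersion into `P^n_S`. -/
theorem isRelVeryAmplePn_of_sections (f : X ⟶ S) (M : X.Modules) (hM : PicF.IsInvertible M) {J : Type u}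
    [Finite J] (u : J → ProjUP.Γm M)
    (h : ∀ z : X, ∃ (j : J) (V : S.Opens) (_ : IsAffineOpen V)
      (hle : CohB1.genLocus M (Var76.Frames.ofSection M (u j)) ≤ f ⁻¹ᵁ V),
      z ∈ CohB1.genLocus M (Var76.Frames.ofSection M (u j)) ∧
        IsAffineOpen (CohB1.genLocus M (Var76.Frames.ofSection M (u j))) ∧
        Subring.closure (Set.range (f.appLE V _ hle) ∪ {a | ∃ j', a • res M (le_top : CohB1.genLocus M (Var76.Frames.ofSection M (u j)) ≤ ⊤) (u j) =
            res M (le_top : CohB1.genLocus M (Var76.Frames.ofSection M (u j)) ≤ ⊤) (u j')}) = ⊤) :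
    RelAmple.IsRelVeryAmplePn f M := by
  classical
  cases nonempty_fintype J
  let eJ := Fintype.equivFin J
  let n := Fintype.card J
  let u' : Fin (n + 1) → ProjUP.Γm M := Fin.cons 0 (fun k => u (eJ.symm k))
  have hu' : ∀ j, u' (Fin.succ (eJ j)) = u j := fun j => by simp [u']
  let Z := ULift.{u} ℤ
  let q : X ⟶ Spec (CommRingCat.of Z) := specULiftZIsTerminal.from X
  let v : (Fin (n + 1) → Z) →+ ProjUP.Γm M :=
    AddMonoidHom.mk' (fun c => ∑ k, ProjUP.toGlobal q (c k) • u' k)
      fun a b => by simp [add_smul, Finset.sum_add_distrib]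
  have hv1 : ∀ k, v (Pi.single k 1) = u' k := fun k => by
    show ∑ i, ProjUP.toGlobal q ((Pi.single k 1 : Fin (n + 1) → Z) i) • u' i = u' k
    rw [Finset.sum_eq_single k (fun i _ hi => by simp [Pi.single_eq_of_ne hi]) (by simp)]
    simp
  have hcov : ∀ z : X, ∃ j, z ∈ CohB1.genLocus M (Var76.Frames.ofSection M (u j)) := fun z => by
    obtain ⟨j, V, -, hle, hz, -⟩ := h z
    exact ⟨j, hz⟩
  have hgen : ProjUP.GeneratedBy M v := generatedBy_of_genLocus M v fun z => by
    obtain ⟨j, hj⟩ := hcov z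
    refine ⟨Pi.single (Fin.succ (eJ j)) 1, ?_⟩
    rwa [hv1, hu']
  let 𝒬p := CohB1.polyGrading n Z
  obtain ⟨r, -, τ, hτ⟩ := ProjUniv.exists_to_proj (𝒮 := 𝒬p) q (PolySym.linForm_mem n Z)
    (PolySym.isSymmetricAlgebra_linForm n Z) M hM v
    (fun a c => by
      show ∑ k, ProjUP.toGlobal q (a * c k) • u' k = ProjUP.toGlobal q a • ∑ k, ProjUP.toGlobal q (c k) • u' k
      simp only [Finset.smul_sum, smul_smul, map_mul]) hgen
  let Xk : Fin (n + 1) → 𝒬p 1 := fun k => ⟨MvPolynomial.X k, MvPolynomial.isHomogeneous_X Z k⟩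
  let T1 := Twist.twist 𝒬p 1
  let P1 := (Scheme.Modules.pullback r).obj T1
  have hτ' : ∀ k, τ.hom.app ⊤ (pullS r T1 ⊤ (Var76.ProjFrame.sect 𝒬p (Xk k))) = u' k := fun k => by
    have h1 := hτ (Pi.single k 1)
    rw [hv1] at h1
    refine Eq.trans ?_ h1
    refine congrArg (fun s => τ.hom.app ⊤ (ProjUP.pullSec r T1 (Twist.globalOf 𝒬p s))) (Subtype.ext ?_)
    exact (PolySym.linForm_single n Z k).symm
  let D : J → (Proj 𝒬p).Opens := fun j => Proj.basicOpen 𝒬p (MvPolynomial.X (Fin.succ (eJ j)))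
  have hirr : (HomogeneousIdeal.irrelevant 𝒬p).toIdeal = Ideal.span (𝒬p 1 : Set (MvPolynomial (Fin (n + 1)) Z)) :=
    ProjUniv.irrelevant_eq_span_one (PolySym.linForm_mem n Z) (PolySym.isSymmetricAlgebra_linForm n Z)
  have hG : ∀ j, r ⁻¹ᵁ D j = CohB1.genLocus M (Var76.Frames.ofSection M (u j)) := fun j => by
    have e1 : CohB1.genLocus _ (pullHom r (degOneHom 𝒬p (Xk (Fin.succ (eJ j))))) = r ⁻¹ᵁ D j := by
      rw [genLocus_pullHom r (EGA73.isInvertible_twist hirr 1), genLocus_degOneHom hirr]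
    rw [← e1, ← genLocus_comp_iso _ τ.hom]
    refine le_antisymm ?_ ?_
    all_goals rw [← isFrame_iff_le_genLocus]
    all_goals
      have e2 : ∀ W : X.Opens, val M (pullHom r (degOneHom 𝒬p (Xk (Fin.succ (eJ j)))) ≫ τ.hom) W =
          val M (Var76.Frames.ofSection M (u j)) W := fun W => by
        have h3 : val M (pullHom r (degOneHom 𝒬p (Xk (Fin.succ (eJ j)))) ≫ τ.hom) ⊤ = u j := by
          show τ.hom.app ⊤ (val P1 (pullHom r (degOneHom 𝒬p (Xk (Fin.succ (eJ j))))) ⊤) = u j
          refine Eq.trans ?_ ((hτ' _).trans (hu' j))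
          refine congrArg (τ.hom.app ⊤) ((val_pullHom r _ ⊤).trans (congrArg (pullS r T1 ⊤) ?_))
          exact (Var76.Frames.val_ofSection _ _ ⊤).trans (Amp73.res_self _ _)
        rw [← res_val M _ (le_top : W ≤ ⊤), h3, Var76.Frames.val_ofSection]
    · rw [← e2]
      exact (isFrame_iff_le_genLocus _ _).2 le_rfl
    · rw [e2]
      exact (isFrame_iff_le_genLocus _ _).2 le_rfl
  have hratio : ∀ (j j' : J) (G : X.Opens) (hGe : G = CohB1.genLocus M (Var76.Frames.ofSection M (u j)))
      (hle : G ≤ r ⁻¹ᵁ D j) (a : Γ(X, G)),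
      a • res M (le_top : G ≤ ⊤) (u j) = res M (le_top : G ≤ ⊤) (u j') → a ∈ (r.appLE (D j) G hle).hom.range := by
    intro j j' G hGe hle a ha
    refine ⟨Proj.awayToSection 𝒬p _ (HomogeneousLocalization.mk
      ⟨1, Xk (Fin.succ (eJ j')), Xk (Fin.succ (eJ j)), ⟨1, pow_one _⟩⟩), ?_⟩
    have he : IsFrame M G (res M le_top (u j)) := by
      subst hGe
      rw [← Var76.Frames.val_ofSection]
      exact isFrame_genLocus _
    refine (he G le_rfl).1 ?_
    simp only [Amp73.res_self]
    rw [ha]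
    have h1 := congrArg (fun s => τ.hom.app G (res P1 hle (pullS r T1 (D j) s)))
      (Var76.ProjFrame.away_smul_frame 𝒬p (Xk (Fin.succ (eJ j))) (Xk (Fin.succ (eJ j'))))
    have hres : ∀ k, τ.hom.app G (res P1 hle (pullS r T1 (D j) (res T1 le_top (Var76.ProjFrame.sect 𝒬p (Xk k))))) =
        res M le_top (u' k) := fun k => by
      rw [← res_pullS, res_res, Mero90.app_res]
      exact congrArg (res M le_top) (hτ' k)
    simp only [pullS_smul, res_smul, Scheme.Modules.Hom.app_smul] at h1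
    rw [hres, hres, hu', hu'] at h1
    exact h1
  let t := CohB1.ProjSpace.toSpec n Z
  let i : X ⟶ CohB1.ProjSpaceOver n S := pullback.lift r f (specULiftZIsTerminal.hom_ext _ _)
  have hifst : i ≫ pullback.fst t (specULiftZIsTerminal.from S) = r := pullback.lift_fst _ _ _
  have hisnd : i ≫ pullback.snd t (specULiftZIsTerminal.from S) = f := pullback.lift_snd _ _ _
  have hdata : ∀ z : X, ∃ O : (CohB1.ProjSpaceOver n S).Opens, IsAffineOpen O ∧ i.base z ∈ O ∧
      IsAffineOpen (i ⁻¹ᵁ O) ∧ Function.Surjective (i.app O) := by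
    intro z
    obtain ⟨j, V, hV, hle, hz, haff, hcl⟩ := h z
    let O : (CohB1.ProjSpaceOver n S).Opens :=
      pullback.fst t (specULiftZIsTerminal.from S) ⁻¹ᵁ D j ⊓ pullback.snd t (specULiftZIsTerminal.from S) ⁻¹ᵁ V
    have hpre : i ⁻¹ᵁ O = CohB1.genLocus M (Var76.Frames.ofSection M (u j)) := by
      show i ⁻¹ᵁ (_ ⊓ _) = _
      rw [Scheme.Hom.preimage_inf]
      rw [← Scheme.Hom.comp_preimage, ← Scheme.Hom.comp_preimage, hifst, hisnd]
      exact (congrArg (· ⊓ f ⁻¹ᵁ V) (hG j)).trans (inf_eq_left.2 hle)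
    refine ⟨O, ?_, (show z ∈ i ⁻¹ᵁ O by rw [hpre]; exact hz), hpre ▸ haff, ?_⟩
    · exact isAffineOpen_inf_preimage _ _ (Proj.isAffineOpen_basicOpen _ _ (Xk _).2 one_pos) hV
        (isAffineOpen_top _) le_top le_top
    have hcongr : ∀ {A B : Scheme.{u}} (φ φ' : A ⟶ B) (_ : φ = φ') (U : B.Opens) (G : A.Opens) (e : G ≤ φ ⁻¹ᵁ U)
        (e' : G ≤ φ' ⁻¹ᵁ U) (c : Γ(B, U)), φ.appLE U G e c = φ'.appLE U G e' c := by
      rintro A B φ _ rfl U G e e' c
      rfl
    have key : ∀ (G : X.Opens), G = CohB1.genLocus M (Var76.Frames.ofSection M (u j)) → ∀ (e : G ≤ i ⁻¹ᵁ O),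
        Function.Surjective (i.appLE O G e) := by
      rintro G rfl e a
      have hsub : Subring.closure (Set.range (f.appLE V _ hle) ∪
          {a | ∃ j', a • res M (le_top : CohB1.genLocus M (Var76.Frames.ofSection M (u j)) ≤ ⊤) (u j) =
            res M (le_top : CohB1.genLocus M (Var76.Frames.ofSection M (u j)) ≤ ⊤) (u j')}) ≤ (i.appLE O _ e).hom.range := by
        rw [Subring.closure_le]
        rintro b (⟨c, rfl⟩ | ⟨j', hj'⟩)
        · refine ⟨(pullback.snd t (specULiftZIsTerminal.from S)).appLE V O inf_le_right c, ?_⟩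
          refine (ConcreteCategory.congr_hom (Scheme.Hom.appLE_comp_appLE i _ V O _ inf_le_right e) c).trans ?_
          exact hcongr _ _ hisnd V _ _ _ c
        · have hle' : CohB1.genLocus M (Var76.Frames.ofSection M (u j)) ≤ r ⁻¹ᵁ D j := (hG j).ge
          obtain ⟨c, hc⟩ := hratio j j' _ rfl hle' b hj'
          refine ⟨(pullback.fst t (specULiftZIsTerminal.from S)).appLE (D j) O inf_le_left c, ?_⟩
          refine (ConcreteCategory.congr_hom (Scheme.Hom.appLE_comp_appLE i _ (D j) O _ inf_le_left e) c).trans ?_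
          exact (hcongr _ _ hifst (D j) _ _ hle' c).trans hc
      exact hsub (hcl.ge (Subring.mem_top a))
    rw [← Scheme.Hom.appLE_eq_app]
    exact key _ hpre le_rfl
  choose O hO hzO hOG hsurj using hdata
  let W := ⨆ z, O z
  have hrange : Set.range i.base ⊆ Set.range W.ι.base := by
    rintro _ ⟨z, rfl⟩
    rw [Scheme.Opens.range_ι]
    exact Opens.mem_iSup.2 ⟨z, hzO z⟩
  let i' := IsOpenImmersion.lift W.ι i hrange
  have hfac : i' ≫ W.ι = i := IsOpenImmersion.lift_fac W.ι i hrange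
  have : IsClosedImmersion i' := by
    refine IsZariskiLocalAtTarget.of_iSup_eq_top (fun z => W.ι ⁻¹ᵁ O z) ?_ fun z => ?_
    · rw [← Scheme.Hom.preimage_iSup]
      exact W.ι_preimage_self
    · have hpre : i' ⁻¹ᵁ (W.ι ⁻¹ᵁ O z) = i ⁻¹ᵁ O z := by rw [← Scheme.Hom.comp_preimage, hfac]
      refine isClosedImmersion_restrict i' ((hO z).preimage_of_isOpenImmersion _ (by
        rw [Scheme.Opens.opensRange_ι]; exact le_iSup O z)) (hpre ▸ hOG z) ?_
      refine Function.Surjective.of_comp (g := W.ι.app (O z)) ?_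
      have key : ∀ (k : X ⟶ CohB1.ProjSpaceOver n S) (_ : k = i), Function.Surjective (k.app (O z)) := by
        rintro k rfl
        exact hsurj z
      have h2 := key _ hfac
      rw [Scheme.Hom.comp_app] at h2
      exact h2
  refine ⟨n, i, hfac ▸ inferInstance, hisnd, ⟨?_⟩⟩
  exact τ.symm ≪≫ (Scheme.Modules.pullbackCongr hifst.symm).app _ ≪≫
    ((Scheme.Modules.pullbackComp i _).app _).symm

end Groth.Agent.EGA73.ImmersionPn

end
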