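import Groth.Prelude.Def_AffAlg
import Groth.Agent.EGAProj74.Glue
import Mathlib.AlgebraicGeometry.Morphisms.ClosedImmersion

/-! Morphisms into a scheme affine over the base as maps of algebras. -/

universe u

open CategoryTheory CategoryTheory.Limits AlgebraicGeometry TopologicalSpace Opposite

noncomputable section

namespace Groth.Agent.EGA73

/-- A morphism into an affine open from its map on sections. -/
theorem ι_comp_eq_toSpecΓ {X Y : Scheme.{u}} (h : Y ⟶ X) {V : X.Opens} (hV : IsAffineOpen V)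
    (W : Y.Opens) (e : W ≤ h ⁻¹ᵁ V) :
    W.ι ≫ h = W.toSpecΓ ≫ Spec.map (h.appLE V W e) ≫ hV.fromSpec := by
  rw [Scheme.Opens.toSpecΓ_SpecMap_appLE_assoc, hV.toSpecΓ_fromSpec, Scheme.Hom.resLE_comp_ι]

theorem toSpecΓ_SpecMap_injective {Y : Scheme.{u}} {W : Y.Opens} {R : CommRingCat.{u}}
    {a b : R ⟶ Γ(Y, W)} (h : W.toSpecΓ ≫ Spec.map a = W.toSpecΓ ≫ Spec.map b) : a = b := by
  have h' := congr(Scheme.Hom.appTop $h)
  simp only [Scheme.Hom.comp_appTop, Scheme.Opens.toSpecΓ_appTop] at h'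
  erw [Scheme.ΓSpecIso_naturality_assoc, Scheme.ΓSpecIso_naturality_assoc] at h'
  rwa [cancel_epi, cancel_mono] at h'

theorem isBasis_affineOpens' (S : Scheme.{u}) (U : S.Opens) (x : S) (hx : x ∈ U) :
    ∃ V : S.Opens, IsAffineOpen V ∧ x ∈ V ∧ V ≤ U := by
  obtain ⟨V, hV, hxV, hle⟩ := exists_isAffineOpen_mem_and_subset (U := U) hx
  exact ⟨V, hV, hxV, hle⟩

/-- Maps into a pushforward agree once they agree on affine opens. -/
theorem pushforward_hom_ext {S Y : Scheme.{u}} (g : Y ⟶ S) {F : TopCat.Presheaf CommRingCat.{u} S.carrier}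
    {ω η : F ⟶ g.base _* Y.presheaf}
    (h : ∀ U : S.Opens, IsAffineOpen U → ω.app (op U) = η.app (op U)) : ω = η := by
  refine NatTrans.ext (funext fun ⟨U⟩ => CommRingCat.hom_ext (RingHom.ext fun s => ?_))
  have hloc : ∀ y ∈ g ⁻¹ᵁ U, ∃ V : S.Opens, IsAffineOpen V ∧ y ∈ g ⁻¹ᵁ V ∧ V ≤ U := fun y hy =>
    isBasis_affineOpens' S U _ hy
  choose V hV hyV hle using hloc
  refine TopCat.Sheaf.eq_of_locally_eq' Y.sheaf (fun y : g ⁻¹ᵁ U => g ⁻¹ᵁ V y.1 y.2) (g ⁻¹ᵁ U)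
    (fun y => homOfLE (g.preimage_mono (hle y.1 y.2))) (fun y hy => Opens.mem_iSup.2 ⟨⟨y, hy⟩, hyV y hy⟩)
    _ _ fun y => ?_
  have e1 := congr(CommRingCat.Hom.hom $(ω.naturality (homOfLE (hle y.1 y.2)).op) s)
  have e2 := congr(CommRingCat.Hom.hom $(η.naturality (homOfLE (hle y.1 y.2)).op) s)
  rw [h _ (hV y.1 y.2)] at e1
  exact e1.symm.trans e2

variable {X Y S : Scheme.{u}} (f : X ⟶ S) (g : Y ⟶ S)

theorem algHom_app (h : Y ⟶ X) (w : h ≫ f = g) (U : S.Opens) :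
    (AffAlg.algHom f g h w).app (op U) =
      h.appLE (f ⁻¹ᵁ U) (g ⁻¹ᵁ U) (by subst w; rfl) := by
  subst w
  simp only [AffAlg.algHom, eqToHom_refl, Category.comp_id, Scheme.Hom.appLE]
  erw [CategoryTheory.Functor.map_id, Category.comp_id]
  rfl

theorem algHom_id (w : 𝟙 X ≫ f = f) : AffAlg.algHom f f (𝟙 X) w = 𝟙 _ := by
  refine NatTrans.ext (funext fun U => ?_)
  rw [algHom_app f f _ w U.unop]
  simp only [Scheme.Hom.appLE, Scheme.Hom.id_app, NatTrans.id_app]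
  erw [X.presheaf.map_id, Category.id_comp]
  rfl

theorem algHom_comp {Z : Scheme.{u}} (e : Z ⟶ S) (h : Y ⟶ X) (k : Z ⟶ Y) (w : h ≫ f = g) (w' : k ≫ g = e)
    (w'' : (k ≫ h) ≫ f = e) :
    AffAlg.algHom f e (k ≫ h) w'' = AffAlg.algHom f g h w ≫ AffAlg.algHom g e k w' := by
  refine NatTrans.ext (funext fun U => ?_)
  rw [NatTrans.comp_app, algHom_app f e _ w'' U.unop, algHom_app f g _ w U.unop, algHom_app g e _ w' U.unop]
  exact (Scheme.Hom.appLE_comp_appLE ..).symm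

variable [IsAffineHom f]

theorem over_ext {h h' : Y ⟶ X} (w : h ≫ f = g) (w' : h' ≫ f = g)
    (he : AffAlg.algHom f g h w = AffAlg.algHom f g h' w') : h = h' := by
  refine EGAProj74.hom_ext_over g fun U hU => ?_
  have hU' : IsAffineOpen (f ⁻¹ᵁ U) := hU.preimage f
  have e : g ⁻¹ᵁ U ≤ h ⁻¹ᵁ (f ⁻¹ᵁ U) := by rw [← Scheme.Hom.comp_preimage, w]
  have e' : g ⁻¹ᵁ U ≤ h' ⁻¹ᵁ (f ⁻¹ᵁ U) := by rw [← Scheme.Hom.comp_preimage, w']
  rw [ι_comp_eq_toSpecΓ h hU' _ e, ι_comp_eq_toSpecΓ h' hU' _ e']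
  have := congr(($he).app (op U))
  rw [algHom_app, algHom_app] at this
  rw [this]

theorem exists_over (ω : AffAlg.alg f ⟶ AffAlg.alg g) (hω : f.c ≫ ω = g.c) :
    ∃ (h : Y ⟶ X) (w : h ≫ f = g), AffAlg.algHom f g h w = ω := by
  have hcompat : ∀ (U : S.Opens) (hU : IsAffineOpen U) (r : Γ(S, U)),
      Y.homOfLE (g.preimage_mono (S.basicOpen_le r)) ≫
          ((g ⁻¹ᵁ U).toSpecΓ ≫ Spec.map (ω.app (op U)) ≫ (hU.preimage f).fromSpec) =
        (g ⁻¹ᵁ S.basicOpen r).toSpecΓ ≫ Spec.map (ω.app (op (S.basicOpen r))) ≫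
          ((hU.basicOpen r).preimage f).fromSpec := by
    intro U hU r
    rw [← Scheme.Opens.toSpecΓ_SpecMap_presheaf_map_assoc _ _ (g.preimage_mono (S.basicOpen_le r)),
      ← (hU.preimage f).map_fromSpec ((hU.basicOpen r).preimage f)
        (homOfLE (f.preimage_mono (S.basicOpen_le r))).op, ← Spec.map_comp_assoc, ← Spec.map_comp_assoc]
    congr 3
    exact (ω.naturality (homOfLE (S.basicOpen_le r)).op).symm
  obtain ⟨h, hh, -⟩ := EGAProj74.existsUnique_glue g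
    (fun U hU => (g ⁻¹ᵁ U).toSpecΓ ≫ Spec.map (ω.app (op U)) ≫ (hU.preimage f).fromSpec) hcompat
  have w : h ≫ f = g := by
    refine EGAProj74.hom_ext_over g fun U hU => ?_
    rw [reassoc_of% (hh U hU), ← hU.SpecMap_appLE_fromSpec f (hU.preimage f) le_rfl, ← Spec.map_comp_assoc,
      ι_comp_eq_toSpecΓ g hU _ le_rfl]
    congr 3
    rw [← Scheme.Hom.app_eq_appLE, ← Scheme.Hom.app_eq_appLE]
    exact congr(($hω).app (op U))
  refine ⟨h, w, pushforward_hom_ext g fun U hU => ?_⟩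
  have e : g ⁻¹ᵁ U ≤ h ⁻¹ᵁ (f ⁻¹ᵁ U) := by rw [← Scheme.Hom.comp_preimage, w]
  have h1 := ι_comp_eq_toSpecΓ h (hU.preimage f) _ e
  rw [hh U hU] at h1
  rw [algHom_app f g h w U]
  simp only [← Category.assoc] at h1
  exact (toSpecΓ_SpecMap_injective ((cancel_mono _).1 h1)).symm

theorem algOf_bijective : Function.Bijective (AffAlg.algOf f g) := by
  refine ⟨fun h h' e => Subtype.ext (over_ext f g h.2 h'.2 (congrArg Subtype.val e)), fun ω => ?_⟩
  obtain ⟨h, w, e⟩ := exists_over f g ω.1 ω.2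
  exact ⟨⟨h, w⟩, Subtype.ext e⟩

theorem isClosedImmersion_of_algHom_surjective [IsAffineHom g] (h : Y ⟶ X) (w : h ≫ f = g)
    (hsurj : ∀ U : S.affineOpens, Function.Surjective ((AffAlg.algHom f g h w).app (op U.1)).hom) :
    IsClosedImmersion h := by
  refine IsZariskiLocalAtTarget.of_iSup_eq_top (P := @IsClosedImmersion) (fun U : S.affineOpens => f ⁻¹ᵁ U.1) (by
    rw [← Scheme.Hom.preimage_iSup, iSup_affineOpens_eq_top, Scheme.Hom.preimage_top]) fun U => ?_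
  have : IsAffine (f ⁻¹ᵁ U.1).toScheme := U.2.preimage f
  have hpre : g ⁻¹ᵁ U.1 = h ⁻¹ᵁ (f ⁻¹ᵁ U.1) := by rw [← Scheme.Hom.comp_preimage, w]
  have : IsAffine (h ⁻¹ᵁ (f ⁻¹ᵁ U.1)).toScheme := by rw [← hpre]; exact U.2.preimage g
  refine IsClosedImmersion.of_surjective_of_isAffine _ ?_
  have key : ∀ (V : X.Opens) (W : Y.Opens) (e : W ≤ h ⁻¹ᵁ V), V = f ⁻¹ᵁ U.1 → W = g ⁻¹ᵁ U.1 →
      Function.Surjective (h.appLE V W e).hom := by
    rintro V W e rfl rfl
    rw [← algHom_app f g h w]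
    exact hsurj U
  rw [Scheme.Hom.appTop, morphismRestrict_app']
  exact key _ _ _ (Scheme.Opens.ι_image_top _) ((Scheme.Opens.ι_image_top _).trans hpre.symm)

theorem isIso_iff_isIso_algHom [IsAffineHom g] (h : Y ⟶ X) (w : h ≫ f = g) :
    IsIso h ↔ IsIso (AffAlg.algHom f g h w) := by
  constructor
  · intro _
    have wi : inv h ≫ g = f := by rw [← w, IsIso.inv_hom_id_assoc]
    refine ⟨⟨AffAlg.algHom g f (inv h) wi, ?_, ?_⟩⟩
    · rw [← algHom_comp f g f h (inv h) w wi (by rw [Category.assoc, w, wi])]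
      simp only [IsIso.inv_hom_id]
      exact algHom_id f _
    · rw [← algHom_comp g f g (inv h) h wi w (by rw [Category.assoc, wi, w])]
      simp only [IsIso.hom_inv_id]
      exact algHom_id g _
  · intro _
    have hc : g.c ≫ inv (AffAlg.algHom f g h w) = f.c := by
      rw [IsIso.comp_inv_eq]; exact (AffAlg.algHom_comm f g h w).symm
    obtain ⟨k, wk, ek⟩ := exists_over g f _ hc
    refine ⟨⟨k, over_ext g g (by rw [Category.assoc, wk, w]) (Category.id_comp _) ?_,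
      over_ext f f (by rw [Category.assoc, w, wk]) (Category.id_comp _) ?_⟩⟩
    · rw [algHom_comp g f g k h wk w, ek, algHom_id, IsIso.inv_hom_id]
    · rw [algHom_comp f g f h k w wk, ek, algHom_id, IsIso.hom_inv_id]

end Groth.Agent.EGA73
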