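import Mathlib.AlgebraicGeometry.ValuativeCriterion
import Mathlib.AlgebraicGeometry.FunctionField
import Mathlib.RingTheory.Valuation.ValuationSubring

/-!
Properness tested on valuation rings of the function field.
-/

universe u

open CategoryTheory AlgebraicGeometry Limits IsLocalRing

namespace Groth.Agent.EGA73

/-- A hom out of `Spec` of a subring of a field from a stalk map landing in it. -/
theorem hom_of_mem {X : Scheme.{u}} {K : Type u} [Field K] (x : X)
    (σ : X.presheaf.stalk x ⟶ CommRingCat.of K) (R : ValuationSubring K) (h : ∀ a, σ.hom a ∈ R) :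
    ∃ l : Spec (CommRingCat.of R) ⟶ X,
      Spec.map (CommRingCat.ofHom R.subtype) ≫ l = Spec.map σ ≫ X.fromSpecStalk x := by
  refine ⟨Spec.map (CommRingCat.ofHom (σ.hom.codRestrict R.toSubring h)) ≫ X.fromSpecStalk x, ?_⟩
  rw [← Spec.map_comp_assoc]
  rfl

/-- The stalk map of a hom out of a valuation ring dominates. -/
theorem dominates_of_hom {X : Scheme.{u}} {K : Type u} [Field K] (R : ValuationSubring K)
    (l : Spec (CommRingCat.of R) ⟶ X)
    (σ : X.presheaf.stalk (l (closedPoint R)) ⟶ CommRingCat.of K)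
    (hσ : Spec.map σ ≫ X.fromSpecStalk _ = Spec.map (CommRingCat.ofHom R.subtype) ≫ l) :
    (∀ a, σ.hom a ∈ R) ∧ ∀ a ∈ maximalIdeal (X.presheaf.stalk (l (closedPoint R))), R.valuation (σ.hom a) < 1 := by
  have he : σ = Scheme.stalkClosedPointTo l ≫ CommRingCat.ofHom R.subtype := by
    apply Spec.map_injective
    rw [← cancel_mono (X.fromSpecStalk (l (closedPoint R))), hσ, Spec.map_comp, Category.assoc,
      Scheme.Spec_stalkClosedPointTo_fromSpecStalk]
  subst he
  refine ⟨fun a => ((Scheme.stalkClosedPointTo l).hom a).2, fun a ha => ?_⟩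
  refine (R.valuation_lt_one_iff _).1 (fun hu => ?_)
  exact ha (isUnit_of_map_unit (Scheme.stalkClosedPointTo l).hom a hu)

theorem isDominant_specMap {R : Type u} [CommRing R] [IsDomain R] {K : Type u} [Field K] (φ : R →+* K)
    (hφ : Function.Injective φ) : IsDominant (Spec.map (CommRingCat.ofHom φ)) := by
  constructor
  exact (PrimeSpectrum.denseRange_comap_iff_ker_le_nilRadical φ).mpr
    (by rw [(RingHom.injective_iff_ker_eq_bot φ).mp hφ]; exact bot_le)

theorem ext_of_generic {X : Scheme.{u}} [X.IsSeparated] {R : Type u} [CommRing R] [IsDomain R] {K : Type u}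
    [Field K] (φ : R →+* K) (hφ : Function.Injective φ) {l l' : Spec (CommRingCat.of R) ⟶ X}
    (h : Spec.map (CommRingCat.ofHom φ) ≫ l = Spec.map (CommRingCat.ofHom φ) ≫ l') : l = l' := by
  have := isDominant_specMap φ hφ
  exact ext_of_isDominant (ι := Spec.map (CommRingCat.ofHom φ)) h

theorem specializes_generic {X : Scheme.{u}} {K : Type u} [Field K] (R : ValuationSubring K)
    (l : Spec (CommRingCat.of R) ⟶ X) (g : Spec (CommRingCat.of K) ⟶ X)
    (h : Spec.map (CommRingCat.ofHom R.subtype) ≫ l = g) : g (closedPoint K) ⤳ l (closedPoint R) := by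
  subst h
  exact (IsLocalRing.specializes_closedPoint (R := R) _).map l.continuous

/-- Lifting for the nontrivial valuation rings of the function field gives the valuative criterion. -/
theorem existence_of_functionField {X Y : Scheme.{u}} [IsIntegral X] [X.IsSeparated] [Y.IsSeparated]
    (f : X ⟶ Y)
    (H : ∀ R : ValuationSubring X.functionField, R ≠ ⊤ → ∀ h : Spec (CommRingCat.of R) ⟶ Y,
      Spec.map (CommRingCat.ofHom R.subtype) ≫ h = X.fromSpecStalk (genericPoint X) ≫ f →
        ∃ l : Spec (CommRingCat.of R) ⟶ X,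
          Spec.map (CommRingCat.ofHom R.subtype) ≫ l = X.fromSpecStalk (genericPoint X)) :
    ValuativeCriterion.Existence f := by
  classical
  -- the case of a valuation ring in a residue field
  have core : ∀ (x : X) (V₀ : ValuationSubring (X.residueField x)) (h₀ : Spec (CommRingCat.of V₀) ⟶ Y),
      Spec.map (CommRingCat.ofHom V₀.subtype) ≫ h₀ = X.fromSpecResidueField x ≫ f →
        ∃ l₀ : Spec (CommRingCat.of V₀) ⟶ X,
          Spec.map (CommRingCat.ofHom V₀.subtype) ≫ l₀ = X.fromSpecResidueField x := by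
    intro x V₀ h₀ hh₀
    by_cases htop : V₀ = ⊤
    · obtain ⟨l, hl⟩ := hom_of_mem x (X.residue x) V₀ fun a => htop ▸ trivial
      exact ⟨l, hl⟩
    let σx : X.presheaf.stalk x ⟶ X.functionField :=
      X.presheaf.stalkSpecializes ((genericPoint_spec X).specializes trivial)
    obtain ⟨R₀, hR₀, hloc₀⟩ := exists_factor_valuationRing σx.hom
    let τ₀ : X.presheaf.stalk x →+* R₀ := σx.hom.codRestrict _ hR₀
    have : IsLocalHom τ₀ := hloc₀
    let j : X.residueField x →+* ResidueField R₀ := ResidueField.map τ₀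
    obtain ⟨V₁, hV₁, hloc₁⟩ := exists_factor_valuationRing (j.comp V₀.subtype)
    have hV₁' : ∀ z, j z ∈ V₁ → z ∈ V₀ := by
      intro z hz
      rcases V₀.mem_or_inv_mem z with hz' | hz'
      · exact hz'
      · by_cases hz0 : z = 0
        · exact hz0 ▸ V₀.zero_mem
        have hu : IsUnit ((j.comp V₀.subtype).codRestrict _ hV₁ ⟨z⁻¹, hz'⟩) :=
          IsUnit.of_mul_eq_one (⟨j z, hz⟩ : V₁.toSubring) (Subtype.ext (by
            show j z⁻¹ * j z = 1
            rw [← map_mul, inv_mul_cancel₀ hz0, map_one]))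
        have := hloc₁
        obtain ⟨u, hu'⟩ := isUnit_of_map_unit ((j.comp V₀.subtype).codRestrict _ hV₁) _ hu
        have h1 : z⁻¹ * ((↑(u⁻¹) : V₀) : X.residueField x) = 1 := by
          have := congrArg (fun t : V₀ => (t : X.residueField x)) u.mul_inv
          rw [hu'] at this
          exact this
        rw [(eq_inv_of_mul_eq_one_right h1).trans (inv_inv z) |>.symm]
        exact (↑(u⁻¹) : V₀).2
    let R₁ : ValuationSubring X.functionField :=
      { toSubring := (V₁.toSubring.comap (residue R₀)).map R₀.subtype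
        mem_or_inv_mem' := fun z => by
          rcases R₀.mem_or_inv_mem z with hz | hz
          · rcases V₁.mem_or_inv_mem (residue R₀ ⟨z, hz⟩) with h | h
            · exact Or.inl ⟨⟨z, hz⟩, h, rfl⟩
            · by_cases hr : residue R₀ ⟨z, hz⟩ = 0
              · exact Or.inl ⟨⟨z, hz⟩, (hr ▸ V₁.zero_mem : residue R₀ ⟨z, hz⟩ ∈ V₁), rfl⟩
              obtain ⟨u, hu⟩ : IsUnit (⟨z, hz⟩ : R₀) := (residue_ne_zero_iff_isUnit _).mp hr
              refine Or.inr ⟨↑u⁻¹, ?_, ?_⟩
              · show residue R₀ ↑u⁻¹ ∈ V₁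
                rw [show residue R₀ ↑u⁻¹ = (residue R₀ ⟨z, hz⟩)⁻¹ by
                  rw [← hu]; exact map_units_inv (residue R₀) u]
                exact h
              · show R₀.subtype ↑u⁻¹ = z⁻¹
                rw [map_units_inv R₀.subtype u, hu]
                rfl
          · by_cases hu : IsUnit (⟨z⁻¹, hz⟩ : R₀)
            · obtain ⟨u, hu⟩ := hu
              have hzR : z ∈ R₀ := by
                have : R₀.subtype ↑u⁻¹ = z := by rw [map_units_inv R₀.subtype u, hu]; exact inv_inv z
                exact this ▸ (↑u⁻¹ : R₀).2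
              rcases V₁.mem_or_inv_mem (residue R₀ ⟨z, hzR⟩) with h | h
              · exact Or.inl ⟨⟨z, hzR⟩, h, rfl⟩
              · refine Or.inr ⟨↑u, ?_, by rw [hu]; rfl⟩
                show residue R₀ ↑u ∈ V₁
                rw [show residue R₀ ↑u = (residue R₀ ⟨z, hzR⟩)⁻¹ from eq_inv_of_mul_eq_one_right (by
                  rw [← map_mul, ← map_one (residue R₀), hu]
                  congr 1
                  refine Subtype.ext (mul_inv_cancel₀ fun h0 => ?_)
                  exact u.ne_zero (hu.trans (Subtype.ext (by simp [show z = 0 from h0]))))]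
                exact h
            · refine Or.inr ⟨⟨z⁻¹, hz⟩, ?_, rfl⟩
              show residue R₀ ⟨z⁻¹, hz⟩ ∈ V₁
              rw [(residue_eq_zero_iff _).mpr hu]
              exact V₁.zero_mem }
    have hR₁le : ∀ a ∈ R₁, a ∈ R₀ := by rintro _ ⟨r, -, rfl⟩; exact r.2
    have hR₁res : ∀ r : R₀, (r : X.functionField) ∈ R₁ → residue R₀ r ∈ V₁ := by
      rintro r ⟨r', hr', he⟩
      exact (Subtype.ext he : r' = r) ▸ hr'
    have hR₁top : R₁ ≠ ⊤ := by
      intro h
      refine htop (eq_top_iff.mpr fun z _ => hV₁' z ?_)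
      obtain ⟨r, hr⟩ := residue_surjective (j z)
      exact hr ▸ hR₁res r (h ▸ trivial)
    have hx0 : f x ⤳ h₀ (closedPoint V₀) := by
      have := specializes_generic V₀ h₀ _ hh₀
      rwa [Scheme.Hom.comp_apply, Scheme.fromSpecResidueField_apply] at this
    let σy : Y.presheaf.stalk (h₀ (closedPoint V₀)) ⟶ X.presheaf.stalk x :=
      Y.presheaf.stalkSpecializes hx0 ≫ f.stalkMap x
    have hσy : Spec.map σy ≫ Y.fromSpecStalk _ = X.fromSpecStalk x ≫ f := by
      rw [Spec.map_comp, Category.assoc, Scheme.SpecMap_stalkSpecializes_fromSpecStalk,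
        Scheme.SpecMap_stalkMap_fromSpecStalk]
    have hmem : ∀ a, X.residue x (σy a) ∈ V₀ := (dominates_of_hom V₀ h₀ (σy ≫ X.residue x) (by
      rw [Spec.map_comp, Category.assoc, hσy, hh₀]; rfl)).1
    obtain ⟨h₁, hh₁⟩ := hom_of_mem (h₀ (closedPoint V₀)) (σy ≫ σx) R₁ fun a =>
      ⟨τ₀ (σy a), hV₁ ⟨_, hmem a⟩, rfl⟩
    rw [Spec.map_comp, Category.assoc, hσy, ← Category.assoc,
      Scheme.SpecMap_stalkSpecializes_fromSpecStalk] at hh₁
    obtain ⟨l₁, hl₁⟩ := H R₁ hR₁top h₁ hh₁
    let incl : R₁ →+* R₀ := R₁.subtype.codRestrict R₀.toSubring fun a => hR₁le _ a.2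
    have he : Spec.map (CommRingCat.ofHom incl) ≫ l₁ = Spec.map (CommRingCat.ofHom τ₀) ≫ X.fromSpecStalk x := by
      refine ext_of_generic R₀.subtype Subtype.val_injective ?_
      rw [← Spec.map_comp_assoc, ← Spec.map_comp_assoc]
      refine Eq.trans ?_ (Scheme.SpecMap_stalkSpecializes_fromSpecStalk ((genericPoint_spec X).specializes trivial : genericPoint X ⤳ x)).symm
      exact hl₁
    have he' : Spec.map (CommRingCat.ofHom ((residue R₀).comp incl)) ≫ l₁ =
        Spec.map (CommRingCat.ofHom j) ≫ X.fromSpecResidueField x := by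
      rw [CommRingCat.ofHom_comp, Spec.map_comp, Category.assoc, he, Scheme.fromSpecResidueField,
        ← Spec.map_comp_assoc, ← Spec.map_comp_assoc]
      rfl
    let c : Spec (CommRingCat.of (ResidueField R₀)) := closedPoint (ResidueField R₀)
    have hx1 : x ⤳ l₁ (closedPoint R₁) := by
      have hsp := (IsLocalRing.specializes_closedPoint (R := R₁)
        (Spec.map (CommRingCat.ofHom ((residue R₀).comp incl)) c)).map l₁.continuous
      have e : l₁ (Spec.map (CommRingCat.ofHom ((residue R₀).comp incl)) c) = x := by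
        rw [← Scheme.Hom.comp_apply, he', Scheme.Hom.comp_apply, Scheme.fromSpecResidueField_apply]
      exact (specializes_of_eq e.symm).trans hsp
    let x₁ := l₁ (closedPoint R₁)
    have hkey : X.presheaf.stalkSpecializes hx1 ≫ X.residue x ≫ CommRingCat.ofHom j =
        Scheme.stalkClosedPointTo l₁ ≫ CommRingCat.ofHom ((residue R₀).comp incl) := by
      apply Spec.map_injective
      rw [← cancel_mono (X.fromSpecStalk x₁), Spec.map_comp, Spec.map_comp, Category.assoc, Category.assoc,
        Scheme.SpecMap_stalkSpecializes_fromSpecStalk, Spec.map_comp, Category.assoc,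
        Scheme.Spec_stalkClosedPointTo_fromSpecStalk, he']
      rfl
    obtain ⟨l₀, hl₀⟩ := hom_of_mem x₁ (X.presheaf.stalkSpecializes hx1 ≫ X.residue x) V₀ fun a => hV₁' _ (by
      have := congrArg (fun k => k.hom a) hkey
      exact (show j ((X.presheaf.stalkSpecializes hx1 ≫ X.residue x).hom a) = _ from this) ▸
        hR₁res _ ((Scheme.stalkClosedPointTo l₁).hom a).2)
    refine ⟨l₀, hl₀.trans ?_⟩
    rw [Spec.map_comp, Category.assoc, Scheme.SpecMap_stalkSpecializes_fromSpecStalk]
    rfl
  intro S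
  obtain ⟨⟨x, ψ⟩, hxψ⟩ : ∃ p, (Scheme.SpecToEquivOfField S.K X).symm p = S.i₁ :=
    ⟨_, (Scheme.SpecToEquivOfField S.K X).symm_apply_apply _⟩
  change Spec.map ψ ≫ X.fromSpecResidueField x = S.i₁ at hxψ
  let Vs : ValuationSubring S.K :=
    { toSubring := (algebraMap S.R S.K).range
      mem_or_inv_mem' := fun z => ValuationRing.isInteger_or_isInteger S.R z }
  let eR : S.R ≃+* Vs := RingEquiv.ofBijective (algebraMap S.R S.K).rangeRestrict
    ⟨fun a b h => IsFractionRing.injective S.R S.K (congrArg Subtype.val h), RingHom.rangeRestrict_surjective _⟩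
  let V₀ : ValuationSubring (X.residueField x) := Vs.comap ψ.hom
  let ι : V₀ →+* S.R := eR.symm.toRingHom.comp ((ψ.hom.comp V₀.subtype).codRestrict Vs.toSubring fun a => a.2)
  have hι : (algebraMap S.R S.K).comp ι = ψ.hom.comp V₀.subtype := RingHom.ext fun a =>
    congrArg Subtype.val (eR.apply_symm_apply _)
  let y := S.i₂ (closedPoint S.R)
  have hxy : f x ⤳ y := by
    let c : Spec (CommRingCat.of S.K) := closedPoint S.K
    have h1 := (IsLocalRing.specializes_closedPoint (R := S.R)
      (Spec.map (CommRingCat.ofHom (algebraMap S.R S.K)) c)).map S.i₂.continuous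
    have h2 : S.i₂ (Spec.map (CommRingCat.ofHom (algebraMap S.R S.K)) c) = f x := by
      rw [← Scheme.Hom.comp_apply, ← S.commSq.w, ← hxψ]
      simp only [Scheme.Hom.comp_apply, Scheme.fromSpecResidueField_apply]
    exact (specializes_of_eq h2.symm).trans h1
  let σ₀ := Y.presheaf.stalkSpecializes hxy ≫ f.stalkMap x ≫ X.residue x
  have hσ₀ : Spec.map σ₀ ≫ Y.fromSpecStalk y = X.fromSpecResidueField x ≫ f := by
    rw [Spec.map_comp, Spec.map_comp, Category.assoc, Category.assoc,
      Scheme.SpecMap_stalkSpecializes_fromSpecStalk, Scheme.SpecMap_stalkMap_fromSpecStalk]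
    rfl
  have hψσ : σ₀ ≫ ψ = Scheme.stalkClosedPointTo S.i₂ ≫ CommRingCat.ofHom (algebraMap S.R S.K) := by
    apply Spec.map_injective
    rw [← cancel_mono (Y.fromSpecStalk y), Spec.map_comp, Category.assoc, hσ₀, Spec.map_comp, Category.assoc,
      Scheme.Spec_stalkClosedPointTo_fromSpecStalk, ← Category.assoc, hxψ, S.commSq.w]
  obtain ⟨h₀, hh₀⟩ := hom_of_mem y σ₀ V₀ fun a =>
    ⟨(Scheme.stalkClosedPointTo S.i₂).hom a, (congrArg (fun k => k.hom a) hψσ).symm⟩
  obtain ⟨l₀, hl₀⟩ := core x V₀ h₀ (hh₀.trans hσ₀)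
  have hgen : Spec.map (CommRingCat.ofHom (algebraMap S.R S.K)) ≫ Spec.map (CommRingCat.ofHom ι) ≫ l₀ = S.i₁ := by
    rw [← Spec.map_comp_assoc, ← CommRingCat.ofHom_comp, hι, CommRingCat.ofHom_comp, Spec.map_comp,
      Category.assoc, hl₀, ← hxψ]
    rfl
  refine ⟨⟨⟨Spec.map (CommRingCat.ofHom ι) ≫ l₀, hgen,
    ext_of_generic (algebraMap S.R S.K) (IsFractionRing.injective S.R S.K) ?_⟩⟩⟩
  rw [← Category.assoc, hgen, S.commSq.w]

/-- The translation from dominated points to lifts. -/
theorem exists_dominated_of_hom {X Y : Scheme.{u}} [IsIntegral X] (f : X ⟶ Y)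
    (R : ValuationSubring X.functionField) (h : Spec (CommRingCat.of R) ⟶ Y)
    (hh : Spec.map (CommRingCat.ofHom R.subtype) ≫ h = X.fromSpecStalk (genericPoint X) ≫ f) :
    ∃ (y : Y) (hy : f.base (genericPoint X) ⤳ y),
      (∀ a : (Y.presheaf.stalk y), (Y.presheaf.stalkSpecializes hy ≫ f.stalkMap (genericPoint X)).hom a ∈ R) ∧
        ∀ a ∈ maximalIdeal (Y.presheaf.stalk y),
          R.valuation ((Y.presheaf.stalkSpecializes hy ≫ f.stalkMap (genericPoint X)).hom a) < 1 := by
  have h0 := specializes_generic R h _ hh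
  rw [Scheme.Hom.comp_apply] at h0
  have h1 : f.base (genericPoint X) ⤳ h (closedPoint R) :=
    (specializes_of_eq (congrArg f.base Scheme.fromSpecStalk_closedPoint.symm)).trans h0
  refine ⟨_, h1, dominates_of_hom R h _ ?_⟩
  rw [Spec.map_comp, Category.assoc, Scheme.SpecMap_stalkSpecializes_fromSpecStalk,
    Scheme.SpecMap_stalkMap_fromSpecStalk, hh]

theorem exists_lift_of_dominated {X : Scheme.{u}} [IsIntegral X] (R : ValuationSubring X.functionField) (x : X)
    (hx : ∀ a : X.presheaf.stalk x, algebraMap (X.presheaf.stalk x) X.functionField a ∈ R) :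
    ∃ l : Spec (CommRingCat.of R) ⟶ X,
      Spec.map (CommRingCat.ofHom R.subtype) ≫ l = X.fromSpecStalk (genericPoint X) := by
  obtain ⟨l, hl⟩ := hom_of_mem x
    (X.presheaf.stalkSpecializes ((genericPoint_spec X).specializes trivial)) R hx
  exact ⟨l, hl.trans (Scheme.SpecMap_stalkSpecializes_fromSpecStalk _)⟩

end Groth.Agent.EGA73
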