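import Groth.Agent.Curves2.Glue.Discrete

/-!
The invertible module defined by a cocycle of functions.
-/

set_option autoImplicit false
set_option backward.isDefEq.respectTransparency false

universe u

open CategoryTheory CategoryTheory.Limits AlgebraicGeometry TopologicalSpace
open Groth.Agent.Var76.LineBundle

noncomputable section

namespace Groth.Agent.EGA73

open Var76.ZeroScheme Curves2.Glue

variable {X : Scheme.{u}} {ι : Type u} {W : ι → X.Opens}

theorem fres_eq_of_locally {V : X.Opens} (a b : Γ(X, V))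
    (h : ∀ x ∈ V, ∃ (A : X.Opens) (hA : A ≤ V), x ∈ A ∧ fres hA a = fres hA b) : a = b := by
  choose A hA hx he using h
  exact TopCat.Sheaf.eq_of_locally_eq' X.sheaf (fun x : V => A x.1 x.2) V (fun x => homOfLE (hA x.1 x.2))
    (fun y hy => Opens.mem_iSup.2 ⟨⟨y, hy⟩, hx y hy⟩) a b fun x => he x.1 x.2

/-- The module of the families of functions transforming by the cocycle. -/
def cocycleSub (c : ∀ i j, Γ(X, W i ⊓ W j)) : QC70.LocalSubmod (amb W (Coh.structureModule X)) where
  obj V :=
    { carrier := {x | (fstP W _).app V x = 0 ∧ ∀ (i j : ι) (A : X.Opens) (hi : A ≤ V ⊓ W i) (hj : A ≤ V ⊓ W j),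
        fres hi (coord W _ i V x) = fres (le_inf (hi.trans inf_le_right) (hj.trans inf_le_right)) (c i j) *
          fres hj (coord W _ j V x)}
      zero_mem' := ⟨map_zero _, fun i j A hi hj => by simp [coord_zero, fres]⟩
      add_mem' := fun {x y} hx hy => ⟨by rw [map_add, hx.1, hy.1, add_zero], fun i j A hi hj => by
        have h1 := hx.2 i j A hi hj
        have h2 := hy.2 i j A hi hj
        simp only [fres, coord_add, map_add] at h1 h2 ⊢
        rw [h1, h2, mul_add]⟩
      smul_mem' := fun a x hx => ⟨by rw [Scheme.Modules.Hom.app_smul, hx.1, smul_zero], fun i j A hi hj => by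
        have h1 := hx.2 i j A hi hj
        simp only [fres, coord_smul, map_mul, map_map_fn] at h1 ⊢
        rw [h1, mul_left_comm]⟩ }
  res_mem {V V'} h x hx := ⟨by rw [Mero90.app_res, hx.1]; exact map_zero _, fun i j A hi hj => by
    have h1 := hx.2 i j A (hi.trans (inf_le_inf_right _ h)) (hj.trans (inf_le_inf_right _ h))
    simp only [fres, coord_res, map_map_fn] at h1 ⊢
    exact h1⟩
  of_locally {V} x hx := by
    refine ⟨Var76.ZeroScheme.eq_of_locally _ _ _ fun y hy => ?_, fun i j A hi hj =>
      fres_eq_of_locally _ _ fun y hy => ?_⟩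
    · obtain ⟨V', hle, hyV', hmem⟩ := hx y hy
      refine ⟨V', hle, hyV', ?_⟩
      rw [← Mero90.app_res]
      exact hmem.1.trans (map_zero _).symm
    · obtain ⟨V', hle, hyV', hmem⟩ := hx y (hi hy).1
      refine ⟨A ⊓ V', inf_le_left, ⟨hy, hyV'⟩, ?_⟩
      have h1 := hmem.2 i j (A ⊓ V') (le_inf inf_le_right ((inf_le_left.trans hi).trans inf_le_right))
        (le_inf inf_le_right ((inf_le_left.trans hj).trans inf_le_right))
      simp only [fres, coord_res, map_mul, map_map_fn] at h1 ⊢
      exact h1

theorem exists_lineBundle (hcov : ∀ x : X, ∃ i, x ∈ W i) (c : ∀ i j, Γ(X, W i ⊓ W j))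
    (h1 : ∀ i, c i i = 1)
    (h3 : ∀ (i j k : ι) (A : X.Opens) (hij : A ≤ W i ⊓ W j) (hjk : A ≤ W j ⊓ W k) (hik : A ≤ W i ⊓ W k),
      fres hij (c i j) * fres hjk (c j k) = fres hik (c i k)) :
    ∃ (N : X.Modules) (g : ∀ i, Γ(N, W i)), PicF.IsInvertible N ∧ (∀ i, IsFrame N (W i) (g i)) ∧
      ∀ i j, res N inf_le_right (g j) = c i j • res N inf_le_left (g i) := by
  let P := Coh.structureModule X
  have hex : ∀ j, ∃ x : Γ(amb W P, W j), x ∈ (cocycleSub c).obj (W j) ∧
      (fstP W P).app (W j) x = 0 ∧
      ∀ i, coord W P i (W j) x = fres (le_inf inf_le_right inf_le_left : W j ⊓ W i ≤ W i ⊓ W j) (c i j) := by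
    intro j
    obtain ⟨x, hx1, hx2⟩ := exists_amb W P (W j) 0
      fun i => fres (le_inf inf_le_right inf_le_left : W j ⊓ W i ≤ W i ⊓ W j) (c i j)
    refine ⟨x, ⟨hx1, fun i k A hi hk => ?_⟩, hx1, hx2⟩
    rw [hx2, hx2, fres_fres, fres_fres]
    exact (h3 i k j A _ _ _).symm
  choose G hG hG0 hGc using hex
  let g : ∀ j, Γ((cocycleSub c).mod, W j) := fun j => (⟨G j, hG j⟩ : (cocycleSub c).obj (W j))
  have hframe : ∀ j, IsFrame (cocycleSub c).mod (W j) (g j) := by
    intro j V hV
    refine ⟨fun a b hab => ?_, fun t => ?_⟩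
    · have e1 : a • res (amb W P) hV (G j) = b • res (amb W P) hV (G j) := congrArg Subtype.val hab
      have e2 := congrArg (coord W P j V) e1
      simp only [coord_smul, coord_res, hGc, h1, fres, map_one, mul_one] at e2
      exact (ParaF26.bijective_map_of_eq (inf_le_left : V ⊓ W j ≤ V) (le_inf le_rfl hV)).1 e2
    · let y := (show (cocycleSub c).obj V from t).1
      have hy := (show (cocycleSub c).obj V from t).2
      obtain ⟨a, ha⟩ := (ParaF26.bijective_map_of_eq (inf_le_left : V ⊓ W j ≤ V)
        (le_inf le_rfl hV)).2 (coord W P j V y)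
      refine ⟨a, Subtype.ext (ext_amb W P ?_ fun i => ?_)⟩
      · show (fstP W P).app V (a • res (amb W P) hV (G j)) = (fstP W P).app V y
        rw [Scheme.Modules.Hom.app_smul, Mero90.app_res, hG0]
        exact (by simp : a • res P hV 0 = 0).trans hy.1.symm
      · show coord W P i V (a • res (amb W P) hV (G j)) = coord W P i V y
        have hA : V ⊓ W i ≤ V ⊓ W j := le_inf inf_le_left (inf_le_left.trans hV)
        have e := hy.2 i j (V ⊓ W i) le_rfl hA
        rw [← ha] at e
        rw [coord_smul, coord_res, hGc]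
        simp only [fres, map_map_fn, map_self_fn] at e ⊢
        rw [e, mul_comm]
  refine ⟨_, g, Mero90.isInvertible_of_frames fun x => ?_, hframe, fun i j => ?_⟩
  · obtain ⟨i, hi⟩ := hcov x
    exact ⟨W i, hi, g i, hframe i⟩
  · refine Subtype.ext (ext_amb W P ?_ fun k => ?_)
    · show (fstP W P).app _ (res (amb W P) inf_le_right (G j)) =
        (fstP W P).app _ (c i j • res (amb W P) inf_le_left (G i))
      rw [Scheme.Modules.Hom.app_smul, Mero90.app_res, Mero90.app_res, hG0, hG0]
      simp
    · show coord W P k _ (res (amb W P) inf_le_right (G j)) =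
        coord W P k _ (c i j • res (amb W P) inf_le_left (G i))
      rw [coord_smul, coord_res, coord_res, hGc, hGc]
      have e := h3 k i j (W i ⊓ W j ⊓ W k) (le_inf inf_le_right (inf_le_left.trans inf_le_left))
        inf_le_left (le_inf inf_le_right (inf_le_left.trans inf_le_right))
      simp only [fres, map_map_fn] at e ⊢
      rw [← e, mul_comm]

end Groth.Agent.EGA73
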