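import Groth.Prelude.Def_CohB1
import Groth.Agent.Curves2.ProjLine
import Mathlib.AlgebraicGeometry.ProjectiveSpectrum.Basic

/-!
The standard rational point of projective space; projective `0`-space.
-/

set_option autoImplicit false
set_option backward.isDefEq.respectTransparency.types false

universe u

open CategoryTheory CategoryTheory.Limits AlgebraicGeometry HomogeneousLocalization

noncomputable section

namespace Groth.Agent.EGA73

variable (n : ℕ) (R : Type u) [CommRing R]

local notation "𝒜" => CohB1.polyGrading n R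
local notation "T₀" => (MvPolynomial.X 0 : MvPolynomial (Fin (n + 1)) R)

theorem X_zero_mem : T₀ ∈ 𝒜 1 := MvPolynomial.isHomogeneous_X R 0

/-- Evaluation at `(1, 0, …, 0)`. -/
def evalPt : Away 𝒜 T₀ →+* R :=
  (IsLocalization.Away.lift (S := Localization.Away T₀) T₀
    (g := (MvPolynomial.aeval (fun j : Fin (n + 1) => if j = 0 then (1 : R) else 0)).toRingHom)
    (by simp)).comp (algebraMap _ _)

/-- The constants. -/
def constAway : R →+* Away 𝒜 T₀ :=
  (HomogeneousLocalization.fromZeroRingHom 𝒜 _).comp (algebraMap R (𝒜 0))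

theorem val_constAway (r : R) :
    (constAway n R r).val = algebraMap (MvPolynomial (Fin (n + 1)) R) (Localization.Away T₀) (MvPolynomial.C r) := by
  show (HomogeneousLocalization.mk _).val = _
  rw [HomogeneousLocalization.val_mk, Localization.mk_eq_mk']
  exact IsLocalization.mk'_one _ _

theorem evalPt_constAway (r : R) : evalPt n R (constAway n R r) = r := by
  rw [evalPt, RingHom.comp_apply, HomogeneousLocalization.algebraMap_apply, val_constAway,
    IsLocalization.Away.lift_eq]
  simp

/-- The section `(1 : 0 : … : 0)`. -/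
def stdSection : Spec (CommRingCat.of R) ⟶ CohB1.ProjSpace n R :=
  Spec.map (CommRingCat.ofHom (evalPt n R)) ≫
    Proj.awayι 𝒜 T₀ (X_zero_mem n R) Nat.one_pos

theorem awayι_toSpec :
    Proj.awayι 𝒜 T₀ (X_zero_mem n R) Nat.one_pos ≫ CohB1.ProjSpace.toSpec n R =
      Spec.map (CommRingCat.ofHom (constAway n R)) := by
  rw [CohB1.ProjSpace.toSpec]
  erw [Proj.awayι_toSpecZero_assoc]
  rw [← Spec.map_comp]
  rfl

theorem stdSection_toSpec : stdSection n R ≫ CohB1.ProjSpace.toSpec n R = 𝟙 _ := by
  rw [stdSection, Category.assoc]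
  erw [awayι_toSpec]
  rw [← Spec.map_comp, ← Spec.map_id]
  exact congrArg Spec.map (CommRingCat.hom_ext (RingHom.ext (evalPt_constAway n R)))

theorem surjective_toSpec : Surjective (CohB1.ProjSpace.toSpec n R) :=
  ⟨fun x => ⟨stdSection n R x, by
    rw [← Scheme.Hom.comp_apply, stdSection_toSpec]; rfl⟩⟩

theorem surjective_toBase (Y : Scheme.{u}) : Surjective (CohB1.ProjSpaceOver.toBase n Y) := by
  have := surjective_toSpec n (ULift.{u} ℤ)
  exact MorphismProperty.pullback_snd _ _ this

theorem isIso_toSpec_zero : IsIso (CohB1.ProjSpace.toSpec 0 R) := by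
  haveI hsub : Subsingleton (Fin (0 + 1)) := inferInstanceAs (Subsingleton (Fin 1))
  have htop : Proj.basicOpen (CohB1.polyGrading 0 R) (MvPolynomial.X 0) = ⊤ := by
    have h := Proj.iSup_basicOpen_eq_top' (CohB1.polyGrading 0 R)
      (fun _ : Unit => (MvPolynomial.X 0 : MvPolynomial (Fin 1) R))
      (fun _ => ⟨1, MvPolynomial.isHomogeneous_X R _⟩) (top_le_iff.1 ?_)
    · rw [iSup_const] at h; exact h
    intro x hx
    clear hx
    induction x using MvPolynomial.induction_on with
    | C a =>
      exact Subalgebra.algebraMap_mem _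
        (⟨MvPolynomial.C a, MvPolynomial.isHomogeneous_C _ a⟩ : CohB1.polyGrading 0 R 0)
    | add p q hp hq => exact add_mem hp hq
    | mul_X p i hp =>
      exact mul_mem hp (Algebra.subset_adjoin ⟨(), by rw [Subsingleton.elim i 0]⟩)
  have hiso : IsIso (Proj.awayι (CohB1.polyGrading 0 R) (MvPolynomial.X 0)
      (X_zero_mem 0 R) Nat.one_pos) :=
    isIso_of_isOpenImmersion_of_opensRange_eq_top _ ((Proj.opensRange_awayι _ _ _ _).trans htop)
  have hb : Function.Bijective (constAway 0 R) := by
    refine ⟨Function.LeftInverse.injective (evalPt_constAway 0 R), fun z => ?_⟩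
    obtain ⟨d, p, hp, rfl⟩ := Away.mk_surjective (CohB1.polyGrading 0 R)
      (X_zero_mem 0 R) z
    have hpc : p = MvPolynomial.C (MvPolynomial.eval (fun _ => (1 : R)) p) * MvPolynomial.X 0 ^ d := by
      have hd : p.IsHomogeneous d := by simpa using hp
      apply MvPolynomial.ext
      intro m
      have hm : m = Finsupp.single 0 (m 0) := Finsupp.ext fun i => by
        rw [Subsingleton.elim i 0, Finsupp.single_eq_same]
      have heval : MvPolynomial.eval (fun _ => (1 : R)) p =
          MvPolynomial.coeff (Finsupp.single 0 d) p := by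
        rw [MvPolynomial.eval_eq]
        simp only [one_pow, Finset.prod_const_one, mul_one]
        refine Finset.sum_eq_single _ (fun b hb hne => ?_) (fun h => MvPolynomial.notMem_support_iff.1 h)
        refine absurd ?_ hne
        have := hd (MvPolynomial.mem_support_iff.1 hb)
        refine Finsupp.ext fun i => ?_
        rw [Subsingleton.elim i 0, Finsupp.single_eq_same, ← this]
        simp [Finsupp.weight_apply, Finsupp.sum_fintype]
      rw [heval, MvPolynomial.C_mul_X_pow_eq_monomial, MvPolynomial.coeff_monomial]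
      split
      · next h => rw [← h]
      · next h =>
        by_contra hne
        refine h (Finsupp.ext fun i => ?_)
        rw [Subsingleton.elim i 0, Finsupp.single_eq_same, ← hd hne]
        simp [Finsupp.weight_apply, Finsupp.sum_fintype]
    refine ⟨MvPolynomial.eval (fun _ => (1 : R)) p, HomogeneousLocalization.val_injective _ ?_⟩
    rw [val_constAway, Away.val_mk, Localization.mk_eq_mk', IsLocalization.eq_mk'_iff_mul_eq,
      ← map_mul]
    exact congrArg (algebraMap _ (Localization.Away _)) hpc.symm
  have h := awayι_toSpec 0 R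
  have : IsIso (CommRingCat.ofHom (constAway 0 R)) :=
    (ConcreteCategory.isIso_iff_bijective _).2 hb
  have h2 : IsIso (Proj.awayι (CohB1.polyGrading 0 R) (MvPolynomial.X 0)
      (X_zero_mem 0 R) Nat.one_pos ≫ CohB1.ProjSpace.toSpec 0 R) := by
    rw [h]; infer_instance
  exact @IsIso.of_isIso_comp_left _ _ _ _ _ _ _ hiso h2

end Groth.Agent.EGA73
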