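import Groth.Agent.EGA73.ImmersionPn
import Groth.Agent.EGAProj74.BundleClass

/-!
Immersions into projective bundles: the criterion by affine generating loci.
-/

set_option autoImplicit false
set_option backward.isDefEq.respectTransparency.types false

universe u

open CategoryTheory CategoryTheory.Limits AlgebraicGeometry Opposite TopologicalSpace

noncomputable section

namespace Groth.Agent.EGA73.BundleImmersion

open Groth.Agent.Var76.LineBundle Groth.Agent.EGAProj74

/-- A morphism is an immersion if near every point of the image it is affine with surjective comorphism. -/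
theorem isImmersion_of_charts {X Y : Scheme.{u}} (i : X ⟶ Y)
    (hd : ∀ z : X, ∃ O : Y.Opens, IsAffineOpen O ∧ i z ∈ O ∧ IsAffineOpen (i ⁻¹ᵁ O) ∧
      Function.Surjective (i.app O)) : IsImmersion i := by
  choose O hO hzO hOG hsurj using hd
  let W := ⨆ z, O z
  have hrange : Set.range i.base ⊆ Set.range W.ι.base := by
    rintro _ ⟨z, rfl⟩
    rw [Scheme.Opens.range_ι]
    exact Opens.mem_iSup.2 ⟨z, hzO z⟩
  let i' := IsOpenImmersion.lift W.ι i hrange
  have hfac : i' ≫ W.ι = i := IsOpenImmersion.lift_fac W.ι i hrange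
  have : IsClosedImmersion i' := by
    refine IsZariskiLocalAtTarget.of_iSup_eq_top (fun z => W.ι ⁻¹ᵁ O z) ?_ fun z => ?_
    · rw [← Scheme.Hom.preimage_iSup]
      exact W.ι_preimage_self
    · have hpre : i' ⁻¹ᵁ (W.ι ⁻¹ᵁ O z) = i ⁻¹ᵁ O z := by rw [← Scheme.Hom.comp_preimage, hfac]
      refine ImmersionPn.isClosedImmersion_restrict i' ((hO z).preimage_of_isOpenImmersion _ (by
        rw [Scheme.Opens.opensRange_ι]; exact le_iSup O z)) (hpre ▸ hOG z) ?_
      refine Function.Surjective.of_comp (g := W.ι.app (O z)) ?_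
      have key : ∀ (k : X ⟶ Y) (_ : k = i), Function.Surjective (k.app (O z)) := by
        rintro k rfl
        exact hsurj z
      have h2 := key _ hfac
      rw [Scheme.Hom.comp_app] at h2
      exact h2
  exact hfac ▸ inferInstance

section charts

variable {S X : Scheme.{u}} {L : X.Modules}

/-- The largest open on which a local section is a frame. -/
def flocus {W : X.Opens} (s : Γ(L, W)) : X.Opens := sSup {V | ∃ hV : V ≤ W, IsFrame L V (res L hV s)}

theorem flocus_le {W : X.Opens} (s : Γ(L, W)) : flocus s ≤ W := sSup_le fun _ hV => hV.1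

theorem le_flocus {W : X.Opens} (s : Γ(L, W)) {V : X.Opens} (hV : V ≤ W) (h : IsFrame L V (res L hV s)) :
    V ≤ flocus s := le_sSup ⟨hV, h⟩

theorem isFrame_flocus {W : X.Opens} (s : Γ(L, W)) : IsFrame L (flocus s) (res L (flocus_le s) s) :=
  Amp73.isFrame_of_locally _ fun x hx => by
    obtain ⟨V, hV, hxV⟩ := Opens.mem_sSup.mp hx
    refine ⟨V, le_sSup hV, hxV, ?_⟩
    rw [res_res]
    exact hV.2

/-- The functions of the base and the ratios of `T` by `s`. -/
def chartGens (g : X ⟶ S) (U : S.affineOpens) (T : Set Γ(L, g ⁻¹ᵁ U.1)) (s : Γ(L, g ⁻¹ᵁ U.1))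
    {G : X.Opens} (hG : G ≤ g ⁻¹ᵁ U.1) : Set Γ(X, G) :=
  Set.range (g.appLE U.1 G hG) ∪ {a | ∃ s' ∈ T, a • res L hG s = res L hG s'}

theorem chartGens_mono (g : X ⟶ S) (U : S.affineOpens) {T T' : Set Γ(L, g ⁻¹ᵁ U.1)} (h : T ⊆ T')
    (s : Γ(L, g ⁻¹ᵁ U.1)) {G : X.Opens} (hG : G ≤ g ⁻¹ᵁ U.1) : chartGens g U T s hG ⊆ chartGens g U T' s hG :=
  Set.union_subset_union_right _ fun _ ⟨s', hs', he⟩ => ⟨s', h hs', he⟩

/-- `x` lies in an affine basic open of the locus of a member of `T` whose functions come from ratios. -/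
def HasChart (g : X ⟶ S) (U : S.affineOpens) (T : Set Γ(L, g ⁻¹ᵁ U.1)) (x : X) : Prop :=
  ∃ s ∈ T, ∃ c : Γ(X, flocus s), c ∈ Subring.closure (chartGens g U T s (flocus_le s)) ∧ x ∈ X.basicOpen c ∧
    IsAffineOpen (X.basicOpen c) ∧
    Subring.closure (Var76.ZeroScheme.fres (X.basicOpen_le c) '' chartGens g U T s (flocus_le s) ∪
      {d | d * Var76.ZeroScheme.fres (X.basicOpen_le c) c = 1}) = ⊤

theorem HasChart.mono {g : X ⟶ S} {U : S.affineOpens} {T T' : Set Γ(L, g ⁻¹ᵁ U.1)} {x : X}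
    (h : HasChart g U T x) (hT : T ⊆ T') : HasChart g U T' x := by
  obtain ⟨s, hs, c, hc, hx, ha, hcl⟩ := h
  refine ⟨s, hT hs, c, Subring.closure_mono (chartGens_mono g U hT s _) hc, hx, ha, top_le_iff.1 (hcl.ge.trans ?_)⟩
  exact Subring.closure_mono (Set.union_subset_union_left _ (Set.image_mono (chartGens_mono g U hT s _)))

theorem HasChart.mem {g : X ⟶ S} {U : S.affineOpens} {T : Set Γ(L, g ⁻¹ᵁ U.1)} {x : X}
    (h : HasChart g U T x) : x ∈ g ⁻¹ᵁ U.1 := by
  obtain ⟨s, -, c, -, hx, -⟩ := h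
  exact flocus_le s (X.basicOpen_le c hx)

/-- A chart from an affine locus. -/
theorem hasChart_of_closure {g : X ⟶ S} {U : S.affineOpens} {T : Set Γ(L, g ⁻¹ᵁ U.1)} {x : X}
    {s : Γ(L, g ⁻¹ᵁ U.1)} (hs : s ∈ T) {G : X.Opens} (hG : G ≤ g ⁻¹ᵁ U.1) (hGe : flocus s = G)
    (hx : x ∈ G) (hGa : IsAffineOpen G) (hcl : Subring.closure (chartGens g U T s hG) = ⊤) :
    HasChart g U T x := by
  subst hGe
  refine ⟨s, hs, 1, one_mem _, ?_, ?_, ?_⟩
  · rwa [Scheme.basicOpen_of_isUnit _ isUnit_one]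
  · rwa [Scheme.basicOpen_of_isUnit _ isUnit_one]
  · refine top_le_iff.1 fun a _ => ?_
    have hb : flocus s ≤ X.basicOpen (1 : Γ(X, flocus s)) := (Scheme.basicOpen_of_isUnit _ isUnit_one).ge
    have ha : Var76.ZeroScheme.fres (X.basicOpen_le _) (Var76.ZeroScheme.fres hb a) = a := by
      simp only [Var76.ZeroScheme.fres]
      rw [← CommRingCat.comp_apply, ← X.presheaf.map_comp]
      exact congr($(X.presheaf.map_id _).hom a)
    rw [← ha]
    let ρ : Γ(X, flocus s) →+* Γ(X, X.basicOpen (1 : Γ(X, flocus s))) := (X.presheaf.map (homOfLE (X.basicOpen_le _)).op).hom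
    have h : ρ (Var76.ZeroScheme.fres hb a) ∈ Subring.map ρ (Subring.closure (chartGens g U T s hG)) :=
      Subring.mem_map.2 ⟨_, hcl.ge (Subring.mem_top _), rfl⟩
    rw [RingHom.map_closure] at h
    exact Subring.closure_mono Set.subset_union_left h

theorem exists_finite_mem_closure {R ι : Type*} [CommRing R] {F : Set ι → Set R}
    (hF : ∀ {A B : Set ι}, A ⊆ B → F A ⊆ F B) {T : Set ι}
    (h : ∀ a ∈ F T, ∃ T₀ ⊆ T, T₀.Finite ∧ a ∈ F T₀) {a : R} (ha : a ∈ Subring.closure (F T)) :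
    ∃ T₀ ⊆ T, T₀.Finite ∧ a ∈ Subring.closure (F T₀) := by
  induction ha using Subring.closure_induction with
  | mem x hx =>
    obtain ⟨T₀, h1, h2, h3⟩ := h x hx
    exact ⟨T₀, h1, h2, Subring.subset_closure h3⟩
  | zero => exact ⟨∅, Set.empty_subset _, Set.finite_empty, zero_mem _⟩
  | one => exact ⟨∅, Set.empty_subset _, Set.finite_empty, one_mem _⟩
  | add x y _ _ hx hy =>
    obtain ⟨A, hA, hA', hxA⟩ := hx
    obtain ⟨B, hB, hB', hyB⟩ := hy
    exact ⟨A ∪ B, Set.union_subset hA hB, hA'.union hB', add_mem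
      (Subring.closure_mono (hF Set.subset_union_left) hxA) (Subring.closure_mono (hF Set.subset_union_right) hyB)⟩
  | neg x _ hx =>
    obtain ⟨A, hA, hA', hxA⟩ := hx
    exact ⟨A, hA, hA', neg_mem hxA⟩
  | mul x y _ _ hx hy =>
    obtain ⟨A, hA, hA', hxA⟩ := hx
    obtain ⟨B, hB, hB', hyB⟩ := hy
    exact ⟨A ∪ B, Set.union_subset hA hB, hA'.union hB', mul_mem
      (Subring.closure_mono (hF Set.subset_union_left) hxA) (Subring.closure_mono (hF Set.subset_union_right) hyB)⟩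

/-- For a morphism of finite type a chart needs only finitely many sections. -/
theorem HasChart.exists_finite {g : X ⟶ S} [LocallyOfFiniteType g] {U : S.affineOpens}
    {T : Set Γ(L, g ⁻¹ᵁ U.1)} {x : X} (h : HasChart g U T x) :
    ∃ T₀ ⊆ T, T₀.Finite ∧ HasChart g U T₀ x := by
  classical
  obtain ⟨s, hs, c, hc, hx, ha, hcl⟩ := h
  have hgen : ∀ a ∈ chartGens g U T s (flocus_le s), ∃ T₀ ⊆ T, T₀.Finite ∧ a ∈ chartGens g U T₀ s (flocus_le s) := by
    rintro a (ha' | ⟨s', hs', he⟩)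
    · exact ⟨∅, Set.empty_subset _, Set.finite_empty, Set.mem_union_left _ ha'⟩
    · exact ⟨{s'}, Set.singleton_subset_iff.2 hs', Set.finite_singleton _, Set.mem_union_right _ ⟨s', rfl, he⟩⟩
  obtain ⟨A, hA, hA', hcA⟩ := exists_finite_mem_closure (fun h => chartGens_mono g U h s _) hgen hc
  have hbU : X.basicOpen c ≤ g ⁻¹ᵁ U.1 := (X.basicOpen_le c).trans (flocus_le s)
  let := (g.appLE U.1 (X.basicOpen c) hbU).hom.toAlgebra
  have : Algebra.FiniteType Γ(S, U.1) Γ(X, X.basicOpen c) := g.finiteType_appLE U.2 ha hbU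
  obtain ⟨B, hB⟩ := this.out
  let F : Set Γ(L, g ⁻¹ᵁ U.1) → Set Γ(X, X.basicOpen c) := fun T' =>
    Var76.ZeroScheme.fres (X.basicOpen_le c) '' chartGens g U T' s (flocus_le s) ∪ {d | d * Var76.ZeroScheme.fres (X.basicOpen_le c) c = 1}
  have hb : ∀ b : B, ∃ T₀ ⊆ T, T₀.Finite ∧ b.1 ∈ Subring.closure (F T₀) := fun b =>
    exists_finite_mem_closure (F := F)
      (fun h => Set.union_subset_union_left _ (Set.image_mono (chartGens_mono g U h s _)))
      (by
        rintro a (⟨a', ha', rfl⟩ | ha')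
        · obtain ⟨T₀, h1, h2, h3⟩ := hgen a' ha'
          exact ⟨T₀, h1, h2, Set.mem_union_left _ ⟨a', h3, rfl⟩⟩
        · exact ⟨∅, Set.empty_subset _, Set.finite_empty, Set.mem_union_right _ ha'⟩)
      (hcl.ge (Subring.mem_top b.1))
  choose C hC hC' hbC using hb
  refine ⟨{s} ∪ A ∪ ⋃ b, C b, Set.union_subset (Set.union_subset (Set.singleton_subset_iff.2 hs) hA)
    (Set.iUnion_subset hC), ((Set.finite_singleton _).union hA').union (Set.finite_iUnion hC'),
    s, Set.mem_union_left _ (Set.mem_union_left _ rfl), c,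
    Subring.closure_mono (chartGens_mono g U (fun z hz => Set.mem_union_left _ (Set.mem_union_right _ hz)) s _) hcA, hx, ha, ?_⟩
  have h2 := congrArg Subalgebra.toSubring hB
  rw [Algebra.adjoin_eq_ring_closure, Algebra.top_toSubring] at h2
  refine top_le_iff.1 (h2.ge.trans (Subring.closure_le.2 ?_))
  rintro z (⟨r, rfl⟩ | hz)
  · refine Subring.subset_closure (Set.mem_union_left _ ⟨_, Set.mem_union_left _ ⟨r, rfl⟩, ?_⟩)
    exact ConcreteCategory.congr_hom (Scheme.Hom.appLE_map g (flocus_le s) (homOfLE (X.basicOpen_le c)).op) r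
  · exact Subring.closure_mono (Set.union_subset_union_left _ (Set.image_mono (chartGens_mono g U
      (fun w hw => Set.mem_union_right _ (Set.mem_iUnion.2 ⟨⟨z, hz⟩, hw⟩)) s _))) (hbC ⟨z, hz⟩)

end charts

variable {S P X : Scheme.{u}} {E : S.Modules} {L : X.Modules}
  {𝒮 : RelProj.QCGrAlg S} {j : E ⟶ 𝒮.toModule} {p : P ⟶ S}
  {chart : ∀ (U : S.Opens) (hU : IsAffineOpen U), ((p ⁻¹ᵁ U : P.Opens) : Scheme.{u}) ≅ Proj (𝒮.deg U hU)}
  {O1 : P.Modules}
  {lam : ∀ (U : S.Opens) (hU : IsAffineOpen U),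
    O1 ⟶ (Scheme.Modules.pushforward (RelProj.emb p chart U hU)).obj (GrTwist.twist (𝒮.deg U hU) 1)}
  (hE : E.IsQuasicoherent) (hj : RelProj.IsGrSymAlg E 𝒮 j)
  (hO1 : RelProj.IsRelTwist 𝒮 p chart 1 O1 lam) {φ : E ⟶ (Scheme.Modules.pushforward p).obj O1}
  (hφ : IsCanonical lam j φ) {g : X ⟶ S} {v : E ⟶ (Scheme.Modules.pushforward g).obj L} {r : X ⟶ P}

include hE hO1 hφ in
theorem preimage_dOpen_eq_flocus (hv : IsGenerating v) (hr : Classifies chart hj v r) (U : S.affineOpens)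
    (e : Γ(E, U.1)) : r ⁻¹ᵁ dOpen j chart U e = flocus (L := L) (W := g ⁻¹ᵁ U.1) (v.app U.1 e) := by
  refine le_antisymm ?_ (hr.coord U e _ (flocus_le _) (isFrame_flocus _)).1
  have hV : r ⁻¹ᵁ dOpen j chart U e ≤ r ⁻¹ᵁ (p ⁻¹ᵁ U.1) := r.preimage_mono (dOpen_le (j := j) chart U e)
  have hV' : r ⁻¹ᵁ dOpen j chart U e ≤ g ⁻¹ᵁ U.1 := by
    intro z hz
    show g z ∈ U.1
    rw [← hr.comp_eq]
    exact hV hz
  obtain rfl := hr.comp_eq
  obtain ⟨τ, hτ⟩ := exists_iso_of_classifies hE hj hO1 hφ hv hr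
  refine le_flocus _ hV' ?_
  have h := (Amp73.isFrame_app_iff τ.hom _).2 (isFrame_pullCan hj hO1 hφ
    (isInvertible_of_isGenDegOne hO1 (isGenDegOne_grSym hE hj)) e (le_refl (r ⁻¹ᵁ dOpen j chart U e)))
  rw [Mero90.app_res, hτ] at h
  exact h

include hE hO1 hφ in
/-- EGA II 4.4.1 / 3.8.3: `r` is an immersion if charts given by the sections of `v` cover `X`. -/
theorem isImmersion_of_classifies (hr : Classifies chart hj v r)
    (hd : ∀ x : X, ∃ U : S.affineOpens, HasChart g U (Set.range (v.app U.1)) x) : IsImmersion r := by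
  have hv : IsGenerating v := fun x => by
    obtain ⟨U, -, ⟨e, rfl⟩, c, -, hx, -⟩ := hd x
    exact ⟨U, e, _, flocus_le _, X.basicOpen_le c hx, isFrame_flocus _⟩
  refine isImmersion_of_charts r fun x => ?_
  obtain ⟨U, _, ⟨e, rfl⟩, c, hc, hx, hba, hcl⟩ := hd x
  let G := flocus (L := L) (W := g ⁻¹ᵁ U.1) (v.app U.1 e)
  have hG : G ≤ g ⁻¹ᵁ U.1 := flocus_le _
  have hfr : IsFrame L G (res L hG (v.app U.1 e)) := isFrame_flocus _
  obtain ⟨hD, hcoord⟩ := hr.coord U e G hG hfr
  let O := dOpen j chart U e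
  have hpre : r ⁻¹ᵁ O ≤ G := (preimage_dOpen_eq_flocus hE hj hO1 hφ hv hr U e).le
  let θ := r.appLE O G hD
  have hgens : ∀ b ∈ chartGens g U (Set.range (v.app U.1)) (v.app U.1 e) hG, b ∈ θ.hom.range := by
    rintro b (⟨t, rfl⟩ | ⟨_, ⟨e', rfl⟩, he'⟩)
    · exact ⟨p.appLE U.1 O (dOpen_le (j := j) chart U e) t, ConcreteCategory.congr_hom hcoord.base t⟩
    · refine ⟨dFrac chart hj U e e', (hfr G le_rfl).1 ?_⟩
      simp only [Amp73.res_self]
      exact (hcoord.frac e').trans he'.symm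
  obtain ⟨c', hc'⟩ := Subring.closure_le.2 hgens hc
  let O' := P.basicOpen c'
  have hO'O : O' ≤ O := P.basicOpen_le c'
  have hb : r ⁻¹ᵁ O' = X.basicOpen c := by
    rw [← hc', Scheme.preimage_basicOpen]
    refine le_antisymm ?_ ?_
    · show X.basicOpen (r.app O c') ≤ X.basicOpen (r.appLE O G hD c')
      rw [Scheme.Hom.appLE, CommRingCat.comp_apply, Scheme.basicOpen_res]
      exact le_inf ((X.basicOpen_le _).trans hpre) le_rfl
    · show X.basicOpen (r.appLE O G hD c') ≤ X.basicOpen (r.app O c')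
      rw [Scheme.Hom.appLE, CommRingCat.comp_apply, Scheme.basicOpen_res]
      exact inf_le_right
  refine ⟨O', (isAffineOpen_dOpen chart hj U e).basicOpen c', hb.ge hx, hb ▸ hba, ?_⟩
  have key : ∀ (G' : X.Opens) (_ : G' = X.basicOpen c) (h' : G' ≤ r ⁻¹ᵁ O'),
      Function.Surjective (r.appLE O' G' h') := by
    rintro G' rfl h' a
    have hres : ∀ z : Γ(P, O), r.appLE O' (X.basicOpen c) h' (P.presheaf.map (homOfLE hO'O).op z) =
        Var76.ZeroScheme.fres (X.basicOpen_le c) (θ z) := fun z => by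
      simp only [Var76.ZeroScheme.fres, θ, ← CommRingCat.comp_apply, Scheme.Hom.map_appLE, Scheme.Hom.appLE_map]
    have hsub : Subring.closure (Var76.ZeroScheme.fres (X.basicOpen_le c) '' chartGens g U (Set.range (v.app U.1)) (v.app U.1 e) hG ∪
        {d | d * Var76.ZeroScheme.fres (X.basicOpen_le c) c = 1}) ≤ (r.appLE O' (X.basicOpen c) h').hom.range := by
      rw [Subring.closure_le]
      rintro b (⟨b', hb', rfl⟩ | hb')
      · obtain ⟨z, rfl⟩ := hgens b' hb'
        exact ⟨_, hres z⟩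
      · have hu : IsUnit (P.presheaf.map (homOfLE hO'O).op c') := RingedSpace.isUnit_res_basicOpen P.toRingedSpace c'
        obtain ⟨w, hw⟩ := hu.exists_left_inv
        refine ⟨w, ?_⟩
        have h1 := congrArg (r.appLE O' (X.basicOpen c) h') hw
        rw [map_mul, map_one] at h1
        have h2 : r.appLE O' (X.basicOpen c) h' w * Var76.ZeroScheme.fres (X.basicOpen_le c) c = 1 := by
          have h3 := hres c'
          rw [show θ c' = c from hc'] at h3
          rw [← h3]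
          exact h1
        calc r.appLE O' (X.basicOpen c) h' w
            = r.appLE O' (X.basicOpen c) h' w * (b * Var76.ZeroScheme.fres (X.basicOpen_le c) c) := by rw [hb', mul_one]
          _ = b := by rw [mul_left_comm, h2, mul_one]
    exact hsub (hcl.ge (Subring.mem_top a))
  rw [← Scheme.Hom.appLE_eq_app]
  exact key _ hb le_rfl

end Groth.Agent.EGA73.BundleImmersion

end
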