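import Groth.Agent.EGA73.DetNorm
import Groth.Agent.FlatMor68.LocFree
import Groth.Agent.QCqs72.Basic
import Mathlib.RingTheory.Flat.EquationalCriterion
import Mathlib.AlgebraicGeometry.Morphisms.FlatRank
import Groth.Prelude.Def_Fitting
import Groth.Prelude.Def_Mor2

/-!
The determinant norm of a finite locally free morphism of constant degree.
-/

set_option autoImplicit false
set_option backward.isDefEq.respectTransparency.types false
set_option linter.style.haveILetI false

universe u

open CategoryTheory CategoryTheory.Limits AlgebraicGeometry Opposite TopologicalSpace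

noncomputable section

namespace Groth.Agent.EGA73

open Var76.ZeroScheme QC70

variable {X Y : Scheme.{u}} (π : X ⟶ Y)

theorem isFinLocFree_push [IsFinite π] [Flat π] [LocallyOfFinitePresentation π] :
    FlatMod.IsFinLocFree ((Coh.push π).obj (Coh.structureModule X)) := by
  haveI : (Coh.structureModule X).IsQuasicoherent := isQuasicoherent_unit
  haveI : ((Coh.push π).obj (Coh.structureModule X)).IsQuasicoherent :=
    QCqs72.isQuasicoherent_pushforward (Coh.structureModule X) π
  refine FlatMor68.LocFree.isFinLocFree_of_projective_sections _ fun y => ?_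
  obtain ⟨U, hU, hy, -⟩ := exists_isAffineOpen_mem_and_subset (X := Y) (x := y) (U := ⊤) trivial
  refine ⟨U, hU, hy, ?_⟩
  letI : Algebra Γ(Y, U) Γ(X, π ⁻¹ᵁ U) := (π.app U).hom.toAlgebra
  haveI : Module.Finite Γ(Y, U) Γ(X, π ⁻¹ᵁ U) := IsFinite.finite_app π U hU
  haveI : Module.Flat Γ(Y, U) Γ(X, π ⁻¹ᵁ U) := by
    have := Flat.flat_appLE π hU (hU.preimage π) le_rfl
    rwa [← Scheme.Hom.app_eq_appLE] at this
  haveI : Algebra.FinitePresentation Γ(Y, U) Γ(X, π ⁻¹ᵁ U) := by
    have := Scheme.Hom.finitePresentation_appLE π hU (hU.preimage π) le_rfl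
    rwa [← Scheme.Hom.app_eq_appLE] at this
  haveI : Module.FinitePresentation Γ(Y, U) Γ(X, π ⁻¹ᵁ U) :=
    Module.FinitePresentation.of_finite_of_finitePresentation _ _
  haveI : Module.Projective Γ(Y, U) Γ(X, π ⁻¹ᵁ U) := Module.Flat.projective_of_finitePresentation
  let e : Γ((Coh.push π).obj (Coh.structureModule X), U) ≃ₗ[Γ(Y, U)] Γ(X, π ⁻¹ᵁ U) :=
    { toFun := fun s => s
      invFun := fun s => s
      left_inv := fun _ => rfl
      right_inv := fun _ => rfl
      map_add' := fun _ _ => rfl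
      map_smul' := fun _ _ => rfl }
  exact ⟨Module.Projective.of_equiv e.symm, Module.Finite.equiv e.symm⟩

theorem finrank_eq_of_natBasis [IsFinite π] [Flat π] {V : Y.Opens} (hV : IsAffineOpen V) {n : ℕ}
    {s : Fin n → Γ(X, π ⁻¹ᵁ V)} (hs : NatBasis π s) {y : Y} (hy : y ∈ V) : π.finrank y = n := by
  have hπV : IsAffineOpen (π ⁻¹ᵁ V) := hV.preimage π
  have h1 : IsPullback (π ⁻¹ᵁ V).ι (π ∣_ V) π V.ι := (isPullback_morphismRestrict π V).flip
  have h2 : IsPullback hπV.fromSpec (Spec.map (π.app V)) π hV.fromSpec := by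
    refine h1.of_iso hπV.isoSpec (Iso.refl _) hV.isoSpec (Iso.refl _) ?_ ?_ (by simp) ?_
    · simp
    · rw [← cancel_mono hV.fromSpec, Category.assoc, Category.assoc, hV.isoSpec_hom_fromSpec,
        Scheme.Hom.app_eq_appLE, IsAffineOpen.SpecMap_appLE_fromSpec π hV hπV, ← Category.assoc,
        hπV.isoSpec_hom_fromSpec, morphismRestrict_ι]
    · simp
  obtain ⟨p, rfl⟩ : y ∈ Set.range hV.fromSpec := hV.range_fromSpec.ge hy
  rw [← Scheme.Hom.finrank_of_isPullback _ _ π _ h2 p]
  letI : Algebra Γ(Y, V) Γ(X, π ⁻¹ᵁ V) := (π.app V).hom.toAlgebra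
  obtain ⟨b, -⟩ := hs.exists_basis π
  have := Module.Finite.of_basis b
  have := Module.Free.of_basis b
  have hnt : Nontrivial Γ(Y, V) := nontrivial_of_mem hy
  refine (Scheme.Hom.finrank_SpecMap_algebraMap Γ(Y, V) Γ(X, π ⁻¹ᵁ V) p).trans ?_
  rw [Module.rankAtStalk_eq_finrank_of_free]
  exact (Module.finrank_eq_card_basis b).trans (Fintype.card_fin n)

theorem hasNorm {d : ℕ} (hd : 1 ≤ d) (hπ : Mor2.IsFinLocFreeOfDeg d π) : Nrm.HasNorm π d := by
  obtain ⟨⟨_, _, _⟩, hrk⟩ := hπ
  have : Surjective π := (Scheme.Hom.one_le_finrank_iff_surjective π).1 fun y => (hrk y).symm ▸ hd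
  have hc := exists_isChart_of_isFinLocFree π (isFinLocFree_push π)
  have H : DegOK π d := ⟨hc, fun W hW y hy => by
    obtain ⟨n, s, hs⟩ := hW
    obtain ⟨V, hV, hyV, hVW⟩ := exists_isAffineOpen_mem_and_subset hy
    have := nontrivial_of_mem hy
    have h1 : π.finrank y = n := finrank_eq_of_natBasis π hV (hs.res π hVW) hyV
    rw [hs.rk_eq π, ← h1, hrk y]
    exact ⟨hd, dvd_rfl⟩, hd⟩
  refine ⟨{ one_le := hd
            norm := H.chartOK.hasVals.normHom
            norm_app := H.chartOK.hasVals.normHom_app H.dvd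
            norm_res := fun i s => H.chartOK.hasVals.normHom_res i.le s
            norm_mem := fun U s x hx hm hu => ?_ }⟩
  have h1 : π.base x ∈ Y.basicOpen (H.chartOK.hasVals.normFun U s) := (Y.mem_basicOpen _ _ hx).2 hu
  exact hm ((X.mem_basicOpen s x hx).1 (H.chartOK.basicOpen_normFun s h1))

end Groth.Agent.EGA73
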