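import Groth.Agent.EGA73.BundleImmersion
import Groth.Agent.EGA73.AmpleImmersion
import Groth.Agent.EGAProj74.BundleBase
import Groth.Agent.Amp73.QA

/-!
Charts from very ample and from ample modules.
-/

set_option autoImplicit false
set_option backward.isDefEq.respectTransparency.types false

universe u

open CategoryTheory CategoryTheory.Limits AlgebraicGeometry Opposite TopologicalSpace

noncomputable section

namespace Groth.Agent.EGA73.ChartSources

open Groth.Agent.Var76.LineBundle Groth.Agent.EGAProj74 BundleImmersion Groth.Agent.Var76.ZeroScheme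

section VeryAmple

variable {S P : Scheme.{u}} {E : S.Modules} {𝒮 : RelProj.QCGrAlg S} {j : E ⟶ 𝒮.toModule} {p : P ⟶ S}
  {chart : ∀ (U : S.Opens) (hU : IsAffineOpen U), ((p ⁻¹ᵁ U : P.Opens) : Scheme.{u}) ≅ Proj (𝒮.deg U hU)}
  (hE : E.IsQuasicoherent) (hj : RelProj.IsGrSymAlg E 𝒮 j) (hP : RelProj.IsRelProj 𝒮 p chart)
  {O1 : P.Modules}
  {lam : ∀ (U : S.Opens) (hU : IsAffineOpen U),
    O1 ⟶ (Scheme.Modules.pushforward (RelProj.emb p chart U hU)).obj (GrTwist.twist (𝒮.deg U hU) 1)}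
  (hO1 : RelProj.IsRelTwist 𝒮 p chart 1 O1 lam) {φ : E ⟶ (Scheme.Modules.pushforward p).obj O1}
  (hφ : IsCanonical lam j φ)

include hE hP hO1 hφ in
/-- The functions on `D₊(e)` are generated by the base and the fractions. -/
theorem closure_dOpen_eq_top (U : S.affineOpens) (e : Γ(E, U.1)) :
    Subring.closure (Set.range (p.appLE U.1 _ (dOpen_le (j := j) chart U e)) ∪
      Set.range (dFrac chart hj U e)) = ⊤ := by
  let R := Subring.closure (Set.range (p.appLE U.1 _ (dOpen_le (j := j) chart U e)) ∪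
      Set.range (dFrac chart hj U e))
  let ρ₀ : Γ(S, U.1) ⟶ CommRingCat.of R := CommRingCat.ofHom
    ((p.appLE U.1 _ (dOpen_le (j := j) chart U e)).hom.codRestrict R fun t =>
      Subring.subset_closure (Set.mem_union_left _ ⟨t, rfl⟩))
  let c : Γ(E, U.1) → CommRingCat.of R := fun e' =>
    (⟨dFrac chart hj U e e', Subring.subset_closure (Set.mem_union_right _ ⟨e', rfl⟩)⟩ : R)
  let O := dOpen j chart U e
  have hfr := isFrame_dOpen chart hj hO1 hφ U e
  have hinj : ∀ a b : Γ(P, O), a • res O1 (dOpen_le (j := j) chart U e) (φ.app U.1 e) =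
      b • res O1 (dOpen_le (j := j) chart U e) (φ.app U.1 e) → a = b := fun a b hab =>
    (hfr O le_rfl).1 (by
      show a • res O1 le_rfl (res O1 (dOpen_le (j := j) chart U e) (φ.app U.1 e)) =
        b • res O1 le_rfl (res O1 (dOpen_le (j := j) chart U e) (φ.app U.1 e))
      rwa [res_res])
  have hsm := fun m => dFrac_smul chart hj hO1 hφ U e m
  obtain ⟨θ, hθ0, hθ⟩ := exists_chartRing_hom chart hj hP hE U e ρ₀ c
    (fun a b => Subtype.ext (hinj _ _ (by
      show dFrac chart hj U e (a + b) • _ = (dFrac chart hj U e a + dFrac chart hj U e b) • _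
      rw [add_smul]
      refine (hsm (a + b)).trans ?_
      refine Eq.trans ?_ (congrArg₂ (· + ·) (hsm a) (hsm b)).symm
      rw [map_add]
      exact map_add (O1.presheaf.map _).hom _ _)))
    (fun r a => Subtype.ext (hinj _ _ (by
      show dFrac chart hj U e (r • a) • _ = (p.appLE U.1 O _ r * dFrac chart hj U e a) • _
      rw [mul_smul]
      refine (hsm (r • a)).trans ?_
      refine Eq.trans ?_ (congrArg (p.appLE U.1 O (dOpen_le (j := j) chart U e) r • ·) (hsm a)).symm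
      exact vres_smul φ (dOpen_le (j := j) chart U e) r a)))
    (Subtype.ext (hinj _ _ (by
      show dFrac chart hj U e e • _ = (1 : Γ(P, O)) • _
      rw [one_smul]
      exact hsm e)))
  have h : θ ≫ CommRingCat.ofHom R.subtype = 𝟙 _ := by
    refine chartRing_hom_ext chart hj hP hE U e ?_ fun e' => ?_
    · rw [← Category.assoc, hθ0]
      rfl
    · show ((θ (dFrac chart hj U e e') : R) : Γ(P, dOpen j chart U e)) = _
      rw [hθ]
      rfl
  refine top_le_iff.1 fun a _ => ?_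
  rw [← show ((θ a : R) : Γ(P, dOpen j chart U e)) = a from ConcreteCategory.congr_hom h a]
  exact (θ a : R).2

end VeryAmple

/-- An immersion is affine with surjective comorphism over affine opens inside its coborder range. -/
theorem app_surjective_of_le_coborderRange {X P : Scheme.{u}} (i : X ⟶ P) [IsImmersion i] {O : P.Opens}
    (hO : IsAffineOpen O) (hle : O ≤ i.coborderRange) : IsAffineOpen (i ⁻¹ᵁ O) ∧ Function.Surjective (i.app O) := by
  have hr : O ≤ i.coborderRange.ι.opensRange := by rwa [Scheme.Opens.opensRange_ι]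
  have hOa : IsAffineOpen (i.coborderRange.ι ⁻¹ᵁ O) := hO.preimage_of_isOpenImmersion _ hr
  have key : ∀ (k : X ⟶ P) (_ : k = i.liftCoborder ≫ i.coborderRange.ι),
      IsAffineOpen (k ⁻¹ᵁ O) ∧ Function.Surjective (k.app O) := by
    rintro k rfl
    refine ⟨hOa.preimage i.liftCoborder, ?_⟩
    have h1 : IsIso (i.coborderRange.ι.app O) := i.coborderRange.ι.isIso_app O hr
    rw [Scheme.Hom.comp_app]
    exact (i.liftCoborder.app_surjective _ hOa).comp
      (ConcreteCategory.bijective_of_isIso (i.coborderRange.ι.app O)).2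
  exact key i i.liftCoborder_ι.symm

/-- Functions on the preimage of a basic open are generated by images and the inverse. -/
theorem closure_eq_top_of_app_surjective {X P : Scheme.{u}} (i : X ⟶ P) {O : P.Opens} (hO : IsAffineOpen O)
    {G : X.Opens} (hD : G ≤ i ⁻¹ᵁ O) (b : Γ(P, O)) (hb : i ⁻¹ᵁ P.basicOpen b = X.basicOpen (i.appLE O G hD b))
    (hsurj : Function.Surjective (i.app (P.basicOpen b))) (gens : Set Γ(X, G))
    (hmem : ∀ a, i.appLE O G hD a ∈ Subring.closure gens) :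
    Subring.closure (fres (X.basicOpen_le (i.appLE O G hD b)) '' gens ∪
      {d | d * fres (X.basicOpen_le (i.appLE O G hD b)) (i.appLE O G hD b) = 1}) = ⊤ := by
  refine top_le_iff.1 fun a _ => ?_
  let c := i.appLE O G hD b
  let ρ := (X.presheaf.map (homOfLE (X.basicOpen_le c)).op).hom
  show a ∈ Subring.closure (ρ '' gens ∪ {d | d * ρ c = 1})
  have key : ∀ (G' : X.Opens) (_ : G' = X.basicOpen c) (h' : G' ≤ i ⁻¹ᵁ P.basicOpen b),
      Function.Surjective (i.appLE (P.basicOpen b) G' h') := by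
    rintro G' rfl h' a'
    have : IsIso (homOfLE h') := ⟨homOfLE hb.le, Subsingleton.elim _ _, Subsingleton.elim _ _⟩
    obtain ⟨a₁, rfl⟩ := (ConcreteCategory.bijective_of_isIso (X.presheaf.map (homOfLE h').op)).2 a'
    obtain ⟨a₂, rfl⟩ := hsurj a₁
    exact ⟨a₂, rfl⟩
  obtain ⟨a', rfl⟩ := key _ rfl hb.ge a
  have := hO.isLocalization_basicOpen b
  obtain ⟨⟨z, ⟨_, k, rfl⟩⟩, hz⟩ := IsLocalization.surj (M := Submonoid.powers b) (S := Γ(P, P.basicOpen b)) a'
  have hres : ∀ w : Γ(P, O), i.appLE (P.basicOpen b) (X.basicOpen c) hb.ge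
      (P.presheaf.map (homOfLE (P.basicOpen_le b)).op w) = ρ (i.appLE O G hD w) := fun w => by
    simp only [ρ, ← CommRingCat.comp_apply, Scheme.Hom.map_appLE, Scheme.Hom.appLE_map]
  have hz' := congrArg (i.appLE (P.basicOpen b) (X.basicOpen c) hb.ge) hz
  rw [map_mul] at hz'
  change _ * i.appLE _ _ hb.ge (P.presheaf.map (homOfLE (P.basicOpen_le b)).op (b ^ k)) =
    i.appLE _ _ hb.ge (P.presheaf.map (homOfLE (P.basicOpen_le b)).op z) at hz'
  rw [hres, hres, map_pow (i.appLE O G hD).hom, map_pow ρ] at hz'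
  have hu : IsUnit (ρ c) := RingedSpace.isUnit_res_basicOpen X.toRingedSpace c
  obtain ⟨d, hd⟩ := hu.exists_left_inv
  have h1 : ρ (i.appLE O G hD z) ∈ Subring.closure (ρ '' gens ∪ {d | d * ρ c = 1}) := by
    have h2 : ρ (i.appLE O G hD z) ∈ Subring.map ρ (Subring.closure gens) := Subring.mem_map.2 ⟨_, hmem z, rfl⟩
    rw [RingHom.map_closure] at h2
    exact Subring.closure_mono Set.subset_union_left h2
  have h3 : i.appLE (P.basicOpen b) (X.basicOpen c) hb.ge a' = ρ (i.appLE O G hD z) * d ^ k := by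
    rw [← hz', mul_assoc, ← mul_pow, mul_comm (ρ c) d, hd, one_pow, mul_one]
  have h4 := mul_mem h1 (pow_mem (Subring.subset_closure
    (Set.mem_union_right (ρ '' gens) (show d ∈ {d | d * ρ c = 1} from hd))) k)
  rw [h3]
  exact h4

/-- A very ample module has charts everywhere. -/
theorem exists_hasChart_of_isRelVeryAmple {X S : Scheme.{u}} {q : X ⟶ S} {L : X.Modules}
    (h : RelProj.IsRelVeryAmple q L) (x : X) {U : S.affineOpens} (hxU : q x ∈ U.1) :
    ∃ T : Set Γ(L, q ⁻¹ᵁ U.1), HasChart q U T x := by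
  obtain ⟨E, hE, 𝒮, j, hj, P, p, chart, hP, O1, lam, hO1, i, hi, rfl, ⟨τ⟩⟩ := h
  obtain ⟨φ, hφ⟩ := exists_canonical (lam := lam) hE hj hO1 hP
  have hgen := (isGenerating_can hE hj hO1 hφ).pull i φ
  let v : E ⟶ (Scheme.Modules.pushforward (i ≫ p)).obj L :=
    canData φ i ≫ (Scheme.Modules.pushforward (i ≫ p)).map τ.symm.hom
  have hv : IsGenerating v := IsGenerating.map (v := canData φ i) hgen τ.symm
  have hr : Classifies chart hj v i :=
    Classifies.map hE hj hO1 hφ (v := canData φ i) hgen (classifies_canData hE hj hO1 hφ i) τ.symm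
  obtain ⟨e, hxO⟩ : ∃ e : Γ(E, U.1), i x ∈ dOpen j chart U e := by
    obtain ⟨y, hy⟩ : i x ∈ (RelProj.emb p chart U.1 U.2).opensRange := by rw [opensRange_emb]; exact hxU
    obtain ⟨e, he⟩ := exists_gen_notMem hE hj U.2 y
    exact ⟨e, y, he, hy⟩
  let O := dOpen j chart U e
  have hO : IsAffineOpen O := isAffineOpen_dOpen chart hj U e
  let W := i.coborderRange
  have hxW : i x ∈ W := subset_coborder ⟨x, rfl⟩
  obtain ⟨b, hbW, hxb⟩ := hO.exists_basicOpen_le (V := W) ⟨i x, hxW⟩ hxO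
  let G := flocus (L := L) (W := (i ≫ p) ⁻¹ᵁ U.1) (v.app U.1 e)
  have hG : G ≤ (i ≫ p) ⁻¹ᵁ U.1 := flocus_le _
  have hGe : i ⁻¹ᵁ O = G := preimage_dOpen_eq_flocus hE hj hO1 hφ hv hr U e
  obtain ⟨hD, hcoord⟩ := hr.coord U e G hG (isFrame_flocus _)
  let θ := i.appLE O G hD
  let gens := chartGens (i ≫ p) U (Set.range (v.app U.1)) (v.app U.1 e) hG
  have hmem : ∀ a, θ a ∈ Subring.closure gens := by
    intro a
    have ha : a ∈ Subring.comap θ.hom (Subring.closure gens) := by
      refine (Subring.closure_le.2 ?_) ((closure_dOpen_eq_top hE hj hP hO1 hφ U e).ge (Subring.mem_top a))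
      rintro _ (⟨t, rfl⟩ | ⟨e', rfl⟩)
      · exact Subring.subset_closure (Set.mem_union_left _ ⟨t, (ConcreteCategory.congr_hom hcoord.base t).symm⟩)
      · exact Subring.subset_closure (Set.mem_union_right _ ⟨_, ⟨e', rfl⟩, hcoord.frac e'⟩)
    exact ha
  have hb : i ⁻¹ᵁ P.basicOpen b = X.basicOpen (θ b) := by
    rw [Scheme.preimage_basicOpen]
    refine le_antisymm ?_ ?_
    · show X.basicOpen (i.app O b) ≤ X.basicOpen (i.appLE O G hD b)
      rw [Scheme.Hom.appLE, CommRingCat.comp_apply, Scheme.basicOpen_res]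
      exact le_inf ((X.basicOpen_le _).trans hGe.le) le_rfl
    · show X.basicOpen (i.appLE O G hD b) ≤ X.basicOpen (i.app O b)
      rw [Scheme.Hom.appLE, CommRingCat.comp_apply, Scheme.basicOpen_res]
      exact inf_le_right
  obtain ⟨hba, hsurj⟩ := app_surjective_of_le_coborderRange i (hO.basicOpen b) hbW
  exact ⟨Set.range (v.app U.1), v.app U.1 e, ⟨e, rfl⟩, θ b, hmem b, hb.le hxb, hb ▸ hba,
    closure_eq_top_of_app_surjective i hO hD b hb hsurj gens hmem⟩

section Ample

open Groth.Agent.Amp73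

variable {X S : Scheme.{u}}

theorem flocus_res {L : X.Modules} {W W' : X.Opens} (h : W' ≤ W) (s : Γ(L, W)) :
    flocus (res L h s) = flocus s ⊓ W' := by
  refine le_antisymm (le_inf ?_ (flocus_le _)) ?_
  · refine le_flocus _ ((flocus_le _).trans h) ?_
    have h1 := isFrame_flocus (res L h s)
    rwa [res_res] at h1
  · refine le_flocus _ inf_le_right ?_
    have h1 := (isFrame_flocus s).res (inf_le_left : flocus s ⊓ W' ≤ flocus s)
    rw [res_res] at h1 ⊢
    exact h1

/-- High powers of a relatively ample module have charts everywhere. -/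
theorem eventually_hasChart_of_isRelAmple (q : X ⟶ S) [LocallyOfFiniteType q] [CompactSpace S] {L : X.Modules}
    (hL : RelAmple.IsRelAmple q L) : ∃ n₀ : ℕ, 0 < n₀ ∧ ∀ n, n₀ ≤ n → ∀ x : X,
      ∃ (U : S.affineOpens) (T : Set Γ(CohB1.tensorPow L n, q ⁻¹ᵁ U.1)), HasChart q U T x := by
  classical
  have hloc : ∀ U : S.affineOpens, ∃ n₀ : ℕ, 0 < n₀ ∧ ∀ n, n₀ ≤ n → ∀ x ∈ q ⁻¹ᵁ U.1,
      ∃ (U' : S.affineOpens) (T : Set Γ(CohB1.tensorPow L n, q ⁻¹ᵁ U'.1)), HasChart q U' T x := by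
    intro U
    let j := (q ⁻¹ᵁ U.1).ι
    obtain ⟨n₀, hn₀, h⟩ := AmpleImmersion.eventually_exists_sections (q ∣_ U.1) (hL.2 U)
      (L' := Coh.structureModule _) EGA73.isInvertible_structureModule
    refine ⟨n₀, hn₀, fun n hn x hx => ?_⟩
    obtain ⟨M, hM, φ, J, hJ, uJ, hu⟩ := h n hn
    let N := CohB1.tensorPow L n
    let ψ : M ≅ N.restrict j := φ ≪≫ EGA73.tensUnitLeft _ ≪≫ powRestrict j L n
    obtain ⟨k, V, hV, hle, hzk, hGa, hcl⟩ := hu (⟨x, hx⟩ : (q ⁻¹ᵁ U.1 : Scheme.{u}))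
    let U' : S.affineOpens := ⟨U.1.ι ''ᵁ V, hV.image_of_isOpenImmersion _⟩
    have hU' : q ⁻¹ᵁ U'.1 ≤ q ⁻¹ᵁ U.1 := q.preimage_mono ((U.1.ι.image_le_opensRange V).trans_eq U.1.opensRange_ι)
    have htop : q ⁻¹ᵁ U.1 ≤ j ''ᵁ ⊤ := j.image_top_eq_opensRange.ge.trans' (q ⁻¹ᵁ U.1).opensRange_ι.ge
    let σ : J → Γ(N, q ⁻¹ᵁ U.1) := fun i => res N htop (ψ.hom.app ⊤ (uJ i))
    let T : Set Γ(N, q ⁻¹ᵁ U'.1) := Set.range fun i => res N hU' (σ i)
    let G₀ := CohB1.genLocus M (Var76.Frames.ofSection M (uJ k))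
    have hσ : ∀ (i : J) (V' : (q ⁻¹ᵁ U.1 : Scheme.{u}).Opens) (h' : j ''ᵁ V' ≤ q ⁻¹ᵁ U.1),
        res N h' (σ i) = ψ.hom.app V' (res M (le_top : V' ≤ ⊤) (uJ i)) := fun i V' h' => by
      show res N h' (res N htop _) = _
      rw [res_res, Mero90.app_res]
      rfl
    have hfl : flocus (σ k) = j ''ᵁ G₀ := by
      refine le_antisymm ?_ ?_
      · have h1 : flocus (σ k) = j ''ᵁ (j ⁻¹ᵁ flocus (σ k)) := by
          rw [j.image_preimage_eq_opensRange_inf, Scheme.Opens.opensRange_ι, inf_eq_right.2 (flocus_le _)]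
        rw [h1]
        refine j.image_mono ((isFrame_iff_le_genLocus _ _).1 ?_)
        rw [Var76.Frames.val_ofSection, ← isFrame_app_iff ψ.hom, ← hσ k _ (h1.ge.trans (flocus_le _)),
          isFrame_restrict_iff]
        have h2 := (isFrame_flocus (σ k)).res h1.ge
        rw [res_res] at h2
        exact h2
      · have h1 : j ''ᵁ G₀ ≤ q ⁻¹ᵁ U.1 := (j.image_le_opensRange _).trans_eq (Scheme.Opens.opensRange_ι _)
        refine le_flocus _ h1 ?_
        rw [hσ k G₀ h1, ← isFrame_restrict_iff, isFrame_app_iff, ← Var76.Frames.val_ofSection]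
        exact isFrame_genLocus _
    have hGU : j ''ᵁ G₀ ≤ q ⁻¹ᵁ U'.1 := (j.image_mono hle).trans (image_morphismRestrict_preimage q U.1 V).le
    refine ⟨U', T, hasChart_of_closure (s := res N hU' (σ k)) ⟨k, rfl⟩ hGU ?_ ⟨_, hzk, rfl⟩
      (hGa.image_of_isOpenImmersion _) (top_le_iff.1 (hcl.ge.trans (Subring.closure_mono ?_)))⟩
    · rw [flocus_res, hfl]
      exact inf_eq_left.2 hGU
    · rintro a (⟨t, rfl⟩ | ⟨i, hi⟩)
      · exact Set.mem_union_left _ ⟨t, (ConcreteCategory.congr_hom (morphismRestrict_appLE q U.1 V G₀ hle) t).symm⟩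
      · refine Set.mem_union_right _ ⟨_, ⟨i, rfl⟩, ?_⟩
        have h1 := congrArg (ψ.hom.app G₀) hi
        rw [Scheme.Modules.Hom.app_smul, ← hσ k _ (hGU.trans hU'), ← hσ i _ (hGU.trans hU')] at h1
        show (show Γ(X, j ''ᵁ G₀) from a) • res N hGU (res N hU' (σ k)) = res N hGU (res N hU' (σ i))
        refine (congrArg _ (res_res N hU' hGU (σ k))).trans (Eq.trans ?_ (res_res N hU' hGU (σ i)).symm)
        have h2 : (j.appIso G₀).inv a • res N (hGU.trans hU') (σ k) = res N (hGU.trans hU') (σ i) := h1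
        rw [show j.appIso G₀ = Iso.refl _ from Scheme.Opens.ι_appIso (q ⁻¹ᵁ U.1) G₀] at h2
        exact h2
  choose n₁ hn₁ hchart using hloc
  obtain ⟨T, hT⟩ := isCompact_univ.elim_finite_subcover (fun U : S.affineOpens => (U.1 : Set S)) (fun U => U.1.2)
    fun z _ => by
      obtain ⟨V, hV, hzV, -⟩ := exists_isAffineOpen_mem_and_subset (U := (⊤ : S.Opens)) (x := z) trivial
      exact Set.mem_iUnion.2 ⟨⟨V, hV⟩, hzV⟩
  refine ⟨T.sup n₁ + 1, Nat.succ_pos _, fun n hn x => ?_⟩
  obtain ⟨U, hU, hxU⟩ := Set.mem_iUnion₂.1 (hT (Set.mem_univ (q x)))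
  exact hchart U n (((Finset.le_sup hU).trans (Nat.le_succ _)).trans hn) x hxU

end Ample

end Groth.Agent.EGA73.ChartSources

end
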