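import Groth.Agent.EGA73.ProjectiveComp
import Groth.Agent.EGAProj74.VeryAmpleBasic
import Groth.Agent.QC70.FiniteType
import Groth.Agent.S8292

/-!
Projective morphisms are the closed subschemes of projective bundles of finite type modules.
-/

set_option autoImplicit false
set_option backward.isDefEq.respectTransparency.types false

universe u

open CategoryTheory CategoryTheory.Limits AlgebraicGeometry TopologicalSpace Opposite
open scoped HomogeneousIdeal

noncomputable section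

namespace Groth.Agent.EGA73.PBundleClosed

open EGAProj74

variable {S : Scheme.{u}}

/-- The degree-one part of a graded symmetric algebra is the module. -/
theorem exists_gen_of_mem_one {E : S.Modules} (hE : E.IsQuasicoherent) {𝒯 : RelProj.QCGrAlg S}
    {j : E ⟶ 𝒯.toModule} (hj : RelProj.IsGrSymAlg E 𝒯 j) {U : S.Opens} (hU : IsAffineOpen U)
    {x : 𝒯.presheaf.obj (op U)} (hx : x ∈ 𝒯.deg U hU 1) : ∃ m, j.app U m = x := by
  classical
  let R : AddSubgroup (𝒯.presheaf.obj (op U)) :=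
    (AddMonoidHom.mk' (fun m : Γ(E, U) => (j.app U m : 𝒯.presheaf.obj (op U))) fun a b => map_add _ a b).range
  let R₀ : AddSubgroup (𝒯.presheaf.obj (op U)) := (𝒯.str.app (op U)).hom.toAddMonoidHom.range
  suffices key : ∀ y : 𝒯.presheaf.obj (op U),
      (DirectSum.decompose (𝒯.deg U hU) y 0 : 𝒯.presheaf.obj (op U)) ∈ R₀ ∧
        (DirectSum.decompose (𝒯.deg U hU) y 1 : 𝒯.presheaf.obj (op U)) ∈ R by
    obtain ⟨m, hm⟩ := (key x).2
    exact ⟨m, hm.trans (DirectSum.decompose_of_mem_same (𝒯.deg U hU) hx)⟩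
  intro y
  have hy : y ∈ Subring.closure (Set.range (𝒯.str.app (op U)).hom ∪ Set.range fun m : Γ(E, U) => j.app U m) :=
    (closure_grSym hE hj U hU).ge trivial
  induction hy using Subring.closure_induction with
  | mem z hz =>
    rcases hz with ⟨r, rfl⟩ | ⟨m, hm⟩
    · rw [DirectSum.decompose_of_mem_same _ (𝒯.str_mem U hU r),
        DirectSum.decompose_of_mem_ne _ (𝒯.str_mem U hU r) zero_ne_one]
      exact ⟨⟨r, rfl⟩, zero_mem _⟩
    · have hz1 : z ∈ 𝒯.deg U hU 1 := hm ▸ hj.2 U hU m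
      rw [DirectSum.decompose_of_mem_same _ hz1, DirectSum.decompose_of_mem_ne _ hz1 one_ne_zero]
      exact ⟨zero_mem _, ⟨m, hm⟩⟩
  | zero => simp
  | one =>
    rw [DirectSum.decompose_of_mem_same _ SetLike.GradedOne.one_mem,
      DirectSum.decompose_of_mem_ne _ SetLike.GradedOne.one_mem zero_ne_one]
    exact ⟨⟨1, map_one (𝒯.str.app (op U)).hom⟩, zero_mem _⟩
  | add a b _ _ ha hb =>
    rw [DirectSum.decompose_add, DirectSum.add_apply, DirectSum.add_apply, AddSubgroup.coe_add, AddSubgroup.coe_add]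
    exact ⟨add_mem ha.1 hb.1, add_mem ha.2 hb.2⟩
  | neg a _ ha =>
    rw [DirectSum.decompose_neg, DFinsupp.neg_apply, DFinsupp.neg_apply, AddSubgroup.coe_neg, AddSubgroup.coe_neg]
    exact ⟨neg_mem ha.1, neg_mem ha.2⟩
  | mul a b _ _ ha hb =>
    rw [DirectSum.decompose_mul, DirectSum.coe_mul_apply, DirectSum.coe_mul_apply]
    have hmul : ∀ (r : Γ(S, U)) (m : Γ(E, U)), (𝒯.str.app (op U)).hom r * (show 𝒯.presheaf.obj (op U) from j.app U m) ∈ R :=
      fun r m => ⟨r • m, j.app_smul r m⟩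
    refine ⟨sum_mem fun ij hij => ?_, sum_mem fun ij hij => ?_⟩
    · have h := (Finset.mem_filter.1 hij).2
      obtain ⟨h1, h2⟩ : ij.1 = 0 ∧ ij.2 = 0 := by omega
      rw [h1, h2]
      obtain ⟨r, hr⟩ := ha.1
      obtain ⟨s, hs⟩ := hb.1
      rw [← hr, ← hs]
      exact ⟨r * s, map_mul (𝒯.str.app (op U)).hom r s⟩
    · have h := (Finset.mem_filter.1 hij).2
      obtain ⟨h1, h2⟩ | ⟨h1, h2⟩ : (ij.1 = 0 ∧ ij.2 = 1) ∨ (ij.1 = 1 ∧ ij.2 = 0) := by omega
      · rw [h1, h2]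
        obtain ⟨r, hr⟩ := ha.1
        obtain ⟨m, hm⟩ := hb.2
        rw [← hr, ← hm]
        exact hmul r m
      · rw [h1, h2]
        obtain ⟨m, hm⟩ := ha.2
        obtain ⟨r, hr⟩ := hb.1
        rw [← hr, ← hm, mul_comm]
        exact hmul r m

theorem isFTDeg_one_grSym {E : S.Modules} (hE : Coh.IsQCoh E) (hft : CohB1.IsFT E) {𝒯 : RelProj.QCGrAlg S}
    {j : E ⟶ 𝒯.toModule} (hj : RelProj.IsGrSymAlg E 𝒯 j) : 𝒯.IsFTDeg 1 := by
  classical
  intro U hU
  have : E.IsQuasicoherent := hE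
  have : E.IsFiniteType := hft
  obtain ⟨n, s, hs⟩ := @Module.Finite.exists_fin _ _ _ _ _ (QC70.finite_sections_of_isFiniteType E hU)
  refine ⟨Finset.univ.image fun k => (j.app U (s k) : 𝒯.presheaf.obj (op U)), ?_, fun x hx => ?_⟩
  · intro z hz
    obtain ⟨k, -, rfl⟩ := Finset.mem_image.1 hz
    exact hj.2 U hU _
  · obtain ⟨m, rfl⟩ := exists_gen_of_mem_one hE hj hU hx
    obtain ⟨c, rfl⟩ := (Submodule.mem_span_range_iff_exists_fun _).1 (hs.ge (Submodule.mem_top : m ∈ ⊤))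
    refine ⟨fun z => ∑ k ∈ Finset.univ with (j.app U (s k) : 𝒯.presheaf.obj (op U)) = z, c k, ?_⟩
    rw [map_sum, ← Finset.sum_fiberwise_of_maps_to
      (t := Finset.univ.image fun k => (j.app U (s k) : 𝒯.presheaf.obj (op U)))
      (fun k hk => Finset.mem_image_of_mem _ hk)]
    refine Finset.sum_congr rfl fun z _ => ?_
    rw [map_sum, Finset.sum_mul]
    refine Finset.sum_congr rfl fun k hk => ?_
    refine (j.app_smul (c k) (s k)).trans ?_
    exact congrArg ((𝒯.str.app (op U)).hom (c k) * ·) (Finset.mem_filter.1 hk).2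

/-- The degree-one part of a graded algebra, as a module. -/
theorem exists_degOne_module (𝒮 : RelProj.QCGrAlg S) (hft : 𝒮.IsFTDeg 1) :
    ∃ (E : S.Modules) (u : E ⟶ 𝒮.toModule), Coh.IsQCoh E ∧ CohB1.IsFT E ∧
      (∀ (U : S.Opens) (hU : IsAffineOpen U) (x : Γ(E, U)), u.app U x ∈ 𝒮.deg U hU 1) ∧
      ∀ (U : S.Opens) (hU : IsAffineOpen U) (s : 𝒮.presheaf.obj (op U)), s ∈ 𝒮.deg U hU 1 → ∃ x, u.app U x = s := by
  classical
  obtain ⟨π, hπ⟩ := exists_degOneProj 𝒮
  have : 𝒮.toModule.IsQuasicoherent := AlgSub72.isQuasicoherent_toModule 𝒮.toQCAlg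
  let φ : 𝒮.toModule ⟶ 𝒮.toModule := 𝟙 _ - π
  have happ : ∀ (U : S.Opens) (hU : IsAffineOpen U) (x : 𝒮.presheaf.obj (op U)),
      φ.app U x = x - (DirectSum.decompose (𝒮.deg U hU) x 1 : 𝒮.presheaf.obj (op U)) := fun U hU x => by
    rw [← hπ U hU x]
    rfl
  have hu1 : ∀ (U : S.Opens) (hU : IsAffineOpen U) (x : Γ(kernel φ, U)),
      (kernel.ι φ).app U x ∈ 𝒮.deg U hU 1 := fun U hU x => by
    have h0 : φ.app U ((kernel.ι φ).app U x) = 0 := congr((Scheme.Modules.Hom.app $(kernel.condition φ) U) x)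
    have h1 := (happ U hU _).symm.trans h0
    erw [sub_eq_zero] at h1
    rw [h1]
    exact SetLike.coe_mem _
  have hsurj : ∀ (U : S.Opens) (hU : IsAffineOpen U) (s : 𝒮.presheaf.obj (op U)), s ∈ 𝒮.deg U hU 1 →
      ∃ x, (kernel.ι φ).app U x = s := fun U hU s hs => by
    refine QC70.exists_kernel_app_eq φ U s ?_
    rw [happ U hU, DirectSum.decompose_of_mem_same _ hs, sub_self]
    rfl
  have hq : (kernel φ).IsQuasicoherent := QC70.isQuasicoherent_kernel φ
  refine ⟨kernel φ, kernel.ι φ, hq, ?_, hu1, hsurj⟩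
  refine QC70.isFiniteType_of_finite_sections (kernel φ) (fun U : S.affineOpens => U.1)
    (iSup_affineOpens_eq_top S) (fun U => U.2) fun U => ?_
  obtain ⟨T, hT, hspan⟩ := hft U.1 U.2
  choose g hg using fun t : T => hsurj U.1 U.2 t (hT t.2)
  refine ⟨⟨Finset.univ.image g, eq_top_iff.2 fun x _ => ?_⟩⟩
  obtain ⟨c, hc⟩ := hspan _ (hu1 U.1 U.2 x)
  have hx : x = ∑ t : T, c t • g t := by
    apply QC70.app_injective_of_mono (kernel.ι φ) U.1
    rw [map_sum]
    refine hc.trans ((Finset.sum_coe_sort T _).symm.trans (Finset.sum_congr rfl fun t _ => ?_))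
    exact (congrArg ((𝒮.str.app (op U.1)).hom (c t) * ·) (hg t).symm).trans ((kernel.ι φ).app_smul (c t) (g t)).symm
  rw [hx]
  exact sum_mem fun t _ => Submodule.smul_mem _ _ (Submodule.subset_span (by simp))

theorem isProjective_iff {X Y : Scheme.{u}} (f : X ⟶ Y) :
    RelProj.IsProjective f ↔
      ∃ (E : Y.Modules) (𝒯 : RelProj.QCGrAlg Y) (j : E ⟶ 𝒯.toModule) (P : Scheme.{u}) (p : P ⟶ Y)
        (chart : ∀ (U : Y.Opens) (hU : IsAffineOpen U), ((p ⁻¹ᵁ U : P.Opens) : Scheme.{u}) ≅ Proj (𝒯.deg U hU))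
        (i : X ⟶ P),
        Coh.IsQCoh E ∧ CohB1.IsFT E ∧ RelProj.IsGrSymAlg E 𝒯 j ∧ RelProj.IsRelProj 𝒯 p chart ∧
          IsClosedImmersion i ∧ i ≫ p = f := by
  constructor
  · rintro ⟨𝒮, P, p, chart, e, hgen, hft, hP, he⟩
    obtain ⟨E, u, hE, hEft, hu1, husurj⟩ := exists_degOne_module 𝒮 hft
    obtain ⟨𝒯, j, hj, PT, pT, chartT, hPT, -⟩ := exists_projBundle hE
    obtain ⟨ubar, hju, -⟩ := hj.1 𝒮.toQCAlg u
    have happ : ∀ (U : Y.Opens) (m : Γ(E, U)), (ubar.hom.app (op U)).hom (j.app U m) = u.app U m :=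
      fun U m => congr($(hju).app U m)
    have hgr : RelProj.IsGradedHom ubar := isGradedHom_of_grSym hE hj ubar fun U hU m => by
      rw [happ U m]; exact hu1 U hU m
    have hirr : ∀ (U : Y.Opens) (hU : IsAffineOpen U),
        (𝒮.deg U hU)₊ ≤ ((𝒯.deg U hU)₊).map (RelProj.gradedHomAt ubar hgr U hU) := by
      intro U hU
      rw [← SetLike.coe_subset_coe]
      change (𝒮.deg U hU)₊.toIdeal ≤ _
      refine (irrelevant_le_span_one_of_gen (hgen U hU)).trans (Ideal.span_le.mpr fun x hx => ?_)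
      obtain ⟨m, rfl⟩ := husurj U hU x hx
      rw [← happ U m]
      exact Ideal.mem_map_of_mem (RelProj.gradedHomAt ubar hgr U hU)
        (HomogeneousIdeal.mem_irrelevant_of_mem _ one_pos (hj.2 U hU m))
    obtain ⟨h, hh, -⟩ := existsUnique_relProjMap (hirr := hirr) hPT hP
    have : IsClosedImmersion h := Groth.Agent.S8292.result 𝒮 𝒯 hgen E hE u hu1 husurj j hj ubar hgr hju hirr _ _ _ _ hPT hP h hh
    exact ⟨E, 𝒯, j, PT, pT, chartT, e.hom ≫ h, hE, hEft, hj, hPT, inferInstance,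
      by rw [Category.assoc, relProjMap_over hPT hP hh, he]⟩
  · rintro ⟨E, 𝒯, j, P, p, chart, i, hE, hEft, hj, hP, hi, rfl⟩
    exact ClosedRelProj.isProjective_of_closedImmersion (isGenDegOne_grSym hE hj) (isFTDeg_one_grSym hE hEft hj) hP i

end Groth.Agent.EGA73.PBundleClosed

end
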