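import Groth.Agent.Amp73.Criteria
import Groth.Agent.Amp73.QA
import Groth.Agent.Amp73.Avoid

/-!
Composition of relatively ample modules.
-/

set_option autoImplicit false
set_option backward.isDefEq.respectTransparency.types false

universe u

open CategoryTheory CategoryTheory.Limits AlgebraicGeometry Opposite TopologicalSpace

noncomputable section

namespace Groth.Agent.EGA73.RelAmpleComp

open Groth.Agent.Var76.LineBundle Groth.Agent.Var76.ZeroScheme Groth.Agent.Amp73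

variable {X Y : Scheme.{u}}

theorem quasiSeparated_of_isRelAmple {f : X ⟶ Y} {L : X.Modules} (h : RelAmple.IsRelAmple f L) : QuasiSeparated f := by
  refine IsZariskiLocalAtTarget.of_iSup_eq_top (fun V : Y.affineOpens => V.1) (iSup_affineOpens_eq_top Y) fun V => ?_
  have : IsAffine (V.1 : Scheme.{u}) := V.2
  exact HasAffineProperty.iff_of_isAffine.2 (quasiSeparatedSpace_of_isAmple (h.2 V))

/-- A section of `L ^ N` on the generating locus of `T`, with that locus, extends after twisting by `T`. -/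
theorem exists_twisted_section [CompactSpace X] [QuasiSeparatedSpace X] {L P : X.Modules} (hL : PicF.IsInvertible L)
    (hP : PicF.IsInvertible P) (T : Coh.structureModule X ⟶ P) {N : ℕ}
    (s : Coh.structureModule (CohB1.genLocus P T : Scheme.{u}) ⟶
      CohB1.tensorPow (L.restrict (CohB1.genLocus P T).ι) N) :
    ∃ q₀ : ℕ, ∀ q, q₀ ≤ q → ∃ σ : Coh.structureModule X ⟶ CohB1.tensorMod (CohB1.tensorPow L N) (CohB1.tensorPow P q),
      CohB1.genLocus _ σ = (CohB1.genLocus P T).ι ''ᵁ CohB1.genLocus _ s := by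
  let A := CohB1.genLocus P T
  let j := A.ι
  let M := CohB1.tensorPow L N
  have hM : PicF.IsInvertible M := EGA73.isInvertible_tensorPow hL _
  let s' : Coh.structureModule (A : Scheme.{u}) ⟶ M.restrict j := s ≫ (powRestrict j L N).hom
  have hs' : CohB1.genLocus _ s' = CohB1.genLocus _ s := genLocus_comp_iso _ _
  have hU : j ''ᵁ ⊤ = A := A.ι_image_top
  let t : Γ(M, j ''ᵁ ⊤) := val (M.restrict j) s' ⊤
  obtain ⟨q₀, hq₀⟩ := exists_tw_extend hP T (Mero90.isQCoh_of_isInvertible hM) (res M hU.ge t)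
  refine ⟨q₀ + 1, fun q hq => ?_⟩
  obtain ⟨k, rfl⟩ : ∃ k, q = k + 1 := ⟨q - 1, by omega⟩
  obtain ⟨t', ht'⟩ := hq₀ k (by omega)
  let Q := CohB1.tensorMod M (CohB1.tensorPow P k)
  let τ : Coh.structureModule X ⟶ Q := Var76.Frames.ofSection Q t'
  have key : ∀ (V : X.Opens) (hV : V ≤ A), V ≤ CohB1.genLocus Q τ ↔ IsFrame M V (res M (hV.trans hU.ge) t) := by
    intro V hV
    rw [← isFrame_iff_le_genLocus, ← res_val Q τ hV,
      show val Q τ A = _ from (Var76.Frames.val_ofSection Q t' _).trans ht', res_tw, res_res]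
    exact isFrame_tm_right_iff hM (isFrame_epow ((isFrame_iff_le_genLocus T V).2 hV) k)
  have hres : ∀ V : (A : Scheme.{u}).Opens, val (M.restrict j) s' V = res M (j.image_mono le_top) t := fun V =>
    (res_val (M.restrict j) s' (le_top : V ≤ ⊤)).symm
  have heq : CohB1.genLocus Q τ ⊓ A = j ''ᵁ CohB1.genLocus _ s' := by
    apply le_antisymm
    · have hV : CohB1.genLocus Q τ ⊓ A ≤ A := inf_le_right
      have h := (key _ hV).1 inf_le_left
      set V := CohB1.genLocus Q τ ⊓ A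
      have h2 := h.res (j.image_preimage_le V)
      rw [res_res] at h2
      have h3 : IsFrame (M.restrict j) (j ⁻¹ᵁ V) (val (M.restrict j) s' (j ⁻¹ᵁ V)) := by
        rw [isFrame_restrict_iff, hres]; exact h2
      refine le_trans ?_ (j.image_mono ((isFrame_iff_le_genLocus s' _).1 h3))
      rw [Scheme.Hom.image_preimage_eq_opensRange_inf, Scheme.Opens.opensRange_ι]
      exact le_inf hV le_rfl
    · have hV : j ''ᵁ CohB1.genLocus _ s' ≤ A := (j.image_mono le_top).trans hU.le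
      refine le_inf ((key _ hV).2 ?_) hV
      have h := isFrame_genLocus s'
      rw [isFrame_restrict_iff, hres] at h
      exact h
  refine ⟨SecTwist.tmulHom τ T ≫ (EGA73.tensAssoc' M (CohB1.tensorPow P k) P).hom, ?_⟩
  refine (genLocus_comp_iso _ _).trans ?_
  rw [genLocus_tmulHom (EGA73.isInvertible_tensorMod hM (EGA73.isInvertible_tensorPow hP k)) hP, ← hs']
  exact heq

/-- EGA II 4.6.13 (ii) over an ample base. -/
theorem eventually_isAmple_comp (f : X ⟶ Y) [QuasiCompact f] {L : X.Modules} {K : Y.Modules}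
    (hL : RelAmple.IsRelAmple f L) (hK : CohB1.IsAmple K) :
    ∃ n₀ : ℕ, 0 < n₀ ∧ ∀ n, n₀ ≤ n →
      CohB1.IsAmple (CohB1.tensorMod L ((Scheme.Modules.pullback f).obj (CohB1.tensorPow K n))) := by
  classical
  have := hK.2.1
  have := quasiSeparatedSpace_of_isAmple hK
  have : CompactSpace X := QuasiCompact.compactSpace_of_compactSpace f
  have := quasiSeparated_of_isRelAmple hL
  have : QuasiSeparatedSpace X := quasiSeparatedSpace_of_quasiSeparated f
  have hLi := isInvertible_of_isRelAmple hL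
  obtain ⟨hKi, -, hcovK⟩ := isAmple_iff.1 hK
  choose G hG hyG hGa using hcovK
  obtain ⟨Z, hZ⟩ := isCompact_univ.elim_finite_subcover (fun y => (G y : Set Y)) (fun y => (G y).2)
    fun y _ => Set.mem_iUnion.2 ⟨y, hyG y⟩
  choose m s hs using fun y : Z => hG y.1
  obtain ⟨m₀, σ, hσ⟩ := exists_common_exponent hKi m s
  let e := m₀ + 1
  let P := (Scheme.Modules.pullback f).obj (CohB1.tensorPow K e)
  have hP : PicF.IsInvertible P := isInvertible_pullback f (EGA73.isInvertible_tensorPow hKi e)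
  have hdata : ∀ x : X, ∃ (G : X.Opens) (N q₀ : ℕ), 0 < N ∧ x ∈ G ∧ IsAffineOpen G ∧ ∀ q, q₀ ≤ q →
      ∃ σ : Coh.structureModule X ⟶ CohB1.tensorMod (CohB1.tensorPow L (N * e)) (CohB1.tensorPow P q),
        CohB1.genLocus _ σ = G := by
    intro x
    obtain ⟨y₀, hy₀, hxy⟩ := Set.mem_iUnion₂.1 (hZ (Set.mem_univ (f x)))
    let y : Z := ⟨y₀, hy₀⟩
    let T := pullHom f (σ y)
    have hT : CohB1.genLocus P T = f ⁻¹ᵁ G y.1 := by
      rw [genLocus_pullHom f (EGA73.isInvertible_tensorPow hKi e), hσ, hs]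
    let A := CohB1.genLocus P T
    have hcA : CompactSpace (A : Scheme.{u}) := by
      show CompactSpace (CohB1.genLocus P T : Scheme.{u})
      rw [hT]
      exact compactSpace_preimage f (hGa y.1)
    have hamp : CohB1.IsAmple (L.restrict A.ι) := isAmple_preimage hL A.ι (hGa y.1) fun z => hT.le z.2
    obtain ⟨-, -, hcA'⟩ := isAmple_iff.1 hamp
    obtain ⟨_, ⟨k, t, rfl⟩, hzt, hta⟩ := hcA' ⟨x, hT.ge hxy⟩
    obtain ⟨t', ht'⟩ := exists_genLocus_pow (EGA73.isInvertible_restrict hLi A.ι) t (Nat.succ_pos m₀)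
    obtain ⟨q₀, hq₀⟩ := exists_twisted_section hLi hP T t'
    refine ⟨A.ι ''ᵁ CohB1.genLocus _ t', k + 1, q₀, Nat.succ_pos _,
      ⟨_, ht'.ge hzt, rfl⟩, ?_, hq₀⟩
    rw [ht']
    exact hta.image_of_isOpenImmersion _
  choose H N q₀ hN hxH hHa hq₀ using hdata
  obtain ⟨Z', hZ'⟩ := isCompact_univ.elim_finite_subcover (fun x => (H x : Set X)) (fun x => (H x).2)
    fun x _ => Set.mem_iUnion.2 ⟨x, hxH x⟩
  refine ⟨e * (Z'.sup q₀ + 1), Nat.mul_pos (Nat.succ_pos _) (Nat.succ_pos _), fun n hn => ?_⟩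
  let Q := (Scheme.Modules.pullback f).obj (CohB1.tensorPow K n)
  have hQ : PicF.IsInvertible Q := isInvertible_pullback f (EGA73.isInvertible_tensorPow hKi n)
  refine isAmple_iff.2 ⟨EGA73.isInvertible_tensorMod hLi hQ, inferInstance, fun x => ?_⟩
  obtain ⟨x₀, hx₀, hxH'⟩ := Set.mem_iUnion₂.1 (hZ' (Set.mem_univ x))
  let q := N x₀ * n
  have hq : q₀ x₀ ≤ q := by
    have h1 : q₀ x₀ ≤ Z'.sup q₀ := Finset.le_sup hx₀
    have h2 : e * (Z'.sup q₀ + 1) ≤ n := hn
    have h3 : Z'.sup q₀ + 1 ≤ e * (Z'.sup q₀ + 1) := Nat.le_mul_of_pos_left _ (Nat.succ_pos _)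
    have h4 : n ≤ N x₀ * n := Nat.le_mul_of_pos_left _ (hN x₀)
    show q₀ x₀ ≤ N x₀ * n
    omega
  obtain ⟨τ, hτ⟩ := hq₀ x₀ q hq
  obtain ⟨M, hM⟩ : ∃ M, N x₀ * e = M + 1 :=
    ⟨N x₀ * e - 1, (Nat.sub_add_cancel (Nat.mul_pos (hN x₀) (Nat.succ_pos _))).symm⟩
  let φ : CohB1.tensorPow P q ≅ CohB1.tensorPow Q (N x₀ * e) :=
    (pullPowIso f (EGA73.isInvertible_tensorPow hKi e) q).symm ≪≫
      (Scheme.Modules.pullback f).mapIso (powMul K e q ≪≫
        eqToIso (congrArg (CohB1.tensorPow K) (show e * q = n * (N x₀ * e) by ring)) ≪≫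
        (powMul K n (N x₀ * e)).symm) ≪≫
      pullPowIso f (EGA73.isInvertible_tensorPow hKi n) (N x₀ * e)
  let ψ : CohB1.tensorMod (CohB1.tensorPow L (N x₀ * e)) (CohB1.tensorPow P q) ≅
      CohB1.tensorPow (CohB1.tensorMod L Q) (M + 1) :=
    EGA73.tensIso (Iso.refl _) φ ≪≫ (powTens L Q _).symm ≪≫ eqToIso (congrArg _ hM)
  refine ⟨H x₀, ⟨M, τ ≫ ψ.hom, ?_⟩, hxH', hHa x₀⟩
  rw [genLocus_comp_iso, hτ]

/-- EGA II 4.6.13 (ii). -/
theorem eventually_isRelAmple_comp {Z : Scheme.{u}} [CompactSpace Z] (f : X ⟶ Y) (g : Y ⟶ Z)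
    [QuasiCompact f] [QuasiCompact g] {L : X.Modules} {K : Y.Modules}
    (hL : RelAmple.IsRelAmple f L) (hK : RelAmple.IsRelAmple g K) :
    ∃ n₀ : ℕ, 0 < n₀ ∧ ∀ n, n₀ ≤ n →
      RelAmple.IsRelAmple (f ≫ g) (CohB1.tensorMod L ((Scheme.Modules.pullback f).obj (CohB1.tensorPow K n))) := by
  classical
  have hloc : ∀ U : Z.affineOpens, ∃ n₀ : ℕ, 0 < n₀ ∧ ∀ n, n₀ ≤ n → CohB1.IsAmple
      ((CohB1.tensorMod L ((Scheme.Modules.pullback f).obj (CohB1.tensorPow K n))).restrict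
        ((f ≫ g) ⁻¹ᵁ U.1).ι) := by
    intro U
    let W := g ⁻¹ᵁ U.1
    let j := (f ⁻¹ᵁ W).ι
    have hcov : ⨆ b, cond b W (⊤ : Y.Opens) = ⊤ :=
      le_antisymm le_top (le_iSup (fun b => cond b W (⊤ : Y.Opens)) false)
    have hL' : RelAmple.IsRelAmple (f ∣_ W) (L.restrict j) := (isRelAmple_iff_cover f _ hcov).1 hL true
    have := hL'.1
    obtain ⟨n₀, hn₀, h⟩ := eventually_isAmple_comp (f ∣_ W) hL' (hK.2 U)
    refine ⟨n₀, hn₀, fun n hn => ?_⟩
    exact isAmple_of_iso (EGA73.tensIso (Iso.refl _)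
        ((Scheme.Modules.pullback (f ∣_ W)).mapIso (powRestrict W.ι K n) ≪≫
          pullSquareIso (f ∣_ W) W.ι j f (morphismRestrict_ι _ _) (CohB1.tensorPow K n)) ≪≫
      EGA73.tensorRestrictIso j _ _) (h n hn)
  choose n₁ hn₁ hamp using hloc
  obtain ⟨T, hT⟩ := isCompact_univ.elim_finite_subcover (fun U : Z.affineOpens => (U.1 : Set Z)) (fun U => U.1.2)
    fun z _ => by
      obtain ⟨V, hV, hzV, -⟩ := exists_isAffineOpen_mem_and_subset (U := (⊤ : Z.Opens)) (x := z) trivial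
      exact Set.mem_iUnion.2 ⟨⟨V, hV⟩, hzV⟩
  refine ⟨T.sup n₁ + 1, Nat.succ_pos _, fun n hn => ?_⟩
  refine isRelAmple_of_cover _ fun z => ?_
  obtain ⟨U, hU, hzU⟩ := Set.mem_iUnion₂.1 (hT (Set.mem_univ z))
  exact ⟨U, hzU, hamp U n (((Finset.le_sup hU).trans (Nat.le_succ _)).trans hn)⟩

end Groth.Agent.EGA73.RelAmpleComp

end
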