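import Groth.Agent.EGA73.BundleExistence
import Groth.Agent.EGA73.ChartSources
import Groth.Agent.EGA73.RelAmpleComp
import Groth.Agent.EGA73.AmpleBaseImmersion
import Groth.Agent.EGA73.PBundleClosed
import Groth.Agent.EGA73.ProjProper

/-!
Quasi-projective morphisms, very ample modules and bundles of finite type.
-/

set_option autoImplicit false
set_option backward.isDefEq.respectTransparency.types false

universe u

open CategoryTheory CategoryTheory.Limits AlgebraicGeometry Opposite TopologicalSpace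

noncomputable section

namespace Groth.Agent.EGA73.QuasiProjective

open Groth.Agent.Var76.LineBundle Groth.Agent.EGAProj74 BundleImmersion

variable {X Y : Scheme.{u}}

theorem quasiSeparatedSpace_or {Y : Scheme.{u}}
    (hY : (CompactSpace Y ∧ Y.IsSeparated) ∨ NoetherianSpace Y) :
    CompactSpace Y ∧ (QuasiSeparatedSpace Y ∨ NoetherianSpace Y) := by
  rcases hY with ⟨h1, h2⟩ | h
  · exact ⟨h1, Or.inl inferInstance⟩
  · exact ⟨NoetherianSpace.compactSpace Y, Or.inr h⟩

theorem isSeparated_bundle {E : Y.Modules} (hE : Coh.IsQCoh E) (hft : CohB1.IsFT E) {𝒯 : RelProj.QCGrAlg Y}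
    {j : E ⟶ 𝒯.toModule} (hj : RelProj.IsGrSymAlg E 𝒯 j) {P : Scheme.{u}} {p : P ⟶ Y}
    {chart : ∀ (U : Y.Opens) (hU : IsAffineOpen U), ((p ⁻¹ᵁ U : P.Opens) : Scheme.{u}) ≅ Proj (𝒯.deg U hU)}
    (hP : RelProj.IsRelProj 𝒯 p chart) : IsProper p :=
  EGA73.isProper_relProj (isGenDegOne_grSym hE hj) (PBundleClosed.isFTDeg_one_grSym hE hft hj) hP

theorem quasiSeparated_of_isRelVeryAmple {q : X ⟶ Y} {L : X.Modules} (h : RelProj.IsRelVeryAmple q L) :
    QuasiSeparated q := by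
  obtain ⟨E, hE, 𝒮, j, hj, P, p, chart, hP, O1, lam, hO1, i, hi, rfl, -⟩ := h
  have : IsSeparated p := EGAProj74.restrict_of_chart (Q := @IsSeparated) hP fun U hU => inferInstance
  infer_instance

/-- EGA II 5.3.1 (c): a quasi-projective morphism embeds into the bundle of a module of finite type. -/
theorem exists_immersion_bundle [CompactSpace Y] (hY : QuasiSeparatedSpace Y ∨ NoetherianSpace Y) {f : X ⟶ Y}
    (hf : RelProj.IsQuasiProjective f) :
    ∃ (E : Y.Modules) (𝒯 : RelProj.QCGrAlg Y) (j : E ⟶ 𝒯.toModule) (P : Scheme.{u}) (p : P ⟶ Y)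
      (chart : ∀ (U : Y.Opens) (hU : IsAffineOpen U), ((p ⁻¹ᵁ U : P.Opens) : Scheme.{u}) ≅ Proj (𝒯.deg U hU))
      (i : X ⟶ P),
      Coh.IsQCoh E ∧ CohB1.IsFT E ∧ RelProj.IsGrSymAlg E 𝒯 j ∧ RelProj.IsRelProj 𝒯 p chart ∧
        IsImmersion i ∧ i ≫ p = f := by
  obtain ⟨_, _, L, hL⟩ := hf
  have := RelAmpleComp.quasiSeparated_of_isRelAmple hL
  obtain ⟨n₀, -, h⟩ := ChartSources.eventually_hasChart_of_isRelAmple f hL
  obtain ⟨E, 𝒯, j, P, p, chart, O1, lam, i, hE, hft, hj, hP, -, hi, hip, -⟩ :=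
    BundleExistence.exists_bundle_immersion f hY
      (EGA73.isInvertible_tensorPow (Amp73.isInvertible_of_isRelAmple hL) n₀) (h n₀ le_rfl)
  exact ⟨E, 𝒯, j, P, p, chart, i, hE, hft, hj, hP, hi, hip⟩

/-- EGA II 5.5.3: quasi-projective and proper is projective. -/
theorem isProjective_of_isProper [CompactSpace Y] (hY : QuasiSeparatedSpace Y ∨ NoetherianSpace Y) (f : X ⟶ Y)
    (hf : RelProj.IsQuasiProjective f) [IsProper f] : RelProj.IsProjective f := by
  obtain ⟨E, 𝒯, j, P, p, chart, i, hE, hft, hj, hP, hi, hip⟩ := exists_immersion_bundle hY hf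
  have := isSeparated_bundle hE hft hj hP
  have : IsProper (i ≫ p) := hip ▸ inferInstance
  have : IsProper i := IsProper.of_comp i p
  exact (PBundleClosed.isProjective_iff f).2
    ⟨E, 𝒯, j, P, p, chart, i, hE, hft, hj, hP, AmpleBaseImmersion.isClosedImmersion_of_isImmersion_of_isProper i, hip⟩

/-- Quasi-projective is open in projective. -/
theorem exists_openImmersion_projective [CompactSpace Y] (hY : QuasiSeparatedSpace Y ∨ NoetherianSpace Y)
    {f : X ⟶ Y} (hf : RelProj.IsQuasiProjective f) :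
    ∃ (X' : Scheme.{u}) (i : X ⟶ X') (g : X' ⟶ Y), IsOpenImmersion i ∧ DenseRange i.base ∧
      RelProj.IsProjective g ∧ i ≫ g = f := by
  obtain ⟨E, 𝒯, j, P, p, chart, i, hE, hft, hj, hP, hi, hip⟩ := exists_immersion_bundle hY hf
  have := isSeparated_bundle hE hft hj hP
  have := hf.2.1
  have : QuasiCompact (i ≫ p) := hip ▸ inferInstance
  have : QuasiCompact i := QuasiCompact.of_comp i p
  refine ⟨i.image, i.toImage, i.imageι ≫ p, inferInstance, i.toImage.denseRange, ?_, ?_⟩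
  · exact (PBundleClosed.isProjective_iff _).2
      ⟨E, 𝒯, j, P, p, chart, i.imageι, hE, hft, hj, hP, inferInstance, rfl⟩
  · rw [← Category.assoc, Scheme.Hom.toImage_imageι, hip]

/-- The whole direct image classifies. -/
theorem exists_immersion_pushforward (q : X ⟶ Y) [QuasiCompact q] [QuasiSeparated q] {L : X.Modules}
    (hL : PicF.IsInvertible L) (hd : ∀ x : X, ∃ (U : Y.affineOpens) (T : Set Γ(L, q ⁻¹ᵁ U.1)), HasChart q U T x) :
    ∃ (𝒯 : RelProj.QCGrAlg Y) (j : (Scheme.Modules.pushforward q).obj L ⟶ 𝒯.toModule) (P : Scheme.{u}) (p : P ⟶ Y)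
      (chart : ∀ (U : Y.Opens) (hU : IsAffineOpen U), ((p ⁻¹ᵁ U : P.Opens) : Scheme.{u}) ≅ Proj (𝒯.deg U hU))
      (O1 : P.Modules)
      (lam : ∀ (U : Y.Opens) (hU : IsAffineOpen U),
        O1 ⟶ (Scheme.Modules.pushforward (RelProj.emb p chart U hU)).obj (GrTwist.twist (𝒯.deg U hU) 1))
      (i : X ⟶ P),
      Coh.IsQCoh ((Scheme.Modules.pushforward q).obj L) ∧
        RelProj.IsGrSymAlg ((Scheme.Modules.pushforward q).obj L) 𝒯 j ∧ RelProj.IsRelProj 𝒯 p chart ∧
        RelProj.IsRelTwist 𝒯 p chart 1 O1 lam ∧ IsImmersion i ∧ i ≫ p = q ∧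
        Nonempty (L ≅ (Scheme.Modules.pullback i).obj O1) := by
  have : L.IsQuasicoherent := Mero90.isQCoh_of_isInvertible hL
  let F := (Scheme.Modules.pushforward q).obj L
  have hF : Coh.IsQCoh F := QCqs72.isQuasicoherent_pushforward L q
  let v : F ⟶ (Scheme.Modules.pushforward q).obj L := 𝟙 _
  have hd' : ∀ x : X, ∃ U : Y.affineOpens, HasChart q U (Set.range (v.app U.1)) x := fun x => by
    obtain ⟨U, T, h⟩ := hd x
    exact ⟨U, h.mono fun s _ => ⟨s, rfl⟩⟩
  have hgen : IsGenerating v := fun x => by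
    obtain ⟨U', s, ⟨e, he⟩, c, -, hx, -⟩ := hd' x
    subst he
    exact ⟨U', e, _, flocus_le _, X.basicOpen_le c hx, isFrame_flocus _⟩
  obtain ⟨𝒯, j, hj, P, p, chart, hP, O1, lam, hO1⟩ := exists_projBundle (E := F) hF
  obtain ⟨φ, hφ⟩ := exists_canonical (lam := lam) hF hj hO1 hP
  obtain ⟨r, hr⟩ := exists_classifies hF hj hP hO1 hφ hgen
  have himm := isImmersion_of_classifies hF hj hO1 hφ hr hd'
  obtain rfl := hr.comp_eq
  obtain ⟨τ, -⟩ := exists_iso_of_classifies hF hj hO1 hφ hgen hr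
  exact ⟨𝒯, j, P, p, chart, O1, lam, r, hF, hj, hP, hO1, himm, rfl, ⟨τ.symm⟩⟩

theorem exists_chart_of_isRelVeryAmple {q : X ⟶ Y} {L : X.Modules} (h : RelProj.IsRelVeryAmple q L) (x : X) :
    ∃ (U : Y.affineOpens) (T : Set Γ(L, q ⁻¹ᵁ U.1)), HasChart q U T x := by
  obtain ⟨V, hV, hxV, -⟩ := exists_isAffineOpen_mem_and_subset (U := (⊤ : Y.Opens)) (x := q x) trivial
  exact ⟨⟨V, hV⟩, ChartSources.exists_hasChart_of_isRelVeryAmple h x (U := ⟨V, hV⟩) hxV⟩

/-- EGA II 4.6.11. -/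
theorem eventually_isRelVeryAmple [CompactSpace Y] (f : X ⟶ Y) [LocallyOfFiniteType f] {L : X.Modules}
    (h : RelAmple.IsRelAmple f L) :
    ∃ n₀ : ℕ, 0 < n₀ ∧ ∀ n : ℕ, n₀ ≤ n → RelProj.IsRelVeryAmple f (CohB1.tensorPow L n) := by
  have := h.1
  have := RelAmpleComp.quasiSeparated_of_isRelAmple h
  obtain ⟨n₀, hn₀, hd⟩ := ChartSources.eventually_hasChart_of_isRelAmple f h
  refine ⟨n₀, hn₀, fun n hn => ?_⟩
  obtain ⟨𝒯, j, P, p, chart, O1, lam, i, hF, hj, hP, hO1, hi, hip, hτ⟩ :=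
    exists_immersion_pushforward f (EGA73.isInvertible_tensorPow (Amp73.isInvertible_of_isRelAmple h) n) (hd n hn)
  exact ⟨_, hF, 𝒯, j, hj, P, p, chart, hP, O1, lam, hO1, i, hi, hip, hτ⟩

/-- EGA II 5.5.4 (i): proper, very ample with direct image of finite type is projective. -/
theorem isProjective_of_isFT_pushforward (f : X ⟶ Y) [IsProper f] {L : X.Modules} (hL : PicF.IsInvertible L)
    (hva : RelProj.IsRelVeryAmple f L) (hft : CohB1.IsFT ((Scheme.Modules.pushforward f).obj L)) :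
    RelProj.IsProjective f := by
  obtain ⟨𝒯, j, P, p, chart, O1, lam, i, hF, hj, hP, -, hi, hip, -⟩ :=
    exists_immersion_pushforward f hL (exists_chart_of_isRelVeryAmple hva)
  have := isSeparated_bundle hF hft hj hP
  have : IsProper (i ≫ p) := hip ▸ inferInstance
  have : IsProper i := IsProper.of_comp i p
  exact (PBundleClosed.isProjective_iff f).2
    ⟨_, 𝒯, j, P, p, chart, i, hF, hft, hj, hP, AmpleBaseImmersion.isClosedImmersion_of_isImmersion_of_isProper i, hip⟩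

/-- EGA II 5.3.1, converse: open in projective is quasi-projective. -/
theorem isQuasiProjective_of_openImmersion {X' : Scheme.{u}} (i : X ⟶ X') [IsOpenImmersion i] {g : X' ⟶ Y}
    (hg : RelProj.IsProjective g) [QuasiCompact (i ≫ g)] [LocallyOfFiniteType (i ≫ g)] :
    RelProj.IsQuasiProjective (i ≫ g) := by
  obtain ⟨⟨_, _, L, hL⟩, hp⟩ := S4418.result g hg
  have : QuasiCompact i := QuasiCompact.of_comp i g
  exact ⟨inferInstance, inferInstance, (Scheme.Modules.pullback i).obj L,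
    Amp73.isRelAmple_pullback_comp i (Amp73.isQuasiAffine_of_isEmbedding i i.isOpenEmbedding.isEmbedding) hL⟩

end Groth.Agent.EGA73.QuasiProjective

end
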