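import Groth.Agent.EGA73.BundleImmersion
import Groth.Agent.EGA73.QuasiProjective

/-!
Very ample relative to an affine base: immersions into projective space.
-/

set_option autoImplicit false
set_option backward.isDefEq.respectTransparency.types false

universe u

open CategoryTheory CategoryTheory.Limits AlgebraicGeometry Opposite TopologicalSpace
open HomogeneousLocalization

noncomputable section

namespace Groth.Agent.EGA73.ImmersionPn2

open Groth.Agent.Var76.LineBundle Groth.Agent.Var76.ZeroScheme Groth.Agent.Amp73 Groth.Agent.EGA73.ImmersionPn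

variable {X S : Scheme.{u}}

/-- A chart of an immersion from generators in the image and an inverted element. -/
theorem exists_chart_of_range {Y : Scheme.{u}} (i : X ⟶ Y) {O : Y.Opens} (hO : IsAffineOpen O)
    {G : X.Opens} (hpre : i ⁻¹ᵁ O = G) (hD : G ≤ i ⁻¹ᵁ O) (c : Γ(X, G))
    (hc : c ∈ (i.appLE O G hD).hom.range) {z : X} (hz : z ∈ X.basicOpen c)
    (hba : IsAffineOpen (X.basicOpen c)) (gens : Set Γ(X, G))
    (hgens : ∀ b ∈ gens, b ∈ (i.appLE O G hD).hom.range)
    (hcl : Subring.closure (fres (X.basicOpen_le c) '' gens ∪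
      {d | d * fres (X.basicOpen_le c) c = 1}) = ⊤) :
    ∃ O' : Y.Opens, IsAffineOpen O' ∧ i z ∈ O' ∧ IsAffineOpen (i ⁻¹ᵁ O') ∧
      Function.Surjective (i.app O') := by
  subst hpre
  obtain ⟨c', hc'⟩ := hc
  let O' := Y.basicOpen c'
  have hO'O : O' ≤ O := Y.basicOpen_le c'
  have hb : i ⁻¹ᵁ O' = X.basicOpen c := by
    rw [← hc', Scheme.preimage_basicOpen, ← Scheme.Hom.app_eq_appLE]
  refine ⟨O', hO.basicOpen c', hb.ge hz, hb ▸ hba, ?_⟩
  have key : ∀ (G' : X.Opens) (_ : G' = X.basicOpen c) (h' : G' ≤ i ⁻¹ᵁ O'),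
      Function.Surjective (i.appLE O' G' h') := by
    rintro G' rfl h' a
    have hres : ∀ z : Γ(Y, O), i.appLE O' (X.basicOpen c) h' (Y.presheaf.map (homOfLE hO'O).op z) =
        fres (X.basicOpen_le c) (i.appLE O (i ⁻¹ᵁ O) hD z) := fun z => by
      simp only [fres, ← CommRingCat.comp_apply, Scheme.Hom.map_appLE, Scheme.Hom.appLE_map]
    have hsub : Subring.closure (fres (X.basicOpen_le c) '' gens ∪
        {d | d * fres (X.basicOpen_le c) c = 1}) ≤ (i.appLE O' (X.basicOpen c) h').hom.range := by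
      rw [Subring.closure_le]
      rintro b (⟨b', hb', rfl⟩ | hb')
      · obtain ⟨z, rfl⟩ := hgens b' hb'
        exact ⟨_, hres z⟩
      · have hu : IsUnit (Y.presheaf.map (homOfLE hO'O).op c') := RingedSpace.isUnit_res_basicOpen Y.toRingedSpace c'
        obtain ⟨w, hw⟩ := hu.exists_left_inv
        refine ⟨w, ?_⟩
        have h1 := congrArg (i.appLE O' (X.basicOpen c) h') hw
        rw [map_mul, map_one] at h1
        have h2 : i.appLE O' (X.basicOpen c) h' w * fres (X.basicOpen_le c) c = 1 := by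
          have h3 := hres c'
          erw [hc'] at h3
          rw [← h3]
          exact h1
        calc i.appLE O' (X.basicOpen c) h' w
            = i.appLE O' (X.basicOpen c) h' w * (b * fres (X.basicOpen_le c) c) := by rw [hb', mul_one]
          _ = b := by rw [mul_left_comm, h2, mul_one]
    exact hsub (hcl.ge (Subring.mem_top a))
  rw [← Scheme.Hom.appLE_eq_app]
  exact key _ hb le_rfl

/-- Sections whose ratios generate the functions after inverting one of them give an immersion into `P^n_S`. -/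
theorem isRelVeryAmplePn_of_charts (f : X ⟶ S) (M : X.Modules) (hM : PicF.IsInvertible M) {J : Type u}
    [Finite J] (u : J → ProjUP.Γm M)
    (h : ∀ z : X, ∃ (j : J) (V : S.Opens) (_ : IsAffineOpen V)
      (hle : CohB1.genLocus M (Var76.Frames.ofSection M (u j)) ≤ f ⁻¹ᵁ V)
      (c : Γ(X, CohB1.genLocus M (Var76.Frames.ofSection M (u j)))),
      let G := CohB1.genLocus M (Var76.Frames.ofSection M (u j))
      let gens := Set.range (f.appLE V G hle) ∪ {a | ∃ j', a • res M (le_top : G ≤ ⊤) (u j) =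
            res M (le_top : G ≤ ⊤) (u j')}
      c ∈ Subring.closure gens ∧ z ∈ X.basicOpen c ∧ IsAffineOpen (X.basicOpen c) ∧
        Subring.closure (fres (X.basicOpen_le c) '' gens ∪
          {d | d * fres (X.basicOpen_le c) c = 1}) = ⊤) :
    RelAmple.IsRelVeryAmplePn f M := by
  classical
  cases nonempty_fintype J
  let eJ := Fintype.equivFin J
  let n := Fintype.card J
  let u' : Fin (n + 1) → ProjUP.Γm M := Fin.cons 0 (fun k => u (eJ.symm k))
  have hu' : ∀ j, u' (Fin.succ (eJ j)) = u j := fun j => by simp [u']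
  let Z := ULift.{u} ℤ
  let q : X ⟶ Spec (CommRingCat.of Z) := specULiftZIsTerminal.from X
  let v : (Fin (n + 1) → Z) →+ ProjUP.Γm M :=
    AddMonoidHom.mk' (fun c => ∑ k, ProjUP.toGlobal q (c k) • u' k)
      fun a b => by simp [add_smul, Finset.sum_add_distrib]
  have hv1 : ∀ k, v (Pi.single k 1) = u' k := fun k => by
    show ∑ i, ProjUP.toGlobal q ((Pi.single k 1 : Fin (n + 1) → Z) i) • u' i = u' k
    rw [Finset.sum_eq_single k (fun i _ hi => by simp [Pi.single_eq_of_ne hi]) (by simp)]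
    simp
  have hcov : ∀ z : X, ∃ j, z ∈ CohB1.genLocus M (Var76.Frames.ofSection M (u j)) := fun z => by
    obtain ⟨j, V, -, hle, c, -, hz, -⟩ := h z
    exact ⟨j, X.basicOpen_le c hz⟩
  have hgen : ProjUP.GeneratedBy M v := generatedBy_of_genLocus M v fun z => by
    obtain ⟨j, hj⟩ := hcov z
    refine ⟨Pi.single (Fin.succ (eJ j)) 1, ?_⟩
    rwa [hv1, hu']
  let 𝒬p := CohB1.polyGrading n Z
  obtain ⟨r, -, τ, hτ⟩ := ProjUniv.exists_to_proj (𝒮 := 𝒬p) q (PolySym.linForm_mem n Z)
    (PolySym.isSymmetricAlgebra_linForm n Z) M hM v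
    (fun a c => by
      show ∑ k, ProjUP.toGlobal q (a * c k) • u' k = ProjUP.toGlobal q a • ∑ k, ProjUP.toGlobal q (c k) • u' k
      simp only [Finset.smul_sum, smul_smul, map_mul]) hgen
  let Xk : Fin (n + 1) → 𝒬p 1 := fun k => ⟨MvPolynomial.X k, MvPolynomial.isHomogeneous_X Z k⟩
  let T1 := Twist.twist 𝒬p 1
  let P1 := (Scheme.Modules.pullback r).obj T1
  have hτ' : ∀ k, τ.hom.app ⊤ (pullS r T1 ⊤ (Var76.ProjFrame.sect 𝒬p (Xk k))) = u' k := fun k => by
    have h1 := hτ (Pi.single k 1)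
    rw [hv1] at h1
    refine Eq.trans ?_ h1
    refine congrArg (fun s => τ.hom.app ⊤ (ProjUP.pullSec r T1 (Twist.globalOf 𝒬p s))) (Subtype.ext ?_)
    exact (PolySym.linForm_single n Z k).symm
  let D : J → (Proj 𝒬p).Opens := fun j => Proj.basicOpen 𝒬p (MvPolynomial.X (Fin.succ (eJ j)))
  have hirr : (HomogeneousIdeal.irrelevant 𝒬p).toIdeal = Ideal.span (𝒬p 1 : Set (MvPolynomial (Fin (n + 1)) Z)) :=
    ProjUniv.irrelevant_eq_span_one (PolySym.linForm_mem n Z) (PolySym.isSymmetricAlgebra_linForm n Z)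
  have hG : ∀ j, r ⁻¹ᵁ D j = CohB1.genLocus M (Var76.Frames.ofSection M (u j)) := fun j => by
    have e1 : CohB1.genLocus _ (pullHom r (degOneHom 𝒬p (Xk (Fin.succ (eJ j))))) = r ⁻¹ᵁ D j := by
      rw [genLocus_pullHom r (EGA73.isInvertible_twist hirr 1), genLocus_degOneHom hirr]
    rw [← e1, ← genLocus_comp_iso _ τ.hom]
    refine le_antisymm ?_ ?_
    all_goals rw [← isFrame_iff_le_genLocus]
    all_goals
      have e2 : ∀ W : X.Opens, val M (pullHom r (degOneHom 𝒬p (Xk (Fin.succ (eJ j)))) ≫ τ.hom) W =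
          val M (Var76.Frames.ofSection M (u j)) W := fun W => by
        have h3 : val M (pullHom r (degOneHom 𝒬p (Xk (Fin.succ (eJ j)))) ≫ τ.hom) ⊤ = u j := by
          show τ.hom.app ⊤ (val P1 (pullHom r (degOneHom 𝒬p (Xk (Fin.succ (eJ j))))) ⊤) = u j
          refine Eq.trans ?_ ((hτ' _).trans (hu' j))
          refine congrArg (τ.hom.app ⊤) ((val_pullHom r _ ⊤).trans (congrArg (pullS r T1 ⊤) ?_))
          exact (Var76.Frames.val_ofSection _ _ ⊤).trans (Amp73.res_self _ _)
        rw [← res_val M _ (le_top : W ≤ ⊤), h3, Var76.Frames.val_ofSection]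
    · rw [← e2]
      exact (isFrame_iff_le_genLocus _ _).2 le_rfl
    · rw [e2]
      exact (isFrame_iff_le_genLocus _ _).2 le_rfl
  have hratio : ∀ (j j' : J) (G : X.Opens) (hGe : G = CohB1.genLocus M (Var76.Frames.ofSection M (u j)))
      (hle : G ≤ r ⁻¹ᵁ D j) (a : Γ(X, G)),
      a • res M (le_top : G ≤ ⊤) (u j) = res M (le_top : G ≤ ⊤) (u j') → a ∈ (r.appLE (D j) G hle).hom.range := by
    intro j j' G hGe hle a ha
    refine ⟨Proj.awayToSection 𝒬p _ (HomogeneousLocalization.mk
      ⟨1, Xk (Fin.succ (eJ j')), Xk (Fin.succ (eJ j)), ⟨1, pow_one _⟩⟩), ?_⟩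
    have he : IsFrame M G (res M le_top (u j)) := by
      subst hGe
      rw [← Var76.Frames.val_ofSection]
      exact isFrame_genLocus _
    refine (he G le_rfl).1 ?_
    simp only [Amp73.res_self]
    rw [ha]
    have h1 := congrArg (fun s => τ.hom.app G (res P1 hle (pullS r T1 (D j) s)))
      (Var76.ProjFrame.away_smul_frame 𝒬p (Xk (Fin.succ (eJ j))) (Xk (Fin.succ (eJ j'))))
    have hres : ∀ k, τ.hom.app G (res P1 hle (pullS r T1 (D j) (res T1 le_top (Var76.ProjFrame.sect 𝒬p (Xk k))))) =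
        res M le_top (u' k) := fun k => by
      rw [← res_pullS, res_res, Mero90.app_res]
      exact congrArg (res M le_top) (hτ' k)
    simp only [pullS_smul, res_smul, Scheme.Modules.Hom.app_smul] at h1
    rw [hres, hres, hu', hu'] at h1
    exact h1
  let t := CohB1.ProjSpace.toSpec n Z
  let i : X ⟶ CohB1.ProjSpaceOver n S := pullback.lift r f (specULiftZIsTerminal.hom_ext _ _)
  have hifst : i ≫ pullback.fst t (specULiftZIsTerminal.from S) = r := pullback.lift_fst _ _ _
  have hisnd : i ≫ pullback.snd t (specULiftZIsTerminal.from S) = f := pullback.lift_snd _ _ _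
  have himm : IsImmersion i := by
    refine BundleImmersion.isImmersion_of_charts i fun z => ?_
    obtain ⟨j, V, hV, hle, c, hc, hz, hba, hcl⟩ := h z
    let G := CohB1.genLocus M (Var76.Frames.ofSection M (u j))
    let O : (CohB1.ProjSpaceOver n S).Opens :=
      pullback.fst t (specULiftZIsTerminal.from S) ⁻¹ᵁ D j ⊓ pullback.snd t (specULiftZIsTerminal.from S) ⁻¹ᵁ V
    have hO : IsAffineOpen O :=
      isAffineOpen_inf_preimage _ _ (Proj.isAffineOpen_basicOpen _ _ (Xk _).2 one_pos) hV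
        (isAffineOpen_top _) le_top le_top
    have hpre : i ⁻¹ᵁ O = G := by
      show i ⁻¹ᵁ (_ ⊓ _) = _
      rw [Scheme.Hom.preimage_inf]
      rw [← Scheme.Hom.comp_preimage, ← Scheme.Hom.comp_preimage, hifst, hisnd]
      exact (congrArg (· ⊓ f ⁻¹ᵁ V) (hG j)).trans (inf_eq_left.2 hle)
    have hcongr : ∀ {A B : Scheme.{u}} (φ φ' : A ⟶ B) (_ : φ = φ') (U : B.Opens) (G : A.Opens) (e : G ≤ φ ⁻¹ᵁ U)
        (e' : G ≤ φ' ⁻¹ᵁ U) (c : Γ(B, U)), φ.appLE U G e c = φ'.appLE U G e' c := by
      rintro A B φ _ rfl U G e e' c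
      rfl
    have hD : G ≤ i ⁻¹ᵁ O := hpre.ge
    let θ := i.appLE O G hD
    have hgens : ∀ b ∈ (Set.range (f.appLE V G hle) ∪ {a | ∃ j', a • res M (le_top : G ≤ ⊤) (u j) =
        res M (le_top : G ≤ ⊤) (u j')}), b ∈ θ.hom.range := by
      rintro b (⟨c, rfl⟩ | ⟨j', hj'⟩)
      · refine ⟨(pullback.snd t (specULiftZIsTerminal.from S)).appLE V O inf_le_right c, ?_⟩
        refine (ConcreteCategory.congr_hom (Scheme.Hom.appLE_comp_appLE i _ V O _ inf_le_right hD) c).trans ?_
        exact hcongr _ _ hisnd V _ _ _ c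
      · have hle' : G ≤ r ⁻¹ᵁ D j := (hG j).ge
        obtain ⟨c, hc⟩ := hratio j j' _ rfl hle' b hj'
        refine ⟨(pullback.fst t (specULiftZIsTerminal.from S)).appLE (D j) O inf_le_left c, ?_⟩
        refine (ConcreteCategory.congr_hom (Scheme.Hom.appLE_comp_appLE i _ (D j) O _ inf_le_left hD) c).trans ?_
        exact (hcongr _ _ hifst (D j) _ _ hle' c).trans hc
    exact exists_chart_of_range i hO hpre hD c (Subring.closure_le.2 hgens hc) hz hba _ hgens hcl
  refine ⟨n, i, himm, hisnd, ⟨?_⟩⟩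
  exact τ.symm ≪≫ (Scheme.Modules.pullbackCongr hifst.symm).app _ ≪≫
    ((Scheme.Modules.pullbackComp i _).app _).symm

open Groth.Agent.EGA73.BundleImmersion in
theorem flocus_eq_genLocus {L : X.Modules} (s : Γ(L, ⊤)) :
    flocus s = CohB1.genLocus L (Var76.Frames.ofSection L s) := by
  refine le_antisymm ?_ (le_flocus s le_top ?_)
  · rw [← isFrame_iff_le_genLocus, Var76.Frames.val_ofSection]
    exact isFrame_flocus s
  · rw [← Var76.Frames.val_ofSection]
    exact isFrame_genLocus _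

open Groth.Agent.EGA73.BundleImmersion in
/-- Very ample relative to an affine base gives an immersion into projective space. -/
theorem isRelVeryAmplePn_of_isRelVeryAmple [IsAffine S] (f : X ⟶ S) [LocallyOfFiniteType f]
    [QuasiCompact f] {L : X.Modules} (hLinv : PicF.IsInvertible L) (hL : RelProj.IsRelVeryAmple f L) :
    RelAmple.IsRelVeryAmplePn f L := by
  classical
  have : CompactSpace X := QuasiCompact.compactSpace_of_compactSpace f
  let U : S.affineOpens := ⟨⊤, isAffineOpen_top S⟩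
  have h0 : ∀ x : X, ∃ T : Set Γ(L, f ⁻¹ᵁ U.1), T.Finite ∧ HasChart f U T x := fun x => by
    obtain ⟨T, hT⟩ := ChartSources.exists_hasChart_of_isRelVeryAmple hL x (U := U) trivial
    obtain ⟨T₀, -, hfin, h⟩ := hT.exists_finite
    exact ⟨T₀, hfin, h⟩
  choose T hT hchart using h0
  choose s hs c hc hx ha hcl using hchart
  obtain ⟨F, hF⟩ := isCompact_univ.elim_finite_subcover (fun x : X => (X.basicOpen (c x) : Set X))
    (fun x => (X.basicOpen (c x)).2) (fun x _ => Set.mem_iUnion.2 ⟨x, hx x⟩)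
  let T' : Set Γ(L, f ⁻¹ᵁ U.1) := ⋃ x ∈ F, T x
  have hT' : T'.Finite := F.finite_toSet.biUnion fun x _ => hT x
  have := hT'.to_subtype
  let u : ULift.{u} T' → ProjUP.Γm L := fun t => t.down.1
  refine isRelVeryAmplePn_of_charts f L hLinv u fun z => ?_
  obtain ⟨x, hxF, hzx⟩ := Set.mem_iUnion₂.1 (hF (Set.mem_univ z))
  have hsub : T x ⊆ T' := Set.subset_biUnion_of_mem (u := T) hxF
  have key : ∀ (G : X.Opens) (_ : flocus (s x) = G) (hG : G ≤ f ⁻¹ᵁ U.1),
      ∃ c' : Γ(X, G),
        c' ∈ Subring.closure (chartGens f U T' (s x) hG) ∧ z ∈ X.basicOpen c' ∧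
          IsAffineOpen (X.basicOpen c') ∧
          Subring.closure (fres (X.basicOpen_le c') '' chartGens f U T' (s x) hG ∪
            {d | d * fres (X.basicOpen_le c') c' = 1}) = ⊤ := by
    rintro _ rfl hG
    exact ⟨c x, Subring.closure_mono (chartGens_mono f U hsub _ _) (hc x), hzx, ha x,
      top_le_iff.1 ((hcl x).ge.trans (Subring.closure_mono
        (Set.union_subset_union_left _ (Set.image_mono (chartGens_mono f U hsub _ _)))))⟩
  obtain ⟨c', h1, h2, h3, h4⟩ := key _ (flocus_eq_genLocus (s x)) le_top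
  have hg : chartGens f U T' (s x) le_top = Set.range (f.appLE ⊤ _ le_top) ∪
      {a : Γ(X, CohB1.genLocus L (Var76.Frames.ofSection L (s x))) | ∃ j' : ULift.{u} T', a • res L (le_top :
        CohB1.genLocus L (Var76.Frames.ofSection L (s x)) ≤ ⊤) (s x) = res L le_top (u j')} := by
    refine congrArg₂ (· ∪ ·) rfl (Set.ext fun a => ⟨?_, ?_⟩)
    · rintro ⟨s', hs', he⟩
      exact ⟨⟨⟨s', hs'⟩⟩, he⟩
    · rintro ⟨j', he⟩
      exact ⟨j'.down.1, j'.down.2, he⟩
  rw [hg] at h1 h4
  exact ⟨⟨⟨s x, hsub (hs x)⟩⟩, ⊤, isAffineOpen_top S, le_top, c', h1, h2, h3, h4⟩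

end Groth.Agent.EGA73.ImmersionPn2

end
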