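import Mathlib.RingTheory.GradedAlgebra.RingHom
import Mathlib.Algebra.Category.Ring.Constructions
import Mathlib.Algebra.Polynomial.Eval.Coeff
import Mathlib.Algebra.Polynomial.Monomial

/-!
A base change of a graded algebra is graded.
-/

set_option autoImplicit false

universe u

open CategoryTheory DirectSum Polynomial

noncomputable section

namespace Groth.Agent.EGA73.GradedPushout

variable {A σ : Type u} [CommRing A] [SetLike σ A] [AddSubgroupClass σ A] (𝒜 : ℕ → σ) [GradedRing 𝒜]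
  {R R' B : CommRingCat.{u}} {θ : R ⟶ R'} {ρ : R ⟶ CommRingCat.of A} {ι' : R' ⟶ B} {m : CommRingCat.of A ⟶ B}
  (hρ : ∀ r, ρ.hom r ∈ 𝒜 0) (hsq : IsPushout θ ρ ι' m)

/-- Degree-marking on generators. -/
def markPiece (m : CommRingCat.of A ⟶ B) (d : ℕ) : 𝒜 d →+ B[X] :=
  AddMonoidHom.mk' (fun a => monomial d (m.hom (a : A))) fun a b => by
    simp only [AddMemClass.coe_add, map_add]

/-- Degree-marking `a ↦ ∑ m(a_d) X^d`. -/
def mark (m : CommRingCat.of A ⟶ B) : A →+* B[X] :=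
  (DirectSum.toSemiring (markPiece 𝒜 m)
    (by show monomial 0 (m.hom (1 : A)) = 1; rw [map_one, monomial_zero_one])
    (fun {i j} a b => by
      show monomial (i + j) (m.hom ((a : A) * (b : A))) = monomial i (m.hom (a : A)) * monomial j (m.hom (b : A))
      rw [monomial_mul_monomial, map_mul])).comp (DirectSum.decomposeRingEquiv 𝒜).toRingHom

theorem mark_of_mem {d : ℕ} {a : A} (ha : a ∈ 𝒜 d) : mark 𝒜 m a = monomial d (m.hom a) := by
  rw [mark, RingHom.comp_apply, RingEquiv.toRingHom_eq_coe, RingEquiv.coe_toRingHom,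
    show DirectSum.decomposeRingEquiv 𝒜 a = DirectSum.of (fun i => 𝒜 i) d ⟨a, ha⟩ from
      DirectSum.decompose_of_mem 𝒜 ha, DirectSum.toSemiring_of]
  rfl

include hsq hρ in
theorem exists_comark : ∃ δ : B →+* B[X],
    (∀ (d : ℕ) (a : A), a ∈ 𝒜 d → δ (m.hom a) = monomial d (m.hom a)) ∧ ∀ r, δ (ι'.hom r) = C (ι'.hom r) := by
  have w : θ ≫ CommRingCat.ofHom (C.comp ι'.hom) = ρ ≫ CommRingCat.ofHom (mark 𝒜 m) := by
    ext r : 2
    show C (ι'.hom (θ.hom r)) = mark 𝒜 m (ρ.hom r)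
    rw [mark_of_mem 𝒜 (hρ r), monomial_zero_left]
    exact congrArg C (ConcreteCategory.congr_hom hsq.w r)
  refine ⟨(hsq.desc _ _ w).hom, fun d a ha => ?_, fun r => ?_⟩
  · exact (ConcreteCategory.congr_hom (hsq.inr_desc _ _ w) a).trans (mark_of_mem 𝒜 ha)
  · exact ConcreteCategory.congr_hom (hsq.inl_desc _ _ w) r

/-- The comarking. -/
def comark : B →+* B[X] := (exists_comark 𝒜 hρ hsq).choose

theorem comark_m {d : ℕ} {a : A} (ha : a ∈ 𝒜 d) : comark 𝒜 hρ hsq (m.hom a) = monomial d (m.hom a) :=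
  (exists_comark 𝒜 hρ hsq).choose_spec.1 d a ha

theorem comark_ι (r : R') : comark 𝒜 hρ hsq (ι'.hom r) = C (ι'.hom r) :=
  (exists_comark 𝒜 hρ hsq).choose_spec.2 r

include hsq in
theorem ringHom_ext {T : Type u} [CommRing T] {f g : B →+* T}
    (h : ∀ (d : ℕ) (a : A), a ∈ 𝒜 d → f (m.hom a) = g (m.hom a)) (h' : ∀ r, f (ι'.hom r) = g (ι'.hom r)) :
    f = g := by
  have : CommRingCat.ofHom f = CommRingCat.ofHom g := by
    refine hsq.hom_ext (CommRingCat.hom_ext (RingHom.ext h')) (CommRingCat.hom_ext (RingHom.ext fun a => ?_))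
    show f (m.hom a) = g (m.hom a)
    induction a using DirectSum.Decomposition.inductionOn 𝒜 with
    | zero => simp
    | homogeneous b => exact h _ b b.2
    | add b c hb hc => rw [map_add, map_add, map_add, hb, hc]
  exact congrArg CommRingCat.Hom.hom this

theorem eval_comark (x : B) : (comark 𝒜 hρ hsq x).eval 1 = x := by
  have : (evalRingHom (1 : B)).comp (comark 𝒜 hρ hsq) = RingHom.id _ :=
    ringHom_ext 𝒜 hsq (fun d a ha => by simp [comark_m 𝒜 hρ hsq ha]) (fun r => by simp [comark_ι 𝒜 hρ hsq])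
  exact RingHom.congr_fun this x

theorem comark_coeff (x : B) (e : ℕ) :
    comark 𝒜 hρ hsq ((comark 𝒜 hρ hsq x).coeff e) = monomial e ((comark 𝒜 hρ hsq x).coeff e) := by
  let Δ : B[X] →+* B[X][X] := eval₂RingHom (C.comp C) (C X * X)
  have hΔ : ∀ (d : ℕ) (b : B), Δ (monomial d b) = monomial d (monomial d b) := fun d b => by
    show eval₂ (C.comp C) (C X * X) (monomial d b) = _
    rw [eval₂_monomial, RingHom.comp_apply, mul_pow, ← mul_assoc, ← C_pow, ← C_mul, C_mul_X_pow_eq_monomial,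
      C_mul_X_pow_eq_monomial]
  have hco : ∀ p : B[X], (Δ p).coeff e = monomial e (p.coeff e) := fun p => by
    induction p using Polynomial.induction_on' with
    | add p q hp hq => rw [map_add, coeff_add, hp, hq, coeff_add, map_add]
    | monomial d b =>
      rw [hΔ, coeff_monomial, coeff_monomial]
      split_ifs with h
      · rw [h]
      · rw [map_zero]
  have key : (Polynomial.mapRingHom (comark 𝒜 hρ hsq)).comp (comark 𝒜 hρ hsq) = Δ.comp (comark 𝒜 hρ hsq) :=
    ringHom_ext 𝒜 hsq (fun d a ha => by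
        simp only [RingHom.comp_apply, comark_m 𝒜 hρ hsq ha, coe_mapRingHom, map_monomial, hΔ])
      (fun r => by
        simp only [RingHom.comp_apply, comark_ι 𝒜 hρ hsq, coe_mapRingHom, map_C]
        rw [← monomial_zero_left, ← monomial_zero_left, hΔ])
  rw [← hco, ← RingHom.comp_apply, ← RingHom.congr_fun key x, RingHom.comp_apply, coe_mapRingHom, coeff_map]

/-- The pieces of the base change. -/
def deg (d : ℕ) : AddSubgroup B where
  carrier := {x | comark 𝒜 hρ hsq x = monomial d x}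
  zero_mem' := by simp
  add_mem' := fun {x y} hx hy => by simp_all
  neg_mem' := fun {x} hx => by simp_all

theorem mem_deg {d : ℕ} {x : B} : x ∈ deg 𝒜 hρ hsq d ↔ comark 𝒜 hρ hsq x = monomial d x := Iff.rfl

theorem coeff_coe (z : ⨁ d, deg 𝒜 hρ hsq d) (d : ℕ) :
    (comark 𝒜 hρ hsq (DirectSum.coeAddMonoidHom (deg 𝒜 hρ hsq) z)).coeff d = (z d : B) := by
  induction z using DirectSum.induction_on with
  | zero => simp
  | of e y =>
    rw [DirectSum.coeAddMonoidHom_of, (mem_deg 𝒜 hρ hsq).1 y.2, coeff_monomial]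
    split_ifs with h
    · subst h; rw [DirectSum.of_eq_same]
    · rw [DirectSum.of_eq_of_ne _ _ _ (Ne.symm h)]; rfl
  | add a b ha hb => simp only [map_add, coeff_add, DirectSum.add_apply, AddSubgroup.coe_add, ha, hb]

/-- The base change as a graded ring. -/
@[instance_reducible]
def gradedRing : GradedRing (deg 𝒜 hρ hsq) where
  toGradedMonoid :=
    { one_mem := by rw [mem_deg, map_one, monomial_zero_one]
      mul_mem := fun {_ _ _ _} hx hy => by
        rw [mem_deg] at hx hy ⊢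
        rw [map_mul, hx, hy, monomial_mul_monomial] }
  toDecomposition := DirectSum.IsInternal.chooseDecomposition (deg 𝒜 hρ hsq)
    ⟨fun z z' h => DFinsupp.ext fun d => Subtype.ext (by rw [← coeff_coe, h, coeff_coe]), fun x =>
      ⟨∑ d ∈ (comark 𝒜 hρ hsq x).support, DirectSum.of (fun d => deg 𝒜 hρ hsq d) d
        ⟨(comark 𝒜 hρ hsq x).coeff d, comark_coeff 𝒜 hρ hsq x d⟩, by
        simp only [map_sum, DirectSum.coeAddMonoidHom_of]
        conv_rhs => rw [← eval_comark 𝒜 hρ hsq x, eval_eq_sum, Polynomial.sum_def]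
        simp⟩⟩

theorem m_mem {d : ℕ} {a : A} (ha : a ∈ 𝒜 d) : m.hom a ∈ deg 𝒜 hρ hsq d := comark_m 𝒜 hρ hsq ha

theorem ι_mem (r : R') : ι'.hom r ∈ deg 𝒜 hρ hsq 0 := by
  rw [mem_deg, comark_ι, monomial_zero_left]

/-- A ring homomorphism between graded base changes preserving degrees of the generators preserves degrees. -/
theorem map_mem {A₂ σ₂ : Type u} [CommRing A₂] [SetLike σ₂ A₂] [AddSubgroupClass σ₂ A₂] {𝒜₂ : ℕ → σ₂}
    [GradedRing 𝒜₂] {R₂ R₂' B₂ : CommRingCat.{u}} {θ₂ : R₂ ⟶ R₂'} {ρ₂ : R₂ ⟶ CommRingCat.of A₂}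
    {ι₂ : R₂' ⟶ B₂} {m₂ : CommRingCat.of A₂ ⟶ B₂} (hρ₂ : ∀ r, ρ₂.hom r ∈ 𝒜₂ 0) (hsq₂ : IsPushout θ₂ ρ₂ ι₂ m₂)
    (h : B →+* B₂) (h1 : ∀ (d : ℕ) (a : A), a ∈ 𝒜 d → h (m.hom a) ∈ deg 𝒜₂ hρ₂ hsq₂ d)
    (h2 : ∀ r, h (ι'.hom r) ∈ deg 𝒜₂ hρ₂ hsq₂ 0) {d : ℕ} {x : B} (hx : x ∈ deg 𝒜 hρ hsq d) :
    h x ∈ deg 𝒜₂ hρ₂ hsq₂ d := by
  have key : (comark 𝒜₂ hρ₂ hsq₂).comp h = (Polynomial.mapRingHom h).comp (comark 𝒜 hρ hsq) :=
    ringHom_ext 𝒜 hsq (fun e a ha => by
        simp only [RingHom.comp_apply, comark_m 𝒜 hρ hsq ha, coe_mapRingHom, map_monomial]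
        exact (mem_deg _ _ _).1 (h1 e a ha))
      (fun r => by
        simp only [RingHom.comp_apply, comark_ι 𝒜 hρ hsq, coe_mapRingHom, map_C]
        rw [← monomial_zero_left]
        exact (mem_deg _ _ _).1 (h2 r))
  rw [mem_deg, ← RingHom.comp_apply, key, RingHom.comp_apply, (mem_deg 𝒜 hρ hsq).1 hx, coe_mapRingHom, map_monomial]

include hsq in
/-- The base change is generated by the images of the generators. -/
theorem closure_eq_top (S : Subring B) (h : ∀ (d : ℕ) (a : A), a ∈ 𝒜 d → m.hom a ∈ S) (h' : ∀ r, ι'.hom r ∈ S) :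
    S = ⊤ := by
  let mS : CommRingCat.of A ⟶ CommRingCat.of S := CommRingCat.ofHom (m.hom.codRestrict S fun a => by
    induction a using DirectSum.Decomposition.inductionOn 𝒜 with
    | zero => rw [map_zero]; exact zero_mem S
    | homogeneous b => exact h _ b b.2
    | add b c hb hc => rw [map_add]; exact add_mem hb hc)
  let ιS : R' ⟶ CommRingCat.of S := CommRingCat.ofHom (ι'.hom.codRestrict S h')
  have w : θ ≫ ιS = ρ ≫ mS := by
    ext r : 2
    exact Subtype.ext (ConcreteCategory.congr_hom hsq.w r)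
  have hid : S.subtype.comp (hsq.desc ιS mS w).hom = RingHom.id _ :=
    ringHom_ext 𝒜 hsq
      (fun d a _ => by
        show ((hsq.desc ιS mS w).hom (m.hom a) : B) = m.hom a
        rw [show (hsq.desc ιS mS w).hom (m.hom a) = mS.hom a from
          ConcreteCategory.congr_hom (hsq.inr_desc ιS mS w) a]
        rfl)
      fun r => by
        show ((hsq.desc ιS mS w).hom (ι'.hom r) : B) = ι'.hom r
        rw [show (hsq.desc ιS mS w).hom (ι'.hom r) = ιS.hom r from
          ConcreteCategory.congr_hom (hsq.inl_desc ιS mS w) r]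
        rfl
  refine eq_top_iff.2 fun x _ => ?_
  have := RingHom.congr_fun hid x
  rw [RingHom.comp_apply, RingHom.id_apply] at this
  exact this ▸ Subtype.mem _

end Groth.Agent.EGA73.GradedPushout

end
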