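import Groth.Agent.EGA73.GrAlgGlue
import Groth.Agent.EGA73.GradedPushout
import Groth.Agent.EGA73.GrAlgLocal
import Groth.Agent.EGAProj74.RelSpecGamma
import Groth.Agent.EGAProj74.BaseChange
import Groth.Agent.EGAProj74.RelBaseChange
import Groth.Prelude.Def_RelProj4
import Mathlib.AlgebraicGeometry.Morphisms.Flat

/-!
Base change of quasi-coherent graded algebras.
-/

set_option autoImplicit false
set_option backward.isDefEq.respectTransparency.types false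

universe u

open CategoryTheory CategoryTheory.Limits AlgebraicGeometry TopologicalSpace Opposite

noncomputable section

namespace Groth.Agent.EGA73

variable {S S' : Scheme.{u}} (ψ : S' ⟶ S)

section alg

variable (A : RelSpec.QCAlg S)

/-- The inverse image of a quasi-coherent algebra. -/
def pullAlg : RelSpec.QCAlg S' := RelSpec.QCAlg.directImage (pullback.snd A.π ψ)

theorem preimage_eq (U : S.Opens) :
    pullback.fst A.π ψ ⁻¹ᵁ (A.π ⁻¹ᵁ U) = pullback.snd A.π ψ ⁻¹ᵁ (ψ ⁻¹ᵁ U) := by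
  rw [← Scheme.Hom.comp_preimage, pullback.condition, Scheme.Hom.comp_preimage]

/-- The inverse of `π_* O_{Spec A} = A`. -/
def gammaInv : A.presheaf ⟶ A.π.base _* A.spec.presheaf :=
  @inv _ _ _ _ A.gammaMap (EGAProj74.isIso_gammaMap A)

theorem str_gammaInv : A.str ≫ gammaInv A = A.π.c := by
  have := EGAProj74.isIso_gammaMap A
  rw [gammaInv, IsIso.comp_inv_eq]
  exact A.π_c_gammaMap.symm

/-- `A → ψ_*ψ^*A`. -/
def pullQHom : RelSpec.QHom ψ A (pullAlg ψ A) where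
  app U := (gammaInv A).app (op U) ≫
    (pullback.fst A.π ψ).appLE (A.π ⁻¹ᵁ U) (pullback.snd A.π ψ ⁻¹ᵁ (ψ ⁻¹ᵁ U)) (preimage_eq ψ A U).ge
  naturality {U V} i := by
    show _ = A.presheaf.map (homOfLE i).op ≫ _
    rw [← Category.assoc (A.presheaf.map _), (gammaInv A).naturality, Category.assoc, Category.assoc]
    congr 1
    exact ((pullback.fst A.π ψ).appLE_map _ _).trans ((pullback.fst A.π ψ).map_appLE _ _).symm
  str_app U := by
    rw [← Category.assoc, ← NatTrans.comp_app, str_gammaInv]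
    show A.π.app U ≫ _ = ψ.app U ≫ (pullback.snd A.π ψ).app (ψ ⁻¹ᵁ U)
    rw [Scheme.Hom.app_eq_appLE, Scheme.Hom.appLE_comp_appLE, Scheme.Hom.app_eq_appLE,
      Scheme.Hom.app_eq_appLE, Scheme.Hom.appLE_comp_appLE]
    simp only [pullback.condition]

theorem isQBaseChange_pullQHom : RelSpec.IsQBaseChange (pullQHom ψ A) := by
  intro U hU U' hU' hle
  have := EGAProj74.isIso_gammaMap A
  have hX : IsAffineOpen (A.π ⁻¹ᵁ U) := hU.preimage A.π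
  have hUY : pullback.snd A.π ψ ⁻¹ᵁ U' = pullback.fst A.π ψ ⁻¹ᵁ (A.π ⁻¹ᵁ U) ⊓ pullback.snd A.π ψ ⁻¹ᵁ U' :=
    (inf_eq_right.2 (((pullback.snd A.π ψ).preimage_mono hle).trans (preimage_eq ψ A U).ge)).symm
  have h := (isIso_pushoutSection_iff (IsPullback.of_hasPullback A.π ψ) hle (le_refl (A.π ⁻¹ᵁ U)) hUY).1
    (isIso_pushoutSection_of_isAffineOpen _ _ _ _ hU hU' hX)
  refine h.flip.of_iso (Iso.refl _) (Iso.refl _) ((asIso A.gammaMap).app (op U)) (Iso.refl _) ?_ ?_ ?_ ?_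
  · simp
  · show A.π.appLE U (A.π ⁻¹ᵁ U) _ ≫ A.gammaMap.app (op U) = 𝟙 _ ≫ A.str.app (op U)
    rw [← Scheme.Hom.app_eq_appLE, Category.id_comp]
    exact NatTrans.congr_app A.π_c_gammaMap (op U)
  · show (pullback.snd A.π ψ).appLE U' (pullback.snd A.π ψ ⁻¹ᵁ U') _ ≫ 𝟙 _ = 𝟙 _ ≫ (pullback.snd A.π ψ).app U'
    rw [← Scheme.Hom.app_eq_appLE, Category.id_comp, Category.comp_id]
  · show (pullback.fst A.π ψ).appLE (A.π ⁻¹ᵁ U) (pullback.snd A.π ψ ⁻¹ᵁ U') _ ≫ 𝟙 _ =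
      A.gammaMap.app (op U) ≫ (pullQHom ψ A).appLE U U' hle
    rw [Category.comp_id, RelSpec.QHom.appLE_eq]
    show _ = A.gammaMap.app (op U) ≫ ((gammaInv A).app (op U) ≫ _) ≫ _
    rw [Category.assoc, ← Category.assoc (A.gammaMap.app _), ← NatTrans.comp_app, gammaInv, IsIso.hom_inv_id,
      NatTrans.id_app, Category.id_comp]
    exact ((pullback.fst A.π ψ).appLE_map _ _).symm

end alg

section graded

variable (𝒮 : RelProj.QCGrAlg S)

local notation "A₀" => RelProj.QCGrAlg.toQCAlg 𝒮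
local notation "B₀" => pullAlg ψ (RelProj.QCGrAlg.toQCAlg 𝒮)

/-- The pushout square over an affine pair. -/
theorem po {U : S.Opens} (hU : IsAffineOpen U) {U' : S'.Opens} (hU' : IsAffineOpen U') (hle : U' ≤ ψ ⁻¹ᵁ U) :
    IsPushout (ψ.appLE U U' hle) (𝒮.str.app (op U)) ((pullAlg ψ 𝒮.toQCAlg).str.app (op U'))
      ((pullQHom ψ 𝒮.toQCAlg).appLE U U' hle) :=
  isQBaseChange_pullQHom ψ 𝒮.toQCAlg U hU U' hU' hle

/-- The grading on the inverse image attached to an affine pair. -/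
def degU {U : S.Opens} (hU : IsAffineOpen U) {U' : S'.Opens} (hU' : IsAffineOpen U') (hle : U' ≤ ψ ⁻¹ᵁ U) :
    ℕ → AddSubgroup ((pullAlg ψ 𝒮.toQCAlg).presheaf.obj (op U')) :=
  GradedPushout.deg (𝒮.deg U hU) (fun r => 𝒮.str_mem U hU r) (po ψ 𝒮 hU hU' hle)

theorem res_mem_degU {U W : S.Opens} (hU : IsAffineOpen U) (hW : IsAffineOpen W) (hWU : W ≤ U)
    {V V' : S'.Opens} (hV : IsAffineOpen V) (hV' : IsAffineOpen V') (hVV : V' ≤ V)
    (hle : V ≤ ψ ⁻¹ᵁ U) (hle' : V' ≤ ψ ⁻¹ᵁ W) {d : ℕ} {x : (pullAlg ψ 𝒮.toQCAlg).presheaf.obj (op V)}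
    (hx : x ∈ degU ψ 𝒮 hU hV hle d) : ares (pullAlg ψ 𝒮.toQCAlg) hVV x ∈ degU ψ 𝒮 hW hV' hle' d := by
  refine GradedPushout.map_mem (𝒮.deg U hU) _ _ _ _ _ (fun e a ha => ?_) (fun r => ?_) hx
  · have h1 : ares (pullAlg ψ 𝒮.toQCAlg) hVV (((pullQHom ψ 𝒮.toQCAlg).appLE U V hle).hom a) =
        ((pullQHom ψ 𝒮.toQCAlg).appLE W V' hle').hom (ares 𝒮.toQCAlg hWU a) := by
      have e1 := ConcreteCategory.congr_hom ((pullQHom ψ 𝒮.toQCAlg).appLE_map hle hVV) a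
      have e2 := ConcreteCategory.congr_hom ((pullQHom ψ 𝒮.toQCAlg).map_appLE hWU hle') a
      exact e1.trans e2.symm
    exact h1 ▸ GradedPushout.m_mem _ _ _ (𝒮.map_mem hU hW hWU ha)
  · exact (ares_str (pullAlg ψ 𝒮.toQCAlg) hVV r) ▸ GradedPushout.ι_mem _ _ _ _

theorem degU_le {U₁ U₂ : S.Opens} (h₁ : IsAffineOpen U₁) (h₂ : IsAffineOpen U₂) {V : S'.Opens}
    (hV : IsAffineOpen V) (hle₁ : V ≤ ψ ⁻¹ᵁ U₁) (hle₂ : V ≤ ψ ⁻¹ᵁ U₂) (d : ℕ) :
    degU ψ 𝒮 h₁ hV hle₁ d ≤ degU ψ 𝒮 h₂ hV hle₂ d := by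
  classical
  intro x hx
  let I₂ : GradedRing (degU ψ 𝒮 h₂ hV hle₂) := GradedPushout.gradedRing _ _ _
  have hzero : ∀ e, e ≠ d → (DirectSum.decompose (degU ψ 𝒮 h₂ hV hle₂) x e :
      (pullAlg ψ 𝒮.toQCAlg).presheaf.obj (op V)) = 0 := by
    intro e hed
    let ι := {q : S.Opens × S'.Opens //
      IsAffineOpen q.1 ∧ IsAffineOpen q.2 ∧ q.1 ≤ U₁ ⊓ U₂ ∧ q.2 ≤ V ⊓ ψ ⁻¹ᵁ q.1}
    refine TopCat.Sheaf.eq_of_locally_eq' ⟨(pullAlg ψ 𝒮.toQCAlg).presheaf, (pullAlg ψ 𝒮.toQCAlg).isSheaf⟩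
      (fun q : ι => q.1.2) V (fun q => homOfLE (q.2.2.2.2.trans inf_le_left)) (fun z hz => ?_) _ _ fun q => ?_
    · obtain ⟨W, hW, hzW, hWle⟩ := exists_isAffineOpen_mem_and_subset (U := U₁ ⊓ U₂) (x := ψ.base z)
        ⟨hle₁ hz, hle₂ hz⟩
      obtain ⟨V', hV', hzV', hV'le⟩ := exists_isAffineOpen_mem_and_subset (U := V ⊓ ψ ⁻¹ᵁ W) (x := z) ⟨hz, hzW⟩
      exact Opens.mem_iSup.2 ⟨⟨(W, V'), hW, hV', hWle, hV'le⟩, hzV'⟩
    · obtain ⟨⟨W, V'⟩, hW, hV', hWle, hV'le⟩ := q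
      let I₃ : GradedRing (degU ψ 𝒮 hW hV' (hV'le.trans inf_le_right)) := GradedPushout.gradedRing _ _ _
      let r : degU ψ 𝒮 h₂ hV hle₂ →+*ᵍ degU ψ 𝒮 hW hV' (hV'le.trans inf_le_right) :=
        { ares (pullAlg ψ 𝒮.toQCAlg) (hV'le.trans inf_le_left) with
          map_mem := fun hy => res_mem_degU ψ 𝒮 h₂ hW (hWle.trans inf_le_right) hV hV' _ hle₂ _ hy }
      show r _ = ares (pullAlg ψ 𝒮.toQCAlg) (hV'le.trans inf_le_left) 0
      rw [GradedRingHom.map_directSumDecompose, map_zero]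
      exact DirectSum.decompose_of_mem_ne _ (res_mem_degU ψ 𝒮 h₁ hW (hWle.trans inf_le_left) hV hV' _ hle₁ _ hx)
        (Ne.symm hed)
  rw [← DirectSum.sum_support_decompose (degU ψ 𝒮 h₂ hV hle₂) x]
  refine sum_mem fun e _ => ?_
  by_cases hed : e = d
  · subst hed; exact SetLike.coe_mem _
  · rw [hzero e hed]; exact zero_mem _

/-- The local gradings of the inverse image. -/
def pullLocGrading : LocGrading (pullAlg ψ 𝒮.toQCAlg) where
  Small V := IsAffineOpen V ∧ ∃ U : S.Opens, IsAffineOpen U ∧ V ≤ ψ ⁻¹ᵁ U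
  affine h := h.1
  basis U x hx := by
    obtain ⟨W, hW, hxW, -⟩ := exists_isAffineOpen_mem_and_subset (U := (⊤ : S.Opens)) (x := ψ.base x) trivial
    obtain ⟨V, hV, hxV, hle⟩ := exists_isAffineOpen_mem_and_subset (U := U ⊓ ψ ⁻¹ᵁ W) (x := x) ⟨hx, hxW⟩
    exact ⟨V, ⟨hV, W, hW, hle.trans inf_le_right⟩, hxV, hle.trans inf_le_left⟩
  deg V h := degU ψ 𝒮 h.2.choose_spec.1 h.1 h.2.choose_spec.2
  graded V h := GradedPushout.gradedRing _ _ _
  map_mem {U V} hU hV h {d x} hx :=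
    degU_le ψ 𝒮 hU.2.choose_spec.1 hV.2.choose_spec.1 hV.1 (h.trans hU.2.choose_spec.2) hV.2.choose_spec.2 d
      (res_mem_degU ψ 𝒮 hU.2.choose_spec.1 hU.2.choose_spec.1 le_rfl hU.1 hV.1 h _ _ hx)
  str_mem V h r := GradedPushout.ι_mem _ _ _ _

/-- The inverse image of a quasi-coherent graded algebra. -/
def pullGrAlg : RelProj.QCGrAlg S' := (pullLocGrading ψ 𝒮).toQCGrAlg

theorem pullGrAlg_deg {U : S.Opens} (hU : IsAffineOpen U) {U' : S'.Opens} (hU' : IsAffineOpen U')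
    (hle : U' ≤ ψ ⁻¹ᵁ U) (d : ℕ) :
    (pullGrAlg ψ 𝒮).deg U' hU' d = degU ψ 𝒮 hU hU' hle d := by
  have hs : (pullLocGrading ψ 𝒮).Small U' := ⟨hU', U, hU, hle⟩
  show (pullLocGrading ψ 𝒮).degAt U' d = _
  rw [LocGrading.degAt_eq _ hs]
  exact le_antisymm (degU_le ψ 𝒮 _ hU _ _ hle d) (degU_le ψ 𝒮 hU _ _ hle _ d)

/-- `𝒮 → ψ_*ψ^*𝒮`. -/
def pullQGrHom : RelProj.QGrHom ψ 𝒮 (pullGrAlg ψ 𝒮) where
  toQHom := pullQHom ψ 𝒮.toQCAlg
  map_mem U hU U' hU' hle {d x} hx := by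
    rw [pullGrAlg_deg ψ 𝒮 hU hU' hle]
    exact GradedPushout.m_mem _ _ (po ψ 𝒮 hU hU' hle) hx

theorem isQBaseChange_pullQGrHom : RelSpec.IsQBaseChange (pullQGrHom ψ 𝒮).toQHom :=
  isQBaseChange_pullQHom ψ 𝒮.toQCAlg

theorem exists_small {U' : S'.Opens} (hU' : IsAffineOpen U') (z : S') (hz : z ∈ U') :
    ∃ r : Γ(S', U'), z ∈ S'.basicOpen r ∧ ∃ U : S.Opens, IsAffineOpen U ∧ S'.basicOpen r ≤ ψ ⁻¹ᵁ U := by
  obtain ⟨W, hW, hzW, -⟩ := exists_isAffineOpen_mem_and_subset (U := (⊤ : S.Opens)) (x := ψ.base z) trivial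
  obtain ⟨r, hle, hr⟩ := hU'.exists_basicOpen_le (V := ψ ⁻¹ᵁ W) ⟨z, hzW⟩ hz
  exact ⟨r, hr, W, hW, hle⟩

theorem isGenDegOne_pull (hgen : 𝒮.IsGenDegOne) : (pullGrAlg ψ 𝒮).IsGenDegOne := by
  refine isGenDegOne_of_local _ fun U' hU' z hz => ?_
  obtain ⟨r, hr, U, hU, hle⟩ := exists_small ψ hU' z hz
  refine ⟨r, hr, ?_⟩
  refine GradedPushout.closure_eq_top (𝒮.deg U hU) (po ψ 𝒮 hU (hU'.basicOpen r) hle) _ (fun d a _ => ?_)
    fun t => Subring.subset_closure (Or.inl ((pullGrAlg ψ 𝒮).str_mem _ _ t))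
  have ha : a ∈ Subring.closure ((𝒮.deg U hU 0 : Set (𝒮.presheaf.obj (op U))) ∪ (𝒮.deg U hU 1 : Set _)) :=
    (hgen U hU).symm ▸ trivial
  refine Subring.mem_comap.1 ((Subring.closure_le.2 ?_ :
    _ ≤ Subring.comap ((pullQHom ψ 𝒮.toQCAlg).appLE U (S'.basicOpen r) hle).hom _) ha)
  rintro b (hb | hb)
  · exact Subring.subset_closure (Or.inl ((pullQGrHom ψ 𝒮).map_mem U hU _ _ hle hb))
  · exact Subring.subset_closure (Or.inr ((pullQGrHom ψ 𝒮).map_mem U hU _ _ hle hb))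

theorem isFTDeg_pull {d : ℕ} (hft : 𝒮.IsFTDeg d) : (pullGrAlg ψ 𝒮).IsFTDeg d := by
  classical
  refine isFTDeg_of_local _ d fun U' hU' z hz => ?_
  obtain ⟨r, hr, U, hU, hle⟩ := exists_small ψ hU' z hz
  obtain ⟨T, hT, hspan⟩ := hft U hU
  let D := S'.basicOpen r
  let hD : IsAffineOpen D := hU'.basicOpen r
  let φ := (pullQGrHom ψ 𝒮).gradedAt U hU D hD hle
  refine ⟨r, hr, T.image φ, fun t ht => ?_, fun y hy => ?_⟩
  · obtain ⟨a, ha, rfl⟩ := Finset.mem_image.1 ht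
    exact φ.map_mem (hT ha)
  let M : AddSubgroup ((pullGrAlg ψ 𝒮).presheaf.obj (op D)) :=
    { carrier := {x | ∃ c : (pullGrAlg ψ 𝒮).presheaf.obj (op D) → Γ(S', D),
        x = ∑ t ∈ T.image φ, ((pullGrAlg ψ 𝒮).str.app (op D)).hom (c t) * t}
      zero_mem' := ⟨0, by simp⟩
      add_mem' := by rintro _ _ ⟨a, rfl⟩ ⟨b, rfl⟩; exact ⟨a + b, by simp [add_mul, Finset.sum_add_distrib]⟩
      neg_mem' := by rintro _ ⟨a, rfl⟩; exact ⟨-a, by simp⟩ }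
  suffices H : (DirectSum.decompose ((pullGrAlg ψ 𝒮).deg D hD) y d : (pullGrAlg ψ 𝒮).presheaf.obj (op D)) ∈ M by
    rwa [DirectSum.decompose_of_mem_same _ hy] at H
  have hmem := EGAProj74.mem_span_of_pushout φ (ψ.appLE U D hle) (𝒮.strZero U hU) ((pullGrAlg ψ 𝒮).strZero D hD)
    (EGAProj74.isPushout_zero_form ψ ((pullQGrHom ψ 𝒮).gradedAt_toRingHom U hU D hD hle)
      (isQBaseChange_pullQGrHom ψ 𝒮 U hU D hD hle)) y
  clear hy
  induction hmem using AddSubgroup.closure_induction with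
  | mem x hx =>
    obtain ⟨s, a, rfl⟩ := hx
    obtain ⟨c, hc⟩ := hspan _ (SetLike.coe_mem (DirectSum.decompose (𝒮.deg U hU) a d))
    rw [EGAProj74.decompose_zero_mul _ (SetLike.coe_mem _), ← GradedRingHom.map_directSumDecompose, hc, map_sum,
      Finset.mul_sum]
    refine sum_mem fun t ht => ?_
    refine ⟨fun x => if x = φ t then s * ψ.appLE U D hle (c t) else 0, ?_⟩
    rw [Finset.sum_eq_single (φ t) (fun x _ hx => by simp [hx]) fun hn => absurd (Finset.mem_image_of_mem φ ht) hn]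
    dsimp only
    rw [if_pos rfl, map_mul, map_mul, mul_assoc]
    congr 2
    exact ConcreteCategory.congr_hom (RelSpec.QHom.str_appLE (pullQHom ψ 𝒮.toQCAlg) U D hle) (c t)
  | zero => simp
  | add a b _ _ ha hb => simp only [DirectSum.decompose_add, DirectSum.add_apply, AddSubgroup.coe_add]; exact add_mem ha hb
  | neg a _ ha => simp only [DirectSum.decompose_neg]; exact neg_mem ha

end graded

end Groth.Agent.EGA73

end
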