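import Groth.Agent.EGA73.GrAlgBaseChange
import Groth.Agent.S12141
import Groth.Agent.EGAProj74.Exists

/-!
Base change of projective morphisms.
-/

set_option autoImplicit false

universe u

open CategoryTheory CategoryTheory.Limits AlgebraicGeometry TopologicalSpace Opposite

noncomputable section

namespace Groth.Agent.EGA73

theorem isProjective_of_isPullback {X X' Y Y' : Scheme.{u}} {f : X ⟶ Y} {f' : X' ⟶ Y'} {a : X' ⟶ X} {g : Y' ⟶ Y}
    (h : IsPullback a f' f g) (hf : RelProj.IsProjective f) : RelProj.IsProjective f' := by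
  obtain ⟨𝒮, P, p, chart, e, hgen, hft, hP, he⟩ := hf
  have hP' := EGAProj74.isRelProj_relProj (pullGrAlg g 𝒮)
  obtain ⟨⟨b, hb⟩, hpb⟩ := Groth.Agent.S12141.result g 𝒮 (pullGrAlg g 𝒮) (pullQGrHom g 𝒮)
    (isQBaseChange_pullQGrHom g 𝒮) p chart hP _ _ hP'
  have h' : IsPullback (a ≫ e.hom) f' p g :=
    h.of_iso (Iso.refl _) e (Iso.refl _) (Iso.refl _) (by simp) (by simp) (by simp [he]) (by simp)
  refine ⟨pullGrAlg g 𝒮, _, _, _, h'.isoIsPullback _ _ (hpb b hb), isGenDegOne_pull g 𝒮 hgen, isFTDeg_pull g 𝒮 hft, hP', ?_⟩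
  exact h'.isoIsPullback_hom_snd _ _ (hpb b hb)

end Groth.Agent.EGA73

end
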