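import Groth.Agent.EGA73.GradedQuot
import Groth.Agent.EGA73.GammaStarIso

/-!
Closed subschemes of `Proj` are the `Proj` of graded quotients.
-/

set_option autoImplicit false
set_option backward.isDefEq.respectTransparency.types false

universe u

open CategoryTheory AlgebraicGeometry TopologicalSpace Opposite

noncomputable section

namespace Groth.Agent.EGA73.ClosedProj

open GammaStar Groth.Agent.Var76.ZeroScheme

variable {R A : Type u} [CommRing R] [CommRing A] [Algebra R A] (𝒜 : ℕ → Submodule R A) [GradedAlgebra 𝒜]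
  (s : Finset A) (hs1 : ∀ f ∈ s, f ∈ 𝒜 1) {Z : Scheme.{u}} (i : Z ⟶ Proj 𝒜)

/-- The function cut out on the preimage of a chart by a homogeneous element. -/
def pullFr (g : s) (n : ℕ) : 𝒜 n →+ Γ(Z, i ⁻¹ᵁ Proj.basicOpen 𝒜 (g : A)) :=
  (i.app (Proj.basicOpen 𝒜 (g : A))).hom.toAddMonoidHom.comp (frh 𝒜 (hs1 g g.2) n)

theorem pullFr_apply (g : s) {n : ℕ} {a : A} (ha : a ∈ 𝒜 n) :
    pullFr 𝒜 s hs1 i g n ⟨a, ha⟩ = i.app (Proj.basicOpen 𝒜 (g : A)) (fr 𝒜 (hs1 g g.2) ha) := rfl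

theorem pullFr_congr (g : s) {n m : ℕ} {a b : A} (ha : a ∈ 𝒜 n) (hb : b ∈ 𝒜 m) (h : n = m) (hab : a = b) :
    pullFr 𝒜 s hs1 i g n ⟨a, ha⟩ = pullFr 𝒜 s hs1 i g m ⟨b, hb⟩ := by
  subst h hab
  rfl

/-- The ideal of elements vanishing on `Z`. -/
def vanishing : Ideal A where
  carrier := {a | ∀ (g : s) (n : ℕ), pullFr 𝒜 s hs1 i g n ⟨DirectSum.decompose 𝒜 a n, SetLike.coe_mem _⟩ = 0}
  zero_mem' := fun g n => by
    simp only [DirectSum.decompose_zero]
    exact map_zero _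
  add_mem' := fun {a b} ha hb g n => by
    simp only [DirectSum.decompose_add, DirectSum.add_apply]
    exact (map_add _ _ _).trans (by rw [ha g n, hb g n, add_zero])
  smul_mem' := fun b a ha => by
    classical
    induction b using DirectSum.Decomposition.inductionOn 𝒜 with
    | zero =>
      intro g n
      simp only [zero_smul, DirectSum.decompose_zero]
      exact map_zero _
    | homogeneous b =>
      rename_i j
      intro g n
      simp only [smul_eq_mul]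
      by_cases hjn : j ≤ n
      · rw [pullFr_congr 𝒜 s hs1 i g _
          (SetLike.mul_mem_graded b.2 (SetLike.coe_mem (DirectSum.decompose 𝒜 a (n - j))))
          (Nat.add_sub_cancel' hjn).symm
          (DirectSum.coe_decompose_mul_of_left_mem_of_le 𝒜 b.2 hjn), pullFr_apply,
          fr_mul 𝒜 (hs1 g g.2) b.2 (SetLike.coe_mem _), map_mul]
        exact mul_eq_zero_of_right _ (ha g (n - j))
      · rw [pullFr_congr 𝒜 s hs1 i g _ (zero_mem (𝒜 n)) rfl
          (DirectSum.coe_decompose_mul_of_left_mem_of_not_le 𝒜 b.2 hjn)]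
        exact map_zero _
    | add b c hb hc =>
      intro g n
      simp only [add_smul, DirectSum.decompose_add, DirectSum.add_apply]
      exact (map_add _ _ _).trans (by rw [hb g n, hc g n, add_zero])

theorem mem_vanishing {n : ℕ} {a : A} (ha : a ∈ 𝒜 n) :
    a ∈ vanishing 𝒜 s hs1 i ↔ ∀ g : s, pullFr 𝒜 s hs1 i g n ⟨a, ha⟩ = 0 := by
  constructor
  · intro h g
    rw [← pullFr_congr 𝒜 s hs1 i g (SetLike.coe_mem _) ha rfl (DirectSum.decompose_of_mem_same 𝒜 ha)]
    exact h g n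
  · intro h g m
    by_cases hnm : n = m
    · subst hnm
      rw [pullFr_congr 𝒜 s hs1 i g _ ha rfl (DirectSum.decompose_of_mem_same 𝒜 ha)]
      exact h g
    · rw [pullFr_congr 𝒜 s hs1 i g _ (zero_mem (𝒜 m)) rfl (DirectSum.decompose_of_mem_ne 𝒜 ha hnm)]
      exact map_zero _

/-- The same as a homogeneous ideal. -/
def vanishingHom : HomogeneousIdeal 𝒜 :=
  ⟨vanishing 𝒜 s hs1 i, fun n a ha => (mem_vanishing 𝒜 s hs1 i (SetLike.coe_mem _)).2 fun g => ha g n⟩

/-- Elements vanishing on `Z` over one chart vanish on `Z` up to a power of that chart's equation. -/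
theorem exists_pow_mul_mem [IsAffineHom i] (g : s) {n : ℕ} {a : A} (ha : a ∈ 𝒜 n)
    (h : pullFr 𝒜 s hs1 i g n ⟨a, ha⟩ = 0) : ∃ K : ℕ, (g : A) ^ K * a ∈ vanishing 𝒜 s hs1 i := by
  classical
  have hp : ∀ K, (g : A) ^ K ∈ 𝒜 K := fun K => by simpa using SetLike.pow_mem_graded K (hs1 g g.2)
  have hK : ∀ g' : s, ∃ K : ℕ,
      i.app (Proj.basicOpen 𝒜 (g' : A)) (fr 𝒜 (hs1 g' g'.2) (hs1 g g.2)) ^ K * pullFr 𝒜 s hs1 i g' n ⟨a, ha⟩ = 0 := by
    intro g'
    let U := Proj.basicOpen 𝒜 (g' : A)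
    let r := fr 𝒜 (hs1 g' g'.2) (hs1 g g.2)
    let W := (Proj 𝒜).basicOpen r
    have hle : W ≤ Proj.basicOpen 𝒜 (g : A) := (basicOpen_fr (hs1 := hs1) g g').le.trans fun x hx => by
      rw [Proj.basicOpen_mul] at hx; exact hx.2
    have hWU : W ≤ U := (Proj 𝒜).basicOpen_le r
    have hU : IsAffineOpen (i ⁻¹ᵁ U) := (Proj.isAffineOpen_basicOpen 𝒜 _ (hs1 g' g'.2) one_pos).preimage i
    have hz : fres ((Z.basicOpen_le (i.app U r))) (pullFr 𝒜 s hs1 i g' n ⟨a, ha⟩) = 0 := by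
      have hWeq : Z.basicOpen (i.app U r) ≤ i ⁻¹ᵁ W := (i.preimage_basicOpen r).ge
      have h1 : fres (fun x hx => hWU hx : i ⁻¹ᵁ W ≤ i ⁻¹ᵁ U) (pullFr 𝒜 s hs1 i g' n ⟨a, ha⟩) = 0 := by
        have e : ∀ {V : (Proj 𝒜).Opens} (hV : W ≤ V) (t : Γ(Proj 𝒜, V)),
            i.app W (fres hV t) = fres (fun x hx => hV hx : i ⁻¹ᵁ W ≤ i ⁻¹ᵁ V) (i.app V t) := fun hV t =>
          ConcreteCategory.congr_hom (i.naturality (homOfLE hV).op) t
        rw [pullFr_apply, ← e hWU, fr_res 𝒜 (hs1 g g.2) (hs1 g' g'.2) ha W hle hWU, map_mul, e hle,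
          ← pullFr_apply 𝒜 s hs1 i g ha, h]
        exact mul_eq_zero_of_right _ (map_zero (Z.presheaf.map _).hom)
      rw [← fres_fres (fun x hx => hWU hx : i ⁻¹ᵁ W ≤ i ⁻¹ᵁ U) hWeq, h1]
      exact map_zero (Z.presheaf.map _).hom
    have := hU.isLocalization_basicOpen (i.app U r)
    obtain ⟨⟨_, K, rfl⟩, hK⟩ := (IsLocalization.map_eq_zero_iff (Submonoid.powers (i.app U r))
      Γ(Z, Z.basicOpen (i.app U r)) _).1 hz
    exact ⟨K, hK⟩
  choose K hK using hK
  let K₀ := Finset.univ.sup K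
  refine ⟨K₀, (mem_vanishing 𝒜 s hs1 i (SetLike.mul_mem_graded (hp K₀) ha)).2 fun g' => ?_⟩
  rw [pullFr_apply, fr_mul 𝒜 _ (hp K₀) ha, map_mul]
  have hpow : fr 𝒜 (hs1 g' g'.2) (hp K₀) = fr 𝒜 (hs1 g' g'.2) (hs1 g g.2) ^ K₀ := by
    refine Subtype.ext (funext fun x => ?_)
    show _ = (fr 𝒜 (hs1 g' g'.2) (hs1 g g.2)).1 x ^ K₀
    rw [fr_apply, fr_apply]
    refine HomogeneousLocalization.val_injective _ ?_
    rw [a0Frac_pow _ _ _ _ _ (by rw [pow_one]; exact pow_notMem x.2 K₀)]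
    simp only [a0Frac, HomogeneousLocalization.val_mk, pow_one]
  rw [hpow, map_pow, show K₀ = K₀ - K g' + K g' from
    (Nat.sub_add_cancel (Finset.le_sup (f := K) (Finset.mem_univ g'))).symm, pow_add, mul_assoc,
    ← pullFr_apply 𝒜 s hs1 i g' ha, hK, mul_zero]

theorem exists_iso [IsClosedImmersion i]
    (hcov : ∀ x : Proj 𝒜, ∃ g : s, x ∈ Proj.basicOpen 𝒜 (g : A)) :
    let I := vanishingHom 𝒜 s hs1 i
    ∃ e : Z ≅ Proj (GradedQuot.grading 𝒜 I),
      e.hom ≫ Proj.map (GradedQuot.hom 𝒜 I) (GradedQuot.irrelevant_le 𝒜 I) = i := by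
  intro I
  let φ := GradedQuot.hom 𝒜 I
  let j := Proj.map φ (GradedQuot.irrelevant_le 𝒜 I)
  have : IsClosedImmersion j := isClosedImmersion_map_of_surjective φ (GradedQuot.hom_surjective 𝒜 I) _
  have hker : j.ker = i.ker := by
    refine Scheme.IdealSheafData.ext_of_iSup_eq_top
      (fun g : s => ⟨Proj.basicOpen 𝒜 (g : A), Proj.isAffineOpen_basicOpen 𝒜 _ (hs1 g g.2) one_pos⟩)
      (top_le_iff.1 fun x _ => by obtain ⟨g, hg⟩ := hcov x; exact Opens.mem_iSup.2 ⟨g, hg⟩) fun g => ?_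
    rw [Scheme.Hom.ker_apply, Scheme.Hom.ker_apply]
    ext r
    rw [RingHom.mem_ker, RingHom.mem_ker]
    obtain ⟨n, a, ha, hfl, hr⟩ := exists_away_value one_pos (hs1 g g.2) r
    have ha' : a ∈ 𝒜 n := by simpa using ha
    have hr' : r = fr 𝒜 (hs1 g g.2) ha' := Subtype.ext (funext fun x => (hr x).trans (by
      rw [fr_apply]
      refine HomogeneousLocalization.val_injective _ ?_
      simp only [a0Frac, HomogeneousLocalization.val_mk]))
    subst hr'
    have hj : j.app (Proj.basicOpen 𝒜 (g : A)) (fr 𝒜 (hs1 g g.2) ha') =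
        (fr (GradedQuot.grading 𝒜 I) (φ.map_mem (hs1 g g.2)) (φ.map_mem ha') :
          Γ(Proj (GradedQuot.grading 𝒜 I), Proj.basicOpen (GradedQuot.grading 𝒜 I) (φ (g : A)))) := by
      refine Subtype.ext (funext fun y => HomogeneousLocalization.val_injective _ ?_)
      show (HomogeneousLocalization.localRingHom φ _ y.1.1.1 rfl _).val = _
      rw [fr_apply, fr_apply]
      simp only [a0Frac, HomogeneousLocalization.val_localRingHom, HomogeneousLocalization.val_mk]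
      erw [Localization.localRingHom_mk]
      congr 1
    have hbij := ConcreteCategory.bijective_of_isIso
      (Proj.basicOpenIsoAway (GradedQuot.grading 𝒜 I) (φ (g : A)) (φ.map_mem (hs1 g g.2)) one_pos).hom
    have h1 : j.app (Proj.basicOpen 𝒜 (g : A)) (fr 𝒜 (hs1 g g.2) ha') = 0 ↔
        ∃ K : ℕ, (g : A) ^ K * a ∈ vanishing 𝒜 s hs1 i := by
      rw [hj]
      refine Iff.trans (map_eq_zero_iff _ hbij.1) ?_
      rw [HomogeneousLocalization.ext_iff_val, HomogeneousLocalization.val_mk, HomogeneousLocalization.val_zero,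
        Localization.mk_eq_mk', IsLocalization.mk'_eq_zero_iff]
      constructor
      · rintro ⟨⟨_, K, rfl⟩, hK⟩
        refine ⟨K, Ideal.Quotient.eq_zero_iff_mem.1 ?_⟩
        rw [map_mul, map_pow]
        exact hK
      · rintro ⟨K, hK⟩
        refine ⟨⟨_, K, rfl⟩, ?_⟩
        show φ (g : A) ^ K * φ a = 0
        rw [← map_pow, ← map_mul]
        exact Ideal.Quotient.eq_zero_iff_mem.2 hK
    refine h1.trans ⟨fun ⟨K, hK⟩ => ?_, fun h => exists_pow_mul_mem 𝒜 s hs1 i g ha' h⟩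
    have hp : (g : A) ^ K ∈ 𝒜 K := by simpa using SetLike.pow_mem_graded K (hs1 g g.2)
    have h0 := (mem_vanishing 𝒜 s hs1 i (SetLike.mul_mem_graded hp ha')).1 hK g
    rw [pullFr_apply, fr_mul 𝒜 _ hp ha', fr_pow_self, one_mul] at h0
    exact h0
  have := IsClosedImmersion.isIso_lift j i hker
  exact ⟨asIso (IsClosedImmersion.lift j i hker.le), IsClosedImmersion.lift_fac j i hker.le⟩

end Groth.Agent.EGA73.ClosedProj
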