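import Groth.Agent.EGA73.QuasiProjective
import Groth.Agent.EGA73.ClosedProj
import Groth.Agent.Csa25.ProjLin
import Groth.Agent.EGA73.VeryAmplePnAmple
import Groth.Agent.Amp73.QA
import Groth.Agent.EGAProj74.Dom

/-!
Projective schemes over an affine base as `Proj` of quotients of polynomial rings.
-/

set_option autoImplicit false
set_option backward.isDefEq.respectTransparency.types false

universe u

open CategoryTheory CategoryTheory.Limits AlgebraicGeometry TopologicalSpace Opposite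
open scoped HomogeneousIdeal

noncomputable section

namespace Groth.Agent.EGA73.ProperProjAffine

theorem algebraMap_poly_zero_surjective (A : Type u) [CommRing A] (n : ℕ) :
    Function.Surjective (algebraMap A (CohB1.polyGrading n A 0)) := fun p => by
  have h : (p : MvPolynomial (Fin (n + 1)) A) ∈ (1 : Submodule A (MvPolynomial (Fin (n + 1)) A)) := by
    rw [← MvPolynomial.homogeneousSubmodule_zero]
    exact p.2
  obtain ⟨a, ha⟩ := Submodule.mem_one.1 h
  exact ⟨a, Subtype.ext ha⟩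

theorem irrelevant_poly_eq_span (A : Type u) [CommRing A] (n : ℕ) [DecidableEq (MvPolynomial (Fin (n + 1)) A)] :
    (HomogeneousIdeal.irrelevant (CohB1.polyGrading n A)).toIdeal =
      Ideal.span (↑(Finset.univ.image fun k : Fin (n + 1) => (MvPolynomial.X k : MvPolynomial (Fin (n + 1)) A)) :
        Set (MvPolynomial (Fin (n + 1)) A)) := by
  refine le_antisymm ((ProjUniv.irrelevant_eq_span_one (PolySym.linForm_mem n A)
    (PolySym.isSymmetricAlgebra_linForm n A)).trans_le (Ideal.span_le.2 fun a ha => ?_)) (Ideal.span_le.2 fun f hf => ?_)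
  · have hc : a ∈ Submodule.span A (Set.range (MvPolynomial.X : Fin (n + 1) → MvPolynomial (Fin (n + 1)) A)) := by
      rw [← MvPolynomial.homogeneousSubmodule_one_eq_span_X]
      exact ha
    refine Submodule.span_le (p := (Ideal.span _ : Ideal (MvPolynomial (Fin (n + 1)) A)).restrictScalars A) |>.2 ?_ hc
    rintro _ ⟨k, rfl⟩
    exact Ideal.subset_span (Finset.mem_image_of_mem _ (Finset.mem_univ k))
  · obtain ⟨k, -, rfl⟩ := Finset.mem_image.1 (Finset.mem_coe.1 hf)
    exact HomogeneousIdeal.mem_irrelevant_of_mem _ one_pos (MvPolynomial.isHomogeneous_X A k)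

theorem exists_proj_iso {A : Type u} [CommRing A] {X : Scheme.{u}} (f : X ⟶ Spec (CommRingCat.of A))
    (h : RelProj.IsHProjective f) :
    ∃ (S : Type u) (_ : CommRing S) (_ : Algebra A S) (𝒮 : ℕ → Submodule A S) (_ : GradedAlgebra 𝒮) (s : Finset S),
      Function.Surjective (algebraMap A (𝒮 0)) ∧ (∀ g ∈ s, g ∈ 𝒮 1) ∧
      (HomogeneousIdeal.irrelevant 𝒮).toIdeal = Ideal.span (s : Set S) ∧
      ∃ e : X ≅ Proj 𝒮, e.hom ≫ Proj.toSpecZero 𝒮 ≫ Spec.map (CommRingCat.ofHom (algebraMap A (𝒮 0))) = f := by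
  classical
  obtain ⟨n, i, hi, hif⟩ := h
  let Z := ULift.{u} ℤ
  algebraize [((Int.castRingHom A).comp (ULift.ringEquiv (R := ℤ)).toRingHom)]
  have hpb : IsPullback (Csa25.linMap (n := n) (algebraMap Z A) 1 isUnit_one) (CohB1.ProjSpace.toSpec n A)
      (CohB1.ProjSpace.toSpec n Z) (specULiftZIsTerminal.from (Spec (CommRingCat.of A))) := by
    rw [specULiftZIsTerminal.hom_ext (specULiftZIsTerminal.from (Spec (CommRingCat.of A)))
      (Spec.map (CommRingCat.ofHom (algebraMap Z A)))]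
    exact Csa25.isPullback_linMap_one
  let e₀ : CohB1.ProjSpaceOver n (Spec (CommRingCat.of A)) ≅ CohB1.ProjSpace n A :=
    (IsPullback.of_hasPullback _ _).isoIsPullback _ _ hpb
  have he₀ : e₀.hom ≫ CohB1.ProjSpace.toSpec n A = CohB1.ProjSpaceOver.toBase n _ :=
    (IsPullback.of_hasPullback _ _).isoIsPullback_hom_snd _ _ hpb
  let z : X ⟶ Proj (CohB1.polyGrading n A) := i ≫ e₀.hom
  have : IsClosedImmersion z := inferInstanceAs (IsClosedImmersion (i ≫ e₀.hom))
  let 𝒜 := CohB1.polyGrading n A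
  let s : Finset (MvPolynomial (Fin (n + 1)) A) := Finset.univ.image fun k => MvPolynomial.X k
  have hs1 : ∀ g ∈ s, g ∈ 𝒜 1 := fun g hg => by
    obtain ⟨k, -, rfl⟩ := Finset.mem_image.1 hg
    exact MvPolynomial.isHomogeneous_X A k
  have hirr := irrelevant_poly_eq_span A n
  have hcov : ∀ x : Proj 𝒜, ∃ g : s, x ∈ Proj.basicOpen 𝒜 (g : MvPolynomial (Fin (n + 1)) A) := fun x => by
    by_contra! hx
    refine x.not_irrelevant_le ?_
    intro b hb
    have hb' : b ∈ Ideal.span (s : Set (MvPolynomial (Fin (n + 1)) A)) := hirr ▸ hb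
    exact Ideal.span_le.2 (fun g hg => not_not.1 (hx ⟨g, hg⟩)) hb'
  let I := ClosedProj.vanishingHom 𝒜 s hs1 z
  obtain ⟨e, he⟩ := ClosedProj.exists_iso 𝒜 s hs1 z hcov
  let ψ := GradedQuot.hom 𝒜 I
  have hsurj0 : Function.Surjective (algebraMap A (GradedQuot.grading 𝒜 I 0)) := by
    rintro ⟨_, a, ha, rfl⟩
    obtain ⟨r, hr⟩ := algebraMap_poly_zero_surjective A n ⟨a, ha⟩
    refine ⟨r, Subtype.ext ?_⟩
    exact congrArg (fun p : CohB1.polyGrading n A 0 => Ideal.Quotient.mk I.toIdeal (p : MvPolynomial (Fin (n + 1)) A)) hr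
  refine ⟨MvPolynomial (Fin (n + 1)) A ⧸ I.toIdeal, inferInstance, inferInstance, GradedQuot.grading 𝒜 I,
    inferInstance, s.image ψ, hsurj0, ?_, ?_, e, ?_⟩
  · intro g hg
    obtain ⟨a, ha, rfl⟩ := Finset.mem_image.1 hg
    exact ψ.map_mem (hs1 a ha)
  · refine le_antisymm ?_ (Ideal.span_le.2 fun g hg => ?_)
    · intro b hb
      have h1 : b ∈ ((HomogeneousIdeal.irrelevant 𝒜).map ψ).toIdeal := GradedQuot.irrelevant_le 𝒜 I hb
      rw [Finset.coe_image, ← Ideal.map_span, ← hirr]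
      exact h1
    · obtain ⟨a, ha, rfl⟩ := Finset.mem_image.1 (Finset.mem_coe.1 hg)
      exact HomogeneousIdeal.mem_irrelevant_of_mem _ one_pos (ψ.map_mem (hs1 a ha))
  · have hle := GradedQuot.irrelevant_le 𝒜 I
    have hmap : Proj.map ψ hle ≫ Proj.toSpecZero 𝒜 =
        Proj.toSpecZero (GradedQuot.grading 𝒜 I) ≫ Spec.map (CommRingCat.ofHom (EGAProj74.zeroHom ψ)) := by
      have : IsIso (RelCone.domOpen ψ).ι := by
        rw [EGAProj74.domOpen_eq_top_of_le _ hle]
        exact inferInstanceAs (IsIso (Scheme.topIso _).hom)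
      rw [← cancel_epi (RelCone.domOpen ψ).ι, ← Category.assoc, EGAProj74.ι_map_eq_domMap,
        EGAProj74.domMap_toSpecZero]
    have hz : i ≫ e₀.hom = e.hom ≫ Proj.map ψ hle := he.symm
    rw [← hif, ← he₀, ← Category.assoc i, hz]
    refine Eq.trans ?_ (Category.assoc e.hom (Proj.map ψ hle) _).symm
    refine congrArg (e.hom ≫ ·) ?_
    show _ = Proj.map ψ hle ≫ Proj.toSpecZero 𝒜 ≫ _
    rw [reassoc_of% hmap, ← Spec.map_comp]
    refine congrArg (fun a => Proj.toSpecZero (GradedQuot.grading 𝒜 I) ≫ Spec.map a) ?_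
    exact CommRingCat.hom_ext (RingHom.ext fun r => Subtype.ext rfl)

theorem exists_proj_iso_of_isProper {A : Type u} [CommRing A] {X : Scheme.{u}}
    (f : X ⟶ Spec (CommRingCat.of A)) [IsProper f] {L : X.Modules} (h : RelAmple.IsRelAmple f L) :
    ∃ (S : Type u) (_ : CommRing S) (_ : Algebra A S) (𝒮 : ℕ → Submodule A S) (_ : GradedAlgebra 𝒮) (s : Finset S),
      Function.Surjective (algebraMap A (𝒮 0)) ∧ (∀ g ∈ s, g ∈ 𝒮 1) ∧
      (HomogeneousIdeal.irrelevant 𝒮).toIdeal = Ideal.span (s : Set S) ∧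
      ∃ e : X ≅ Proj 𝒮, e.hom ≫ Proj.toSpecZero 𝒮 ≫ Spec.map (CommRingCat.ofHom (algebraMap A (𝒮 0))) = f :=
  exists_proj_iso f ((AmpleBaseImmersion.isProjective_iff_isHProjective
    ⟨Coh.structureModule _, Amp73.isAmple_of_isQuasiAffine EGA73.isInvertible_structureModule⟩ f).1
      (QuasiProjective.isProjective_of_isProper (Or.inl inferInstance) f ⟨inferInstance, inferInstance, L, h⟩))

end Groth.Agent.EGA73.ProperProjAffine

end
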