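import Mathlib.AlgebraicGeometry.Modules.Sheaf
import Mathlib.AlgebraicGeometry.Limits

/-!
A module on a disjoint union with prescribed restrictions to the two summands.
-/

set_option autoImplicit false
universe u
open CategoryTheory CategoryTheory.Limits AlgebraicGeometry Opposite TopologicalSpace

namespace Groth.Agent.EGA73

/-- sections over the empty open vanish -/
theorem subsingleton_sections_bot {X : Scheme.{u}} (M : X.Modules) : Subsingleton Γ(M, (⊥ : X.Opens)) :=
  have : Subsingleton Γ(X, (⊥ : X.Opens)) := CommRingCat.subsingleton_of_isTerminal X.sheaf.isTerminalOfEmpty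
  Module.subsingleton Γ(X, (⊥ : X.Opens)) _

/-- the pushforward along one summand restricts to zero on the other -/
theorem isZero_pullback_pushforward_of_disjoint {W Z Z' : Scheme.{u}} (i : Z ⟶ W) [IsOpenImmersion i]
    (i' : Z' ⟶ W) (h : Disjoint (Set.range i.base) (Set.range i'.base)) (M : Z'.Modules) :
    IsZero ((Scheme.Modules.pullback i).obj ((Scheme.Modules.pushforward i').obj M)) := by
  refine IsZero.of_iso ?_ ((Scheme.Modules.restrictFunctorIsoPullback i).app _).symm
  rw [IsZero.iff_id_eq_zero]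
  refine Scheme.Modules.hom_ext _ _ fun U => ?_
  ext x
  have : i' ⁻¹ᵁ (i ''ᵁ U) = ⊥ := by
    refine eq_bot_iff.2 fun z hz => ?_
    obtain ⟨a, -, ha⟩ := hz
    exact h.le_bot ⟨⟨a, ha⟩, ⟨z, rfl⟩⟩
  have hs : Subsingleton Γ(M, i' ⁻¹ᵁ (i ''ᵁ U)) := this ▸ subsingleton_sections_bot M
  exact @Subsingleton.elim _ hs _ _

/-- a module on `X ⨿ X'` with given restrictions -/
theorem exists_coprod_module {X X' : Scheme.{u}} (L : X.Modules) (L' : X'.Modules) :
    ∃ M : (X ⨿ X').Modules,
      Nonempty ((Scheme.Modules.pullback (coprod.inl : X ⟶ X ⨿ X')).obj M ≅ L) ∧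
        Nonempty ((Scheme.Modules.pullback (coprod.inr : X' ⟶ X ⨿ X')).obj M ≅ L') := by
  let A := (Scheme.Modules.pushforward (coprod.inl : X ⟶ X ⨿ X')).obj L
  let B := (Scheme.Modules.pushforward (coprod.inr : X' ⟶ X ⨿ X')).obj L'
  have hd : Disjoint (Set.range (coprod.inl : X ⟶ X ⨿ X').base) (Set.range (coprod.inr : X' ⟶ X ⨿ X').base) :=
    (isCompl_range_inl_inr X X').disjoint
  have : PreservesBinaryBiproduct A B (Scheme.Modules.pullback (coprod.inl : X ⟶ X ⨿ X')) :=
    preservesBinaryBiproduct_of_preservesBinaryCoproduct _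
  have : PreservesBinaryBiproduct A B (Scheme.Modules.pullback (coprod.inr : X' ⟶ X ⨿ X')) :=
    preservesBinaryBiproduct_of_preservesBinaryCoproduct _
  refine ⟨A ⊞ B, ⟨?_⟩, ⟨?_⟩⟩
  · exact Functor.mapBiprod _ A B ≪≫
      (isoBiprodZero (isZero_pullback_pushforward_of_disjoint coprod.inl coprod.inr hd L')).symm ≪≫
      ((Scheme.Modules.restrictFunctorIsoPullback (coprod.inl : X ⟶ X ⨿ X')).app A).symm ≪≫
      asIso ((Scheme.Modules.restrictAdjunction (coprod.inl : X ⟶ X ⨿ X')).counit.app L)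
  · exact Functor.mapBiprod _ A B ≪≫
      (isoZeroBiprod (isZero_pullback_pushforward_of_disjoint coprod.inr coprod.inl hd.symm L)).symm ≪≫
      ((Scheme.Modules.restrictFunctorIsoPullback (coprod.inr : X' ⟶ X ⨿ X')).app B).symm ≪≫
      asIso ((Scheme.Modules.restrictAdjunction (coprod.inr : X' ⟶ X ⨿ X')).counit.app L')

end Groth.Agent.EGA73
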