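import Groth.Agent.EGA73.ChowDense
import Groth.Agent.EGA73.QuasiProjective

/-!
Chow's lemma in the form of EGA II 5.6.1 and 5.6.2.
-/

set_option autoImplicit false
set_option backward.isDefEq.respectTransparency.types false

universe u

open CategoryTheory CategoryTheory.Limits AlgebraicGeometry TopologicalSpace

noncomputable section

namespace Groth.Agent.EGA73.ChowProjective

theorem base_cases {X S : Scheme.{u}} (r : X ⟶ S) [LocallyOfFiniteType r] [QuasiCompact r]
    (h : IsNoetherian S ∨ (CompactSpace S ∧ S.IsSeparated ∧ (irreducibleComponents X).Finite)) :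
    CompactSpace S ∧ QuasiSeparatedSpace S ∧ (irreducibleComponents (X : Type u)).Finite := by
  rcases h with h | ⟨h1, h2, h3⟩
  · have : CompactSpace X := QuasiCompact.compactSpace_of_compactSpace r
    have : IsLocallyNoetherian X := LocallyOfFiniteType.isLocallyNoetherian r
    have : IsNoetherian X := {}
    exact ⟨inferInstance, inferInstance, NoetherianSpace.finite_irreducibleComponents (α := (X : Type u))⟩
  · exact ⟨h1, inferInstance, h3⟩

/-- EGA II 5.6.1. -/
theorem chow {X S : Scheme.{u}} (r : X ⟶ S) [IsSeparated r] [LocallyOfFiniteType r] [QuasiCompact r]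
    [CompactSpace S] [QuasiSeparatedSpace S] (hirr : (irreducibleComponents (X : Type u)).Finite) :
    ∃ (X' : Scheme.{u}) (f : X' ⟶ X),
      RelProj.IsQuasiProjective (f ≫ r) ∧ RelProj.IsProjective f ∧ Surjective f ∧
      (∃ U : X.Opens, Dense (U : Set X) ∧ Dense ((f ⁻¹ᵁ U : X'.Opens) : Set X') ∧ IsIso (f ∣_ U)) ∧
      (IsReduced X → IsReduced X') ∧ (IrreducibleSpace X → IrreducibleSpace X') := by
  obtain ⟨N, X', π, J, hJ, hJt, hπ, hs, U, hU, hUc, hiso, hsd⟩ := ChowDense.chow_dense_isCompact r hirr
  have : CompactSpace X := QuasiCompact.compactSpace_of_compactSpace r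
  have : QuasiSeparatedSpace X := quasiSeparatedSpace_of_quasiSeparated r
  have hq : RelProj.IsQuasiProjective (π ≫ r) :=
    AmpleBaseImmersion.isQuasiProjective_of_immersion J hJt
  obtain ⟨-, -, L, hL⟩ := id hq
  have hproj : RelProj.IsProjective π := QuasiProjective.isProjective_of_isProper (Or.inl inferInstance) π
    ⟨inferInstance, inferInstance, L, Amp73.isRelAmple_of_comp π r hL⟩
  let V := π ⁻¹ᵁ U
  have hVc : IsCompact (V : Set X') := QuasiCompact.isCompact_preimage (f := π) U U.2 hUc
  have : CompactSpace (V : Scheme.{u}) := isCompact_iff_compactSpace.1 hVc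
  have : CompactSpace X' := QuasiCompact.compactSpace_of_compactSpace π
  have : QuasiSeparatedSpace X' := quasiSeparatedSpace_of_quasiSeparated π
  have : QuasiCompact V.ι := quasiCompact_of_compactSpace V.ι
  have : IsDominant V.ι := inferInstance
  have hdense : Dense (V : Set X') := by
    have h := V.ι.denseRange
    rwa [DenseRange, Scheme.Opens.range_ι] at h
  refine ⟨X', π, hq, hproj, hs, ⟨U, hU, hdense, hiso⟩, fun hr => ?_, fun hi => ?_⟩
  · have : IsReduced (V : Scheme.{u}) := isReduced_of_isOpenImmersion ((π ∣_ U) ≫ U.ι)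
    exact IsSchemeTheoreticallyDominant.isReduced V.ι
  · have hUne : (U : Set X).Nonempty := hU.nonempty
    have hUirr : IsPreirreducible (U : Set X) :=
      (PreirreducibleSpace.isPreirreducible_univ (X := X)).open_subset U.2 (Set.subset_univ _)
    have : IrreducibleSpace (U : Set X) := isIrreducible_iff_irreducibleSpace.1 ⟨hUne, hUirr⟩
    have : IrreducibleSpace (U : Scheme.{u}) := ‹IrreducibleSpace (U : Set X)›
    have hV : IrreducibleSpace (V : Scheme.{u}) := by
      have h := ((π ∣_ U).homeomorph).symm.surjective
      have : Nonempty (V : Scheme.{u}) := ⟨(π ∣_ U).homeomorph.symm (Classical.arbitrary _)⟩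
      have h2 := (IrreducibleSpace.isIrreducible_univ (U : Scheme.{u})).image _
        (π ∣_ U).homeomorph.symm.continuous.continuousOn
      rw [Set.image_univ, h.range_eq] at h2
      exact { isPreirreducible_univ := h2.2, toNonempty := this }
    have hVi : IsIrreducible (V : Set X') :=
      isIrreducible_iff_irreducibleSpace.2 (show IrreducibleSpace (V : Set X') from hV)
    have hX' : IsIrreducible (Set.univ : Set X') := hdense.closure_eq ▸ hVi.closure
    exact { isPreirreducible_univ := hX'.2, toNonempty := ⟨hX'.1.some⟩ }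

/-- EGA II 5.6.2. -/
theorem isProper_of_surjective {X X' S : Scheme.{u}} (r : X ⟶ S) [IsSeparated r] [LocallyOfFiniteType r]
    [QuasiCompact r] (f : X' ⟶ X) [Surjective f] (h : RelProj.IsProjective (f ≫ r)) : IsProper r := by
  have := (S4418.result _ h).2
  have : UniversallyClosed r := UniversallyClosed.of_comp_surjective f r
  exact {}

end Groth.Agent.EGA73.ChowProjective

end
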