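import Groth.Prelude.Def_RelProj
import Mathlib.Topology.Sheaves.SheafCondition.UniqueGluing

/-!
A quasi-coherent algebra with compatible gradings over a basis of affine opens is a quasi-coherent graded algebra.
-/

set_option autoImplicit false

universe u

open CategoryTheory CategoryTheory.Limits AlgebraicGeometry TopologicalSpace Opposite DirectSum

noncomputable section

namespace Groth.Agent.EGA73

variable {S : Scheme.{u}}

/-- Restriction in a quasi-coherent algebra. -/
abbrev ares (A : RelSpec.QCAlg S) {U V : S.Opens} (h : V ≤ U) :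
    A.presheaf.obj (op U) →+* A.presheaf.obj (op V) :=
  (A.presheaf.map (homOfLE h).op).hom

theorem ares_ares (A : RelSpec.QCAlg S) {U V W : S.Opens} (h : V ≤ U) (h' : W ≤ V) (x : A.presheaf.obj (op U)) :
    ares A h' (ares A h x) = ares A (h'.trans h) x := by
  have e := A.presheaf.map_comp (homOfLE h).op (homOfLE h').op
  exact (ConcreteCategory.congr_hom e x).symm

theorem ares_self (A : RelSpec.QCAlg S) {U : S.Opens} (x : A.presheaf.obj (op U)) :
    ares A (le_refl U) x = x := by
  have e := A.presheaf.map_id (op U)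
  exact ConcreteCategory.congr_hom e x

theorem ares_str (A : RelSpec.QCAlg S) {U V : S.Opens} (h : V ≤ U) (r : Γ(S, U)) :
    ares A h ((A.str.app (op U)).hom r) = (A.str.app (op V)).hom (S.presheaf.map (homOfLE h).op r) :=
  (ConcreteCategory.congr_hom (A.str.naturality (homOfLE h).op) r).symm

/-- Compatible gradings of a quasi-coherent algebra over a basis of affine opens. -/
structure LocGrading (A : RelSpec.QCAlg S) where
  /-- the basis -/
  Small : S.Opens → Prop
  affine : ∀ {V : S.Opens}, Small V → IsAffineOpen V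
  basis : ∀ (U : S.Opens) (x : S), x ∈ U → ∃ V : S.Opens, Small V ∧ x ∈ V ∧ V ≤ U
  /-- the gradings -/
  deg : ∀ (V : S.Opens), Small V → ℕ → AddSubgroup (A.presheaf.obj (op V))
  graded : ∀ (V : S.Opens) (hV : Small V), GradedRing (deg V hV)
  map_mem : ∀ {U V : S.Opens} (hU : Small U) (hV : Small V) (h : V ≤ U) {d : ℕ} {x : A.presheaf.obj (op U)},
    x ∈ deg U hU d → ares A h x ∈ deg V hV d
  str_mem : ∀ (V : S.Opens) (hV : Small V) (r : Γ(S, V)), (A.str.app (op V)).hom r ∈ deg V hV 0

namespace LocGrading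

variable {A : RelSpec.QCAlg S} (G : LocGrading A)

instance instGraded (V : S.Opens) (hV : G.Small V) : GradedRing (G.deg V hV) := G.graded V hV

theorem ext_small {U : S.Opens} {x y : A.presheaf.obj (op U)}
    (h : ∀ (V : S.Opens), G.Small V → ∀ i : V ≤ U, ares A i x = ares A i y) : x = y :=
  TopCat.Sheaf.eq_of_locally_eq' ⟨A.presheaf, A.isSheaf⟩ (fun V : {V : S.Opens // G.Small V ∧ V ≤ U} => V.1) U
    (fun V => homOfLE V.2.2) (fun z hz => by
      obtain ⟨V, hV, hzV, hVU⟩ := G.basis U z hz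
      exact Opens.mem_iSup.2 ⟨⟨V, hV, hVU⟩, hzV⟩)
    x y fun V => h V.1 V.2.1 V.2.2

theorem res_decompose {U V : S.Opens} (hU : G.Small U) (hV : G.Small V) (h : V ≤ U)
    (x : A.presheaf.obj (op U)) (d : ℕ) :
    ares A h (decompose (G.deg U hU) x d : A.presheaf.obj (op U)) =
      (decompose (G.deg V hV) (ares A h x) d : A.presheaf.obj (op V)) :=
  GradedRingHom.map_directSumDecompose (G.deg U hU) (G.deg V hV)
    { ares A h with map_mem := fun hx => G.map_mem hU hV h hx }

/-- The elements that are of degree `d` on every small open. -/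
def degAt (U : S.Opens) (d : ℕ) : AddSubgroup (A.presheaf.obj (op U)) :=
  ⨅ (V : S.Opens) (hV : G.Small V) (h : V ≤ U), (G.deg V hV d).comap (ares A h).toAddMonoidHom

theorem mem_degAt {U : S.Opens} {d : ℕ} {x : A.presheaf.obj (op U)} :
    x ∈ G.degAt U d ↔ ∀ (V : S.Opens) (hV : G.Small V) (h : V ≤ U), ares A h x ∈ G.deg V hV d := by
  simp [degAt, AddSubgroup.mem_iInf]

theorem degAt_eq {V : S.Opens} (hV : G.Small V) (d : ℕ) : G.degAt V d = G.deg V hV d := by
  ext x
  rw [mem_degAt]
  exact ⟨fun h => ares_self A x ▸ h V hV le_rfl, fun h W hW i => G.map_mem hV hW i h⟩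

theorem exists_component {U : S.Opens} (x : A.presheaf.obj (op U)) (d : ℕ) :
    ∃ y, y ∈ G.degAt U d ∧ ∀ (V : S.Opens) (hV : G.Small V) (h : V ≤ U),
      ares A h y = (decompose (G.deg V hV) (ares A h x) d : A.presheaf.obj (op V)) := by
  let F : TopCat.Sheaf CommRingCat.{u} S.carrier := ⟨A.presheaf, A.isSheaf⟩
  let ι := {V : S.Opens // G.Small V ∧ V ≤ U}
  let sf : ∀ V : ι, A.presheaf.obj (op V.1) := fun V =>
    (decompose (G.deg V.1 V.2.1) (ares A V.2.2 x) d : A.presheaf.obj (op V.1))
  obtain ⟨y, hy, -⟩ := F.existsUnique_gluing' (fun V : ι => V.1) U (fun V => homOfLE V.2.2) (fun z hz => by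
      obtain ⟨V, hV, hzV, hVU⟩ := G.basis U z hz
      exact Opens.mem_iSup.2 ⟨⟨V, hV, hVU⟩, hzV⟩) sf (fun V V' => by
    refine G.ext_small fun W hW i => ?_
    show ares A i (ares A inf_le_left (sf V)) = ares A i (ares A inf_le_right (sf V'))
    simp only [sf]
    rw [ares_ares, ares_ares, G.res_decompose V.2.1 hW, G.res_decompose V'.2.1 hW, ares_ares, ares_ares])
  have hy' : ∀ (V : S.Opens) (hV : G.Small V) (h : V ≤ U),
      ares A h y = (decompose (G.deg V hV) (ares A h x) d : A.presheaf.obj (op V)) :=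
    fun V hV h => hy ⟨V, hV, h⟩
  exact ⟨y, G.mem_degAt.2 fun V hV h => hy' V hV h ▸ SetLike.coe_mem _, hy'⟩

theorem decompose_res_coe {U V : S.Opens} (hV : G.Small V) (h : V ≤ U) (z : ⨁ d, G.degAt U d) (d : ℕ) :
    (decompose (G.deg V hV) (ares A h (DirectSum.coeAddMonoidHom (G.degAt U) z)) d : A.presheaf.obj (op V)) =
      ares A h (z d : A.presheaf.obj (op U)) := by
  induction z using DirectSum.induction_on with
  | zero => simp
  | of e y =>
    rw [DirectSum.coeAddMonoidHom_of]
    have hm := G.mem_degAt.1 y.2 V hV h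
    by_cases hed : e = d
    · subst hed
      rw [decompose_of_mem_same _ hm, DirectSum.of_eq_same]
    · rw [decompose_of_mem_ne _ hm hed, DirectSum.of_eq_of_ne _ _ _ (Ne.symm hed)]
      simp
  | add a b ha hb =>
    simp only [map_add, decompose_add, DirectSum.add_apply, AddSubgroup.coe_add, ha, hb]

theorem isInternal {U : S.Opens} (hU : IsAffineOpen U) : DirectSum.IsInternal (G.degAt U) := by
  classical
  refine ⟨fun z z' hz => DFinsupp.ext fun d => Subtype.ext (G.ext_small fun V hV h => ?_), fun x => ?_⟩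
  · rw [← G.decompose_res_coe hV h z d, hz, G.decompose_res_coe hV h z' d]
  · choose y hy hy' using G.exists_component (U := U) x
    let ι := {V : S.Opens // G.Small V ∧ V ≤ U}
    obtain ⟨t, ht⟩ := hU.isCompact.elim_finite_subcover (fun V : ι => (V.1 : Set S)) (fun V => V.1.2) fun z hz => by
      obtain ⟨V, hV, hzV, hVU⟩ := G.basis U z hz
      exact Set.mem_iUnion.2 ⟨⟨V, hV, hVU⟩, hzV⟩
    let N : Finset ℕ := t.biUnion fun V => (decompose (G.deg V.1 V.2.1) (ares A V.2.2 x)).support
    refine ⟨∑ d ∈ N, DirectSum.of (fun d => G.degAt U d) d ⟨y d, hy d⟩, ?_⟩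
    simp only [map_sum, DirectSum.coeAddMonoidHom_of]
    refine TopCat.Sheaf.eq_of_locally_eq' ⟨A.presheaf, A.isSheaf⟩ (fun V : {V : ι // V ∈ t} => V.1.1) U
      (fun V => homOfLE V.1.2.2) (fun z hz => by
        obtain ⟨V, hV, hzV⟩ := Set.mem_iUnion₂.1 (ht hz)
        exact Opens.mem_iSup.2 ⟨⟨V, hV⟩, hzV⟩) _ _ fun V => ?_
    show ares A V.1.2.2 _ = ares A V.1.2.2 x
    rw [map_sum, Finset.sum_congr rfl fun d _ => hy' d V.1.1 V.1.2.1 V.1.2.2]
    refine Eq.trans (Finset.sum_subset (fun d hd => Finset.mem_biUnion.2 ⟨V.1, V.2, hd⟩) fun d _ hd => ?_).symm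
      (DirectSum.sum_support_decompose (G.deg V.1.1 V.1.2.1) (ares A V.1.2.2 x))
    rw [DFinsupp.notMem_support_iff.1 hd]
    rfl

theorem gradedMonoid (U : S.Opens) : SetLike.GradedMonoid (G.degAt U) where
  one_mem := G.mem_degAt.2 fun V hV h => by rw [map_one]; exact SetLike.one_mem_graded _
  mul_mem := fun {_ _ _ _} ha hb => G.mem_degAt.2 fun V hV h => by
    rw [map_mul]; exact SetLike.mul_mem_graded (G.mem_degAt.1 ha V hV h) (G.mem_degAt.1 hb V hV h)

/-- The quasi-coherent graded algebra. -/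
def toQCGrAlg : RelProj.QCGrAlg S where
  toQCAlg := A
  deg U _ := G.degAt U
  graded U hU :=
    { toGradedMonoid := G.gradedMonoid U
      toDecomposition := (G.isInternal hU).chooseDecomposition }
  map_mem := fun {_ _} _ _ i {_ _} hx => G.mem_degAt.2 fun V hV h => by
    show ares A h (ares A i _) ∈ _
    rw [ares_ares]
    exact G.mem_degAt.1 hx V hV _
  str_mem U _ r := G.mem_degAt.2 fun V hV h => by
    rw [ares_str]
    exact G.str_mem V hV _

theorem toQCGrAlg_deg {V : S.Opens} (hV : G.Small V) (hV' : IsAffineOpen V) :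
    (G.toQCGrAlg.deg V hV' : ℕ → AddSubgroup _) = G.deg V hV :=
  funext (G.degAt_eq hV)

end LocGrading

end Groth.Agent.EGA73

end
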