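import Groth.Agent.EGA73.PolyGrading
import Groth.Agent.EGA73.GrAlgGlue
import Groth.Agent.EGAProj74.AlgExtend
import Groth.Agent.EGAProj74.Exists
import Groth.Agent.EGAProj74.RelMap
import Mathlib.RingTheory.Localization.Algebra
import Mathlib.AlgebraicGeometry.Morphisms.Finite

/-!
Finite morphisms are projective.
-/

set_option autoImplicit false
set_option backward.isDefEq.respectTransparency.types false

universe u

open CategoryTheory CategoryTheory.Limits AlgebraicGeometry TopologicalSpace Opposite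
open scoped HomogeneousIdeal Polynomial

noncomputable section

namespace Groth.Agent.EGA73.FiniteProjective

open EGAProj74

variable {X Y : Scheme.{u}} (f : X ⟶ Y) [IsFinite f]

/-- The ring `Γ(X, f⁻¹ U)`. -/
abbrev secs (U : Y.Opens) : CommRingCat.{u} := Γ(X, f ⁻¹ᵁ U)

theorem map_toSpecZero {A B : Type u} [CommRing A] [CommRing B] {𝒜 : ℕ → AddSubgroup A} [GradedRing 𝒜]
    {ℬ : ℕ → AddSubgroup B} [GradedRing ℬ] (ψ : 𝒜 →+*ᵍ ℬ) (hψ : ℬ₊ ≤ (𝒜₊).map ψ) :
    Proj.map ψ hψ ≫ Proj.toSpecZero 𝒜 = Proj.toSpecZero ℬ ≫ Spec.map (CommRingCat.ofHom (zeroHom ψ)) := by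
  have : IsIso (RelCone.domOpen ψ).ι := by
    rw [domOpen_eq_top_of_le _ hψ]
    exact inferInstanceAs (IsIso (Scheme.topIso _).hom)
  rw [← cancel_epi (RelCone.domOpen ψ).ι, ← Category.assoc, ι_map_eq_domMap, domMap_toSpecZero]

theorem exists_data : ∃ (A : RelSpec.QCAlg Y)
    (e : ∀ U : Y.Opens, IsAffineOpen U → A.presheaf.obj (op U) ≃+* (secs f U)[X]),
    (∀ (U V : Y.Opens) (hU : IsAffineOpen U) (hV : IsAffineOpen V) (h : V ≤ U) (x : A.presheaf.obj (op U)),
      e V hV (ares A h x) = ((e U hU x).map (X.presheaf.map (homOfLE (f.preimage_mono h)).op).hom)) ∧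
    ∀ (U : Y.Opens) (hU : IsAffineOpen U) (r : Γ(Y, U)),
      e U hU ((A.str.app (op U)).hom r) = Polynomial.C (f.app U r) := by
  let F : Y.AffineZariskiSiteᵒᵖ ⥤ CommRingCat.{u} :=
    { obj := fun U => CommRingCat.of (secs f U.unop.1)[X]
      map := fun {U V} g => CommRingCat.ofHom (Polynomial.mapRingHom
        (X.presheaf.map (homOfLE (f.preimage_mono (Scheme.AffineZariskiSite.toOpens_mono g.unop.le))).op).hom)
      map_id := fun U => by
        ext1
        refine Polynomial.ringHom_ext (fun a => ?_) (by simp)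
        simp
      map_comp := fun {U V W} g h => by
        ext1
        refine Polynomial.ringHom_ext (fun a => ?_) (by simp)
        simp only [CommRingCat.hom_ofHom, CommRingCat.hom_comp, RingHom.comp_apply, Polynomial.coe_mapRingHom,
          Polynomial.map_C]
        refine congrArg Polynomial.C ?_
        rw [← ConcreteCategory.comp_apply, ← Functor.map_comp]
        rfl }
  let α : (Scheme.AffineZariskiSite.toOpensFunctor Y).op ⋙ Y.presheaf ⟶ F :=
    { app := fun U => f.app U.unop.1 ≫ CommRingCat.ofHom Polynomial.C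
      naturality := fun U V g => by
        refine CommRingCat.hom_ext (RingHom.ext fun r => ?_)
        show Polynomial.C (f.app V.unop.1 (Y.presheaf.map _ r)) =
          Polynomial.map _ (Polynomial.C (f.app U.unop.1 r))
        rw [Polynomial.map_C]
        exact congrArg Polynomial.C (ConcreteCategory.congr_hom (f.naturality (homOfLE
          (Scheme.AffineZariskiSite.toOpens_mono g.unop.le)).op) r) }
  have hα : α.Coequifibered := by
    refine Scheme.AffineZariskiSite.coequifibered_iff_forall_isLocalizationAway.mpr fun ⟨U, hU⟩ r => ?_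
    let c := f.app U r
    let res := (X.presheaf.map (homOfLE (f.preimage_mono (Y.basicOpen_le r))).op).hom
    let inst : Algebra (secs f U) (secs f (Y.basicOpen r)) := res.toAlgebra
    have hl : IsLocalization.Away c (secs f (Y.basicOpen r)) :=
      (hU.preimage f).isLocalization_of_eq_basicOpen c (homOfLE (f.preimage_mono (Y.basicOpen_le r)))
        (Scheme.preimage_basicOpen f r)
    have h2 := Polynomial.isLocalization (Submonoid.powers c) (secs f (Y.basicOpen r))
    rw [Submonoid.map_powers] at h2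
    exact h2
  let D : AffAlgData Y := ⟨F, α, hα⟩
  refine ⟨D.alg, fun U hU => @CategoryTheory.Iso.commRingCatIsoToRingEquiv _ _ (@asIso _ _ _ _ (D.gamma ⟨U, hU⟩) (D.isIso_gamma _)),
    fun U V hU hV h x => ?_, fun U hU r => ?_⟩
  · have key : ∀ (W U : Y.Opens) (hW : IsAffineOpen W) (hU : IsAffineOpen U) (s : Γ(Y, U)) (_ : Y.basicOpen s = W)
        (hWU : W ≤ U) (x : D.alg.presheaf.obj (op U)),
        D.gamma ⟨W, hW⟩ (ares D.alg hWU x) =
          Polynomial.map (X.presheaf.map (homOfLE (f.preimage_mono hWU)).op).hom (D.gamma ⟨U, hU⟩ x) := by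
      rintro _ U hW hU s rfl hWU x
      exact ConcreteCategory.congr_hom (D.gamma_res (homOfLE (Scheme.AffineZariskiSite.basicOpen_le ⟨U, hU⟩ s))) x
    refine Polynomial.ext fun n => ?_
    let ι := {W : Y.Opens // IsAffineOpen W ∧ W ≤ V ∧ (∃ s : Γ(Y, V), Y.basicOpen s = W) ∧ ∃ s : Γ(Y, U), Y.basicOpen s = W}
    refine TopCat.Sheaf.eq_of_locally_eq' X.sheaf (fun W : ι => f ⁻¹ᵁ W.1) (f ⁻¹ᵁ V)
      (fun W => homOfLE (f.preimage_mono W.2.2.1)) (fun z hz => ?_) _ _ fun W => ?_
    · obtain ⟨a, b, hab, hza⟩ := exists_basicOpen_le_affine_inter hV hU (f.base z) ⟨hz, h hz⟩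
      exact Opens.mem_iSup.2 ⟨⟨Y.basicOpen a, hV.basicOpen a, Y.basicOpen_le a, ⟨a, rfl⟩, ⟨b, hab.symm⟩⟩, hza⟩
    · obtain ⟨W, hW, hWV, ⟨a, ha⟩, ⟨b, hb⟩⟩ := W
      have h1 := congrArg (fun p : (secs f W)[X] => p.coeff n) (key W V hW hV a ha hWV (ares D.alg h x))
      have h2 := congrArg (fun p : (secs f W)[X] => p.coeff n) (key W U hW hU b hb (hWV.trans h) x)
      rw [ares_ares] at h1
      simp only [Polynomial.coeff_map] at h1 h2
      refine (h1.symm.trans h2).trans ?_
      show _ = X.presheaf.map _ (Polynomial.coeff (Polynomial.map _ _) n)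
      rw [Polynomial.coeff_map]
      exact ConcreteCategory.congr_hom (X.presheaf.map_comp (homOfLE (f.preimage_mono h)).op
        (homOfLE (f.preimage_mono hWV)).op) _
  · exact ConcreteCategory.congr_hom (D.str_gamma ⟨U, hU⟩) r

theorem isProjective : RelProj.IsProjective f := by
  classical
  obtain ⟨A, e, hres, hstr⟩ := exists_data f
  let G : LocGrading A :=
    { Small := IsAffineOpen
      affine := id
      basis := fun U x hx => by
        obtain ⟨_, ⟨V, hV, rfl⟩, hxV, hVU⟩ :=
          (Scheme.isBasis_affineOpens Y).exists_subset_of_mem_open hx U.2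
        exact ⟨V, hV, hxV, hVU⟩
      deg := fun V hV => PolyGrading.deg (e V hV)
      graded := fun V hV => PolyGrading.gradedRing (e V hV)
      map_mem := fun {U V} hU hV h {d x} hx => by
        obtain ⟨a, rfl⟩ := (PolyGrading.mem_deg (e U hU)).1 hx
        refine (PolyGrading.mem_deg (e V hV)).2
          ⟨X.presheaf.map (homOfLE (f.preimage_mono h)).op a, (RingEquiv.symm_apply_eq _).2 ?_⟩
        rw [hres U V hU hV h, RingEquiv.apply_symm_apply, Polynomial.map_monomial]
      str_mem := fun V hV r => (PolyGrading.mem_deg (e V hV)).2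
        ⟨f.app V r, (RingEquiv.symm_apply_eq _).2 (by rw [hstr V hV r, Polynomial.monomial_zero_left])⟩ }
  let 𝒬 := G.toQCGrAlg
  have hdeg : ∀ (U : Y.Opens) (hU : IsAffineOpen U),
      (𝒬.deg U hU : ℕ → AddSubgroup _) = PolyGrading.deg (e U hU) := fun U hU => G.toQCGrAlg_deg (V := U) hU hU
  have hgen : 𝒬.IsGenDegOne := fun U hU => eq_top_iff.2 fun x _ => by
    rw [hdeg U hU]
    exact PolyGrading.mem_closure (e U hU) x
  have hft : 𝒬.IsFTDeg 1 := fun U hU => by
    let := (f.app U).hom.toAlgebra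
    have : Module.Finite Γ(Y, U) (secs f U) := f.finite_app U hU
    obtain ⟨n, s, hs⟩ := @Module.Finite.exists_fin Γ(Y, U) (secs f U) _ _ _ this
    let t : Fin n → A.presheaf.obj (op U) := fun k => (e U hU).symm (Polynomial.monomial 1 (s k))
    refine ⟨Finset.univ.image t, ?_, fun x hx => ?_⟩
    · intro z hz
      obtain ⟨k, -, rfl⟩ := Finset.mem_image.1 hz
      rw [hdeg U hU]
      exact PolyGrading.monomial_mem _ 1 _
    · rw [hdeg U hU] at hx
      obtain ⟨a, rfl⟩ := (PolyGrading.mem_deg (e U hU)).1 hx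
      obtain ⟨c, rfl⟩ := (Submodule.mem_span_range_iff_exists_fun _).1 (hs.ge (Submodule.mem_top : a ∈ ⊤))
      refine ⟨fun z => ∑ k ∈ Finset.univ with t k = z, c k, ?_⟩
      rw [map_sum, map_sum, ← Finset.sum_fiberwise_of_maps_to (t := Finset.univ.image t)
        (fun k hk => Finset.mem_image_of_mem _ hk)]
      refine Finset.sum_congr rfl fun z _ => ?_
      rw [map_sum, Finset.sum_mul]
      refine Finset.sum_congr rfl fun k hk => ?_
      rw [← (Finset.mem_filter.1 hk).2]
      refine (RingEquiv.symm_apply_eq (e U hU)).2 ?_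
      refine Eq.trans ?_ ((map_mul (e U hU) _ _).trans
        (congrArg₂ (· * ·) (hstr U hU (c k)) (RingEquiv.apply_symm_apply (e U hU) _))).symm
      rw [Polynomial.C_mul_monomial]
      rfl
  let c : ∀ (U : Y.Opens) (hU : IsAffineOpen U), secs f U ⟶ CommRingCat.of (𝒬.deg U hU 0) := fun U hU =>
    CommRingCat.ofHom (((e U hU).symm.toRingHom.comp Polynomial.C).codRestrict (SetLike.GradeZero.subring (𝒬.deg U hU))
      fun a => by
        show _ ∈ 𝒬.deg U hU 0
        rw [hdeg U hU]
        exact ⟨a, rfl⟩)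
  have hc : ∀ (U : Y.Opens) (hU : IsAffineOpen U), IsIso (c U hU) := fun U hU => by
    refine (ConcreteCategory.isIso_iff_bijective _).2 ⟨fun a b hab => ?_, fun x => ?_⟩
    · exact Polynomial.C_injective ((e U hU).symm.injective (congrArg Subtype.val hab))
    · have hx : (Subtype.val x) ∈ PolyGrading.deg (e U hU) 0 := hdeg U hU ▸ Subtype.prop x
      obtain ⟨a, ha⟩ := (PolyGrading.mem_deg (e U hU)).1 hx
      exact ⟨a, Subtype.ext ha⟩
  let g : ∀ (U : Y.Opens) (hU : IsAffineOpen U), Proj (𝒬.deg U hU) ⟶ X := fun U hU =>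
    Proj.toSpecZero (𝒬.deg U hU) ≫ Spec.map (c U hU) ≫ (hU.preimage f).fromSpec
  have hP := isRelProj_relProj 𝒬
  obtain ⟨m, hm, -⟩ := existsUnique_desc hP g fun U hU r => by
    simp only [g, reassoc_of% (map_toSpecZero (𝒬.res hU (hU.basicOpen r) (Y.basicOpen_le r)) (𝒬.irrelevant_le_map U hU r)),
      ← Spec.map_comp_assoc]
    have hcr : c U hU ≫ CommRingCat.ofHom (zeroHom (𝒬.res hU (hU.basicOpen r) (Y.basicOpen_le r))) =
        X.presheaf.map (homOfLE (f.preimage_mono (Y.basicOpen_le r))).op ≫ c (Y.basicOpen r) (hU.basicOpen r) := by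
      refine CommRingCat.hom_ext (RingHom.ext fun a => Subtype.ext ?_)
      show ares A (Y.basicOpen_le r) ((e U hU).symm (Polynomial.C a)) =
        (e (Y.basicOpen r) (hU.basicOpen r)).symm (Polynomial.C _)
      rw [eq_comm, RingEquiv.symm_apply_eq, hres U _ hU (hU.basicOpen r), RingEquiv.apply_symm_apply, Polynomial.map_C]
      rfl
    rw [hcr, Spec.map_comp_assoc, IsAffineOpen.map_fromSpec]
  have hpre : ∀ (U : Y.Opens) (_ : IsAffineOpen U), m ≫ f = relProjTo 𝒬 → m ⁻¹ᵁ (f ⁻¹ᵁ U) = relProjTo 𝒬 ⁻¹ᵁ U :=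
    fun U _ h => by rw [← Scheme.Hom.comp_preimage, h]
  have hover : m ≫ f = relProjTo 𝒬 := by
    refine hom_ext_emb (chart := relProjChart 𝒬) fun U hU => ?_
    rw [← Category.assoc, hm U hU, emb_p hP]
    simp only [g, Category.assoc]
    rw [← IsAffineOpen.SpecMap_appLE_fromSpec f hU (hU.preimage f) le_rfl, ← Spec.map_comp_assoc]
    congr 3
    refine CommRingCat.hom_ext (RingHom.ext fun r => Subtype.ext ?_)
    show (e U hU).symm (Polynomial.C (f.appLE U (f ⁻¹ᵁ U) le_rfl r)) = (A.str.app (op U)).hom r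
    rw [RingEquiv.symm_apply_eq, hstr U hU r, Scheme.Hom.appLE_eq_app]
  have : IsIso m := by
    refine IsZariskiLocalAtTarget.of_iSup_eq_top (P := MorphismProperty.isomorphisms Scheme.{u})
      (fun U : Y.affineOpens => f ⁻¹ᵁ U.1) (by rw [← Scheme.Hom.preimage_iSup, iSup_affineOpens_eq_top, Scheme.Hom.preimage_top])
      fun U => ?_
    have hr : (U.2.preimage f).fromSpec.opensRange = f ⁻¹ᵁ U.1 := (U.2.preimage f).opensRange_fromSpec
    refine ((MorphismProperty.isomorphisms Scheme.{u}).arrow_mk_iso_iff (morphismRestrictEq m hr).symm).mpr ?_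
    refine ((MorphismProperty.isomorphisms Scheme.{u}).arrow_mk_iso_iff
      (morphismRestrictOpensRange m (U.2.preimage f).fromSpec)).mpr ?_
    have hsq : IsPullback (Proj.toSpecZero (𝒬.deg U.1 U.2) ≫ Spec.map (c U.1 U.2))
        (RelProj.emb (relProjTo 𝒬) (relProjChart 𝒬) U.1 U.2) (U.2.preimage f).fromSpec m := by
      refine IsOpenImmersion.isPullback _ _ _ _ ?_ ?_
      · rw [hm U.1 U.2]
        simp only [g, Category.assoc]
      · rw [opensRange_emb, hr, hpre U.1 U.2 hover]
    rw [← hsq.flip.isoPullback_inv_snd]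
    refine ((MorphismProperty.isomorphisms Scheme.{u}).cancel_left_of_respectsIso _ _).mpr ?_
    have : IsIso (Proj.toSpecZero (𝒬.deg U.1 U.2)) :=
      @PolyGrading.isIso_toSpecZero _ _ _ _ (e U.1 U.2) (𝒬.deg U.1 U.2) (𝒬.gradedRing U.1 U.2) (hdeg U.1 U.2)
    have := hc U.1 U.2
    exact MorphismProperty.isomorphisms.infer_property _
  exact ⟨𝒬, relProj 𝒬, relProjTo 𝒬, relProjChart 𝒬, (asIso m).symm, hgen, hft, hP,
    (Iso.inv_comp_eq (asIso m)).2 hover.symm⟩

end Groth.Agent.EGA73.FiniteProjective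

end
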