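import Groth.Agent.EGA73.NormBundle
import Groth.Prelude.Def_Fitting

/-!
Norms of degree `d` give weak norms.
-/

universe u

open CategoryTheory CategoryTheory.Limits AlgebraicGeometry Opposite TopologicalSpace

noncomputable section

namespace Groth.Agent.EGA73

open Var76.ZeroScheme

variable {X Y : Scheme.{u}} {π : X ⟶ Y} {d : ℕ}

theorem surjective_of_norm [IsFinite π] (N : Nrm.NormOfDegree π d) : Surjective π := by
  refine ⟨fun y => ?_⟩
  by_contra h
  let U : Y.Opens := ⟨(Set.range π)ᶜ, π.isClosedMap.isClosed_range.isOpen_compl⟩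
  have hU : π ⁻¹ᵁ U = ⊥ := eq_bot_iff.2 fun x hx => hx ⟨x, rfl⟩
  have : Subsingleton Γ(X, π ⁻¹ᵁ U) := ⟨fun a b =>
    TopCat.Presheaf.section_ext X.sheaf _ a b fun x hx => (hU.le hx).elim⟩
  have h1 : ((0 : Γ(Y, U)) ^ d) = 1 := by
    rw [← N.norm_app U 0, Subsingleton.elim (π.app U 0) 1, map_one]
  rw [zero_pow (Nat.one_le_iff_ne_zero.1 N.one_le)] at h1
  have h2 := congrArg (Y.presheaf.germ U y h).hom h1
  rw [map_zero, map_one] at h2
  exact zero_ne_one h2

/-- A norm of degree `d` as a weak norm. -/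
def fnormOfNorm [IsFinite π] (N : Nrm.NormOfDegree π d) : FNorm π d where
  norm := N.norm
  norm_res h s := N.norm_res (homOfLE h) s
  norm_fibre U s y hy := by
    have := surjective_of_norm N
    obtain ⟨x, rfl⟩ := π.surjective y
    have hxU : π x ∈ U := Y.basicOpen_le _ hy
    refine ⟨x, (X.mem_basicOpen s x hxU).2 ?_, rfl⟩
    by_contra hu
    exact N.norm_mem U s x hxU hu ((Y.mem_basicOpen _ (π x) hxU).1 hy)
  one_le := N.one_le
  norm_app := N.norm_app

end Groth.Agent.EGA73
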