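import Groth.Agent.EGA73.NormAmple
import Groth.Agent.Props58.LocFree.Affine
import Mathlib.RingTheory.Norm.Defs
import Mathlib.LinearAlgebra.Determinant

/-!
The determinant norm of a finite locally free morphism.
-/

set_option autoImplicit false
set_option linter.style.haveILetI false

universe u

open CategoryTheory CategoryTheory.Limits AlgebraicGeometry Opposite TopologicalSpace

noncomputable section

namespace Groth.Agent.EGA73

open Var76.ZeroScheme

variable {X Y : Scheme.{u}} (π : X ⟶ Y)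

theorem app_fres {U V : Y.Opens} (h : V ≤ U) (a : Γ(Y, U)) :
    π.app V (fres h a) = fres (π.preimage_mono h) (π.app U a) :=
  ConcreteCategory.congr_hom (π.naturality (homOfLE h).op) a

/-- Sections freely generating `π_* O_X` over every open inside `V`. -/
def NatBasis {V : Y.Opens} {n : ℕ} (s : Fin n → Γ(X, π ⁻¹ᵁ V)) : Prop :=
  ∀ (W : Y.Opens) (h : W ≤ V),
    Function.Bijective fun a : Fin n → Γ(Y, W) => ∑ i, π.app W (a i) * fres (π.preimage_mono h) (s i)

theorem NatBasis.res {V W : Y.Opens} {n : ℕ} {s : Fin n → Γ(X, π ⁻¹ᵁ V)} (hs : NatBasis π s) (h : W ≤ V) :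
    NatBasis π fun i => fres (π.preimage_mono h) (s i) := by
  intro W' h'
  simp only [fres_fres]
  exact hs W' (h'.trans h)

/-- An open over which `π_* O_X` is free. -/
def IsChart (V : Y.Opens) : Prop := ∃ (n : ℕ) (s : Fin n → Γ(X, π ⁻¹ᵁ V)), NatBasis π s

theorem IsChart.mono {V W : Y.Opens} (hV : IsChart π V) (h : W ≤ V) : IsChart π W :=
  let ⟨n, _, hs⟩ := hV; ⟨n, _, hs.res π h⟩

/-- The norm of the sections over `V`, as an algebra over the functions of `V`. -/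
def nrm (V : Y.Opens) : Γ(X, π ⁻¹ᵁ V) →* Γ(Y, V) :=
  letI := (π.app V).hom.toAlgebra
  Algebra.norm Γ(Y, V)

/-- The rank of the sections over `V`. -/
def rk (V : Y.Opens) : ℕ :=
  letI := (π.app V).hom.toAlgebra
  Module.finrank Γ(Y, V) Γ(X, π ⁻¹ᵁ V)

theorem NatBasis.exists_basis {V : Y.Opens} {n : ℕ} {s : Fin n → Γ(X, π ⁻¹ᵁ V)} (hs : NatBasis π s) :
    letI := (π.app V).hom.toAlgebra
    ∃ b : Module.Basis (Fin n) Γ(Y, V) Γ(X, π ⁻¹ᵁ V), ⇑b = s := by
  letI := (π.app V).hom.toAlgebra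
  have h0 : ∀ i, fres (π.preimage_mono (le_refl V)) (s i) = s i := fun i => Amp73.fres_self (s i)
  have hb : Function.Bijective (Fintype.linearCombination Γ(Y, V) s) := by
    refine (funext fun a => ?_ : ⇑(Fintype.linearCombination Γ(Y, V) s) =
      fun a : Fin n → Γ(Y, V) => ∑ i, π.app V (a i) * fres (π.preimage_mono (le_refl V)) (s i)) ▸ hs V le_rfl
    rw [Fintype.linearCombination_apply]
    exact Finset.sum_congr rfl fun i _ => by rw [h0, Algebra.smul_def]; rfl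
  refine ⟨Module.Basis.ofEquivFun (LinearEquiv.ofBijective _ hb).symm, funext fun i => ?_⟩
  rw [Module.Basis.coe_ofEquivFun, LinearEquiv.symm_symm]
  refine (Fintype.linearCombination_apply _ _ _).trans ?_
  classical
  rw [Finset.sum_eq_single i]
  · rw [Pi.single_eq_same, one_smul]
  · exact fun j _ hj => by rw [Pi.single_eq_of_ne hj, zero_smul]
  · exact fun h => absurd (Finset.mem_univ i) h

theorem NatBasis.rk_eq {V : Y.Opens} {n : ℕ} {s : Fin n → Γ(X, π ⁻¹ᵁ V)} (hs : NatBasis π s)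
    [Nontrivial Γ(Y, V)] : rk π V = n := by
  letI := (π.app V).hom.toAlgebra
  obtain ⟨b, -⟩ := hs.exists_basis π
  exact (Module.finrank_eq_card_basis b).trans (Fintype.card_fin n)

theorem NatBasis.nrm_app {V : Y.Opens} {n : ℕ} {s : Fin n → Γ(X, π ⁻¹ᵁ V)} (hs : NatBasis π s)
    (g : Γ(Y, V)) : nrm π V (π.app V g) = g ^ n := by
  letI := (π.app V).hom.toAlgebra
  obtain ⟨b, -⟩ := hs.exists_basis π
  exact (Algebra.norm_algebraMap_of_basis b g).trans (by rw [Fintype.card_fin])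

theorem NatBasis.isUnit_of_isUnit_nrm {V : Y.Opens} {n : ℕ} {s : Fin n → Γ(X, π ⁻¹ᵁ V)} (hs : NatBasis π s)
    {z : Γ(X, π ⁻¹ᵁ V)} (hz : IsUnit (nrm π V z)) : IsUnit z := by
  letI := (π.app V).hom.toAlgebra
  obtain ⟨b, -⟩ := hs.exists_basis π
  have := Module.Finite.of_basis b
  have := Module.Free.of_basis b
  have hu : IsUnit (Algebra.lmul Γ(Y, V) Γ(X, π ⁻¹ᵁ V) z) := (LinearMap.isUnit_iff_isUnit_det _).2 hz
  obtain ⟨w, hw⟩ := ((Module.End.isUnit_iff _).1 hu).2 1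
  exact IsUnit.of_mul_eq_one w hw

theorem NatBasis.nrm_res {V W : Y.Opens} {n : ℕ} {s : Fin n → Γ(X, π ⁻¹ᵁ V)} (hs : NatBasis π s)
    (h : W ≤ V) (z : Γ(X, π ⁻¹ᵁ V)) : fres h (nrm π V z) = nrm π W (fres (π.preimage_mono h) z) := by
  classical
  letI := (π.app V).hom.toAlgebra
  letI := (π.app W).hom.toAlgebra
  obtain ⟨b, hb⟩ := hs.exists_basis π
  obtain ⟨c, hc⟩ := (hs.res π h).exists_basis π
  let r : Γ(Y, V) →+* Γ(Y, W) := (Y.presheaf.map (homOfLE h).op).hom
  let r' : Γ(X, π ⁻¹ᵁ V) →+* Γ(X, π ⁻¹ᵁ W) := (X.presheaf.map (homOfLE (π.preimage_mono h)).op).hom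
  have hrepr : ∀ (x : Γ(X, π ⁻¹ᵁ V)) (i : Fin n), c.repr (r' x) i = r (b.repr x i) := by
    intro x i
    have hx : r' x = ∑ j, r (b.repr x j) • c j := by
      conv_lhs => rw [← b.sum_repr x]
      rw [map_sum]
      refine Finset.sum_congr rfl fun j _ => ?_
      rw [Algebra.smul_def, Algebra.smul_def, map_mul, hb, hc]
      exact congrArg (· * _) (app_fres π h _).symm
    rw [hx, c.repr_sum_self]
  show r (Algebra.norm Γ(Y, V) z) = Algebra.norm Γ(Y, W) (r' z)
  rw [Algebra.norm_eq_matrix_det b, Algebra.norm_eq_matrix_det c, RingHom.map_det]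
  congr 1
  ext i j
  show r ((Algebra.leftMulMatrix b z) i j) = (Algebra.leftMulMatrix c (r' z)) i j
  rw [Algebra.leftMulMatrix_eq_repr_mul, Algebra.leftMulMatrix_eq_repr_mul, ← hrepr, map_mul]
  congr 2
  rw [hb, hc]

section Glue

variable {D : ℕ} {k : ℕ → ℕ}

/-- A power of the norm over a chart, the exponent depending on the rank. -/
def nD (k : ℕ → ℕ) (V : Y.Opens) : Γ(X, π ⁻¹ᵁ V) →* Γ(Y, V) :=
  (powMonoidHom (k (rk π V))).comp (nrm π V)

theorem nontrivial_of_mem {V : Y.Opens} {y : Y} (hy : y ∈ V) : Nontrivial Γ(Y, V) :=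
  (Y.presheaf.germ V y hy).hom.domain_nontrivial

theorem subsingleton_or {V : Y.Opens} : Subsingleton Γ(Y, V) ∨ ∃ y, y ∈ V := by
  by_cases h : ∃ y, y ∈ V
  · exact Or.inr h
  refine Or.inl ⟨fun a b => ?_⟩
  exact TopCat.Presheaf.section_ext Y.sheaf V a b fun y hy => absurd ⟨y, hy⟩ h

theorem nD_res {V W : Y.Opens} (hV : IsChart π V) (h : W ≤ V) (z : Γ(X, π ⁻¹ᵁ V)) :
    fres h (nD π k V z) = nD π k W (fres (π.preimage_mono h) z) := by
  obtain ⟨n, s, hs⟩ := hV
  rcases subsingleton_or (Y := Y) (V := W) with hss | ⟨y, hy⟩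
  · exact Subsingleton.elim _ _
  have := nontrivial_of_mem hy
  have := nontrivial_of_mem (h hy)
  show fres h (nrm π V z ^ k (rk π V)) = nrm π W _ ^ k (rk π W)
  rw [hs.rk_eq π, (hs.res π h).rk_eq π, fres, map_pow]
  exact congrArg (· ^ _) (hs.nrm_res π h z)

variable (D) in
/-- The conditions on the degree. -/
structure DegOK : Prop where
  chart : ∀ y : Y, ∃ V : Y.Opens, y ∈ V ∧ IsChart π V
  dvd : ∀ V : Y.Opens, IsChart π V → ∀ y ∈ V, 0 < rk π V ∧ rk π V ∣ D
  pos : 0 < D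

variable (k) in
/-- The conditions under which the powers of the norms glue to a weak norm. -/
structure ChartOK : Prop where
  chart : ∀ y : Y, ∃ V : Y.Opens, y ∈ V ∧ IsChart π V
  pos : ∀ V : Y.Opens, IsChart π V → ∀ y ∈ V, k (rk π V) ≠ 0

variable (k) in
/-- On every open there is exactly one function restricting to the powers of the norms over the charts. -/
def HasVals : Prop :=
  ∀ (U : Y.Opens) (z : Γ(X, π ⁻¹ᵁ U)), ∃! b : Γ(Y, U), ∀ (V : Y.Opens) (h : V ≤ U), IsChart π V →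
    fres h b = nD π k V (fres (π.preimage_mono h) z)

variable {π}

theorem DegOK.chartOK (H : DegOK π D) : ChartOK π fun r => D / r :=
  ⟨H.chart, fun V hV y hy =>
    (Nat.div_pos (Nat.le_of_dvd H.pos (H.dvd V hV y hy).2) (H.dvd V hV y hy).1).ne'⟩

theorem ChartOK.hasVals (H : ChartOK π k) : HasVals π k := by
  intro U z
  choose W hW hWc using H.chart
  let V : U → Y.Opens := fun y => U ⊓ W y.1
  have hVc : ∀ y, IsChart π (V y) := fun y => (hWc y.1).mono π inf_le_right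
  have hcov : U ≤ iSup V := fun y hy => Opens.mem_iSup.2 ⟨⟨y, hy⟩, hy, hW y⟩
  let σ : ∀ y, Γ(Y, V y) := fun y => nD π k (V y) (fres (π.preimage_mono inf_le_left) z)
  have hσ : ∀ y y', fres (inf_le_left : V y ⊓ V y' ≤ V y) (σ y) =
      fres (inf_le_right : V y ⊓ V y' ≤ V y') (σ y') := fun y y' => by
    rw [nD_res π (hVc y), nD_res π (hVc y'), fres_fres, fres_fres]
  obtain ⟨b, hb, hu⟩ := TopCat.Sheaf.existsUnique_gluing' Y.sheaf V U (fun _ => homOfLE inf_le_left) hcov σ hσ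
  refine ⟨b, fun V' h hV' => ?_, fun b' hb' => hu b' fun y => hb' (V y) inf_le_left (hVc y)⟩
  refine TopCat.Sheaf.eq_of_locally_eq' Y.sheaf (fun y : U => V' ⊓ V y) V' (fun _ => homOfLE inf_le_left)
    (fun y hy => Opens.mem_iSup.2 ⟨⟨y, h hy⟩, hy, h hy, hW y⟩) _ _ fun y => ?_
  show fres inf_le_left (fres h b) = fres inf_le_left (nD π k V' (fres (π.preimage_mono h) z))
  rw [fres_fres, nD_res π hV', fres_fres, ← fres_fres inf_le_left (inf_le_right : V' ⊓ V y ≤ V y) b]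
  rw [show fres inf_le_left b = σ y from hb y, nD_res π (hVc y), fres_fres]

/-- The underlying function of the norm. -/
def HasVals.normFun (H : HasVals π k) (U : Y.Opens) (z : Γ(X, π ⁻¹ᵁ U)) : Γ(Y, U) :=
  (H U z).choose

theorem HasVals.normFun_spec (H : HasVals π k) {U : Y.Opens} (z : Γ(X, π ⁻¹ᵁ U)) {V : Y.Opens} (h : V ≤ U)
    (hV : IsChart π V) : fres h (H.normFun U z) = nD π k V (fres (π.preimage_mono h) z) :=
  (H U z).choose_spec.1 V h hV

theorem HasVals.eq_normFun (H : HasVals π k) {U : Y.Opens} (z : Γ(X, π ⁻¹ᵁ U)) (b : Γ(Y, U))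
    (hb : ∀ (V : Y.Opens) (h : V ≤ U), IsChart π V → fres h b = nD π k V (fres (π.preimage_mono h) z)) :
    b = H.normFun U z :=
  (H U z).choose_spec.2 b hb

theorem HasVals.basicOpen_normFun (H : HasVals π k) (hk' : ∀ V : Y.Opens, IsChart π V → ∀ y ∈ V, k (rk π V) ≠ 0)
    {U : Y.Opens} (z : Γ(X, π ⁻¹ᵁ U)) {x : X} {W : Y.Opens} (hW : π x ∈ W) (hWc : IsChart π W)
    (hx : π x ∈ Y.basicOpen (H.normFun U z)) : x ∈ X.basicOpen z := by
  set b := H.normFun U z
  let V : Y.Opens := W ⊓ Y.basicOpen b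
  have hV : V ≤ U := inf_le_right.trans (Y.basicOpen_le b)
  have hVc : IsChart π V := hWc.mono π inf_le_left
  have hk := hk' V hVc (π x) ⟨hW, hx⟩
  obtain ⟨n, s, hs⟩ := hVc
  have h1 : IsUnit (fres (Y.basicOpen_le b) b) := RingedSpace.isUnit_res_basicOpen _ b
  have h2 := h1.map (Y.presheaf.map (homOfLE (inf_le_right : V ≤ Y.basicOpen b)).op).hom
  rw [show (Y.presheaf.map (homOfLE (inf_le_right : V ≤ Y.basicOpen b)).op).hom (fres (Y.basicOpen_le b) b) =
    fres hV b from fres_fres _ _ b, H.normFun_spec z hV ⟨n, s, hs⟩] at h2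
  have h3 := hs.isUnit_of_isUnit_nrm π ((isUnit_pow_iff hk).1 h2)
  have h4 : π ⁻¹ᵁ V ⊓ X.basicOpen z = π ⁻¹ᵁ V :=
    (X.basicOpen_res z (homOfLE (π.preimage_mono hV)).op).symm.trans (Scheme.basicOpen_of_isUnit _ h3)
  exact (h4.ge (⟨hW, hx⟩ : x ∈ π ⁻¹ᵁ V)).2

/-- The determinant norm as a monoid homomorphism. -/
def HasVals.normHom (H : HasVals π k) (U : Y.Opens) : Γ(X, π ⁻¹ᵁ U) →* Γ(Y, U) where
  toFun := H.normFun U
  map_one' := (H.eq_normFun 1 1 fun V h _ => by simp [fres]).symm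
  map_mul' a b := (H.eq_normFun _ _ fun V h hV => by
    rw [show fres h (H.normFun U a * H.normFun U b) = fres h (H.normFun U a) * fres h (H.normFun U b) from map_mul _ _ _,
      H.normFun_spec a h hV, H.normFun_spec b h hV, ← map_mul]
    simp [fres]).symm

theorem HasVals.normHom_res (H : HasVals π k) {U V : Y.Opens} (h : V ≤ U) (s : Γ(X, π ⁻¹ᵁ U)) :
    fres h (H.normHom U s) = H.normHom V (fres (π.preimage_mono h) s) :=
  H.eq_normFun _ _ fun W hW hWc => by
    show fres hW (fres h (H.normFun U s)) = _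
    rw [fres_fres, fres_fres, H.normFun_spec s (hW.trans h) hWc]

theorem HasVals.normHom_app (H : HasVals π fun r => D / r)
    (hdvd : ∀ V : Y.Opens, IsChart π V → ∀ y ∈ V, 0 < rk π V ∧ rk π V ∣ D) (U : Y.Opens) (g : Γ(Y, U)) :
    H.normHom U (π.app U g) = g ^ D :=
  (H.eq_normFun _ _ fun V h hV => by
    obtain ⟨n, s, hs⟩ := hV
    rcases subsingleton_or (Y := Y) (V := V) with hss | ⟨y, hy⟩
    · exact Subsingleton.elim _ _
    have := nontrivial_of_mem hy
    show _ = nrm π V _ ^ (D / rk π V)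
    rw [← app_fres π h, hs.nrm_app π, fres, map_pow, ← pow_mul]
    have h1 := (hdvd V ⟨n, s, hs⟩ y hy).2
    rw [hs.rk_eq π] at h1 ⊢
    rw [Nat.mul_div_cancel' h1]).symm

/-- The norm at the points of charts. -/
theorem ChartOK.basicOpen_normFun (H : ChartOK π k) {U : Y.Opens} (z : Γ(X, π ⁻¹ᵁ U)) {x : X}
    (hx : π x ∈ Y.basicOpen (H.hasVals.normFun U z)) : x ∈ X.basicOpen z :=
  let ⟨_, hW, hWc⟩ := H.chart (π x)
  H.hasVals.basicOpen_normFun H.pos z hW hWc hx

/-- The glued powers of the norms, as a weak norm. -/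
def ChartOK.wnorm [Surjective π] (H : ChartOK π k) : WNorm π where
  norm := H.hasVals.normHom
  norm_res := H.hasVals.normHom_res
  norm_fibre U s y hy := by
    obtain ⟨x, rfl⟩ := π.surjective y
    exact ⟨x, H.basicOpen_normFun s hy, rfl⟩

/-- The determinant norm. -/
def DegOK.fnorm [Surjective π] (H : DegOK π D) : FNorm π D where
  toWNorm := H.chartOK.wnorm
  one_le := H.pos
  norm_app := H.chartOK.hasVals.normHom_app H.dvd

end Glue

theorem NatBasis.pos [Surjective π] {V : Y.Opens} {n : ℕ} {s : Fin n → Γ(X, π ⁻¹ᵁ V)}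
    (hs : NatBasis π s) {y : Y} (hy : y ∈ V) : 0 < n := by
  by_contra h
  obtain rfl : n = 0 := by omega
  obtain ⟨x, rfl⟩ := π.surjective y
  have : Nontrivial Γ(X, π ⁻¹ᵁ V) := (X.presheaf.germ (π ⁻¹ᵁ V) x hy).hom.domain_nontrivial
  obtain ⟨a, b, hab⟩ := exists_pair_ne Γ(X, π ⁻¹ᵁ V)
  obtain ⟨a', ha'⟩ := (hs V le_rfl).2 a
  obtain ⟨b', hb'⟩ := (hs V le_rfl).2 b
  simp at ha' hb'
  exact hab (ha'.symm.trans hb')

theorem exists_chartOK [Surjective π] (hc : ∀ y : Y, ∃ V : Y.Opens, y ∈ V ∧ IsChart π V) :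
    ChartOK π fun _ => 1 :=
  ⟨hc, fun _ _ _ _ => one_ne_zero⟩

theorem exists_degOK [CompactSpace Y] [Surjective π] (hc : ∀ y : Y, ∃ V : Y.Opens, y ∈ V ∧ IsChart π V) :
    ∃ D, DegOK π D := by
  classical
  choose V hV hVc using hc
  choose n s hs using hVc
  obtain ⟨t, ht⟩ := isCompact_univ.elim_finite_subcover (fun y => (V y : Set Y)) (fun y => (V y).2)
    (fun y _ => Set.mem_iUnion.2 ⟨y, hV y⟩)
  refine ⟨∏ y ∈ t, n y, fun y => ⟨V y, hV y, n y, s y, hs y⟩, fun W hW y hy => ?_,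
    Finset.prod_pos fun y _ => (hs y).pos π (hV y)⟩
  obtain ⟨m, w, hw⟩ := hW
  obtain ⟨y₀, hy₀, hyV⟩ := Set.mem_iUnion₂.1 (ht (Set.mem_univ y))
  have := nontrivial_of_mem hy
  have := nontrivial_of_mem (show y ∈ W ⊓ V y₀ from ⟨hy, hyV⟩)
  have h1 : m = n y₀ := ((hw.res π (inf_le_left : W ⊓ V y₀ ≤ W)).rk_eq π).symm.trans
    (((hs y₀).res π (inf_le_right : W ⊓ V y₀ ≤ V y₀)).rk_eq π)
  rw [hw.rk_eq π]
  exact ⟨hw.pos π hy, h1 ▸ Finset.dvd_prod_of_mem _ hy₀⟩

/-- Charts from a locally free direct image. -/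
theorem exists_isChart_of_isFinLocFree
    (h : FlatMod.IsFinLocFree ((Coh.push π).obj (Coh.structureModule X))) (y : Y) :
    ∃ V : Y.Opens, y ∈ V ∧ IsChart π V := by
  obtain ⟨V, n, s, hy, hs⟩ := Props58.LocFree.isFinLocFree_iff.1 h y
  exact ⟨V, hy, n, s, fun W hW => hs.bijective hW⟩

/-- Charts pass to restrictions over opens. -/
theorem IsChart.morphismRestrict {W : Y.Opens} {V : W.toScheme.Opens} (h : IsChart π (W.ι ''ᵁ V)) :
    IsChart (π ∣_ W) V := by
  obtain ⟨n, s, hs⟩ := h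
  let s' : Fin n → Γ((π ⁻¹ᵁ W).toScheme, (π ∣_ W) ⁻¹ᵁ V) := fun i =>
    (X.presheaf.map (homOfLE (image_morphismRestrict_preimage π W V).le).op).hom (s i)
  refine ⟨n, s', fun V' h' => ?_⟩
  let e : Γ(X, π ⁻¹ᵁ (W.ι ''ᵁ V')) →+* Γ((π ⁻¹ᵁ W).toScheme, (π ∣_ W) ⁻¹ᵁ V') :=
    (X.presheaf.map (homOfLE (image_morphismRestrict_preimage π W V').le).op).hom
  have he : Function.Bijective e := by
    have : IsIso (homOfLE (image_morphismRestrict_preimage π W V').le) := by
      rw [Subsingleton.elim (homOfLE _) (eqToHom (image_morphismRestrict_preimage π W V'))]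
      infer_instance
    exact ConcreteCategory.bijective_of_isIso _
  show Function.Bijective fun a : Fin n → Γ(Y, W.ι ''ᵁ V') =>
    ∑ i, (π ∣_ W).app V' (a i) * fres ((π ∣_ W).preimage_mono h') (s' i)
  have hfun : (fun a : Fin n → Γ(Y, W.ι ''ᵁ V') =>
      ∑ i, (π ∣_ W).app V' (a i) * fres ((π ∣_ W).preimage_mono h') (s' i)) =
      e ∘ fun a : Fin n → Γ(Y, W.ι ''ᵁ V') =>
        ∑ i, π.app (W.ι ''ᵁ V') (a i) * fres (π.preimage_mono (W.ι.image_mono h')) (s i) := by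
    funext a
    show _ = e _
    rw [map_sum]
    refine Finset.sum_congr rfl fun i _ => ?_
    rw [map_mul, morphismRestrict_app]
    congr 1
    show fres (X := X) ((π ⁻¹ᵁ W).ι.image_mono ((π ∣_ W).preimage_mono h'))
        (fres (X := X) (image_morphismRestrict_preimage π W V).le (s i)) =
      fres (X := X) (image_morphismRestrict_preimage π W V').le
        (fres (X := X) (π.preimage_mono (W.ι.image_mono h')) (s i))
    rw [fres_fres, fres_fres]
  rw [hfun]
  exact he.comp (hs (W.ι ''ᵁ V') (W.ι.image_mono h'))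

theorem exists_isChart_morphismRestrict (hc : ∀ y : Y, ∃ V : Y.Opens, y ∈ V ∧ IsChart π V) (W : Y.Opens)
    (y : W.toScheme) : ∃ V : W.toScheme.Opens, y ∈ V ∧ IsChart (π ∣_ W) V := by
  obtain ⟨V, hy, hV⟩ := hc (W.ι y)
  exact ⟨W.ι ⁻¹ᵁ V, hy, IsChart.morphismRestrict π (hV.mono π (W.ι.image_preimage_le V))⟩

end Groth.Agent.EGA73
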