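import Mathlib.RingTheory.GradedAlgebra.Homogeneous.Ideal
import Mathlib.RingTheory.GradedAlgebra.RingHom

/-!
The image of a grading under a surjection with homogeneous kernel.
-/

set_option autoImplicit false

universe u

open DirectSum

noncomputable section

namespace Groth.Agent.EGA73.GradedImage

variable {A B σ : Type u} [CommRing A] [CommRing B] [SetLike σ A] [AddSubgroupClass σ A]
  (𝒜 : ℕ → σ) [GradedRing 𝒜] (q : A →+* B)

/-- The image pieces. -/
def deg (n : ℕ) : AddSubgroup B :=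
  (q.toAddMonoidHom.comp (AddMonoidHom.mk' (fun a : 𝒜 n => (a : A)) fun _ _ => rfl)).range

omit [GradedRing 𝒜] in
theorem mem_deg {n : ℕ} {b : B} : b ∈ deg 𝒜 q n ↔ ∃ a ∈ 𝒜 n, q a = b :=
  ⟨fun ⟨a, h⟩ => ⟨a, a.2, h⟩, fun ⟨a, ha, h⟩ => ⟨⟨a, ha⟩, h⟩⟩

theorem map_mem_deg {n : ℕ} {a : A} (ha : a ∈ 𝒜 n) : q a ∈ deg 𝒜 q n := (mem_deg 𝒜 q).2 ⟨a, ha, rfl⟩

variable (hq : Function.Surjective q) (hker : ∀ a, q a = 0 → ∀ n, q (decompose 𝒜 a n : A) = 0)
include hq hker

theorem isInternal : DirectSum.IsInternal (deg 𝒜 q) := by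
  classical
  constructor
  · refine (injective_iff_map_eq_zero _).2 fun z hz => DFinsupp.ext fun n => Subtype.ext ?_
    have hz' : ∀ k, ∃ a ∈ 𝒜 k, q a = (z k : B) := fun k => (mem_deg 𝒜 q).1 (z k).2
    choose a ha hqa using hz'
    have hsum : q (∑ k ∈ z.support, a k) = 0 := by
      rw [map_sum, Finset.sum_congr rfl fun k _ => hqa k, ← hz]
      conv_rhs => rw [← DirectSum.sum_support_of z]
      simp only [map_sum, DirectSum.coeAddMonoidHom_of]
    by_cases hn : n ∈ z.support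
    · have := hker _ hsum n
      rw [DirectSum.decompose_sum, DFinsupp.finsetSum_apply, AddSubmonoidClass.coe_finsetSum,
        Finset.sum_eq_single n (fun k _ hk => decompose_of_mem_ne 𝒜 (ha k) hk) fun h => absurd hn h,
        decompose_of_mem_same 𝒜 (ha n), hqa] at this
      exact this
    · rw [DFinsupp.notMem_support_iff.1 hn]
      rfl
  · intro b
    obtain ⟨a, rfl⟩ := hq b
    refine ⟨∑ k ∈ (decompose 𝒜 a).support, DirectSum.of (fun n => deg 𝒜 q n) k
      ⟨q (decompose 𝒜 a k : A), map_mem_deg 𝒜 q (SetLike.coe_mem _)⟩, ?_⟩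
    simp only [map_sum, DirectSum.coeAddMonoidHom_of]
    rw [← map_sum, DirectSum.sum_support_decompose]

/-- The graded image. -/
@[instance_reducible]
def gradedRing : GradedRing (deg 𝒜 q) where
  toGradedMonoid :=
    { one_mem := (mem_deg 𝒜 q).2 ⟨1, SetLike.one_mem_graded _, map_one q⟩
      mul_mem := fun {_ _ _ _} hx hy => by
        obtain ⟨a, ha, rfl⟩ := (mem_deg 𝒜 q).1 hx
        obtain ⟨b, hb, rfl⟩ := (mem_deg 𝒜 q).1 hy
        exact (mem_deg 𝒜 q).2 ⟨a * b, SetLike.mul_mem_graded ha hb, map_mul q a b⟩ }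
  toDecomposition := (isInternal 𝒜 q hq hker).chooseDecomposition

end Groth.Agent.EGA73.GradedImage

end
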