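import Groth.Agent.EGA73.GrFr
import Groth.Agent.EGAProj74.RelFiniteType
import Groth.Agent.EGA73.GradedImage
import Groth.Agent.EGA73.GrAlgGlue
import Groth.Agent.EGAProj74.AlgExtend

/-!
The ideal of a closed subscheme of a relative Proj and the quotient algebra.
-/

set_option autoImplicit false
set_option backward.isDefEq.respectTransparency.types false

universe u

open CategoryTheory CategoryTheory.Limits AlgebraicGeometry TopologicalSpace Opposite
open scoped HomogeneousIdeal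

noncomputable section

namespace Groth.Agent.EGA73.RelVanish

open Var76.ZeroScheme EGAProj74 GrFr

variable {S P Z : Scheme.{u}} {𝒮 : RelProj.QCGrAlg S} {p : P ⟶ S}
  {chart : ∀ (U : S.Opens) (hU : IsAffineOpen U), (((p ⁻¹ᵁ U : P.Opens) : Scheme.{u}) ≅ Proj (𝒮.deg U hU))}
  (hgen : 𝒮.IsGenDegOne) (hft : 𝒮.IsFTDeg 1) (hP : RelProj.IsRelProj 𝒮 p chart)
  (i : Z ⟶ P)

theorem app_fres {V W : P.Opens} (h : W ≤ V) (x : Γ(P, V)) :
    i.app W (fres h x) = fres (i.preimage_mono h) (i.app V x) :=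
  ConcreteCategory.congr_hom (i.naturality (homOfLE h).op) x

variable (chart) in
/-- `a / t ^ n` vanishes on `Z`. -/
def Van {U : S.Opens} (hU : IsAffineOpen U) {t : 𝒮.presheaf.obj (op U)} (ht : t ∈ 𝒮.deg U hU 1) {n : ℕ}
    {a : 𝒮.presheaf.obj (op U)} (ha : a ∈ 𝒮.deg U hU n) : Prop :=
  i.app (dOpen chart hU t) (sec chart hU ht ha) = 0

/-- Vanishing is checked on any covering family of charts. -/
theorem van_of_cover {U : S.Opens} (hU : IsAffineOpen U) (G : Set (𝒮.presheaf.obj (op U)))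
    (hG : ∀ g ∈ G, g ∈ 𝒮.deg U hU 1)
    (hcov : ∀ y : Proj (𝒮.deg U hU), ∃ g ∈ G, y ∈ Proj.basicOpen (𝒮.deg U hU) g)
    {n : ℕ} {a : 𝒮.presheaf.obj (op U)} (ha : a ∈ 𝒮.deg U hU n)
    (hv : ∀ g (hg : g ∈ G), Van chart i hU (hG g hg) ha)
    {t : 𝒮.presheaf.obj (op U)} (ht : t ∈ 𝒮.deg U hU 1) : Van chart i hU ht ha := by
  let e := RelProj.emb p chart U hU
  let D := fun g : G => Proj.basicOpen (𝒮.deg U hU) t ⊓ Proj.basicOpen (𝒮.deg U hU) (g : 𝒮.presheaf.obj (op U))
  refine TopCat.Sheaf.eq_of_locally_eq' Z.sheaf (fun g : G => i ⁻¹ᵁ (e ''ᵁ D g)) _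
    (fun g => homOfLE (i.preimage_mono (e.image_mono (inf_le_left : D g ≤ _)))) (fun z hz => ?_) _ _ fun g => ?_
  · obtain ⟨y, hy, hyz⟩ := hz
    obtain ⟨g, hg, hyg⟩ := hcov y
    exact Opens.mem_iSup.2 ⟨⟨g, hg⟩, ⟨y, ⟨hy, hyg⟩, hyz⟩⟩
  · show fres (i.preimage_mono (e.image_mono (inf_le_left : D g ≤ _))) (i.app (dOpen chart hU t) (sec chart hU ht ha)) =
      fres (i.preimage_mono (e.image_mono (inf_le_left : D g ≤ _))) 0
    rw [← app_fres, sec_res hU (hG g g.2) ht ha (inf_le_right : D g ≤ _) inf_le_left, map_mul,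
      app_fres i (e.image_mono inf_le_right) (sec chart hU (hG g g.2) ha)]
    · have h0 : i.app (dOpen chart hU (g : 𝒮.presheaf.obj (op U))) (sec chart hU (hG g g.2) ha) = 0 := hv g.1 g.2
      rw [h0]
      simp [fres]
    all_goals exact e.image_mono inf_le_left

include hgen in
theorem cover_of_gen {U : S.Opens} (hU : IsAffineOpen U) (T : Finset (𝒮.presheaf.obj (op U)))
    (hT : (↑T : Set (𝒮.presheaf.obj (op U))) ⊆ (𝒮.deg U hU 1 : Set _))
    (hspan : ∀ x ∈ 𝒮.deg U hU 1, ∃ c : 𝒮.presheaf.obj (op U) → Γ(S, U),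
      x = ∑ t ∈ T, (𝒮.str.app (op U)).hom (c t) * t)
    {V : S.Opens} (hV : IsAffineOpen V) (h : V ≤ U) (y : Proj (𝒮.deg V hV)) :
    ∃ g ∈ (𝒮.res hU hV h) '' (↑T : Set (𝒮.presheaf.obj (op U))), y ∈ Proj.basicOpen (𝒮.deg V hV) g := by
  by_contra H
  push Not at H
  refine ProjectiveSpectrum.not_irrelevant_le y ((irrelevant_le_map_res 𝒮 hU hV h).trans ?_)
  refine Ideal.map_le_iff_le_comap.2 ((irrelevant_le_span_finset (hgen U hU) (𝒮.strZero U hU).hom T hspan).trans
    (Ideal.span_le.2 fun t ht => ?_))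
  exact not_not.1 (H _ ⟨t, ht, rfl⟩)

variable (chart) in
/-- The homogeneous elements vanishing on `Z`, componentwise. -/
def ideal {U : S.Opens} (hU : IsAffineOpen U) : Ideal (𝒮.presheaf.obj (op U)) where
  carrier := {a | ∀ (t : 𝒮.presheaf.obj (op U)) (ht : t ∈ 𝒮.deg U hU 1) (n : ℕ),
    Van chart i hU ht (SetLike.coe_mem (DirectSum.decompose (𝒮.deg U hU) a n))}
  zero_mem' := fun t ht n => by
    unfold Van
    rw [sec_congr hU ht _ (zero_mem (𝒮.deg U hU n)) rfl (by rw [DirectSum.decompose_zero]; rfl), sec_zero,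
      map_zero]
  add_mem' := fun {a b} ha hb t ht n => by
    unfold Van
    rw [sec_congr hU ht _ (add_mem (SetLike.coe_mem (DirectSum.decompose (𝒮.deg U hU) a n))
      (SetLike.coe_mem (DirectSum.decompose (𝒮.deg U hU) b n))) rfl (by rw [DirectSum.decompose_add]; rfl),
      sec_add hU ht (SetLike.coe_mem _) (SetLike.coe_mem _), map_add, ha t ht n, hb t ht n, add_zero]
  smul_mem' := fun b a ha => by
    classical
    induction b using DirectSum.Decomposition.inductionOn (𝒮.deg U hU) with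
    | zero =>
      intro t ht n
      unfold Van
      rw [sec_congr hU ht _ (zero_mem (𝒮.deg U hU n)) rfl (by rw [zero_smul, DirectSum.decompose_zero]; rfl),
        sec_zero, map_zero]
    | homogeneous b =>
      rename_i j
      intro t ht n
      unfold Van
      by_cases hjn : j ≤ n
      · rw [sec_congr hU ht _
          (SetLike.mul_mem_graded b.2 (SetLike.coe_mem (DirectSum.decompose (𝒮.deg U hU) a (n - j))))
          (Nat.add_sub_cancel' hjn).symm
          (DirectSum.coe_decompose_mul_of_left_mem_of_le (𝒮.deg U hU) b.2 hjn),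
          sec_mul hU ht b.2 (SetLike.coe_mem _), map_mul,
          ha t ht (n - j), mul_zero]
      · rw [sec_congr hU ht _ (zero_mem (𝒮.deg U hU n)) rfl
          (DirectSum.coe_decompose_mul_of_left_mem_of_not_le (𝒮.deg U hU) b.2 hjn), sec_zero, map_zero]
    | add b c hb hc =>
      intro t ht n
      unfold Van
      rw [sec_congr hU ht _ (add_mem (SetLike.coe_mem (DirectSum.decompose (𝒮.deg U hU) (b • a) n))
        (SetLike.coe_mem (DirectSum.decompose (𝒮.deg U hU) (c • a) n))) rfl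
        (by rw [add_smul, DirectSum.decompose_add]; rfl), sec_add hU ht (SetLike.coe_mem _) (SetLike.coe_mem _),
        map_add, hb t ht n, hc t ht n, add_zero]

theorem decompose_mem_ideal {U : S.Opens} (hU : IsAffineOpen U) {a : 𝒮.presheaf.obj (op U)}
    (ha : a ∈ ideal chart i hU) (n : ℕ) :
    (DirectSum.decompose (𝒮.deg U hU) a n : 𝒮.presheaf.obj (op U)) ∈ ideal chart i hU := by
  intro t ht m
  unfold Van
  by_cases hnm : n = m
  · subst hnm
    rw [sec_congr hU ht _ (SetLike.coe_mem _) rfl (DirectSum.decompose_of_mem_same _ (SetLike.coe_mem _))]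
    exact ha t ht n
  · rw [sec_congr hU ht _ (zero_mem (𝒮.deg U hU m)) rfl (DirectSum.decompose_of_mem_ne _ (SetLike.coe_mem _) hnm),
      sec_zero, map_zero]

theorem mem_ideal_iff {U : S.Opens} (hU : IsAffineOpen U) {n : ℕ} {a : 𝒮.presheaf.obj (op U)}
    (ha : a ∈ 𝒮.deg U hU n) :
    a ∈ ideal chart i hU ↔ ∀ (t : 𝒮.presheaf.obj (op U)) (ht : t ∈ 𝒮.deg U hU 1), Van chart i hU ht ha := by
  constructor
  · intro h t ht
    unfold Van
    rw [← sec_congr hU ht (SetLike.coe_mem _) ha rfl (DirectSum.decompose_of_mem_same _ ha)]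
    exact h t ht n
  · intro h t ht m
    unfold Van
    by_cases hnm : n = m
    · subst hnm
      rw [sec_congr hU ht _ ha rfl (DirectSum.decompose_of_mem_same _ ha)]
      exact h t ht
    · rw [sec_congr hU ht _ (zero_mem (𝒮.deg U hU m)) rfl (DirectSum.decompose_of_mem_ne _ ha hnm), sec_zero, map_zero]

include hgen hft hP in
theorem res_mem_ideal {U V : S.Opens} (hU : IsAffineOpen U) (hV : IsAffineOpen V) (h : V ≤ U)
    {a : 𝒮.presheaf.obj (op U)} (ha : a ∈ ideal chart i hU) : 𝒮.res hU hV h a ∈ ideal chart i hV := by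
  classical
  rw [← DirectSum.sum_support_decompose (𝒮.deg U hU) a, map_sum]
  refine sum_mem fun n _ => (mem_ideal_iff i hV ((𝒮.res hU hV h).map_mem (SetLike.coe_mem _))).2 fun t ht => ?_
  obtain ⟨T, hT, hspan⟩ := hft U hU
  refine van_of_cover i hV ((𝒮.res hU hV h) '' (↑T : Set (𝒮.presheaf.obj (op U))))
    (by rintro _ ⟨g, hg, rfl⟩; exact (𝒮.res hU hV h).map_mem (hT hg)) (cover_of_gen hgen hU T hT hspan hV h) _ ?_ ht
  rintro _ ⟨g, hg, rfl⟩
  unfold Van
  rw [← sec_restrict hP hU hV h (hT hg) (SetLike.coe_mem _), app_fres,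
    show i.app _ (sec chart hU (hT hg) _) = 0 from ha g (hT hg) n]
  exact map_zero (Z.presheaf.map _).hom

include hgen hft hP in
theorem exists_pow_mul_mem_of_homogeneous [IsAffineHom i] {U : S.Opens} (hU : IsAffineOpen U) (r : Γ(S, U))
    {n : ℕ} {a : 𝒮.presheaf.obj (op U)} (ha : a ∈ 𝒮.deg U hU n)
    (h : 𝒮.res hU (hU.basicOpen r) (S.basicOpen_le r) a ∈ ideal chart i (hU.basicOpen r)) :
    ∃ K : ℕ, (𝒮.str.app (op U)).hom r ^ K * a ∈ ideal chart i hU := by
  classical
  obtain ⟨T, hT, hspan⟩ := hft U hU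
  have hc : ∀ K : ℕ, (𝒮.str.app (op U)).hom r ^ K ∈ 𝒮.deg U hU 0 := fun K => by
    simpa using SetLike.pow_mem_graded K (𝒮.str_mem U hU r)
  have hK : ∀ g : T, ∃ K : ℕ,
      i.app (dOpen chart hU (g : 𝒮.presheaf.obj (op U))) (sec chart hU (hT g.2) (hc K)) *
        i.app (dOpen chart hU (g : 𝒮.presheaf.obj (op U))) (sec chart hU (hT g.2) ha) = 0 := by
    intro g
    let O := dOpen chart hU (g : 𝒮.presheaf.obj (op U))
    let ρ := p.appLE U O (dOpen_le hU _) r
    have hO : IsAffineOpen (i ⁻¹ᵁ O) := (isAffineOpen_dOpen hU (hT g.2)).preimage i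
    have := hO.isLocalization_basicOpen (i.app O ρ)
    have hb : P.basicOpen ρ = dOpen chart (hU.basicOpen r) (𝒮.res hU (hU.basicOpen r) (S.basicOpen_le r) g) := by
      rw [dOpen_res hP, Scheme.preimage_basicOpen]
      show P.basicOpen (P.presheaf.map _ (p.app U r)) = _
      rw [Scheme.basicOpen_res]
    have hle : Z.basicOpen (i.app O ρ) ≤
        i ⁻¹ᵁ dOpen chart (hU.basicOpen r) (𝒮.res hU (hU.basicOpen r) (S.basicOpen_le r) g) :=
      ((i.preimage_basicOpen ρ).symm.trans (congrArg (i ⁻¹ᵁ ·) hb)).le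
    have hz : fres (Z.basicOpen_le (i.app O ρ)) (i.app O (sec chart hU (hT g.2) ha)) = 0 := by
      have h1 := (mem_ideal_iff i (hU.basicOpen r) ((𝒮.res hU (hU.basicOpen r) (S.basicOpen_le r)).map_mem ha)).1 h _
        ((𝒮.res hU (hU.basicOpen r) (S.basicOpen_le r)).map_mem (hT g.2))
      unfold Van at h1
      rw [← sec_restrict hP hU (hU.basicOpen r) (S.basicOpen_le r) (hT g.2) ha, app_fres] at h1
      have h2 := congrArg (fres hle) h1
      rw [fres_fres, show fres hle (0 : Γ(Z, _)) = 0 from map_zero (Z.presheaf.map _).hom] at h2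
      exact h2
    obtain ⟨⟨_, K, rfl⟩, hK⟩ := (IsLocalization.map_eq_zero_iff (Submonoid.powers (i.app O ρ))
      Γ(Z, Z.basicOpen (i.app O ρ)) _).1 hz
    refine ⟨K, ?_⟩
    have hρ : sec chart hU (hT g.2) (hc K) = ρ ^ K := by
      clear hK hz
      induction K with
      | zero =>
        rw [pow_zero ρ]
        have h0 : (g : 𝒮.presheaf.obj (op U)) ^ 0 ∈ 𝒮.deg U hU 0 := by rw [pow_zero]; exact SetLike.one_mem_graded _
        exact (sec_congr hU (hT g.2) (hc 0) h0 rfl ((pow_zero _).trans (pow_zero _).symm)).trans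
          (sec_pow_self hU (hT g.2) 0 h0)
      | succ K ih =>
        refine (sec_congr hU (hT g.2) (hc (K + 1)) (SetLike.mul_mem_graded (hc K) (𝒮.str_mem U hU r)) rfl
          (pow_succ _ _)).trans ?_
        rw [sec_mul hU (hT g.2) (hc K) (𝒮.str_mem U hU r), ih, pow_succ ρ,
          show ρ = sec chart hU (hT g.2) (𝒮.str_mem U hU r) from fres_str hP hU (hT g.2) r]
    rw [hρ, map_pow]
    exact hK
  choose K hK using hK
  let K₀ := Finset.univ.sup K
  have hmem : (𝒮.str.app (op U)).hom r ^ K₀ * a ∈ 𝒮.deg U hU n := by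
    simpa using SetLike.mul_mem_graded (hc K₀) ha
  refine ⟨K₀, (mem_ideal_iff i hU hmem).2 fun t ht => ?_⟩
  refine van_of_cover i hU (↑T : Set (𝒮.presheaf.obj (op U))) hT (fun y => ?_) hmem (fun g hg => ?_) ht
  · obtain ⟨g', ⟨g, hg, rfl⟩, hy⟩ := cover_of_gen hgen hU T hT hspan hU le_rfl y
    exact ⟨g, hg, by simpa [RelProj.QCGrAlg.res_apply] using hy⟩
  · have hle : K ⟨g, hg⟩ ≤ K₀ := Finset.le_sup (f := K) (Finset.mem_univ (⟨g, hg⟩ : T))
    have e1 : sec chart hU (hT hg) hmem =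
        sec chart hU (hT hg) (hc (K₀ - K ⟨g, hg⟩)) *
          (sec chart hU (hT hg) (hc (K ⟨g, hg⟩)) * sec chart hU (hT hg) ha) := by
      rw [← mul_assoc, ← sec_mul, ← sec_mul]
      refine sec_congr hU (hT hg) _ _ (by simp) ?_
      rw [← pow_add, Nat.sub_add_cancel hle]
    unfold Van
    rw [e1, map_mul, map_mul, hK ⟨g, hg⟩, mul_zero]

include hgen hft hP in
theorem exists_pow_mul_mem [IsAffineHom i] {U : S.Opens} (hU : IsAffineOpen U) (r : Γ(S, U))
    {a : 𝒮.presheaf.obj (op U)}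
    (h : 𝒮.res hU (hU.basicOpen r) (S.basicOpen_le r) a ∈ ideal chart i (hU.basicOpen r)) :
    ∃ K : ℕ, (𝒮.str.app (op U)).hom r ^ K * a ∈ ideal chart i hU := by
  classical
  have h' : ∀ n, ∃ K : ℕ, (𝒮.str.app (op U)).hom r ^ K * (DirectSum.decompose (𝒮.deg U hU) a n : 𝒮.presheaf.obj (op U)) ∈
      ideal chart i hU := fun n => by
    refine exists_pow_mul_mem_of_homogeneous hgen hft hP i hU r (SetLike.coe_mem _) ?_
    rw [GradedRingHom.map_directSumDecompose]
    exact decompose_mem_ideal i _ h n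
  choose K hK using h'
  refine ⟨(DirectSum.decompose (𝒮.deg U hU) a).support.sup K, ?_⟩
  conv => arg 2; arg 2; rw [← DirectSum.sum_support_decompose (𝒮.deg U hU) a]
  rw [Finset.mul_sum]
  refine sum_mem fun n hn => ?_
  rw [← Nat.sub_add_cancel (Finset.le_sup (f := K) hn), pow_add, mul_assoc]
  exact Ideal.mul_mem_left _ _ (hK n)

variable (chart) [IsAffineHom i]

include hgen hft hP in
theorem exists_quotient : ∃ (A' : RelSpec.QCAlg S) (φ : 𝒮.toQCAlg ⟶ A'),
    ∀ (U : S.Opens) (hU : IsAffineOpen U), Function.Surjective (φ.hom.app (op U)).hom ∧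
      ∀ a, (φ.hom.app (op U)).hom a = 0 ↔ a ∈ ideal chart i hU := by
  let F : S.AffineZariskiSiteᵒᵖ ⥤ CommRingCat.{u} :=
    { obj := fun U => CommRingCat.of (𝒮.presheaf.obj (op U.unop.1) ⧸ ideal chart i U.unop.2)
      map := fun {U V} f => CommRingCat.ofHom (Ideal.quotientMap (ideal chart i V.unop.2)
        (𝒮.presheaf.map (homOfLE (Scheme.AffineZariskiSite.toOpens_mono f.unop.le)).op).hom
        fun a ha => res_mem_ideal hgen hft hP i U.unop.2 V.unop.2 _ ha)
      map_id := fun U => by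
        refine CommRingCat.hom_ext (Ideal.Quotient.ringHom_ext (RingHom.ext fun a => ?_))
        exact congrArg (Ideal.Quotient.mk _) (ares_self 𝒮.toQCAlg a)
      map_comp := fun {U V W} f g => by
        refine CommRingCat.hom_ext (Ideal.Quotient.ringHom_ext (RingHom.ext fun a => ?_))
        exact congrArg (Ideal.Quotient.mk _) (ares_ares 𝒮.toQCAlg _ _ a).symm }
  let α : (Scheme.AffineZariskiSite.toOpensFunctor S).op ⋙ S.presheaf ⟶ F :=
    { app := fun U => 𝒮.str.app (op U.unop.1) ≫ CommRingCat.ofHom (Ideal.Quotient.mk (ideal chart i U.unop.2))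
      naturality := fun U V f => by
        ext r
        exact congrArg (Ideal.Quotient.mk _) (ares_str 𝒮.toQCAlg
          (Scheme.AffineZariskiSite.toOpens_mono f.unop.le) r).symm }
  have hα : α.Coequifibered := by
    refine Scheme.AffineZariskiSite.coequifibered_iff_forall_isLocalizationAway.mpr fun ⟨U, hU⟩ r => ?_
    let inst := (𝒮.presheaf.map (homOfLE (S.basicOpen_le r)).op).hom.toAlgebra
    have hloc : IsLocalization.Away ((𝒮.str.app (op U)).hom r) (𝒮.presheaf.obj (op (S.basicOpen r))) := 𝒮.isQC U hU r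
    let c := (𝒮.str.app (op U)).hom r
    let q := Ideal.Quotient.mk (ideal chart i hU)
    let q' := Ideal.Quotient.mk (ideal chart i (hU.basicOpen r))
    let res := (𝒮.presheaf.map (homOfLE (S.basicOpen_le r)).op).hom
    let inst2 : Algebra (𝒮.presheaf.obj (op U) ⧸ ideal chart i hU)
        (𝒮.presheaf.obj (op (S.basicOpen r)) ⧸ ideal chart i (hU.basicOpen r)) :=
      (F.map (homOfLE (Scheme.AffineZariskiSite.basicOpen_le ⟨U, hU⟩ r)).op).hom.toAlgebra
    show IsLocalization.Away (q c) (𝒮.presheaf.obj (op (S.basicOpen r)) ⧸ ideal chart i (hU.basicOpen r))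
    have halg : ∀ a, algebraMap (𝒮.presheaf.obj (op U) ⧸ ideal chart i hU)
        (𝒮.presheaf.obj (op (S.basicOpen r)) ⧸ ideal chart i (hU.basicOpen r)) (q a) = q' (res a) := fun a => rfl
    refine (isLocalization_iff ..).mpr ⟨?_, ?_, ?_⟩
    · rintro ⟨_, k, rfl⟩
      rw [map_pow]
      refine IsUnit.pow k ?_
      rw [halg]
      exact (IsLocalization.map_units (M := Submonoid.powers c) (𝒮.presheaf.obj (op (S.basicOpen r)))
        ⟨c, 1, pow_one c⟩).map q'
    · intro z
      obtain ⟨y, rfl⟩ := Ideal.Quotient.mk_surjective z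
      obtain ⟨⟨x, ⟨_, k, rfl⟩⟩, hx⟩ := IsLocalization.surj (Submonoid.powers c) y
      refine ⟨⟨q x, ⟨q c ^ k, k, rfl⟩⟩, ?_⟩
      show q' y * algebraMap _ _ (q c ^ k) = algebraMap _ _ (q x)
      rw [← map_pow, halg, halg, ← map_mul]
      exact congrArg q' hx
    · intro z z' hzz'
      obtain ⟨x, rfl⟩ := Ideal.Quotient.mk_surjective z
      obtain ⟨y, rfl⟩ := Ideal.Quotient.mk_surjective z'
      rw [halg, halg, Ideal.Quotient.eq, ← map_sub] at hzz'
      obtain ⟨K, hK⟩ := exists_pow_mul_mem hgen hft hP i hU r hzz'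
      refine ⟨⟨q c ^ K, K, rfl⟩, ?_⟩
      show q c ^ K * q x = q c ^ K * q y
      rw [← map_pow, ← map_mul, ← map_mul, Ideal.Quotient.eq, ← mul_sub]
      exact hK
  let D : AffAlgData S := ⟨F, α, hα⟩
  obtain ⟨φ, hφ, -⟩ := existsUnique_algHom (A := 𝒮.toQCAlg) (B := D.alg)
    (fun U => CommRingCat.ofHom (Ideal.Quotient.mk (ideal chart i U.2)) ≫ @inv _ _ _ _ (D.gamma U) (D.isIso_gamma U))
    (fun {U V} f => by
      rw [← cancel_mono (D.gamma V), Category.assoc, Category.assoc, IsIso.inv_hom_id, Category.comp_id]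
      erw [Category.assoc, D.gamma_res f, Category.assoc, IsIso.inv_hom_id_assoc]
      rfl)
    (fun U => by
      rw [← cancel_mono (D.gamma U), Category.assoc, Category.assoc, IsIso.inv_hom_id, Category.comp_id,
        D.str_gamma]
      rfl)
  refine ⟨D.alg, φ, fun U hU => ?_⟩
  have e := hφ ⟨U, hU⟩
  have hb : Function.Bijective (inv (D.gamma ⟨U, hU⟩)).hom :=
    ConcreteCategory.bijective_of_isIso (inv (D.gamma ⟨U, hU⟩))
  rw [e]
  exact ⟨hb.2.comp Ideal.Quotient.mk_surjective, fun a =>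
    ((map_eq_zero_iff _ hb.1).trans Ideal.Quotient.eq_zero_iff_mem : _)⟩

end Groth.Agent.EGA73.RelVanish

end
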