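import Groth.Agent.EGA73.NormAmple
import Groth.Agent.EGA73.LineCocycle
import Groth.Agent.Amp73.SemilocalFree
import Groth.Agent.Amp73.QA

/-!
The norm of an invertible module along a finite morphism carrying a norm, and ampleness of the norm.
-/

universe u

open CategoryTheory CategoryTheory.Limits AlgebraicGeometry Opposite TopologicalSpace

noncomputable section

namespace Groth.Agent.EGA73

open Var76.LineBundle Var76.ZeroScheme Amp73

variable {X Y : Scheme.{u}} {π : X ⟶ Y}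

theorem WNorm.exists_section_of_frames (N : WNorm π) (hc : IsClosedMap π) {M : Y.Modules} {L : X.Modules}
    (W : Y → Y.Opens) (hW : ∀ y, y ∈ W y) (e : ∀ y, Γ(M, W y)) (he : ∀ y, IsFrame M (W y) (e y))
    (e' : ∀ y, Γ(L, π ⁻¹ᵁ W y)) (he' : ∀ y, IsFrame L (π ⁻¹ᵁ W y) (e' y))
    (htr : ∀ (y y' : Y) (V : Y.Opens) (hl : V ≤ W y) (hr : V ≤ W y') (c : Γ(X, π ⁻¹ᵁ V)),
      res L (π.preimage_mono hr) (e' y') = c • res L (π.preimage_mono hl) (e' y) →
        res M hr (e y') = N.norm V c • res M hl (e y))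
    (t : Coh.structureModule X ⟶ L) :
    ∃ s : Coh.structureModule Y ⟶ M,
      (∀ y, (∀ x, π x = y → x ∈ CohB1.genLocus L t) → y ∈ CohB1.genLocus M s) ∧
        ∀ y ∈ CohB1.genLocus M s, ∃ x ∈ CohB1.genLocus L t, π x = y := by
  choose a ha using fun y => exists_coord t (he' y)
  let σ : ∀ y, Γ(M, W y) := fun y => N.norm _ (a y) • e y
  have hσ : ∀ y y', res M (inf_le_left : W y ⊓ W y' ≤ W y) (σ y) =
      res M (inf_le_right : W y ⊓ W y' ≤ W y') (σ y') := by
    intro y y'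
    let V := W y ⊓ W y'
    let hl : V ≤ W y := inf_le_left
    let hr : V ≤ W y' := inf_le_right
    obtain ⟨c, hc'⟩ := (he' y (π ⁻¹ᵁ V) (π.preimage_mono hl)).2 (res L (π.preimage_mono hr) (e' y'))
    dsimp only at hc'
    have h1 := congrArg (res _ (π.preimage_mono hl)) (ha y)
    have h2 := congrArg (res _ (π.preimage_mono hr)) (ha y')
    rw [res_smul, res_val] at h1 h2
    rw [← hc', smul_smul] at h2
    have h3 : fres (π.preimage_mono hl) (a y) = fres (π.preimage_mono hr) (a y') * c :=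
      (he' y (π ⁻¹ᵁ V) (π.preimage_mono hl)).1 (h1.trans h2.symm)
    show res M hl (σ y) = res M hr (σ y')
    dsimp only [σ]
    rw [res_smul, res_smul, htr y y' V hl hr c hc'.symm, smul_smul]
    congr 1
    show fres hl (N.norm _ (a y)) = fres hr (N.norm _ (a y')) * N.norm V c
    rw [N.norm_res hl, N.norm_res hr, h3, map_mul]
  obtain ⟨S, hS, -⟩ := TopCat.Sheaf.existsUnique_gluing'
    (⟨M.presheaf, M.isSheaf⟩ : TopCat.Sheaf _ Y.toTopCat)
    W ⊤ (fun _ => homOfLE le_top) (fun y _ => Opens.mem_iSup.2 ⟨y, hW y⟩) σ hσ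
  let s := Var76.Frames.ofSection M S
  have hs : ∀ y, N.norm _ (a y) • e y = val _ s (W y) := fun y => by
    rw [Var76.Frames.val_ofSection]
    exact (hS y).symm
  refine ⟨s, fun y h => ?_, fun y hy => ?_⟩
  · have hy : y ∈ Y.basicOpen (N.norm _ (a y)) := N.mem_basicOpen_norm hc (hW y) fun x hx =>
      (genLocus_inf_eq_basicOpen t (he' y) (ha y)).le ⟨h x hx, show π x ∈ W y from hx ▸ hW y⟩
    exact ((genLocus_inf_eq_basicOpen s (he y) (hs y)).ge hy).1
  · have h := (genLocus_inf_eq_basicOpen s (he y) (hs y)).le ⟨hy, hW y⟩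
    obtain ⟨x, hx, hxy⟩ := N.norm_fibre _ (a y) y h
    exact ⟨x, ((genLocus_inf_eq_basicOpen t (he' y) (ha y)).ge hx).1, hxy⟩

theorem exists_frame_near_fibre [IsFinite π] {L : X.Modules} (h : CohB1.IsAmple L) (y : Y) :
    ∃ W : Y.Opens, y ∈ W ∧ ∃ e : Γ(L, π ⁻¹ᵁ W), IsFrame L (π ⁻¹ᵁ W) e := by
  obtain ⟨G, -, hZG, -, hGaff⟩ := exists_affine_genSet_of_finite h (π.finite_preimage_singleton y)
    (U := (⊤ : X.Opens)) (fun _ _ => trivial)
  obtain ⟨U, hZU, -, ⟨iso⟩⟩ := exists_nhd_free_finite L (Mero90.isFinLocFreeOfRank_of_isInvertible h.1)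
    _ (π.finite_preimage_singleton y) G hGaff hZG
  obtain ⟨s, hs⟩ := Props58.LocFree.exists_stalkBasis_of_iso iso
  have hf : IsFrame L U (s 0) := by
    intro V hV
    have e1 : (fun a : Γ(X, V) => a • res L hV (s 0)) =
        (fun b : Fin 1 → Γ(X, V) => ∑ i, b i • res L hV (s i)) ∘ (Equiv.funUnique (Fin 1) Γ(X, V)).symm :=
      funext fun a => by simp
    rw [e1]
    exact (hs.bijective hV).comp (Equiv.bijective _)
  let W : Y.Opens := ⟨(π '' ((U : Set X))ᶜ)ᶜ, (π.isClosedMap _ U.2.isClosed_compl).isOpen_compl⟩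
  have hWU : π ⁻¹ᵁ W ≤ U := fun x hx => by
    by_contra hxU
    exact hx ⟨x, hxU, rfl⟩
  exact ⟨W, fun ⟨x, hx, hxy⟩ => hx (hZU hxy), _, hf.res hWU⟩

/-- `M` is the norm of `L`: near the fibres `L` has frames, `M` has corresponding frames, and the changes of
frames of `M` are the norms of those of `L`. -/
def IsNormBundle (N : WNorm π) (L : X.Modules) (M : Y.Modules) : Prop :=
  ∃ (W : Y → Y.Opens) (_ : ∀ y, y ∈ W y) (e : ∀ y, Γ(M, W y)) (_ : ∀ y, IsFrame M (W y) (e y))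
    (e' : ∀ y, Γ(L, π ⁻¹ᵁ W y)) (_ : ∀ y, IsFrame L (π ⁻¹ᵁ W y) (e' y)),
    ∀ (y y' : Y) (V : Y.Opens) (hl : V ≤ W y) (hr : V ≤ W y') (c : Γ(X, π ⁻¹ᵁ V)),
      res L (π.preimage_mono hr) (e' y') = c • res L (π.preimage_mono hl) (e' y) →
        res M hr (e y') = N.norm V c • res M hl (e y)

theorem WNorm.exists_isNormBundle (N : WNorm π) {L : X.Modules}
    (hfr : ∀ y : Y, ∃ W : Y.Opens, y ∈ W ∧ ∃ e : Γ(L, π ⁻¹ᵁ W), IsFrame L (π ⁻¹ᵁ W) e) :
    ∃ M : Y.Modules, PicF.IsInvertible M ∧ IsNormBundle N L M := by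
  choose W hW e' he' using hfr
  choose c' hc' using fun i j =>
    (he' i (π ⁻¹ᵁ (W i ⊓ W j)) (π.preimage_mono inf_le_left)).2 (res L (π.preimage_mono inf_le_right) (e' j))
  dsimp only at hc'
  have hc'' : ∀ (i j : Y) (A : Y.Opens) (hA : A ≤ W i ⊓ W j), res L (π.preimage_mono (hA.trans inf_le_right)) (e' j) =
      fres (π.preimage_mono hA) (c' i j) • res L (π.preimage_mono (hA.trans inf_le_left)) (e' i) := by
    intro i j A hA
    have h1 := congrArg (res L (π.preimage_mono hA)) (hc' i j)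
    rw [res_smul, res_res, res_res] at h1
    exact h1.symm
  obtain ⟨M, g, hM, hg, hgt⟩ := exists_lineBundle (fun y => ⟨y, hW y⟩) (fun i j => N.norm _ (c' i j))
    (fun i => by
      have h2 : c' i i = 1 := (he' i (π ⁻¹ᵁ (W i ⊓ W i)) (π.preimage_mono inf_le_left)).1
        ((hc' i i).trans (one_smul _ _).symm)
      rw [h2, map_one])
    (fun i j k A hij hjk hik => by
      have h2 := hc'' j k A hjk
      rw [hc'' i j A hij, smul_smul, hc'' i k A hik] at h2
      have h3 := (he' i (π ⁻¹ᵁ A) (π.preimage_mono (hij.trans inf_le_left))).1 h2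
      rw [N.norm_res hij, N.norm_res hjk, N.norm_res hik, ← map_mul, mul_comm, h3])
  refine ⟨M, hM, W, hW, g, hg, e', he', fun y y' V hl hr c hc => ?_⟩
  rw [hc'' y y' V (le_inf hl hr)] at hc
  have h1 := (he' y (π ⁻¹ᵁ V) (π.preimage_mono hl)).1 hc
  have h2 := congrArg (res M (le_inf hl hr)) (hgt y y')
  rw [res_smul, res_res, res_res] at h2
  rw [h2, ← h1, ← N.norm_res (le_inf hl hr)]

/-- The norm of an ample module is ample. -/
theorem IsNormBundle.isAmple [IsFinite π] {N : WNorm π} {L : X.Modules} {M : Y.Modules}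
    (H : IsNormBundle N L M) (h : CohB1.IsAmple L) : CohB1.IsAmple M := by
  obtain ⟨W, hW, g, hg, e', he', ht⟩ := H
  have hM : PicF.IsInvertible M := Mero90.isInvertible_of_frames fun y => ⟨W y, hW y, g y, hg y⟩
  have htr : ∀ (n : ℕ) (y y' : Y) (V : Y.Opens) (hl : V ≤ W y) (hr : V ≤ W y') (c : Γ(X, π ⁻¹ᵁ V)),
      res (CohB1.tensorPow L n) (π.preimage_mono hr) (epow (e' y') n) =
          c • res (CohB1.tensorPow L n) (π.preimage_mono hl) (epow (e' y) n) →
        res (CohB1.tensorPow M n) hr (epow (g y') n) = N.norm V c • res (CohB1.tensorPow M n) hl (epow (g y) n) := by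
    intro n y y' V hl hr c hc
    obtain ⟨c₁, hc₁⟩ := (he' y (π ⁻¹ᵁ V) (π.preimage_mono hl)).2 (res L (π.preimage_mono hr) (e' y'))
    dsimp only at hc₁
    rw [res_epow, res_epow, ← hc₁, epow_smul] at hc
    have h1 : c₁ ^ n = c :=
      (isFrame_epow ((he' y).res (π.preimage_mono hl)) n (π ⁻¹ᵁ V) le_rfl).1
        (by simpa only [res_self] using hc)
    rw [res_epow, res_epow, ht y y' V hl hr c₁ hc₁.symm, epow_smul, ← h1, map_pow]
  have := h.2.1
  have := N.surjective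
  have : CompactSpace Y := π.surjective.compactSpace π.continuous
  refine isAmple_of_le_basis hM fun y U hy => ?_
  obtain ⟨G, ⟨n, t, rfl⟩, hZG, hGU, -⟩ := exists_affine_genSet_of_finite h (π.finite_preimage_singleton y)
    (U := π ⁻¹ᵁ U) (fun x hx => show π x ∈ U from (show π x = y from hx) ▸ hy)
  obtain ⟨s, h1, h2⟩ := N.exists_section_of_frames π.isClosedMap W hW (fun y => epow (g y) (n + 1))
    (fun y => isFrame_epow (hg y) _) (fun y => epow (e' y) (n + 1)) (fun y => isFrame_epow (he' y) _)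
    (htr (n + 1)) t
  refine ⟨_, ⟨n, s, rfl⟩, h1 y fun x hx => hZG hx, fun y' hy' => ?_⟩
  obtain ⟨x, hx, rfl⟩ := h2 y' hy'
  exact hGU hx

/-- An ample module on the source gives one on the target. -/
theorem WNorm.exists_isAmple [IsFinite π] (N : WNorm π) {L : X.Modules} (h : CohB1.IsAmple L) :
    ∃ M : Y.Modules, CohB1.IsAmple M :=
  let ⟨M, _, hM⟩ := N.exists_isNormBundle (exists_frame_near_fibre (π := π) h)
  ⟨M, hM.isAmple h⟩

/-- A weak norm over an open of the target. -/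
def WNorm.restrict (N : WNorm π) (P : Y.Opens) : WNorm (π ∣_ P) where
  norm U := (N.norm (P.ι ''ᵁ U)).comp
    (X.presheaf.map (homOfLE (image_morphismRestrict_preimage π P U).ge).op).hom.toMonoidHom
  norm_res {U V} h s := by
    show fres (X := Y) (P.ι.image_mono h) (N.norm _ (fres (X := X) (image_morphismRestrict_preimage π P U).ge s)) =
      N.norm _ (fres (X := X) (image_morphismRestrict_preimage π P V).ge
        (fres (X := X) ((π ⁻¹ᵁ P).ι.image_mono ((π ∣_ P).preimage_mono h)) s))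
    rw [N.norm_res (P.ι.image_mono h), fres_fres, fres_fres]
  norm_fibre U s y hy := by
    have hy' : P.ι y ∈ Y.basicOpen (N.norm _ (fres (X := X) (image_morphismRestrict_preimage π P U).ge s)) :=
      Scheme.Opens.mem_basicOpen_toScheme.1 hy
    obtain ⟨x, hx, hxy⟩ := N.norm_fibre _ _ _ hy'
    have hxP : x ∈ π ⁻¹ᵁ P := show π x ∈ P from hxy ▸ y.2
    refine ⟨⟨x, hxP⟩, Scheme.Opens.mem_basicOpen_toScheme.2 ?_, Subtype.ext ?_⟩
    · exact (X.basicOpen_res s (homOfLE (image_morphismRestrict_preimage π P U).ge).op).le.trans inf_le_right hx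
    · rw [morphismRestrict_base]
      exact hxy

theorem IsNormBundle.restrict {N : WNorm π} {L : X.Modules} {M : Y.Modules} (H : IsNormBundle N L M)
    (P : Y.Opens) : IsNormBundle (N.restrict P) (L.restrict (π ⁻¹ᵁ P).ι) (M.restrict P.ι) := by
  obtain ⟨W, hW, e, he, e', he', ht⟩ := H
  let W' : P.toScheme → P.toScheme.Opens := fun y => P.ι ⁻¹ᵁ W (P.ι y)
  have hle : ∀ y, P.ι ''ᵁ W' y ≤ W (P.ι y) := fun y => P.ι.image_preimage_le _
  have hle' : ∀ y, (π ⁻¹ᵁ P).ι ''ᵁ ((π ∣_ P) ⁻¹ᵁ W' y) ≤ π ⁻¹ᵁ W (P.ι y) := fun y =>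
    (image_morphismRestrict_preimage π P (W' y)).le.trans (π.preimage_mono (hle y))
  refine ⟨W', fun y => hW (P.ι y), fun y => res M (hle y) (e _),
    fun y => (isFrame_restrict_iff P.ι M _ _).2 ((he _).res (hle y)),
    fun y => res L (hle' y) (e' _),
    fun y => (isFrame_restrict_iff (π ⁻¹ᵁ P).ι L _ _).2 ((he' _).res (hle' y)),
    fun y y' V hl hr c hc => ?_⟩
  have hge := (image_morphismRestrict_preimage π P V).ge
  let v : Γ(L, (π ⁻¹ᵁ P).ι ''ᵁ ((π ∣_ P) ⁻¹ᵁ V)) :=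
    res L ((π ⁻¹ᵁ P).ι.image_mono ((π ∣_ P).preimage_mono hl)) (res L (hle' y) (e' (P.ι y)))
  have hc2 : res L ((π ⁻¹ᵁ P).ι.image_mono ((π ∣_ P).preimage_mono hr)) (res L (hle' y') (e' (P.ι y'))) =
      (show Γ(X, (π ⁻¹ᵁ P).ι ''ᵁ ((π ∣_ P) ⁻¹ᵁ V)) from c) • v := by
    refine hc.trans ?_
    show ((π ⁻¹ᵁ P).ι.appIso _).inv c • v = _
    rw [Scheme.Opens.ι_appIso]
    rfl
  have hc3 := congrArg (res L hge) hc2
  simp only [v] at hc3
  rw [res_smul, res_res, res_res, res_res, res_res] at hc3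
  have h := ht (P.ι y) (P.ι y') (P.ι ''ᵁ V) ((P.ι.image_mono hl).trans (hle y))
    ((P.ι.image_mono hr).trans (hle y')) _ hc3
  show res M (P.ι.image_mono hr) (res M (hle y') (e _)) =
    (P.ι.appIso V).inv _ • res M (P.ι.image_mono hl) (res M (hle y) (e _))
  rw [Scheme.Opens.ι_appIso, res_res, res_res, h]
  rfl

end Groth.Agent.EGA73
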