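import Groth.Agent.EGA73.BiratGood
import Groth.Agent.EGA73.NormBundle

/-!
The norm with values in the finite birational model and the ampleness it gives.
-/

set_option autoImplicit false
set_option linter.style.haveILetI false
set_option backward.isDefEq.respectTransparency.types false

universe u

open CategoryTheory CategoryTheory.Limits AlgebraicGeometry Opposite TopologicalSpace Polynomial

noncomputable section

namespace Groth.Agent.EGA73

open Var76.ZeroScheme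

variable {X X' : Scheme.{u}} {g : X' ⟶ X}

namespace GenCharts

variable (G : GenCharts g)

/-- The norm as a rational function. -/
def nAmb (U : X.Opens) : Γ(X', g ⁻¹ᵁ U) →* G.Amb U :=
  MonoidHom.pi fun η => (powMonoidHom (G.exp η)).comp (Matrix.detMonoidHom.comp (G.mat η U).toMonoidHom)

theorem nAmb_eq (U : X.Opens) (z : Γ(X', g ⁻¹ᵁ U)) :
    G.nAmb U z = (-1) ^ G.D * G.coef U z 0 := by
  funext η
  show (G.mat η U z).det ^ G.exp η = (-1) ^ G.D * ((G.mat η U z).charpoly ^ G.exp η).coeff 0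
  rw [coeff_zero_eq_eval_zero, eval_pow, ← coeff_zero_eq_eval_zero, Matrix.det_eq_sign_charpoly_coeff,
    Fintype.card_fin, mul_pow, ← pow_mul, G.rank_mul_exp]

theorem nAmb_mem (U : X.Opens) (z : Γ(X', g ⁻¹ᵁ U)) : G.nAmb U z ∈ G.A U := by
  rw [G.nAmb_eq]
  exact mul_mem (pow_mem (neg_mem (one_mem _)) _) (G.coef_mem U z 0)

/-- The norm with values in the model. -/
def nA (U : X.Opens) : Γ(X', g ⁻¹ᵁ U) →* G.A U := (G.nAmb U).codRestrict (G.A U) (G.nAmb_mem U)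

theorem resA_nA {U V : X.Opens} (h : V ≤ U) (z : Γ(X', g ⁻¹ᵁ U)) :
    G.resA h (G.nA U z) = G.nA V (fres (g.preimage_mono h) z) := by
  refine Subtype.ext ?_
  show G.ambRes h (G.nAmb U z) = G.nAmb V _
  rw [G.nAmb_eq, G.nAmb_eq, map_mul, map_pow, map_neg, map_one, G.ambRes_coef]

theorem nA_app (U : X.Opens) (a : Γ(X, U)) : G.nA U (g.app U a) = G.strA U a ^ G.D := by
  refine Subtype.ext (funext fun η => ?_)
  show (G.mat η U (g.app U a)).det ^ G.exp η = G.str U a η ^ G.D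
  rw [mat_app, Matrix.algebraMap_eq_diagonal, Matrix.det_diagonal, str_apply]
  simp [← pow_mul, G.rank_mul_exp]

variable [IsFinite g] [IsReduced X]

/-- The norm with values in the functions of the model. -/
def nrmZ (U : X.AffineZariskiSite) : Γ(X', g ⁻¹ᵁ U.1) →* Γ(G.Z, G.h ⁻¹ᵁ U.1) :=
  (G.γ U).inv.hom.toMonoidHom.comp (G.nA U.1)

theorem γ_nrmZ (U : X.AffineZariskiSite) (t : Γ(X', g ⁻¹ᵁ U.1)) : (G.γ U).hom (G.nrmZ U t) = G.nA U.1 t :=
  ConcreteCategory.congr_hom (G.γ U).inv_hom_id (G.nA U.1 t)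

theorem nrmZ_app (U : X.AffineZariskiSite) (a : Γ(X, U.1)) :
    G.nrmZ U (g.app U.1 a) = G.h.app U.1 a ^ G.D := by
  refine (ConcreteCategory.bijective_of_isIso (G.γ U).hom).1 ?_
  rw [γ_nrmZ, map_pow, γ_app, nA_app]

theorem fres_nrmZ (U : X.AffineZariskiSite) (f : Γ(X, U.1)) (t : Γ(X', g ⁻¹ᵁ U.1)) :
    fres (G.h.preimage_mono (X.basicOpen_le f)) (G.nrmZ U t) =
      G.nrmZ (U.basicOpen f) (fres (g.preimage_mono (X.basicOpen_le f)) t) := by
  refine (ConcreteCategory.bijective_of_isIso (G.γ (U.basicOpen f)).hom).1 ?_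
  refine Eq.trans ?_ (G.γ_nrmZ (U.basicOpen f) _).symm
  refine (ConcreteCategory.congr_hom (G.data.gamma_res (homOfLE (U.basicOpen_le f))) (G.nrmZ U t)).trans ?_
  show G.resA _ ((G.γ U).hom (G.nrmZ U t)) = _
  rw [γ_nrmZ]
  exact G.resA_nA _ t

theorem mem_basicOpen_nrmZ (U : X.AffineZariskiSite) (t : Γ(X', g ⁻¹ᵁ U.1)) {z : G.Z} (hz : G.h z ∈ U.1)
    (h : ∀ x, g x = G.h z → x ∈ X'.basicOpen t) : z ∈ G.Z.basicOpen (G.nrmZ U t) := by
  let B : X.Opens := U.1 ⊓ ⟨(g '' ((X'.basicOpen t : X'.Opens) : Set X')ᶜ)ᶜ,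
    (g.isClosedMap _ (X'.basicOpen t).2.isClosed_compl).isOpen_compl⟩
  have hzB : G.h z ∈ B := ⟨hz, fun ⟨x, hx, hxy⟩ => hx (h x hxy)⟩
  obtain ⟨f, hfB, hzf⟩ := U.2.exists_basicOpen_le (V := B) ⟨G.h z, hzB⟩ hz
  have hle : g ⁻¹ᵁ X.basicOpen f ≤ X'.basicOpen t := fun x hx => by
    by_contra hxt
    exact (hfB hx).2 ⟨x, hxt, rfl⟩
  have h1 : IsUnit (fres (g.preimage_mono (X.basicOpen_le f)) t) := by
    have h2 := (RingedSpace.isUnit_res_basicOpen _ t).map (X'.presheaf.map (homOfLE hle).op).hom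
    rwa [← show fres hle (fres (X'.basicOpen_le t) t) = fres (g.preimage_mono (X.basicOpen_le f)) t from
      fres_fres _ _ t]
  have h3 : IsUnit (fres (G.h.preimage_mono (X.basicOpen_le f)) (G.nrmZ U t)) := by
    rw [G.fres_nrmZ U f t]
    exact h1.map (G.nrmZ (U.basicOpen f))
  have h4 := (G.Z.basicOpen_res (G.nrmZ U t) (homOfLE (G.h.preimage_mono (X.basicOpen_le f))).op).symm.trans
    (Scheme.basicOpen_of_isUnit _ h3)
  exact (h4.ge (show z ∈ G.h ⁻¹ᵁ X.basicOpen f from hzf)).2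

theorem exists_of_mem_basicOpen_nrmZ [IsNoetherian X] (U : X.AffineZariskiSite) (t : Γ(X', g ⁻¹ᵁ U.1))
    {z : G.Z} (hz : z ∈ G.Z.basicOpen (G.nrmZ U t)) : ∃ x ∈ X'.basicOpen t, g x = G.h z := by
  classical
  obtain ⟨P, rfl⟩ : z ∈ Set.range (G.data.ι U) := by
    have h1 : z ∈ G.h ⁻¹ᵁ U.1 := G.Z.basicOpen_le _ hz
    exact (G.data.π_preimage U).le h1
  have hP : G.nA U.1 t ∉ P.asIdeal := by
    have h1 := (G.mem_basicOpen_ι U (G.nrmZ U t) P).1 hz
    rwa [show G.data.gamma U (G.nrmZ U t) = G.nA U.1 t from G.γ_nrmZ U t] at h1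
  let T := ∀ η : {η : X // MaxPt η}, Γ(X', g ⁻¹ᵁ (U.1 ⊓ G.Ω η))
  let j : G.A U.1 →+* T := RingHom.pi fun η =>
    (g.app (U.1 ⊓ G.Ω η)).hom.comp ((Pi.evalRingHom _ η).comp (G.A U.1).subtype)
  let σ : Γ(X', g ⁻¹ᵁ U.1) →+* T := RingHom.pi fun η =>
    (X'.presheaf.map (homOfLE (g.preimage_mono (inf_le_left : U.1 ⊓ G.Ω η ≤ U.1))).op).hom
  have hjσ : ∀ a, j (G.strA U.1 a) = σ (g.app U.1 a) := fun a => funext fun η => app_fres g _ a
  letI : Algebra (G.A U.1) T := j.toAlgebra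
  letI : Algebra Γ(X, U.1) Γ(X', g ⁻¹ᵁ U.1) := (g.app U.1).hom.toAlgebra
  haveI : Module.Finite Γ(X, U.1) Γ(X', g ⁻¹ᵁ U.1) := IsFinite.finite_app g U.1 U.2
  let C : Subalgebra (G.A U.1) T := integralClosure (G.A U.1) T
  letI algAC : Algebra (G.A U.1) C := C.algebra
  have hσC : ∀ s, σ s ∈ C := fun s => by
    obtain ⟨p, hp, hp0⟩ := Algebra.IsIntegral.isIntegral (R := Γ(X, U.1)) s
    refine ⟨p.map (G.strA U.1), hp.map _, ?_⟩
    have h1 := congrArg σ hp0
    rw [hom_eval₂, map_zero] at h1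
    rw [eval₂_map]
    exact (eval₂_congr (RingHom.ext hjσ) rfl rfl).trans h1
  have hinj : Function.Injective j := fun a b hab => by
    refine Subtype.ext (funext fun η => ?_)
    rcases subsingleton_or (Y := X) (V := U.1 ⊓ G.Ω η) with hss | ⟨y, hy⟩
    · exact Subsingleton.elim _ _
    have hs := (G.natBasis η).res g (inf_le_right : U.1 ⊓ G.Ω η ≤ G.Ω η)
    letI := (g.app (U.1 ⊓ G.Ω η)).hom.toAlgebra
    have h1 : (algebraMap Γ(X, U.1 ⊓ G.Ω η) Γ(X', g ⁻¹ᵁ (U.1 ⊓ G.Ω η))) (a.1 η - b.1 η) = 0 := by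
      rw [map_sub, sub_eq_zero]; exact congrFun hab η
    have h2 : (a.1 η - b.1 η) • hs.basis ⟨0, G.rank_pos η⟩ = 0 := by
      rw [Algebra.smul_def, h1, zero_mul]
    have h3 := congrArg (fun v => hs.basis.repr v ⟨0, G.rank_pos η⟩) h2
    exact sub_eq_zero.1 (by simpa using h3)
  haveI : Algebra.IsIntegral (G.A U.1) C := ⟨fun c => (isIntegral_algHom_iff C.val Subtype.val_injective).1 c.2⟩
  let p : Ideal (G.A U.1) := P.asIdeal
  haveI : p.IsPrime := P.isPrime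
  obtain ⟨Q, -, hQ, hQP⟩ := Ideal.exists_ideal_over_prime_of_isIntegral (R := G.A U.1) (S := C) p ⊥ (by
    intro a ha
    have h1 : j a = 0 := congrArg Subtype.val ha
    rw [show a = 0 from hinj (h1.trans (map_zero j).symm)]
    exact zero_mem _)
  let σC : Γ(X', g ⁻¹ᵁ U.1) →+* C := σ.codRestrict C hσC
  let c : ℕ → G.A U.1 := fun i => ⟨G.coef U.1 t i, G.coef_mem U.1 t i⟩
  have hsum : ∑ i ∈ Finset.range (G.D + 1), algebraMap (G.A U.1) C (c i) * σC t ^ i = 0 := by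
    refine Subtype.ext ?_
    rw [AddSubmonoidClass.coe_finsetSum]
    funext η
    rw [Finset.sum_apply]
    letI := (g.app (U.1 ⊓ G.Ω η)).hom.toAlgebra
    let b := ((G.natBasis η).res g (inf_le_right : U.1 ⊓ G.Ω η ≤ G.Ω η)).basis
    apply Algebra.leftMulMatrix_injective b
    rcases subsingleton_or (Y := X) (V := U.1 ⊓ G.Ω η) with hss | ⟨y, hy⟩
    · exact Subsingleton.elim _ _
    have := nontrivial_of_mem hy
    have hd : (G.pol η U.1 t).natDegree < G.D + 1 := by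
      refine Nat.lt_succ_of_le (natDegree_pow_le.trans ?_)
      rw [Matrix.charpoly_natDegree_eq_dim, Fintype.card_fin, mul_comm, G.rank_mul_exp]
    have h0 : aeval (G.mat η U.1 t) (G.pol η U.1 t) = 0 := by
      rw [pol, map_pow, Matrix.aeval_self_charpoly]
      exact zero_pow (fun h => G.D_pos.ne' (by rw [← G.rank_mul_exp η, h, mul_zero]))
    rw [aeval_def, eval₂_eq_sum_range' _ hd] at h0
    refine Eq.trans ?_ (h0.trans (map_zero (Algebra.leftMulMatrix b)).symm)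
    rw [map_sum]
    refine Finset.sum_congr rfl fun i _ => ?_
    show Algebra.leftMulMatrix b (g.app (U.1 ⊓ G.Ω η) (G.coef U.1 t i η) * σ t η ^ i) = _
    rw [map_mul, map_pow]
    exact congrArg (· * _) ((Algebra.leftMulMatrix b).commutes _)
  have htQ : σC t ∉ Q := by
    intro ht
    rw [Finset.sum_range_succ', pow_zero, mul_one] at hsum
    have h0 : algebraMap (G.A U.1) C (c 0) ∈ Q := (Ideal.add_mem_iff_right Q
      (Ideal.sum_mem Q fun i _ => Q.mul_mem_left (algebraMap (G.A U.1) C (c (i + 1)))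
        (Ideal.pow_mem_of_mem Q ht (i + 1) (Nat.succ_pos i)))).1 (hsum ▸ zero_mem Q)
    have h1 : c 0 ∈ p := hQP.le h0
    have h2 : G.nA U.1 t = (-1) ^ G.D * c 0 := Subtype.ext (G.nAmb_eq U.1 t)
    exact hP (h2 ▸ p.mul_mem_left _ h1)
  let hU' := U.2.preimage g
  let q : PrimeSpectrum Γ(X', g ⁻¹ᵁ U.1) := ⟨Q.comap σC, Ideal.comap_isPrime σC Q⟩
  refine ⟨hU'.fromSpec q, ?_, ?_⟩
  · exact (congrArg (fun O => q ∈ O) (hU'.fromSpec_preimage_basicOpen t)).mpr htQ
  · have h1 := congrArg (fun f => f q) (IsAffineOpen.SpecMap_appLE_fromSpec g U.2 hU' le_rfl)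
    simp only [Scheme.Hom.comp_apply, ← Scheme.Hom.app_eq_appLE] at h1
    refine h1.symm.trans ?_
    rw [show G.h (G.data.ι U P) = (G.data.ι U ≫ G.data.π) P from rfl, G.data.ι_π, Scheme.Hom.comp_apply]
    refine congrArg U.2.fromSpec (PrimeSpectrum.ext (Ideal.ext fun r => ?_))
    show σC (g.app U.1 r) ∈ Q ↔ G.strA U.1 r ∈ p
    rw [← hQP]
    exact iff_of_eq (congrArg (· ∈ Q) (Subtype.ext (hjσ r).symm))

open Var76.LineBundle Amp73

theorem exists_section_nrmZ [IsNoetherian X] {M : X.Modules} (hM : PicF.IsInvertible M)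
    (t : Coh.structureModule X' ⟶ (Scheme.Modules.pullback g).obj M) :
    ∃ s : Coh.structureModule G.Z ⟶ CohB1.tensorPow ((Scheme.Modules.pullback G.h).obj M) G.D,
      (∀ z, (∀ x, g x = G.h z → x ∈ CohB1.genLocus _ t) → z ∈ CohB1.genLocus _ s) ∧
        ∀ z ∈ CohB1.genLocus _ s, ∃ x ∈ CohB1.genLocus _ t, g x = G.h z := by
  choose V hyV _ e he using fun y : X => Mero90.exists_affine_frame hM y ⊤ trivial
  let V' : X → X.AffineZariskiSite := fun y => ⟨(V y).1, (V y).2⟩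
  have hpe := fun y => isFrame_pullS g hM (he y)
  have hqe := fun y => isFrame_pullS G.h hM (he y)
  choose a ha using fun y => exists_coord t (hpe y)
  let P := CohB1.tensorPow ((Scheme.Modules.pullback G.h).obj M) G.D
  let σ : ∀ y, Γ(P, G.h ⁻¹ᵁ (V y).1) := fun y =>
    G.nrmZ (V' y) (a y) • epow (pullS G.h M _ (e y)) G.D
  have hσ : ∀ y y', res P (inf_le_left : G.h ⁻¹ᵁ (V y).1 ⊓ G.h ⁻¹ᵁ (V y').1 ≤ G.h ⁻¹ᵁ (V y).1) (σ y) =
      res P (inf_le_right : G.h ⁻¹ᵁ (V y).1 ⊓ G.h ⁻¹ᵁ (V y').1 ≤ G.h ⁻¹ᵁ (V y').1) (σ y') := by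
    intro y y'
    refine Var76.ZeroScheme.eq_of_locally _ _ _ fun z hz => ?_
    obtain ⟨f, f', hff', hzf⟩ := exists_basicOpen_le_affine_inter (V y).2 (V y').2 (G.h z) ⟨hz.1, hz.2⟩
    let W := X.basicOpen f
    let hl : W ≤ (V y).1 := X.basicOpen_le f
    let hr : W ≤ (V y').1 := hff'.le.trans (X.basicOpen_le f')
    refine ⟨G.h ⁻¹ᵁ W, le_inf (G.h.preimage_mono hl) (G.h.preimage_mono hr), hzf, ?_⟩
    rw [res_res, res_res]
    obtain ⟨c, hc'⟩ := (he y W hl).2 (res M hr (e y'))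
    dsimp only at hc'
    have hP : res _ (g.preimage_mono hr) (pullS g M _ (e y')) =
        g.app W c • res _ (g.preimage_mono hl) (pullS g M _ (e y)) := by
      rw [res_pullS g M hr, res_pullS g M hl, ← hc', pullS_smul]
    have hQ : res _ (G.h.preimage_mono hr) (pullS G.h M _ (e y')) =
        G.h.app W c • res _ (G.h.preimage_mono hl) (pullS G.h M _ (e y)) := by
      rw [res_pullS G.h M hr, res_pullS G.h M hl, ← hc', pullS_smul]
    have h1 := congrArg (res _ (g.preimage_mono hl)) (ha y)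
    have h2 := congrArg (res _ (g.preimage_mono hr)) (ha y')
    rw [res_smul, res_val] at h1 h2
    rw [hP, smul_smul] at h2
    have h3 : fres (g.preimage_mono hl) (a y) = fres (g.preimage_mono hr) (a y') * g.app W c :=
      (hpe y (g ⁻¹ᵁ W) (g.preimage_mono hl)).1 (h1.trans h2.symm)
    have h4 : fres (G.h.preimage_mono hl) (G.nrmZ (V' y) (a y)) =
        G.nrmZ ((V' y).basicOpen f) (fres (g.preimage_mono hl) (a y)) := G.fres_nrmZ (V' y) f (a y)
    have h5 : fres (G.h.preimage_mono hr) (G.nrmZ (V' y') (a y')) =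
        G.nrmZ ((V' y).basicOpen f) (fres (g.preimage_mono hr) (a y')) := by
      have hW : (V' y).basicOpen f = (V' y').basicOpen f' := Subtype.ext hff'
      have key : ∀ (A : X.AffineZariskiSite) (_ : A = (V' y').basicOpen f') (hA : A.1 ≤ (V y').1),
          fres (G.h.preimage_mono hA) (G.nrmZ (V' y') (a y')) = G.nrmZ A (fres (g.preimage_mono hA) (a y')) := by
        rintro A rfl hA
        exact G.fres_nrmZ (V' y') f' (a y')
      exact key _ hW hr
    show res P _ (σ y) = res P _ (σ y')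
    dsimp only [σ]
    rw [res_smul, res_smul, res_epow, res_epow, hQ, epow_smul, smul_smul]
    congr 1
    show fres (G.h.preimage_mono hl) (G.nrmZ (V' y) (a y)) =
      fres (G.h.preimage_mono hr) (G.nrmZ (V' y') (a y')) * G.h.app W c ^ G.D
    rw [h4, h5]
    refine (congrArg (G.nrmZ ((V' y).basicOpen f)) h3).trans ((map_mul _ _ _).trans ?_)
    exact congrArg (_ * ·) (G.nrmZ_app ((V' y).basicOpen f) c)
  obtain ⟨S, hS, -⟩ := TopCat.Sheaf.existsUnique_gluing'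
    (⟨P.presheaf, P.isSheaf⟩ : TopCat.Sheaf _ G.Z.toTopCat)
    (fun y => G.h ⁻¹ᵁ (V y).1) ⊤ (fun _ => homOfLE le_top)
    (fun z _ => Opens.mem_iSup.2 ⟨G.h z, hyV (G.h z)⟩) σ hσ
  let s := Var76.Frames.ofSection P S
  have hs : ∀ y, G.nrmZ (V' y) (a y) • epow (pullS G.h M _ (e y)) G.D = val _ s (G.h ⁻¹ᵁ (V y).1) := fun y => by
    rw [Var76.Frames.val_ofSection]
    exact (hS y).symm
  refine ⟨s, fun z h => ?_, fun z hz => ?_⟩
  · have hz : z ∈ G.Z.basicOpen (G.nrmZ (V' (G.h z)) (a (G.h z))) :=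
      G.mem_basicOpen_nrmZ (V' (G.h z)) (a (G.h z)) (hyV _) fun x hx =>
        (genLocus_inf_eq_basicOpen t (hpe _) (ha _)).le ⟨h x hx, show g x ∈ (V (G.h z)).1 from hx ▸ hyV _⟩
    exact ((genLocus_inf_eq_basicOpen s (isFrame_epow (hqe _) G.D) (hs _)).ge hz).1
  · have h := (genLocus_inf_eq_basicOpen s (isFrame_epow (hqe _) G.D) (hs _)).le ⟨hz, hyV (G.h z)⟩
    obtain ⟨x, hx, hxy⟩ := G.exists_of_mem_basicOpen_nrmZ (V' (G.h z)) (a (G.h z)) h
    exact ⟨x, ((genLocus_inf_eq_basicOpen t (hpe _) (ha _)).ge hx).1, hxy⟩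

theorem isAmple_pullback_h [IsNoetherian X] {L : X.Modules} (hL : PicF.IsInvertible L)
    (h : CohB1.IsAmple ((Scheme.Modules.pullback g).obj L)) :
    CohB1.IsAmple ((Scheme.Modules.pullback G.h).obj L) := by
  haveI := G.isFinite_h
  have hQ := isInvertible_pullback G.h hL
  haveI : CompactSpace G.Z := QuasiCompact.compactSpace_of_compactSpace G.h
  refine ⟨hQ, inferInstance, fun z => ?_⟩
  obtain ⟨U, hU, hzU, -⟩ := exists_isAffineOpen_mem_and_subset (U := (⊤ : X.Opens)) (x := G.h z) trivial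
  obtain ⟨Gt, ⟨n, t, rfl⟩, hZG, hGU, -⟩ := exists_affine_genSet_of_finite h (g.finite_preimage_singleton (G.h z))
    (U := g ⁻¹ᵁ U) (fun x hx => show g x ∈ U from (show g x = G.h z from hx) ▸ hzU)
  obtain ⟨s, h1, h2⟩ := G.exists_section_nrmZ (EGA73.isInvertible_tensorPow hL (n + 1))
    (t ≫ (pullPowIso g hL (n + 1)).inv)
  rw [genLocus_comp_iso] at h1 h2
  have hd : G.D - 1 + 1 = G.D := Nat.sub_add_cancel G.D_pos
  have hmem : CohB1.genLocus _ s ∈ GenSet ((Scheme.Modules.pullback G.h).obj L) :=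
    mem_genSet_of_tensorPow (Nat.succ_pos n) (mem_genSet_of_iso (pullPowIso G.h hL (n + 1)).hom
      ⟨G.D - 1, s ≫ eqToHom (congrArg _ hd.symm), genLocus_comp_iso _ _⟩)
  have hle : CohB1.genLocus _ s ≤ G.h ⁻¹ᵁ U := fun w hw => by
    obtain ⟨x, hx, hxw⟩ := h2 w hw
    show G.h w ∈ U
    rw [← hxw]
    exact hGU hx
  have ha : IsAffineOpen (CohB1.genLocus _ s) := by
    have h3 := isAffineOpen_genLocus_inf
      (EGA73.isInvertible_tensorPow (isInvertible_pullback G.h (EGA73.isInvertible_tensorPow hL (n + 1))) G.D)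
      s (hU.preimage G.h)
    rwa [inf_eq_left.2 hle] at h3
  obtain ⟨m, s', hs'⟩ := hmem
  exact ⟨m, s', hs'.symm ▸ h1 z fun x hx => hZG hx, hs'.symm ▸ ha⟩

end GenCharts

end Groth.Agent.EGA73
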