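import Groth.Agent.EGA73.DetNorm
import Groth.Agent.EGA73.NormBundle
import Groth.Agent.Amp73.QA

/-!
Descent of relative ampleness along finite surjective morphisms with locally free direct image.
-/

universe u

open CategoryTheory CategoryTheory.Limits AlgebraicGeometry Opposite TopologicalSpace

noncomputable section

namespace Groth.Agent.EGA73

open Amp73

variable {X X' Y : Scheme.{u}}

theorem isRelAmple_of_norms (f : X ⟶ Y) [QuasiCompact f] (g : X' ⟶ X) [IsFinite g] {L : X.Modules}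
    (hL : PicF.IsInvertible L) (hN : ∀ V : Y.affineOpens, ∃ d, Nonempty (FNorm (g ∣_ f ⁻¹ᵁ V.1) d))
    (h : RelAmple.IsRelAmple (g ≫ f) ((Scheme.Modules.pullback g).obj L)) : RelAmple.IsRelAmple f L := by
  refine ⟨inferInstance, fun V => ?_⟩
  obtain ⟨d, ⟨N⟩⟩ := hN V
  have hLV : PicF.IsInvertible (L.restrict (f ⁻¹ᵁ V.1).ι) :=
    isInvertible_of_iso ((Scheme.Modules.restrictFunctorIsoPullback (f ⁻¹ᵁ V.1).ι).app L).symm
      (isInvertible_pullback _ hL)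
  exact N.isAmple hLV (isAmple_of_iso
    (pullSquareIso (g ∣_ f ⁻¹ᵁ V.1) _ (g ⁻¹ᵁ f ⁻¹ᵁ V.1).ι g (morphismRestrict_ι _ _) L).symm (h.2 V))

theorem exists_fnorm_morphismRestrict (f : X ⟶ Y) [QuasiCompact f] (g : X' ⟶ X) [IsFinite g] [Surjective g]
    (hfree : FlatMod.IsFinLocFree ((Coh.push g).obj (Coh.structureModule X'))) (V : Y.affineOpens) :
    ∃ d, Nonempty (FNorm (g ∣_ f ⁻¹ᵁ V.1) d) := by
  have : CompactSpace (f ⁻¹ᵁ V.1 : Scheme.{u}) := compactSpace_preimage f V.2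
  have : Surjective (g ∣_ f ⁻¹ᵁ V.1) := IsZariskiLocalAtTarget.restrict (P := @Surjective) inferInstance _
  obtain ⟨D, hD⟩ := exists_degOK _
    (exists_isChart_morphismRestrict g (exists_isChart_of_isFinLocFree g hfree) (f ⁻¹ᵁ V.1))
  exact ⟨D, ⟨hD.fnorm⟩⟩

end Groth.Agent.EGA73

namespace Groth.Agent.EGA73

open Amp73 Var76.LineBundle

variable {X X' Y : Scheme.{u}}

theorem exists_frame_near_fibre_of_isRelAmple (f : X ⟶ Y) (g : X' ⟶ X) [IsFinite g] {L : X'.Modules}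
    (h : RelAmple.IsRelAmple (g ≫ f) L) (x : X) :
    ∃ W : X.Opens, x ∈ W ∧ ∃ e : Γ(L, g ⁻¹ᵁ W), IsFrame L (g ⁻¹ᵁ W) e := by
  obtain ⟨V, hV, hxV, -⟩ := exists_isAffineOpen_mem_and_subset (U := (⊤ : Y.Opens)) (x := f x) trivial
  have hA : CohB1.IsAmple (L.restrict (g ⁻¹ᵁ f ⁻¹ᵁ V).ι) := h.2 ⟨V, hV⟩
  obtain ⟨W', hxW', e, he⟩ := exists_frame_near_fibre (π := g ∣_ f ⁻¹ᵁ V) hA ⟨x, hxV⟩
  rw [isFrame_restrict_iff] at he
  exact ⟨(f ⁻¹ᵁ V).ι ''ᵁ W', ⟨⟨x, hxV⟩, hxW', rfl⟩, _,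
    he.res (image_morphismRestrict_preimage g (f ⁻¹ᵁ V) W').ge⟩

theorem exists_relAmple_norm (f : X ⟶ Y) [QuasiCompact f] (g : X' ⟶ X) [IsFinite g] [Surjective g]
    (hfree : FlatMod.IsFinLocFree ((Coh.push g).obj (Coh.structureModule X')))
    {L : X'.Modules} (h : RelAmple.IsRelAmple (g ≫ f) L) :
    ∃ M : X.Modules, PicF.IsInvertible M ∧ RelAmple.IsRelAmple f M := by
  let N := (exists_chartOK g (exists_isChart_of_isFinLocFree g hfree)).wnorm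
  obtain ⟨M, hM, H⟩ := N.exists_isNormBundle (L := L) (exists_frame_near_fibre_of_isRelAmple f g h)
  exact ⟨M, hM, inferInstance, fun V => (H.restrict (f ⁻¹ᵁ V.1)).isAmple (h.2 V)⟩

end Groth.Agent.EGA73
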