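import Mathlib.AlgebraicGeometry.Morphisms.Affine
import Mathlib.AlgebraicGeometry.Morphisms.QuasiSeparated
import Groth.Agent.SchBasics.Reduced

/-!
Affineness from the extension of functions from reduced closed subschemes (EGA II 5.2.1).
-/

set_option autoImplicit false
set_option backward.isDefEq.respectTransparency.types false

universe u

open CategoryTheory AlgebraicGeometry TopologicalSpace Opposite

noncomputable section

namespace Groth.Agent.EGA73.AffineCriterion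

/-- Every closed subset is the image of a reduced closed subscheme to which functions surject. -/
def ExtendsFromReduced (S : Scheme.{u}) : Prop :=
  ∀ C : Closeds S, ∃ (Z : Scheme.{u}) (ι : Z ⟶ S), IsClosedImmersion ι ∧ IsReduced Z ∧
    Set.range ι = (C : Set S) ∧ Function.Surjective ι.appTop

variable {S : Scheme.{u}}

theorem exists_affine_basicOpen (h : ExtendsFromReduced S) (x : S) (hx : IsClosed ({x} : Set S)) :
    ∃ f : Γ(S, ⊤), x ∈ S.basicOpen f ∧ IsAffineOpen (S.basicOpen f) := by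
  classical
  obtain ⟨_, ⟨U, hU, rfl⟩, hxU, -⟩ := S.isBasis_affineOpens.exists_subset_of_mem_open (Set.mem_univ x) isOpen_univ
  obtain ⟨Z, ι, _, _, hr, hsurj⟩ := h ⟨(U : Set S)ᶜ ∪ {x}, U.2.isClosed_compl.union hx⟩
  let V : ULift.{u} Bool → Z.Opens := fun b => cond b.down (ι ⁻¹ᵁ U) (ι ⁻¹ᵁ ⟨{x}ᶜ, hx.isOpen_compl⟩)
  let sf : ∀ b, Γ(Z, V b) := fun b => cond b.down (1 : Γ(Z, V b)) 0
  have hbot : ι ⁻¹ᵁ U ⊓ ι ⁻¹ᵁ ⟨{x}ᶜ, hx.isOpen_compl⟩ = ⊥ := by
    refine bot_unique ?_
    rintro w ⟨h1, h2⟩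
    rcases hr.le ⟨w, rfl⟩ with h' | h'
    · exact h' h1
    · exact h2 h'
  have hcov : (⊤ : Z.Opens) ≤ ⨆ b, V b := fun w _ => Opens.mem_iSup.mpr (by
    by_cases hw : ι w ∈ U
    · exact ⟨⟨true⟩, hw⟩
    · exact ⟨⟨false⟩, fun h' => hw ((show ι w = x from h') ▸ hxU)⟩)
  have hcompat : TopCat.Presheaf.IsCompatible Z.sheaf.1 V sf := by
    rintro ⟨a⟩ ⟨b⟩
    cases a <;> cases b
    · rfl
    · have : Subsingleton Γ(Z, V ⟨false⟩ ⊓ V ⟨true⟩) := by
        rw [show V ⟨false⟩ ⊓ V ⟨true⟩ = ⊥ from (inf_comm _ _).trans hbot]; infer_instance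
      exact Subsingleton.elim (α := Γ(Z, V ⟨false⟩ ⊓ V ⟨true⟩)) _ _
    · have : Subsingleton Γ(Z, V ⟨true⟩ ⊓ V ⟨false⟩) := by
        rw [show V ⟨true⟩ ⊓ V ⟨false⟩ = ⊥ from hbot]; infer_instance
      exact Subsingleton.elim (α := Γ(Z, V ⟨true⟩ ⊓ V ⟨false⟩)) _ _
    · rfl
  obtain ⟨g, hg, -⟩ := Z.sheaf.existsUnique_gluing' V ⊤ (fun b => homOfLE le_top) hcov sf hcompat
  obtain ⟨f, hf⟩ := hsurj g
  have hfg : ι ⁻¹ᵁ S.basicOpen f = Z.basicOpen g := by
    rw [Scheme.preimage_basicOpen_top, hf]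
  have hV1 : V ⟨true⟩ ≤ Z.basicOpen g := by
    have h1 : Z.basicOpen (Z.presheaf.map (homOfLE (le_top : V ⟨true⟩ ≤ ⊤)).op g) = V ⟨true⟩ := by
      rw [show Z.presheaf.map (homOfLE (le_top : V ⟨true⟩ ≤ ⊤)).op g = 1 from hg ⟨true⟩]
      exact Scheme.basicOpen_of_isUnit _ isUnit_one
    rw [← h1, Scheme.basicOpen_res]
    exact inf_le_right
  have hV0 : V ⟨false⟩ ⊓ Z.basicOpen g = ⊥ := by
    rw [← Scheme.basicOpen_res _ g (homOfLE (le_top : V ⟨false⟩ ≤ ⊤)).op,
      show Z.presheaf.map (homOfLE (le_top : V ⟨false⟩ ≤ ⊤)).op g = 0 from hg ⟨false⟩]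
    exact Scheme.basicOpen_zero _ _
  obtain ⟨w, hw⟩ := hr.ge (Or.inr rfl : x ∈ (U : Set S)ᶜ ∪ {x})
  have hxf : x ∈ S.basicOpen f := by
    rw [← hw]
    exact hfg.ge (hV1 (show ι w ∈ U from hw ▸ hxU))
  have hle : S.basicOpen f ≤ U := fun y hy => by
    by_contra hyU
    obtain ⟨w', hw'⟩ := hr.ge (Or.inl hyU)
    have h1 : w' ∈ V ⟨false⟩ := fun h' => hyU (hw' ▸ (show ι w' = x from h') ▸ hxU)
    exact hV0.le ⟨h1, hfg.le (show ι w' ∈ S.basicOpen f from hw' ▸ hy)⟩
  refine ⟨f, hxf, ?_⟩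
  have e : S.basicOpen (S.presheaf.map (homOfLE (le_top : U ≤ ⊤)).op f) = S.basicOpen f := by
    rw [Scheme.basicOpen_res, inf_eq_right.mpr hle]
  exact e ▸ hU.basicOpen _

variable [CompactSpace S] [QuasiSeparatedSpace S]

/-- Restriction of global functions. -/
abbrev rS {V : S.Opens} (h : V ≤ (⊤ : S.Opens)) : Γ(S, ⊤) →+* Γ(S, V) := (S.presheaf.map (homOfLE h).op).hom

/-- A global function vanishing on a basic open is killed by a power of its equation. -/
theorem exists_pow_mul_eq_zero (f a : Γ(S, ⊤)) (ha : (rS (S.basicOpen_le f)) a = 0) :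
    ∃ n, f ^ n * a = 0 := by
  have := isLocalization_basicOpen_of_qcqs (X := S) (U := ⊤) (by rw [Opens.carrier_eq_coe, Opens.coe_top]; exact isCompact_univ)
    (by rw [Opens.carrier_eq_coe, Opens.coe_top]; exact isQuasiSeparated_univ) f
  obtain ⟨⟨_, n, rfl⟩, hn⟩ := (IsLocalization.map_eq_zero_iff (Submonoid.powers f) Γ(S, S.basicOpen f) a).1 ha
  exact ⟨n, hn⟩

/-- The functions with affine nonvanishing loci covering generate the unit ideal. -/
theorem span_eq_top (h : ExtendsFromReduced S) {r : ℕ} (f : Fin r → Γ(S, ⊤))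
    (hf : ∀ l, IsAffineOpen (S.basicOpen (f l))) (hcov : ⨆ l, S.basicOpen (f l) = ⊤) :
    Ideal.span (Set.range f) = ⊤ := by
  classical
  by_contra hne
  obtain ⟨p, hp, hfp⟩ := Ideal.exists_le_maximal _ hne
  have hfp' : ∀ l, f l ∈ p := fun l => hfp (Ideal.subset_span ⟨l, rfl⟩)
  let P : Set (Ideal Γ(S, ⊤)) := {q | q.IsPrime ∧ q ≤ p ∧ ∃ l, f l ∉ q}
  -- some prime under `p` misses some `f l`
  have hP : P.Nonempty := by
    obtain ⟨q, hq, hqp⟩ := Ideal.exists_minimalPrimes_le (bot_le : (⊥ : Ideal Γ(S, ⊤)) ≤ p)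
    refine ⟨q, hq.1.1, hqp, ?_⟩
    by_contra! hall
    have hnil : ∀ l, ∃ t, t ∉ q ∧ ∃ N, t * f l ^ N = 0 := by
      intro l
      by_contra! hno
      let M : Submonoid Γ(S, ⊤) :=
        { carrier := {z | ∃ t, t ∉ q ∧ ∃ N, z = t * f l ^ N}
          one_mem' := ⟨1, fun h1 => hq.1.1.ne_top ((Ideal.eq_top_iff_one q).2 h1), 0, by simp⟩
          mul_mem' := by
            rintro _ _ ⟨t, ht, N, rfl⟩ ⟨t', ht', N', rfl⟩
            exact ⟨t * t', fun hh => (hq.1.1.mem_or_mem hh).elim ht ht', N + N', by ring⟩ }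
      obtain ⟨q', hq', -, hdisj⟩ := Ideal.exists_le_prime_disjoint ⊥ M (Set.disjoint_left.2 fun z hz hzM => by
        obtain ⟨t, ht, N, rfl⟩ := hzM
        exact hno t ht N hz)
      have hq'q : q' ≤ q := fun z hz => by
        by_contra hzq
        exact Set.disjoint_left.1 hdisj hz ⟨z, hzq, 0, by simp⟩
      have := hq.2 ⟨hq', bot_le⟩ hq'q
      exact Set.disjoint_left.1 hdisj (this (hall l))
        ⟨1, fun h1 => hq.1.1.ne_top ((Ideal.eq_top_iff_one q).2 h1), 1, by simp⟩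
    choose t ht N hN using hnil
    have htq : ∏ l, t l ∉ q := fun hmem => by
      obtain ⟨l, -, hl⟩ := hq.1.1.prod_mem_iff.1 hmem
      exact ht l hl
    refine htq ?_
    have hz : ∀ l, (rS (S.basicOpen_le (f l))) (∏ l', t l') = 0 := fun l => by
      rw [← Finset.mul_prod_erase _ _ (Finset.mem_univ l), map_mul]
      have h1 := congrArg (rS (S.basicOpen_le (f l))) (hN l)
      have hu : IsUnit ((rS (S.basicOpen_le (f l))) (f l ^ N l)) := by
        rw [map_pow]; exact (RingedSpace.isUnit_res_basicOpen S.toRingedSpace (f l)).pow _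
      rw [map_mul, map_zero, hu.mul_left_eq_zero] at h1
      rw [h1, zero_mul]
    have h0 : ∏ l', t l' = 0 :=
      S.sheaf.eq_of_locally_eq' (fun l => S.basicOpen (f l)) ⊤ (fun l => homOfLE le_top) hcov.ge _ _
        fun l => (hz l).trans (map_zero _).symm
    rw [h0]
    exact zero_mem _
  -- a maximal one
  obtain ⟨q₀, hq₀⟩ := hP
  obtain ⟨q, hq0q, hqmax⟩ := zorn_le_nonempty₀ P (fun c hc hchain y hy => by
    refine ⟨sSup c, ⟨?_, sSup_le fun z hz => (hc hz).2.1, ?_⟩, fun z hz => le_sSup hz⟩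
    · refine ⟨fun htop => hp.ne_top (top_le_iff.1 (htop ▸ sSup_le fun z hz => (hc hz).2.1)), fun {a b} hab => ?_⟩
      obtain ⟨z, hz, habz⟩ := (Submodule.mem_sSup_of_directed ⟨y, hy⟩ hchain.directedOn).1 hab
      exact ((hc hz).1.mem_or_mem habz).imp (fun h' => (le_sSup hz) h') fun h' => (le_sSup hz) h'
    · by_contra! hall
      have hsub : ∀ s : Finset (Fin r), ∃ z ∈ c, ∀ l ∈ s, f l ∈ z := by
        intro s
        induction s using Finset.induction with
        | empty => exact ⟨y, hy, by simp⟩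
        | insert a s _ ih =>
          obtain ⟨z, hz, hzs⟩ := ih
          obtain ⟨z', hz', ha⟩ := (Submodule.mem_sSup_of_directed ⟨y, hy⟩ hchain.directedOn).1 (hall a)
          obtain ⟨w, hw, hzw, hz'w⟩ := hchain.directedOn z hz z' hz'
          exact ⟨w, hw, fun l hl => by
            rcases Finset.mem_insert.1 hl with rfl | hl
            · exact hz'w ha
            · exact hzw (hzs l hl)⟩
      obtain ⟨z, hz, hzall⟩ := hsub Finset.univ
      obtain ⟨l, hl⟩ := (hc hz).2.2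
      exact hl (hzall l (Finset.mem_univ l))) q₀ hq₀
  obtain ⟨⟨hqP, hqp, l₀, hl₀⟩, hmax⟩ := hqmax
  let g := f l₀
  -- the point of `D(g)` with prime `q`
  obtain ⟨y, hy⟩ : ∃ y : S, ∀ a : Γ(S, ⊤), y ∈ S.basicOpen a ↔ a ∉ q := by
    have hloc := isLocalization_basicOpen_of_qcqs (X := S) (U := ⊤) (by rw [Opens.carrier_eq_coe, Opens.coe_top]; exact isCompact_univ)
      (by rw [Opens.carrier_eq_coe, Opens.coe_top]; exact isQuasiSeparated_univ) g
    have hdisj : Disjoint (Submonoid.powers g : Set Γ(S, ⊤)) (q : Set Γ(S, ⊤)) :=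
      Set.disjoint_left.2 fun z ⟨n, hn⟩ hz => hl₀ (hqP.mem_of_pow_mem n (by
        rw [show g ^ n = z from hn]; exact hz))
    let q' := q.map (algebraMap Γ(S, ⊤) Γ(S, S.basicOpen g))
    have hq' : q'.IsPrime := IsLocalization.isPrime_of_isPrime_disjoint (Submonoid.powers g) _ q hqP hdisj
    have hcomap : q'.comap (algebraMap Γ(S, ⊤) Γ(S, S.basicOpen g)) = q :=
      IsLocalization.under_map_of_isPrime_disjoint (Submonoid.powers g) Γ(S, S.basicOpen g) hqP hdisj
    let z : PrimeSpectrum Γ(S, S.basicOpen g) := ⟨q', hq'⟩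
    refine ⟨(hf l₀).fromSpec z, fun a => ?_⟩
    have h1 : (hf l₀).fromSpec z ∈ S.basicOpen ((rS (S.basicOpen_le g)) a) ↔ (rS (S.basicOpen_le g)) a ∉ q' := by
      change z ∈ (hf l₀).fromSpec ⁻¹ᵁ S.basicOpen ((rS (S.basicOpen_le g)) a) ↔ _
      rw [(hf l₀).fromSpec_preimage_basicOpen]
      rfl
    rw [Scheme.basicOpen_res] at h1
    have hzD : (hf l₀).fromSpec z ∈ S.basicOpen g := by
      rw [← SetLike.mem_coe, ← (hf l₀).range_fromSpec]
      exact ⟨z, rfl⟩
    refine Iff.trans ⟨fun h' => ⟨hzD, h'⟩, fun h' => h'.2⟩ (h1.trans ?_)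
    rw [← hcomap]
    rfl
  obtain ⟨Z, ι, _, _, hr, hsurj⟩ := h ⟨closure {y}, isClosed_closure⟩
  obtain ⟨η, hη⟩ : y ∈ Set.range ι := hr.ge (subset_closure rfl)
  have hgen : IsGenericPoint η Set.univ := Set.eq_univ_of_forall fun z => specializes_iff_mem_closure.1 <| by
    rw [← ι.isClosedEmbedding.isInducing.specializes_iff, hη]
    exact specializes_iff_mem_closure.2 (hr.le ⟨z, rfl⟩)
  have : IrreducibleSpace Z := (irreducibleSpace_def _).2 (by
    rw [Set.top_eq_univ, ← hgen.def]; exact isIrreducible_singleton.closure)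
  have : IsIntegral Z := isIntegral_of_irreducibleSpace_of_isReduced Z
  have hη' : ∀ O : Z.Opens, (O : Set Z).Nonempty → η ∈ O := fun O hO => (hgen.mem_open_set_iff O.2).2 (by simpa using hO)
  -- the kernel of restriction to `Z` is inside `q`
  have hker : ∀ a, ι.appTop a = 0 → a ∈ q := fun a ha => by
    by_contra haq
    have h1 : η ∈ ι ⁻¹ᵁ S.basicOpen a := show ι η ∈ S.basicOpen a by rw [hη]; exact (hy a).2 haq
    rw [Scheme.preimage_basicOpen_top, ha] at h1
    simp only [Scheme.basicOpen_zero] at h1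
    exact h1
  have hkerq : ∀ a ∈ q, ι.appTop a = 0 := fun a ha => by
    by_contra hne0
    have h1 : η ∈ Z.basicOpen (ι.appTop a) := hη' _ (by
      rw [Set.nonempty_iff_ne_empty]
      intro hemp
      exact hne0 ((basicOpen_eq_bot_iff _).1 (SetLike.coe_injective hemp)))
    rw [← Scheme.preimage_basicOpen_top] at h1
    have h2 : y ∈ S.basicOpen a := hη ▸ h1
    exact (hy a).1 h2 ha
  have hgp : g ∈ p := hfp' l₀
  -- fractions with denominator `g`
  have hfrac : ∀ l, ∃ t, t ∉ p ∧ ∃ (N : ℕ) (a : Γ(S, ⊤)), t * f l ^ N - a * g ∈ q := by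
    intro l
    by_contra! hno
    by_cases hlq : f l ∈ q
    · exact hno 1 (fun h1 => hp.ne_top ((Ideal.eq_top_iff_one p).2 h1)) 1 0 (by simpa using hlq)
    let M : Submonoid Γ(S, ⊤) :=
      { carrier := {z | ∃ t, t ∉ p ∧ ∃ N, z = t * f l ^ N}
        one_mem' := ⟨1, fun h1 => hp.ne_top ((Ideal.eq_top_iff_one p).2 h1), 0, by simp⟩
        mul_mem' := by
          rintro _ _ ⟨t, ht, N, rfl⟩ ⟨t', ht', N', rfl⟩
          exact ⟨t * t', fun hh => (hp.isPrime.mem_or_mem hh).elim ht ht', N + N', by ring⟩ }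
    obtain ⟨q', hq', hle, hdisj⟩ := Ideal.exists_le_prime_disjoint (q ⊔ Ideal.span {g}) M
      (Set.disjoint_left.2 fun z hz hzM => by
        obtain ⟨t, ht, N, rfl⟩ := hzM
        obtain ⟨b, hb, c, hc, hbc⟩ := Submodule.mem_sup.1 hz
        obtain ⟨a, rfl⟩ := Ideal.mem_span_singleton'.1 hc
        refine hno t ht N a ?_
        rw [← hbc, add_sub_cancel_right]
        exact hb)
    have hq'P : q' ∈ P := ⟨hq', fun z hz => by
        by_contra hzp
        exact Set.disjoint_left.1 hdisj hz ⟨z, hzp, 0, by simp⟩,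
      l, fun hl => Set.disjoint_left.1 hdisj hl ⟨1, fun h1 => hp.ne_top ((Ideal.eq_top_iff_one p).2 h1), 1, by simp⟩⟩
    exact hl₀ (hmax hq'P (le_sup_left.trans hle) (hle (Ideal.mem_sup_right (Ideal.mem_span_singleton_self g))))
  choose t ht N a hta using hfrac
  let T := ∏ l, t l
  have hT : T ∉ p := fun hmem => by
    obtain ⟨l, -, hl⟩ := hp.isPrime.prod_mem_iff.1 hmem
    exact ht l hl
  let D : Fin r → Z.Opens := fun l => ι ⁻¹ᵁ S.basicOpen (f l)
  let ρ : ∀ l, Γ(S, ⊤) →+* Γ(Z, D l) := fun l =>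
    (Z.presheaf.map (homOfLE (le_top : D l ≤ ⊤)).op).hom.comp ι.appTop.hom
  have hsl : ∀ l, ∃ s : Γ(Z, D l), s * ρ l g = ρ l T := by
    intro l
    have hu : IsUnit (ρ l (f l)) := by
      have h1 := RingedSpace.isUnit_res_basicOpen Z.toRingedSpace (ι.appTop (f l))
      have key : ∀ (O : Z.Opens), O = Z.basicOpen (ι.appTop (f l)) →
          IsUnit (Z.presheaf.map (homOfLE (le_top : O ≤ ⊤)).op (ι.appTop (f l))) := by
        rintro O rfl
        exact h1
      exact key _ (Scheme.preimage_basicOpen_top ι (f l))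
    obtain ⟨w, hw⟩ := (hu.pow (N l)).exists_left_inv
    refine ⟨ρ l (a l * ∏ l' ∈ Finset.univ.erase l, t l') * w, ?_⟩
    have h1 : ρ l (a l * g) = ρ l (t l * f l ^ N l) := by
      have h2 : ρ l (t l * f l ^ N l - a l * g) = 0 := by
        show Z.presheaf.map _ (ι.appTop _) = 0
        rw [hkerq _ (hta l), map_zero]
      rw [map_sub, sub_eq_zero] at h2
      exact h2.symm
    calc ρ l (a l * ∏ l' ∈ Finset.univ.erase l, t l') * w * ρ l g
        = ρ l (a l * g) * ρ l (∏ l' ∈ Finset.univ.erase l, t l') * w := by simp only [map_mul]; ring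
      _ = ρ l T * (w * ρ l (f l) ^ N l) := by
        rw [h1, show T = t l * ∏ l' ∈ Finset.univ.erase l, t l' from (Finset.mul_prod_erase _ _ (Finset.mem_univ l)).symm]
        simp only [map_mul, map_pow]
        ring
      _ = ρ l T := by rw [hw, mul_one]
  choose s hs using hsl
  have hcompat : TopCat.Presheaf.IsCompatible Z.sheaf.1 D s := by
    intro l m
    show Z.presheaf.map (homOfLE inf_le_left).op (s l) = Z.presheaf.map (homOfLE inf_le_right).op (s m)
    by_cases hO : ((D l ⊓ D m : Z.Opens) : Set Z).Nonempty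
    · have : Nonempty (D l ⊓ D m : Z.Opens) := hO.to_subtype
      have hne0 : Z.presheaf.map (homOfLE (le_top : D l ⊓ D m ≤ ⊤)).op (ι.appTop g) ≠ 0 := fun h0 => by
        have h1 : η ∈ D l ⊓ D m := hη' _ hO
        have h2 : η ∈ ι ⁻¹ᵁ S.basicOpen g := show ι η ∈ S.basicOpen g by rw [hη]; exact (hy g).2 hl₀
        rw [Scheme.preimage_basicOpen_top] at h2
        have h3 : η ∈ Z.basicOpen (Z.presheaf.map (homOfLE (le_top : D l ⊓ D m ≤ ⊤)).op (ι.appTop g)) := by
          rw [Scheme.basicOpen_res]; exact ⟨h1, h2⟩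
        rw [h0, Scheme.basicOpen_zero] at h3
        exact h3
      refine mul_right_cancel₀ hne0 ?_
      have key : ∀ (k : Fin r) (hk : D l ⊓ D m ≤ D k), Z.presheaf.map (homOfLE hk).op (s k) *
          Z.presheaf.map (homOfLE (le_top : D l ⊓ D m ≤ ⊤)).op (ι.appTop g) =
          Z.presheaf.map (homOfLE (le_top : D l ⊓ D m ≤ ⊤)).op (ι.appTop T) := fun k hk => by
        have h1 := congrArg (Z.presheaf.map (homOfLE hk).op) (hs k)
        have hres : ∀ a : Γ(Z, ⊤), Z.presheaf.map (homOfLE hk).op (Z.presheaf.map (homOfLE (le_top : D k ≤ ⊤)).op a) =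
            Z.presheaf.map (homOfLE (le_top : D l ⊓ D m ≤ ⊤)).op a := fun a => by
          rw [← CommRingCat.comp_apply, ← Functor.map_comp]; rfl
        rw [map_mul] at h1
        simp only [ρ, RingHom.comp_apply] at h1
        exact ((congrArg _ (hres _)).symm.trans h1).trans (hres _)
      exact (key l inf_le_left).trans (key m inf_le_right).symm
    · have : D l ⊓ D m = ⊥ := SetLike.coe_injective (Set.not_nonempty_iff_eq_empty.1 hO)
      have : Subsingleton Γ(Z, D l ⊓ D m) := by rw [this]; infer_instance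
      exact Subsingleton.elim (α := Γ(Z, D l ⊓ D m)) _ _
  have hDcov : (⊤ : Z.Opens) ≤ ⨆ l, D l := by
    simp only [D]
    rw [← Scheme.Hom.preimage_iSup, hcov]
    exact le_rfl
  obtain ⟨σ, hσ, -⟩ := Z.sheaf.existsUnique_gluing' D ⊤ (fun l => homOfLE le_top) hDcov s hcompat
  obtain ⟨c, hc⟩ := hsurj σ
  have h0 : ι.appTop (c * g - T) = 0 :=
    Z.sheaf.eq_of_locally_eq' D ⊤ (fun l => homOfLE le_top) hDcov _ _ fun l => by
      refine Eq.trans ?_ (map_zero (Z.presheaf.map (homOfLE (le_top : D l ≤ ⊤)).op).hom).symm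
      show ρ l (c * g - T) = 0
      rw [map_sub, map_mul, show ρ l c = s l from (congrArg (Z.presheaf.map _) hc).trans (hσ l), hs, sub_self]
  have hmem : c * g - T ∈ p := hqp (hker _ h0)
  refine hT ?_
  have h2 := Ideal.sub_mem p (Ideal.mul_mem_left _ c hgp) hmem
  rwa [sub_sub_cancel] at h2

/-- EGA II 5.2.1: a quasi-compact quasi-separated scheme whose functions surject to reduced closed
subschemes is affine. -/
theorem isAffine_of_extendsFromReduced (h : ExtendsFromReduced S) : IsAffine S := by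
  classical
  let G := {f : Γ(S, ⊤) // IsAffineOpen (S.basicOpen f)}
  have hcov : (Set.univ : Set S) ⊆ ⋃ f : G, (S.basicOpen f.1 : Set S) := by
    intro x _
    by_contra hx
    obtain ⟨z, hz, hzc⟩ := (isOpen_iUnion fun f : G => (S.basicOpen f.1).2).isClosed_compl.exists_closed_singleton
      ⟨x, hx⟩
    obtain ⟨f, hzf, hf⟩ := exists_affine_basicOpen h z hzc
    exact hz (Set.mem_iUnion.mpr ⟨⟨f, hf⟩, hzf⟩)
  obtain ⟨t, ht⟩ := isCompact_univ.elim_finite_subcover (fun f : G => (S.basicOpen f.1 : Set S))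
    (fun f => (S.basicOpen f.1).2) hcov
  let g : Fin t.card → Γ(S, ⊤) := fun l => (t.equivFin.symm l).1.1
  refine isAffine_of_isAffineOpen_basicOpen (Set.range g)
    (span_eq_top h g (fun l => (t.equivFin.symm l).1.2) ?_) ?_
  · refine top_le_iff.mp fun x hx => ?_
    obtain ⟨f, hf, hxf⟩ := Set.mem_iUnion₂.mp (ht (Set.mem_univ x))
    exact Opens.mem_iSup.mpr ⟨t.equivFin ⟨f, hf⟩, by simpa [g] using hxf⟩
  · rintro _ ⟨l, rfl⟩
    exact (t.equivFin.symm l).1.2

end Groth.Agent.EGA73.AffineCriterion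

end
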