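import Groth.Agent.EGA73.BiratModel
import Mathlib.LinearAlgebra.Charpoly.ToMatrix
import Mathlib.Algebra.Polynomial.Eval.Degree

/-!
Properties of the finite birational model.
-/

set_option autoImplicit false
set_option linter.style.haveILetI false
set_option backward.isDefEq.respectTransparency.types false

universe u

open CategoryTheory CategoryTheory.Limits AlgebraicGeometry Opposite TopologicalSpace Polynomial

noncomputable section

namespace Groth.Agent.EGA73

open Var76.ZeroScheme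

variable {X X' : Scheme.{u}}

theorem NatBasis.leftMul_res {g : X' ⟶ X} {V W : X.Opens} {n : ℕ} {s : Fin n → Γ(X', g ⁻¹ᵁ V)}
    (hs : NatBasis g s) (h : W ≤ V) (z : Γ(X', g ⁻¹ᵁ V)) :
    letI := (g.app V).hom.toAlgebra
    letI := (g.app W).hom.toAlgebra
    (Algebra.leftMulMatrix hs.basis z).map (fres h) =
      Algebra.leftMulMatrix (hs.res g h).basis (fres (g.preimage_mono h) z) := by
  classical
  letI := (g.app V).hom.toAlgebra
  letI := (g.app W).hom.toAlgebra
  let b := hs.basis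
  let c := (hs.res g h).basis
  let r : Γ(X, V) →+* Γ(X, W) := (X.presheaf.map (homOfLE h).op).hom
  let r' : Γ(X', g ⁻¹ᵁ V) →+* Γ(X', g ⁻¹ᵁ W) := (X'.presheaf.map (homOfLE (g.preimage_mono h)).op).hom
  have hbc : ∀ i, r' (b i) = c i := fun i => by
    rw [show b i = s i from congrFun hs.coe_basis i,
      show c i = fres (g.preimage_mono h) (s i) from congrFun (hs.res g h).coe_basis i]
  have hrepr : ∀ (x : Γ(X', g ⁻¹ᵁ V)) (i : Fin n), c.repr (r' x) i = r (b.repr x i) := by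
    intro x i
    have hx : r' x = ∑ j, r (b.repr x j) • c j := by
      conv_lhs => rw [← b.sum_repr x]
      rw [map_sum]
      refine Finset.sum_congr rfl fun j _ => ?_
      rw [Algebra.smul_def, Algebra.smul_def, map_mul, hbc]
      exact congrArg (· * _) (app_fres g h _).symm
    rw [hx, c.repr_sum_self]
  ext i j
  show r ((Algebra.leftMulMatrix b z) i j) = (Algebra.leftMulMatrix c (r' z)) i j
  rw [Algebra.leftMulMatrix_eq_repr_mul, Algebra.leftMulMatrix_eq_repr_mul, ← hrepr, map_mul, hbc]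

theorem charpoly_leftMulMatrix {R S : Type u} [CommRing R] [CommRing S] [Algebra R S] {ι ι' : Type}
    [Fintype ι] [Fintype ι'] [DecidableEq ι] [DecidableEq ι'] (b : Module.Basis ι R S)
    (c : Module.Basis ι' R S) (x : S) :
    (Algebra.leftMulMatrix b x).charpoly = (Algebra.leftMulMatrix c x).charpoly := by
  haveI := Module.Finite.of_basis b
  haveI := Module.Free.of_basis b
  rw [← Algebra.toMatrix_lmul_eq, ← Algebra.toMatrix_lmul_eq, LinearMap.charpoly_toMatrix,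
    LinearMap.charpoly_toMatrix]

theorem eq_of_res_eq {V : X.Opens} {a b : Γ(X, V)}
    (h : ∀ x ∈ V, ∃ (A : X.Opens) (hA : A ≤ V), x ∈ A ∧ fres hA a = fres hA b) : a = b := by
  choose A hA hx he using h
  exact TopCat.Sheaf.eq_of_locally_eq' X.sheaf (fun x : V => A x.1 x.2) V (fun x => homOfLE (hA x.1 x.2))
    (fun y hy => Opens.mem_iSup.2 ⟨⟨y, hy⟩, hx y hy⟩) a b fun x => he x.1 x.2

theorem subsingleton_of_no_maxPt [IsReduced X] {U : X.Opens} (h : ∀ η ∈ U, ¬ MaxPt η) : Subsingleton Γ(X, U) :=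
  ⟨fun a b => eq_of_germ_maxPt a b fun η hη hm => (h η hη hm).elim⟩

namespace GenCharts

variable {g : X' ⟶ X} (G : GenCharts g)

theorem exists_lift_coef [IsNoetherian X] [IsReduced X] [IsFinite g] {y : X}
    (hy : NormalPt y ∨ ∃ V : X.Opens, y ∈ V ∧ IsChart g V) {U : X.Opens} (hyU : y ∈ U)
    (z : Γ(X', g ⁻¹ᵁ U)) (i : ℕ) :
    ∃ (W : X.Opens) (_ : y ∈ W) (h : W ≤ U) (a : Γ(X, W)),
      G.coef W (fres (g.preimage_mono h) z) i = G.str W a := by
  classical
  rcases hy with hy | ⟨V, hyV, m, s, hs⟩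
  · obtain ⟨η, hηy, hη⟩ := exists_maxPt_specializes y
    haveI := hy.1
    obtain ⟨W₀, hW₀, hyW₀, hW₀U⟩ := exists_isAffineOpen_mem_and_subset hyU
    obtain ⟨η₀, rfl⟩ : ∃ η₀ : {η : X // MaxPt η}, η = η₀.1 := ⟨⟨η, hη⟩, rfl⟩
    let V₀ := W₀ ⊓ G.Ω η₀
    let M := G.mat η₀ W₀ (fres (g.preimage_mono hW₀U) z)
    letI := (g.app W₀).hom.toAlgebra
    letI : Algebra Γ(X, W₀) Γ(X, V₀) :=
      (X.presheaf.map (homOfLE (inf_le_left : V₀ ≤ W₀)).op).hom.toAlgebra
    haveI : Module.Finite Γ(X, W₀) Γ(X', g ⁻¹ᵁ W₀) := IsFinite.finite_app g W₀ hW₀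
    obtain ⟨p, hp, hp0⟩ := Algebra.IsIntegral.isIntegral (R := Γ(X, W₀)) (fres (g.preimage_mono hW₀U) z)
    have hM : aeval M p = 0 := by
      have h := congrArg (G.mat η₀ W₀) hp0
      rw [hom_eval₂, map_zero] at h
      rw [aeval_def, ← h]
      congr 1
      refine RingHom.ext fun a => ?_
      rw [RingHom.comp_apply, RingHom.algebraMap_toAlgebra]
      erw [G.mat_app]
      rfl
    obtain ⟨q, hq, hq0⟩ := isIntegral_coeff_pow (fun j => isIntegral_matrix_charpoly_coeff M hp hM j)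
      (G.exp η₀) i
    have hηW₀ : η₀.1 ∈ V₀ := ⟨hηy.mem_open W₀.2 hyW₀, G.mem η₀⟩
    have hint : (X.presheaf.stalkSpecializes hηy).hom.IsIntegralElem
        (X.presheaf.germ V₀ η₀.1 hηW₀ ((M.charpoly ^ G.exp η₀).coeff i)) := by
      refine ⟨q.map (X.presheaf.germ W₀ y hyW₀).hom, hq.map _, ?_⟩
      let r : Γ(X, V₀) →+* X.presheaf.stalk η₀.1 := (X.presheaf.germ V₀ η₀.1 hηW₀).hom
      have h2 := congrArg r hq0
      rw [hom_eval₂, map_zero] at h2
      rw [eval₂_map]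
      refine Eq.trans ?_ h2
      congr 1
      refine RingHom.ext fun a => ?_
      exact (X.presheaf.germ_stalkSpecializes_apply hyW₀ hηy a).trans
        (germ_fres (inf_le_left : V₀ ≤ W₀) a hηW₀).symm
    obtain ⟨A, hyA, a, ha⟩ := exists_germ_of_isIntegral hy hηy η₀.2 _ hint
    obtain ⟨O, hyO, hO⟩ := exists_nhd_maxPt_unique hηy η₀.2
    let W := W₀ ⊓ A ⊓ O
    have hWW₀ : W ≤ W₀ := inf_le_left.trans inf_le_left
    refine ⟨W, ⟨⟨hyW₀, hyA⟩, hyO⟩, hWW₀.trans hW₀U, fres (inf_le_left.trans inf_le_right) a, funext fun η' => ?_⟩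
    by_cases he : η' = η₀
    · subst he
      refine eq_of_germ_maxPt _ _ fun ξ hξ hξm => ?_
      obtain rfl := G.only η' ξ hξ.2 hξm
      rw [str_apply, fres_fres, germ_fres, ha,
        ← fres_fres (g.preimage_mono hW₀U) (g.preimage_mono hWW₀) z,
        ← congrFun (G.ambRes_coef hWW₀ (fres (g.preimage_mono hW₀U) z) i) η', ambRes_apply, germ_fres]
      rfl
    · have : Subsingleton Γ(X, W ⊓ G.Ω η') := subsingleton_of_no_maxPt fun ξ hξ hξm =>
        he (Subtype.ext ((G.only η' ξ hξ.2 hξm).symm.trans (hO ξ hξ.1.2 hξm)))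
      exact Subsingleton.elim _ _
  · let W := U ⊓ V
    letI := (g.app W).hom.toAlgebra
    let hs' := hs.res g (inf_le_right : W ≤ V)
    let z' := fres (g.preimage_mono (inf_le_left : W ≤ U)) z
    let M := Algebra.leftMulMatrix hs'.basis z'
    refine ⟨W, ⟨hyU, hyV⟩, inf_le_left, (M.charpoly ^ (G.D / m)).coeff i, funext fun η => ?_⟩
    by_cases hηW : η.1 ∈ W
    · have hle : W ⊓ G.Ω η ≤ W := inf_le_left
      haveI := nontrivial_of_mem (show η.1 ∈ W ⊓ G.Ω η from ⟨hηW, G.mem η⟩)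
      have hm : G.rank η = m :=
        (((G.natBasis η).res g (inf_le_right : W ⊓ G.Ω η ≤ G.Ω η)).rk_eq g).symm.trans
          ((hs.res g (hle.trans inf_le_right : W ⊓ G.Ω η ≤ V)).rk_eq g)
      letI := (g.app (W ⊓ G.Ω η)).hom.toAlgebra
      rw [str_apply]
      show ((G.mat η W z').charpoly ^ G.exp η).coeff i =
        (X.presheaf.map (homOfLE hle).op).hom ((M.charpoly ^ (G.D / m)).coeff i)
      rw [← Polynomial.coeff_map, Polynomial.map_pow, ← Matrix.charpoly_map]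
      have e1 : M.map (X.presheaf.map (homOfLE hle).op).hom =
          Algebra.leftMulMatrix (hs'.res g hle).basis (fres (g.preimage_mono hle) z') :=
        hs'.leftMul_res hle z'
      have e2 : G.exp η = G.D / m := by rw [exp, hm]
      rw [e1, e2]
      refine congrArg (fun p : (Γ(X, W ⊓ G.Ω η))[X] => (p ^ (G.D / m)).coeff i) ?_
      exact charpoly_leftMulMatrix _ _ _
    · have : Subsingleton Γ(X, W ⊓ G.Ω η) := subsingleton_of_no_maxPt fun ξ hξ hξm =>
        hηW (G.only η ξ hξ.2 hξm ▸ hξ.1)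
      exact Subsingleton.elim _ _

theorem bijective_strA [IsNoetherian X] [IsReduced X] [IsFinite g] {U : X.Opens}
    (hgood : ∀ y ∈ U, NormalPt y ∨ ∃ V : X.Opens, y ∈ V ∧ IsChart g V) : Function.Bijective (G.strA U) := by
  refine ⟨fun a b h => G.str_injective U (congrArg Subtype.val h), fun b => ?_⟩
  suffices b.1 ∈ (G.str U).range by
    obtain ⟨a, ha⟩ := this
    exact ⟨a, Subtype.ext ha⟩
  refine (Subring.closure_le.2 ?_ : G.A U ≤ (G.str U).range) b.2
  rintro _ (⟨r, rfl⟩ | ⟨⟨z, i⟩, rfl⟩)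
  · exact ⟨r, rfl⟩
  choose W hyW hWU a ha using fun y : U => G.exists_lift_coef (hgood y.1 y.2) y.2 z i
  obtain ⟨c, hc, -⟩ := TopCat.Sheaf.existsUnique_gluing' X.sheaf W U (fun y => homOfLE (hWU y))
    (fun y hy => Opens.mem_iSup.2 ⟨⟨y, hy⟩, hyW ⟨y, hy⟩⟩) a fun y y' => G.str_injective _ (by
      show G.str (W y ⊓ W y') (fres inf_le_left (a y)) = G.str (W y ⊓ W y') (fres inf_le_right (a y'))
      rw [← G.ambRes_str, ← G.ambRes_str, ← ha, ← ha, G.ambRes_coef, G.ambRes_coef, fres_fres, fres_fres])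
  refine ⟨c, funext fun η => eq_of_germ_maxPt _ _ fun ξ hξ hξm => ?_⟩
  let y : U := ⟨ξ, hξ.1⟩
  have hm : ξ ∈ W y ⊓ G.Ω η := ⟨hyW y, hξ.2⟩
  rw [← germ_fres (inf_le_inf_right (G.Ω η) (hWU y)) _ hm,
    ← germ_fres (inf_le_inf_right (G.Ω η) (hWU y)) (G.coef U z i η) hm]
  congr 1
  rw [← G.ambRes_apply (hWU y), ← G.ambRes_apply (hWU y), G.ambRes_coef (hWU y), G.ambRes_str (hWU y), ha,
    show fres (hWU y) c = a y from hc y]

variable [IsFinite g] [IsReduced X]

/-- The model. -/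
abbrev Z : Scheme.{u} := G.data.spec

/-- The projection of the model. -/
abbrev h : G.Z ⟶ X := G.data.π

theorem gamma_app (U : X.AffineZariskiSite) : G.h.app U.1 ≫ G.data.gamma U = CommRingCat.ofHom (G.strA U.1) :=
  G.data.str_gamma U

/-- The sections of the model over an affine open. -/
def γ (U : X.AffineZariskiSite) : Γ(G.Z, G.h ⁻¹ᵁ U.1) ≅ CommRingCat.of (G.A U.1) :=
  @asIso _ _ _ _ (G.data.gamma U) (G.data.isIso_gamma U)

theorem γ_app (U : X.AffineZariskiSite) (a : Γ(X, U.1)) :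
    (G.γ U).hom (G.h.app U.1 a) = G.strA U.1 a :=
  ConcreteCategory.congr_hom (G.gamma_app U) a

theorem app_eq (U : X.AffineZariskiSite) :
    G.h.app U.1 = CommRingCat.ofHom (G.strA U.1) ≫ (G.γ U).inv :=
  (Iso.eq_comp_inv _).2 (G.gamma_app U)

theorem isFinite_h [IsNoetherian X] : IsFinite G.h := by
  refine { finite_app := fun U hU => ?_ }
  show (G.h.app (⟨U, hU⟩ : X.AffineZariskiSite).1).hom.Finite
  rw [G.app_eq]
  exact (RingHom.Finite.of_surjective _
    (ConcreteCategory.bijective_of_isIso (G.γ ⟨U, hU⟩).inv).2).comp (G.finite_strA hU)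

theorem isReduced_Z : IsReduced G.Z := by
  haveI : ∀ U : X.AffineZariskiSite, IsReduced (G.data.glueData.cover.X U) := fun U => by
    haveI : ∀ η : {η : X // MaxPt η}, _root_.IsReduced Γ(X, U.1 ⊓ G.Ω η) := fun η => inferInstance
    haveI : _root_.IsReduced (G.Amb U.1) := inferInstance
    haveI : _root_.IsReduced (G.A U.1) := isReduced_of_injective (G.A U.1).subtype Subtype.val_injective
    exact inferInstanceAs (IsReduced (Spec (CommRingCat.of (G.A U.1))))
  exact IsReduced.of_openCover (X := G.data.spec) (𝒰 := G.data.glueData.cover)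

theorem isIso_restrict [IsNoetherian X] {W : X.Opens}
    (hgood : ∀ y ∈ W, NormalPt y ∨ ∃ V : X.Opens, y ∈ V ∧ IsChart g V) : IsIso (G.h ∣_ W) := by
  choose U hU hyU hUW using fun y : W => exists_isAffineOpen_mem_and_subset y.2
  have hcov : ⨆ y, W.ι ⁻¹ᵁ U y = ⊤ := eq_top_iff.2 fun y _ => Opens.mem_iSup.2 ⟨y, hyU y⟩
  refine (IsZariskiLocalAtTarget.iff_of_iSup_eq_top (P := MorphismProperty.isomorphisms Scheme) _ hcov).2
    fun y => ?_
  have himg : W.ι ''ᵁ (W.ι ⁻¹ᵁ U y) = U y := by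
    rw [Scheme.Hom.image_preimage_eq_opensRange_inf, Scheme.Opens.opensRange_ι]
    exact inf_eq_right.2 (hUW y)
  have h1 : IsIso (G.h ∣_ U y) := by
    haveI : IsAffine (U y : Scheme.{u}) := hU y
    haveI : IsAffine (G.h ⁻¹ᵁ U y : Scheme.{u}) := (hU y).preimage G.h
    have hb : IsIso (CommRingCat.ofHom (G.strA (U y))) :=
      (ConcreteCategory.isIso_iff_bijective _).2 (G.bijective_strA fun z hz => hgood z (hUW y hz))
    have hb2 : IsIso (G.h.app (⟨U y, hU y⟩ : X.AffineZariskiSite).1) := by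
      rw [G.app_eq]; exact @IsIso.comp_isIso _ _ _ _ _ _ _ hb inferInstance
    have hb3 : IsIso (G.h ∣_ U y).appTop := by
      rw [morphismRestrict_appTop]
      have : IsIso (G.h.app ((U y).ι ''ᵁ ⊤)) := by rw [(U y).ι_image_top]; exact hb2
      refine @IsIso.comp_isIso _ _ _ _ _ _ _ this ?_
      exact Functor.map_isIso _ _
    rw [show G.h ∣_ U y = (G.h ⁻¹ᵁ U y : Scheme.{u}).isoSpec.hom ≫ Spec.map (G.h ∣_ U y).appTop ≫
      (U y : Scheme.{u}).isoSpec.inv by
        rw [reassoc_of% (Scheme.isoSpec_hom_naturality (G.h ∣_ U y)), Iso.hom_inv_id, Category.comp_id]]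
    infer_instance
  show IsIso ((G.h ∣_ W) ∣_ (W.ι ⁻¹ᵁ U y))
  rw [← MorphismProperty.isomorphisms.iff,
    MorphismProperty.arrow_mk_iso_iff (MorphismProperty.isomorphisms Scheme)
      (morphismRestrictRestrict G.h W (W.ι ⁻¹ᵁ U y)), himg]
  exact h1

/-- The union of the distinguished neighbourhoods. -/
def generic : X.Opens := ⨆ η, G.Ω η

omit [IsFinite g] [IsReduced X] in
theorem dense_generic : Dense (G.generic : Set X) := by
  refine dense_iff_inter_open.2 fun U hU ⟨x, hx⟩ => ?_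
  obtain ⟨η, hηx, hη⟩ := exists_maxPt_specializes x
  exact ⟨η, hηx.mem_open hU hx, Opens.mem_iSup.2 ⟨⟨η, hη⟩, G.mem _⟩⟩

theorem mem_basicOpen_ι (U : X.AffineZariskiSite) (b : Γ(G.Z, G.h ⁻¹ᵁ U.1))
    (P : PrimeSpectrum (G.A U.1)) :
    G.data.ι U P ∈ G.Z.basicOpen b ↔ G.data.gamma U b ∉ P.asIdeal := by
  let R := G.data.F.obj (op U)
  let ι := G.data.ι U
  have h1 : ι ⁻¹ᵁ G.Z.basicOpen b =
      (Spec R).basicOpen (ι.appLE (G.h ⁻¹ᵁ U.1) ⊤ (G.data.top_le_preimage U) b) := by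
    rw [Scheme.preimage_basicOpen]
    show _ = (Spec R).basicOpen ((Spec R).presheaf.map (homOfLE _).op (ι.app _ b))
    rw [Scheme.basicOpen_res, top_inf_eq]
  rw [basicOpen_eq_of_affine'] at h1
  exact (congrArg (fun O : (Spec R).Opens => (P : PrimeSpectrum R) ∈ O) h1).to_iff

theorem dense_preimage_generic : Dense ((G.h ⁻¹ᵁ G.generic : G.Z.Opens) : Set G.Z) := by
  refine dense_iff_inter_open.2 fun O hO ⟨z, hz⟩ => ?_
  by_contra hempty
  rw [Set.not_nonempty_iff_eq_empty] at hempty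
  obtain ⟨U, hU, hxU, -⟩ := exists_isAffineOpen_mem_and_subset (U := (⊤ : X.Opens)) (x := G.h z) trivial
  obtain ⟨b, hbO, hzb⟩ := (hU.preimage G.h).exists_basicOpen_le (V := ⟨O, hO⟩) ⟨z, hz⟩ hxU
  set U' : X.AffineZariskiSite := ⟨U, hU⟩
  have hb : b ≠ 0 := fun h => by rw [h, Scheme.basicOpen_zero] at hzb; exact hzb
  apply hb
  apply (ConcreteCategory.bijective_of_isIso (G.γ U').hom).1
  refine Eq.trans ?_ (map_zero (G.γ U').hom.hom).symm
  refine Subtype.ext (funext fun η => ?_)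
  haveI := G.isReduced_Z
  refine eq_of_res_eq (X := X) fun x hx => ?_
  obtain ⟨f, hfle, hxV⟩ := hU.exists_basicOpen_le (V := U ⊓ G.Ω η) ⟨x, hx⟩ hx.1
  let V := X.basicOpen f
  have hVU : V ≤ U := X.basicOpen_le f
  have hVle : V ≤ U ⊓ G.Ω η := hfle
  let V' : X.AffineZariskiSite := U'.basicOpen f
  refine ⟨V ⊓ G.Ω η, inf_le_inf_right _ hVU, ⟨hxV, hx.2⟩, ?_⟩
  have h0 : fres (G.h.preimage_mono hVU) b = 0 := by
    rw [← basicOpen_eq_bot_iff, eq_bot_iff]
    intro w hw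
    have hw' := (G.Z.basicOpen_res b (homOfLE (G.h.preimage_mono hVU)).op).le hw
    have : w ∈ O ∩ ((G.h ⁻¹ᵁ G.generic : G.Z.Opens) : Set G.Z) :=
      ⟨hbO hw'.2, Opens.mem_iSup.2 ⟨η, (hVle hw'.1).2⟩⟩
    rw [hempty] at this
    exact this.elim
  have h1 : (G.γ V').hom (fres (G.h.preimage_mono hVU) b) = 0 :=
    (congrArg (G.γ V').hom h0).trans (map_zero (G.γ V').hom.hom)
  have h2 : (G.γ V').hom (fres (G.h.preimage_mono hVU) b) = G.resA hVU ((G.γ U').hom b) := ConcreteCategory.congr_hom (G.data.gamma_res (homOfLE (U'.basicOpen_le f))) b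
  rw [h2] at h1
  exact (congrFun (congrArg Subtype.val h1) η).trans (map_zero (X.presheaf.map _).hom).symm

end GenCharts

end Groth.Agent.EGA73
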