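import Groth.Agent.EGA73.CharpolyInt
import Mathlib.LinearAlgebra.Matrix.Charpoly.Coeff
import Mathlib.RingTheory.IntegralClosure.IsIntegralClosure.Basic

/-!
Finiteness of the algebra generated by the coefficients of powers of characteristic polynomials; scaling.
-/

universe u

open Polynomial

namespace Groth.Agent.EGA73

theorem coeff_charpoly_pow_smul {K : Type u} [CommRing K] {n : Type*} [Fintype n] [DecidableEq n] (c : K)
    (M : Matrix n n K) (k i : ℕ) :
    c ^ i * ((c • M).charpoly ^ k).coeff i = c ^ (Fintype.card n * k) * (M.charpoly ^ k).coeff i := by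
  let φ : K[X] →+* K[X] := (aeval (C c * X) : K[X] →ₐ[K] K[X]).toRingHom
  have hφC : ∀ a, φ (C a) = C a := fun a => aeval_C _ a
  have h1 : φ (c • M).charpoly = C (c ^ Fintype.card n) * M.charpoly := by
    rw [Matrix.charpoly, RingHom.map_det, Matrix.charpoly, map_pow, ← Matrix.det_smul]
    congr 1
    ext a b : 1
    simp only [RingHom.mapMatrix_apply, Matrix.map_apply, Matrix.smul_apply, smul_eq_mul]
    by_cases hab : a = b
    · subst hab
      rw [Matrix.charmatrix_apply_eq, Matrix.charmatrix_apply_eq, Matrix.smul_apply, smul_eq_mul, map_sub,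
        hφC, show φ X = C c * X from aeval_X _, map_mul]
      ring
    · rw [Matrix.charmatrix_apply_ne _ _ _ hab, Matrix.charmatrix_apply_ne _ _ _ hab, Matrix.smul_apply,
        smul_eq_mul, map_neg, hφC, map_mul]
      ring
  have h2 : ∀ (p : K[X]) (i : ℕ), (φ p).coeff i = c ^ i * p.coeff i := by
    intro p i
    show (aeval (C c * X) p).coeff i = _
    induction p using Polynomial.induction_on' with
    | add p q hp hq => rw [map_add, coeff_add, hp, hq, coeff_add, mul_add]
    | monomial m a =>
      rw [aeval_monomial, mul_pow, ← map_pow, ← mul_assoc, ← C_eq_algebraMap, ← map_mul,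
        coeff_C_mul_X_pow, coeff_monomial]
      by_cases h : i = m
      · subst h; simp [mul_comm]
      · simp [h, Ne.symm h]
  rw [← h2, map_pow, h1, mul_pow, ← map_pow, ← pow_mul, coeff_C_mul]

variable {A : Type u} [CommRing A] {K : Type u} [CommRing K] [Algebra A K]

theorem isIntegral_coeff_pow {q : K[X]} (h : ∀ i, IsIntegral A (q.coeff i)) :
    ∀ k i, IsIntegral A ((q ^ k).coeff i)
  | 0, i => by
    rw [pow_zero, coeff_one]
    split_ifs
    exacts [isIntegral_one, isIntegral_zero]
  | k + 1, i => by
    rw [pow_succ, coeff_mul]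
    exact IsIntegral.sum _ fun x _ => (isIntegral_coeff_pow h k x.1).mul (h x.2)

theorem fg_adjoin_charpoly_pow_coeff [IsNoetherianRing A] {S : Type u} [AddCommGroup S] [Module A S]
    [Module.Finite A S] {n : Type} [Fintype n] [DecidableEq n] (e : S →ₗ[A] Matrix n n K)
    (hint : ∀ s, ∃ p : A[X], p.Monic ∧ aeval (e s) p = 0) (k : ℕ) :
    (Algebra.adjoin A {c : K | ∃ (v : S) (j : ℕ), c = ((e v).charpoly ^ k).coeff j}).toSubmodule.FG := by
  classical
  let T : Set K := {c : K | ∃ (v : S) (j : ℕ), c = ((e v).charpoly ^ k).coeff j}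
  change (Algebra.adjoin A T).toSubmodule.FG
  obtain ⟨m, g, hg⟩ := Module.Finite.exists_fin (R := A) (M := S)
  let N := ∑ l, (MvPolynomial.X l : MvPolynomial (Fin m) K) •
    (e (g l)).map (MvPolynomial.C : K →+* MvPolynomial (Fin m) K)
  let P := N.charpoly ^ k
  let C₀ : Set K := ⋃ j ∈ Finset.range (P.natDegree + 1), (fun α => (P.coeff j).coeff α) ''
    ((P.coeff j).support : Set (Fin m →₀ ℕ))
  have hC₀ : C₀.Finite := (Finset.finite_toSet _).biUnion fun _ _ => (Finset.finite_toSet _).image _
  have hle : Submodule.span A T ≤ Submodule.span A C₀ := by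
    rw [Submodule.span_le]
    rintro _ ⟨v, j, rfl⟩
    have hv : v ∈ Submodule.span A (Set.range g) := hg ▸ Submodule.mem_top
    obtain ⟨t, rfl⟩ := (Submodule.mem_span_range_iff_exists_fun A).mp hv
    have he : e (∑ l, t l • g l) = N.map (MvPolynomial.eval fun l => algebraMap A K (t l)) := by
      change _ = (MvPolynomial.eval fun l => algebraMap A K (t l)).mapMatrix N
      rw [map_sum, map_sum]
      refine Finset.sum_congr rfl fun l _ => ?_
      rw [map_smul]
      ext a c
      show t l • e (g l) a c = MvPolynomial.eval _ (MvPolynomial.X l * MvPolynomial.C (e (g l) a c))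
      rw [map_mul, MvPolynomial.eval_X, MvPolynomial.eval_C, Algebra.smul_def]
    rw [he, Matrix.charpoly_map, ← Polynomial.map_pow, coeff_map, MvPolynomial.eval_eq]
    refine Submodule.sum_mem _ fun α hα => ?_
    by_cases hj : j ≤ P.natDegree
    · have hmem : (P.coeff j).coeff α ∈ Submodule.span A C₀ := Submodule.subset_span
        (Set.mem_biUnion (Finset.mem_range.mpr (Nat.lt_succ_of_le hj)) ⟨α, hα, rfl⟩)
      rw [show (∏ i ∈ α.support, (algebraMap A K (t i)) ^ α i) = algebraMap A K (∏ i ∈ α.support, t i ^ α i) by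
        simp, mul_comm, ← Algebra.smul_def]
      exact Submodule.smul_mem _ _ hmem
    · rw [coeff_eq_zero_of_natDegree_lt (not_le.mp hj)] at hα
      simp at hα
  have := Module.Finite.span_of_finite A hC₀
  have hfg : (Submodule.span A T).FG := by
    have := IsNoetherian.noetherian ((Submodule.span A T).comap (Submodule.span A C₀).subtype)
    have h2 := this.map (Submodule.span A C₀).subtype
    rwa [Submodule.map_comap_eq, Submodule.range_subtype, inf_eq_right.mpr hle] at h2
  obtain ⟨s, hsT, hs, hspan⟩ : ∃ s ⊆ T, s.Finite ∧ T ⊆ Submodule.span A s := by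
    obtain ⟨s, hs, hs'⟩ := (Submodule.fg_span_iff_fg_span_finset_subset T).mp hfg
    exact ⟨s, hs, s.finite_toSet, hs' ▸ Submodule.subset_span⟩
  rw [le_antisymm (Algebra.adjoin_le fun x hx => Algebra.span_le_adjoin A s (hspan hx)) (Algebra.adjoin_mono hsT)]
  refine fg_adjoin_of_finite hs fun x hx => ?_
  obtain ⟨v, j, rfl⟩ := hsT hx
  obtain ⟨p, hp, hp0⟩ := hint v
  exact isIntegral_coeff_pow (fun i => isIntegral_matrix_charpoly_coeff _ hp hp0 i) k j

end Groth.Agent.EGA73
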