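import Groth.Agent.EGA73.NormalNorm
import Groth.Agent.EGA73.CharpolySpan
import Groth.Agent.EGAProj74.AlgExtend

/-!
The finite birational model on which the characteristic polynomials of a finite morphism to a reduced
Noetherian scheme have coefficients in the structure sheaf.
-/

set_option autoImplicit false
set_option linter.style.haveILetI false
set_option backward.isDefEq.respectTransparency.types false

universe u

open CategoryTheory CategoryTheory.Limits AlgebraicGeometry Opposite TopologicalSpace Polynomial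

noncomputable section

namespace Groth.Agent.EGA73

open Var76.ZeroScheme

variable {X X' : Scheme.{u}}

/-- The basis of the sections over a smaller open. -/
def NatBasis.basis {g : X' ⟶ X} {V : X.Opens} {n : ℕ} {s : Fin n → Γ(X', g ⁻¹ᵁ V)} (hs : NatBasis g s) :
    letI := (g.app V).hom.toAlgebra
    Module.Basis (Fin n) Γ(X, V) Γ(X', g ⁻¹ᵁ V) :=
  (hs.exists_basis g).choose

theorem NatBasis.coe_basis {g : X' ⟶ X} {V : X.Opens} {n : ℕ} {s : Fin n → Γ(X', g ⁻¹ᵁ V)}
    (hs : NatBasis g s) :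
    letI := (g.app V).hom.toAlgebra
    ⇑hs.basis = s :=
  (hs.exists_basis g).choose_spec

/-- Disjoint neighbourhoods of the maximal points with free direct image, and a common multiple of the ranks. -/
structure GenCharts (g : X' ⟶ X) where
  rank : {η : X // MaxPt η} → ℕ
  Ω : {η : X // MaxPt η} → X.Opens
  s : ∀ η, Fin (rank η) → Γ(X', g ⁻¹ᵁ Ω η)
  natBasis : ∀ η, NatBasis g (s η)
  mem : ∀ η, η.1 ∈ Ω η
  only : ∀ η, ∀ η' ∈ Ω η, MaxPt η' → η' = η.1
  disjoint : ∀ η η', ∀ x ∈ Ω η, x ∈ Ω η' → η = η'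
  D : ℕ
  D_pos : 0 < D
  rank_pos : ∀ η, 0 < rank η
  dvd : ∀ η, rank η ∣ D

theorem exists_genCharts [IsNoetherian X] [IsReduced X] (g : X' ⟶ X) [IsFinite g] [Surjective g] :
    Nonempty (GenCharts g) := by
  classical
  haveI : Fintype {η : X // MaxPt η} := (finite_maxPt (X := X)).fintype
  choose V hV n s hs using fun η : {η : X // MaxPt η} => exists_isChart_maxPt g η.2
  let C : {η : X // MaxPt η} → Set X := fun η => ⋃ ζ ∈ {ζ : X | MaxPt ζ} \ {η.1}, closure {ζ}
  have hC : ∀ η, IsClosed (C η) := fun η =>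
    (finite_maxPt.subset Set.sdiff_subset).isClosed_biUnion fun _ _ => isClosed_closure
  let Ω : {η : X // MaxPt η} → X.Opens := fun η => V η ⊓ ⟨(C η)ᶜ, (hC η).isOpen_compl⟩
  have hmem : ∀ η, η.1 ∈ Ω η := fun η => ⟨hV η, fun h => by
    obtain ⟨ζ, hζ, hηζ⟩ := Set.mem_iUnion₂.1 h
    exact hζ.2 (η.2 ζ (specializes_iff_mem_closure.2 hηζ))⟩
  exact ⟨{
    rank := n
    Ω := Ω
    s := fun η i => fres (g.preimage_mono inf_le_left) (s η i)
    natBasis := fun η => (hs η).res g inf_le_left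
    mem := hmem
    only := fun η η' h hη' => by
      by_contra hne
      exact h.2 (Set.mem_iUnion₂.2 ⟨η', ⟨hη', hne⟩, subset_closure rfl⟩)
    disjoint := fun η η' x hx hx' => by
      obtain ⟨ζ, hζx, hζ⟩ := exists_maxPt_specializes x
      by_contra hne
      by_cases h : ζ = η.1
      · exact hx'.2 (Set.mem_iUnion₂.2 ⟨ζ, ⟨hζ, fun e => hne (Subtype.ext (h.symm.trans e))⟩,
          specializes_iff_mem_closure.1 hζx⟩)
      · exact hx.2 (Set.mem_iUnion₂.2 ⟨ζ, ⟨hζ, h⟩, specializes_iff_mem_closure.1 hζx⟩)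
    D := ∏ η, n η
    D_pos := Finset.prod_pos fun η _ => (hs η).pos g (hV η)
    rank_pos := fun η => (hs η).pos g (hV η)
    dvd := fun η => Finset.dvd_prod_of_mem _ (Finset.mem_univ η) }⟩

namespace GenCharts

variable {g : X' ⟶ X} (G : GenCharts g)

/-- The exponent at a maximal point. -/
def exp (η : {η : X // MaxPt η}) : ℕ := G.D / G.rank η

theorem rank_mul_exp (η : {η : X // MaxPt η}) : G.rank η * G.exp η = G.D := Nat.mul_div_cancel' (G.dvd η)

/-- The rational functions over an open. -/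
abbrev Amb (U : X.Opens) : Type u := ∀ η : {η : X // MaxPt η}, Γ(X, U ⊓ G.Ω η)

/-- Restriction of rational functions. -/
def ambRes {U V : X.Opens} (h : V ≤ U) : G.Amb U →+* G.Amb V :=
  RingHom.pi fun η =>
    ((X.presheaf.map (homOfLE (inf_le_inf_right (G.Ω η) h)).op).hom).comp (Pi.evalRingHom _ η)

theorem ambRes_apply {U V : X.Opens} (h : V ≤ U) (a : G.Amb U) (η : {η : X // MaxPt η}) :
    G.ambRes h a η = fres (inf_le_inf_right (G.Ω η) h) (a η) := rfl

/-- The rational function of a function. -/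
def str (U : X.Opens) : Γ(X, U) →+* G.Amb U :=
  RingHom.pi fun _ => (X.presheaf.map (homOfLE inf_le_left).op).hom

theorem str_apply (U : X.Opens) (a : Γ(X, U)) (η : {η : X // MaxPt η}) :
    G.str U a η = fres inf_le_left a := rfl

theorem ambRes_str {U V : X.Opens} (h : V ≤ U) (a : Γ(X, U)) :
    G.ambRes h (G.str U a) = G.str V (fres h a) := by
  funext η
  rw [ambRes_apply, str_apply, str_apply, fres_fres, fres_fres]

theorem str_injective [IsReduced X] (U : X.Opens) : Function.Injective (G.str U) := fun a b hab =>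
  eq_of_germ_maxPt a b fun η hηU hη => by
    have h := congrFun hab ⟨η, hη⟩
    rw [str_apply, str_apply] at h
    rw [← germ_fres (inf_le_left : U ⊓ G.Ω ⟨η, hη⟩ ≤ U) a ⟨hηU, G.mem _⟩, h, germ_fres]

/-- The matrix of a multiplication near a maximal point. -/
def mat (η : {η : X // MaxPt η}) (U : X.Opens) :
    Γ(X', g ⁻¹ᵁ U) →+* Matrix (Fin (G.rank η)) (Fin (G.rank η)) Γ(X, U ⊓ G.Ω η) :=
  letI := (g.app (U ⊓ G.Ω η)).hom.toAlgebra
  (Algebra.leftMulMatrix ((G.natBasis η).res g (inf_le_right : U ⊓ G.Ω η ≤ G.Ω η)).basis).toRingHom.comp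
    (X'.presheaf.map (homOfLE (g.preimage_mono (inf_le_left : U ⊓ G.Ω η ≤ U))).op).hom

theorem mat_app (η : {η : X // MaxPt η}) (U : X.Opens) (a : Γ(X, U)) :
    G.mat η U (g.app U a) = algebraMap Γ(X, U ⊓ G.Ω η) _ (fres inf_le_left a) := by
  letI := (g.app (U ⊓ G.Ω η)).hom.toAlgebra
  show Algebra.leftMulMatrix _ (fres _ (g.app U a)) = _
  rw [← app_fres g (inf_le_left : U ⊓ G.Ω η ≤ U) a]
  exact AlgHom.commutes _ _

theorem mat_res (η : {η : X // MaxPt η}) {U V : X.Opens} (h : V ≤ U) (z : Γ(X', g ⁻¹ᵁ U)) :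
    (G.mat η U z).map (fres (inf_le_inf_right (G.Ω η) h)) = G.mat η V (fres (g.preimage_mono h) z) := by
  classical
  let W := U ⊓ G.Ω η
  let W' := V ⊓ G.Ω η
  let hW : W' ≤ W := inf_le_inf_right (G.Ω η) h
  letI := (g.app W).hom.toAlgebra
  letI := (g.app W').hom.toAlgebra
  let b := ((G.natBasis η).res g (inf_le_right : W ≤ G.Ω η)).basis
  let c := ((G.natBasis η).res g (inf_le_right : W' ≤ G.Ω η)).basis
  have hb : ∀ i, b i = fres (g.preimage_mono inf_le_right) (G.s η i) :=
    congrFun ((G.natBasis η).res g (inf_le_right : W ≤ G.Ω η)).coe_basis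
  have hc : ∀ i, c i = fres (g.preimage_mono inf_le_right) (G.s η i) :=
    congrFun ((G.natBasis η).res g (inf_le_right : W' ≤ G.Ω η)).coe_basis
  let r : Γ(X, W) →+* Γ(X, W') := (X.presheaf.map (homOfLE hW).op).hom
  let r' : Γ(X', g ⁻¹ᵁ W) →+* Γ(X', g ⁻¹ᵁ W') := (X'.presheaf.map (homOfLE (g.preimage_mono hW)).op).hom
  have hbc : ∀ i, r' (b i) = c i := fun i => by
    rw [hb, hc]
    exact fres_fres _ _ _
  have hrepr : ∀ (x : Γ(X', g ⁻¹ᵁ W)) (i : Fin (G.rank η)), c.repr (r' x) i = r (b.repr x i) := by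
    intro x i
    have hx : r' x = ∑ j, r (b.repr x j) • c j := by
      conv_lhs => rw [← b.sum_repr x]
      rw [map_sum]
      refine Finset.sum_congr rfl fun j _ => ?_
      rw [Algebra.smul_def, Algebra.smul_def, map_mul, hbc]
      exact congrArg (· * _) (app_fres g hW _).symm
    rw [hx, c.repr_sum_self]
  ext i j
  show r ((Algebra.leftMulMatrix b (fres _ z)) i j) = (Algebra.leftMulMatrix c (fres _ (fres _ z))) i j
  rw [Algebra.leftMulMatrix_eq_repr_mul, Algebra.leftMulMatrix_eq_repr_mul, ← hrepr, map_mul, hbc]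
  congr 3
  exact (fres_fres _ _ z).trans (fres_fres _ _ z).symm

/-- The normalised characteristic polynomial near a maximal point. -/
def pol (η : {η : X // MaxPt η}) (U : X.Opens) (z : Γ(X', g ⁻¹ᵁ U)) : (Γ(X, U ⊓ G.Ω η))[X] :=
  (G.mat η U z).charpoly ^ G.exp η

theorem pol_res (η : {η : X // MaxPt η}) {U V : X.Opens} (h : V ≤ U) (z : Γ(X', g ⁻¹ᵁ U)) :
    (G.pol η U z).map (X.presheaf.map (homOfLE (inf_le_inf_right (G.Ω η) h)).op).hom =
      G.pol η V (fres (g.preimage_mono h) z) := by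
  rw [pol, pol, Polynomial.map_pow, ← Matrix.charpoly_map]
  exact congrArg (fun M => Matrix.charpoly M ^ G.exp η) (G.mat_res η h z)

/-- The coefficients, as a rational function. -/
def coef (U : X.Opens) (z : Γ(X', g ⁻¹ᵁ U)) (i : ℕ) : G.Amb U := fun η => (G.pol η U z).coeff i

theorem ambRes_coef {U V : X.Opens} (h : V ≤ U) (z : Γ(X', g ⁻¹ᵁ U)) (i : ℕ) :
    G.ambRes h (G.coef U z i) = G.coef V (fres (g.preimage_mono h) z) i := by
  funext η
  rw [ambRes_apply, coef, coef, ← G.pol_res η h z, Polynomial.coeff_map]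

theorem coef_smul (U : X.Opens) (c : Γ(X, U)) (z : Γ(X', g ⁻¹ᵁ U)) (i : ℕ) :
    G.str U c ^ i * G.coef U (g.app U c * z) i = G.str U c ^ G.D * G.coef U z i := by
  funext η
  simp only [Pi.mul_apply, Pi.pow_apply, str_apply, coef, pol, map_mul, mat_app]
  rw [← Algebra.smul_def, coeff_charpoly_pow_smul, Fintype.card_fin, G.rank_mul_exp]

/-- The sections of the model. -/
def A (U : X.Opens) : Subring (G.Amb U) :=
  Subring.closure (Set.range (G.str U) ∪ Set.range fun p : Γ(X', g ⁻¹ᵁ U) × ℕ => G.coef U p.1 p.2)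

theorem str_mem (U : X.Opens) (a : Γ(X, U)) : G.str U a ∈ G.A U :=
  Subring.subset_closure (Or.inl ⟨a, rfl⟩)

theorem coef_mem (U : X.Opens) (z : Γ(X', g ⁻¹ᵁ U)) (i : ℕ) : G.coef U z i ∈ G.A U :=
  Subring.subset_closure (Or.inr ⟨(z, i), rfl⟩)

theorem ambRes_mem {U V : X.Opens} (h : V ≤ U) {a : G.Amb U} (ha : a ∈ G.A U) : G.ambRes h a ∈ G.A V := by
  suffices G.A U ≤ (G.A V).comap (G.ambRes h) from this ha
  refine Subring.closure_le.2 ?_
  rintro _ (⟨a, rfl⟩ | ⟨⟨z, i⟩, rfl⟩)
  · show G.ambRes h (G.str U a) ∈ G.A V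
    rw [G.ambRes_str]
    exact G.str_mem V _
  · show G.ambRes h (G.coef U z i) ∈ G.A V
    rw [G.ambRes_coef]
    exact G.coef_mem V _ i

/-- The restrictions of the model. -/
def resA {U V : X.Opens} (h : V ≤ U) : G.A U →+* G.A V :=
  ((G.ambRes h).comp (G.A U).subtype).codRestrict _ fun a => G.ambRes_mem h a.2

/-- The structure maps of the model. -/
def strA (U : X.Opens) : Γ(X, U) →+* G.A U := (G.str U).codRestrict _ (G.str_mem U)

theorem isLocalization_resA [IsFinite g] [IsReduced X] {U : X.Opens} (hU : IsAffineOpen U) (f : Γ(X, U)) :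
    letI := (G.resA (X.basicOpen_le f)).toAlgebra
    IsLocalization.Away (G.strA U f) (G.A (X.basicOpen f)) := by
  let V := X.basicOpen f
  let hV : V ≤ U := X.basicOpen_le f
  letI := (G.resA hV).toAlgebra
  let f' : G.Amb V := G.str V (fres hV f)
  refine IsLocalization.Away.mk _ ?_ (fun b => ?_) (fun a a' h => ⟨1, Subtype.ext ?_⟩)
  · show IsUnit (G.resA hV (G.strA U f))
    rw [show G.resA hV (G.strA U f) = G.strA V (fres hV f) from Subtype.ext (G.ambRes_str hV f)]
    exact (RingedSpace.isUnit_res_basicOpen _ f).map _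
  · suffices ∀ b ∈ G.A V, ∃ (m : ℕ) (a : G.Amb U), a ∈ G.A U ∧ b * f' ^ m = G.ambRes hV a by
      obtain ⟨m, a, ha, h⟩ := this b.1 b.2
      refine ⟨m, ⟨a, ha⟩, Subtype.ext ?_⟩
      show b.1 * (G.ambRes hV (G.str U f)) ^ m = G.ambRes hV a
      rw [G.ambRes_str]
      exact h
    intro b hb
    have hf' : G.ambRes hV (G.str U f) = f' := G.ambRes_str hV f
    induction hb using Subring.closure_induction with
    | mem x hx =>
      rcases hx with ⟨r, rfl⟩ | ⟨⟨z', i⟩, rfl⟩
      · haveI := hU.isLocalization_basicOpen f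
        obtain ⟨m, a, h⟩ := IsLocalization.Away.surj f r
        refine ⟨m, G.str U a, G.str_mem U a, ?_⟩
        rw [G.ambRes_str, ← map_pow, ← map_mul]
        exact congrArg (G.str V) h
      · letI : Algebra Γ(X', g ⁻¹ᵁ U) Γ(X', X'.basicOpen (g.app U f)) :=
          (X'.presheaf.map (homOfLE (X'.basicOpen_le _)).op).hom.toAlgebra
        haveI := (hU.preimage g).isLocalization_basicOpen (g.app U f)
        have he : X'.basicOpen (g.app U f) = g ⁻¹ᵁ V := (g.preimage_basicOpen f).symm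
        obtain ⟨m, z, hz⟩ := IsLocalization.Away.surj (g.app U f) (fres he.le z')
        have hz' : z' * fres (g.preimage_mono hV) (g.app U f) ^ m = fres (g.preimage_mono hV) z := by
          have h := congrArg (X'.presheaf.map (homOfLE he.ge).op).hom hz
          rw [map_mul, map_pow] at h
          refine Eq.trans ?_ (h.trans (fres_fres _ _ z))
          refine congrArg₂ (· * ·) ?_ (congrArg (· ^ m) (fres_fres _ _ _).symm)
          exact ((fres_fres _ _ z').trans (Amp73.fres_self z')).symm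
        refine ⟨m * G.D, G.str U f ^ (m * i) * G.coef U z i,
          Subring.mul_mem _ (Subring.pow_mem _ (G.str_mem U f) _) (G.coef_mem U z i), ?_⟩
        have h := G.coef_smul V (fres hV f ^ m) z' i
        rw [map_pow, map_pow (g.app V).hom, app_fres g hV, mul_comm _ z', hz', ← pow_mul, ← pow_mul] at h
        rw [map_mul, map_pow, G.ambRes_coef, hf', h, mul_comm]
    | zero => exact ⟨0, 0, zero_mem _, by simp⟩
    | one => exact ⟨0, 1, one_mem _, by simp⟩
    | add x y _ _ hx hy =>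
      obtain ⟨m, a, ha, h⟩ := hx
      obtain ⟨m', a', ha', h'⟩ := hy
      refine ⟨m + m', a * G.str U f ^ m' + a' * G.str U f ^ m,
        add_mem (mul_mem ha (pow_mem (G.str_mem U f) _)) (mul_mem ha' (pow_mem (G.str_mem U f) _)), ?_⟩
      rw [map_add, map_mul, map_mul, map_pow, map_pow, hf', ← h, ← h']
      ring
    | neg x _ hx =>
      obtain ⟨m, a, ha, h⟩ := hx
      exact ⟨m, -a, neg_mem ha, by rw [map_neg, ← h, neg_mul]⟩
    | mul x y _ _ hx hy =>
      obtain ⟨m, a, ha, h⟩ := hx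
      obtain ⟨m', a', ha', h'⟩ := hy
      exact ⟨m + m', a * a', mul_mem ha ha', by rw [map_mul, ← h, ← h']; ring⟩
  · have h' : G.ambRes hV a.1 = G.ambRes hV a'.1 := congrArg Subtype.val h
    show G.str U f ^ 1 * a.1 = G.str U f ^ 1 * a'.1
    funext η
    simp only [pow_one, Pi.mul_apply, str_apply]
    rw [← sub_eq_zero, ← mul_sub, ← basicOpen_eq_bot_iff, eq_bot_iff, Scheme.basicOpen_mul]
    intro x hx
    have hxV : x ∈ V ⊓ G.Ω η := ⟨((X.basicOpen_res f (homOfLE inf_le_left).op).le hx.1).2,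
      (X.basicOpen_le _ hx.2).2⟩
    have hd : fres (inf_le_inf_right (G.Ω η) hV) (a.1 η - a'.1 η) = 0 := by
      rw [show fres (inf_le_inf_right (G.Ω η) hV) (a.1 η - a'.1 η) =
        G.ambRes hV a.1 η - G.ambRes hV a'.1 η from map_sub _ _ _, h', sub_self]
    have := (X.basicOpen_res (a.1 η - a'.1 η) (homOfLE (inf_le_inf_right (G.Ω η) hV)).op).ge ⟨hxV, hx.2⟩
    rw [show (X.presheaf.map (homOfLE (inf_le_inf_right (G.Ω η) hV)).op).hom (a.1 η - a'.1 η) = 0 from hd,
      Scheme.basicOpen_zero] at this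
    exact this

/-- The model on the affine opens. -/
def data [IsFinite g] [IsReduced X] : EGAProj74.AffAlgData X where
  F :=
    { obj := fun U => CommRingCat.of (G.A U.unop.1)
      map := fun {U V} i => CommRingCat.ofHom (G.resA (Scheme.AffineZariskiSite.toOpens_mono i.unop.le))
      map_id := fun U => CommRingCat.hom_ext (RingHom.ext fun a => Subtype.ext (funext fun η =>
        Amp73.fres_self (a.1 η)))
      map_comp := fun i j => CommRingCat.hom_ext (RingHom.ext fun a => Subtype.ext (funext fun η =>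
        (fres_fres _ _ (a.1 η)).symm)) }
  α :=
    { app := fun U => CommRingCat.ofHom (G.strA U.unop.1)
      naturality := fun U V i => CommRingCat.hom_ext (RingHom.ext fun a => Subtype.ext
        (G.ambRes_str (Scheme.AffineZariskiSite.toOpens_mono i.unop.le) a).symm) }
  coeq := Scheme.AffineZariskiSite.coequifibered_iff_forall_isLocalizationAway.2
    fun U f => G.isLocalization_resA U.2 f

/-- Finiteness of the model. -/
theorem finite_strA [IsNoetherian X] [IsFinite g] {U : X.Opens} (hU : IsAffineOpen U) :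
    (G.strA U).Finite := by
  classical
  haveI := (finite_maxPt (X := X)).fintype
  haveI : Fintype {η : X // MaxPt η} := this
  haveI : IsNoetherianRing Γ(X, U) := IsLocallyNoetherian.component_noetherian ⟨U, hU⟩
  letI := (g.app U).hom.toAlgebra
  haveI : Module.Finite Γ(X, U) Γ(X', g ⁻¹ᵁ U) := IsFinite.finite_app g U hU
  letI : ∀ η : {η : X // MaxPt η}, Algebra Γ(X, U) Γ(X, U ⊓ G.Ω η) := fun η =>
    (X.presheaf.map (homOfLE (inf_le_left : U ⊓ G.Ω η ≤ U)).op).hom.toAlgebra
  let e : ∀ η, Γ(X', g ⁻¹ᵁ U) →ₗ[Γ(X, U)] Matrix (Fin (G.rank η)) (Fin (G.rank η)) Γ(X, U ⊓ G.Ω η) :=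
    fun η =>
    { toFun := G.mat η U
      map_add' := map_add _
      map_smul' := fun a z => by
        rw [Algebra.smul_def, map_mul, RingHom.algebraMap_toAlgebra]
        erw [G.mat_app]
        rw [← Algebra.smul_def]
        exact algebraMap_smul Γ(X, U ⊓ G.Ω η) a (G.mat η U z) }
  have hint : ∀ η v, ∃ p : (Γ(X, U))[X], p.Monic ∧ aeval (e η v) p = 0 := by
    intro η v
    obtain ⟨p, hp, hp0⟩ := Algebra.IsIntegral.isIntegral (R := Γ(X, U)) v
    refine ⟨p, hp, ?_⟩
    have h := congrArg (G.mat η U) hp0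
    rw [hom_eval₂, map_zero] at h
    rw [aeval_def, ← h]
    congr 1
    refine RingHom.ext fun a => ?_
    rw [RingHom.comp_apply, RingHom.algebraMap_toAlgebra]
    erw [G.mat_app]
    rfl
  let T : ∀ η, Submodule Γ(X, U) Γ(X, U ⊓ G.Ω η) := fun η => (Algebra.adjoin Γ(X, U)
    {c : Γ(X, U ⊓ G.Ω η) | ∃ (v : Γ(X', g ⁻¹ᵁ U)) (j : ℕ),
      c = ((e η v).charpoly ^ G.exp η).coeff j}).toSubmodule
  haveI : ∀ η, Module.Finite Γ(X, U) (T η) := fun η =>
    Module.Finite.iff_fg.2 (fg_adjoin_charpoly_pow_coeff (e η) (hint η) (G.exp η))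
  have hAT : ∀ a ∈ G.A U, ∀ η, a η ∈ T η := by
    intro a ha η
    suffices G.A U ≤ (Algebra.adjoin Γ(X, U)
        {c : Γ(X, U ⊓ G.Ω η) | ∃ (v : Γ(X', g ⁻¹ᵁ U)) (j : ℕ),
          c = ((e η v).charpoly ^ G.exp η).coeff j}).toSubring.comap
        (Pi.evalRingHom (fun η : {η : X // MaxPt η} => Γ(X, U ⊓ G.Ω η)) η) from this ha
    refine Subring.closure_le.2 ?_
    rintro _ (⟨r, rfl⟩ | ⟨⟨z, i⟩, rfl⟩)
    · exact Subalgebra.algebraMap_mem (Algebra.adjoin Γ(X, U) {c : Γ(X, U ⊓ G.Ω η) | ∃ (v : Γ(X', g ⁻¹ᵁ U)) (j : ℕ),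
          c = ((e η v).charpoly ^ G.exp η).coeff j}) r
    · exact Algebra.subset_adjoin (R := Γ(X, U)) (A := Γ(X, U ⊓ G.Ω η)) (s := {c : Γ(X, U ⊓ G.Ω η) |
          ∃ (v : Γ(X', g ⁻¹ᵁ U)) (j : ℕ), c = ((e η v).charpoly ^ G.exp η).coeff j}) ⟨z, i, rfl⟩
  letI := (G.strA U).toAlgebra
  let φ : G.A U →ₗ[Γ(X, U)] ∀ η, T η :=
    { toFun := fun a η => ⟨a.1 η, hAT a.1 a.2 η⟩
      map_add' := fun a b => rfl
      map_smul' := fun r a => rfl }
  have hφ : Function.Injective φ := fun a b h =>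
    Subtype.ext (funext fun η => congrArg Subtype.val (congrFun h η))
  exact Module.Finite.of_injective φ hφ

end GenCharts

end Groth.Agent.EGA73
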