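import Groth.Agent.EGA73.BundleImmersion
import Groth.Agent.EGAProj74.GrSymExists
import Groth.Agent.EGAProj74.Fundamental
import Groth.Agent.AlgSub72.Gen
import Groth.Agent.SubMod72.Main

/-!
Immersions into bundles of finite type from local charts.
-/

set_option autoImplicit false
set_option backward.isDefEq.respectTransparency.types false

universe u

open CategoryTheory CategoryTheory.Limits AlgebraicGeometry Opposite TopologicalSpace

noncomputable section

namespace Groth.Agent.EGA73.BundleExistence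

open Groth.Agent.Var76.LineBundle Groth.Agent.EGAProj74 BundleImmersion

variable {X S : Scheme.{u}}

/-- Finitely many sections of `F` over affine opens lie in a quasi-coherent submodule of finite type. -/
theorem exists_finiteType_through [CompactSpace S] (hS : QuasiSeparatedSpace S ∨ NoetherianSpace S)
    (F : S.Modules) [F.IsQuasicoherent] {ι : Type*} (t : Finset ι) (U : ι → S.affineOpens)
    (T : ∀ i, Set Γ(F, (U i).1)) (hT : ∀ i, (T i).Finite) :
    ∃ (E : S.Modules) (v : E ⟶ F), Mono v ∧ Coh.IsQCoh E ∧ CohB1.IsFT E ∧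
      ∀ i ∈ t, T i ⊆ Set.range (v.app (U i).1) := by
  have hext : ∀ i, ∃ P : SubMod72.Sub F, SubMod72.FG ⊤ P ∧ ∀ s ∈ T i, s ∈ P.carrier (U i).1 := by
    intro i
    obtain ⟨Q, hQ, hQe⟩ : ∃ Q : SubMod72.Sub F, SubMod72.FG ⊤ Q ∧
        SubMod72.AgreeOn (U i).1 Q (SubMod72.locSpan (T i)) := by
      rcases hS with h | h
      · exact SubMod72.exists_extension_qcqs (U i).2.isCompact (SubMod72.fg_locSpan (hT i))
      · exact SubMod72.exists_extension_noetherian (fun x => ⟨⊤, trivial, inferInstance⟩)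
          (SubMod72.fg_locSpan (hT i))
    refine ⟨Q, hQ, fun s hs => ?_⟩
    rw [hQe (U i).1 le_rfl]
    refine SubMod72.mem_locSpan le_rfl (Submodule.subset_span ⟨s, hs, ?_⟩)
    exact QC70.res_self s
  obtain ⟨P, hP, hP'⟩ := AlgSub72.exists_fg_mem_all t (fun i => (U i).1) T fun i _ => hext i
  refine ⟨SubMod72.toMod P, SubMod72.toModι P, inferInstance, (SubMod72.isQuasicoherent_isFiniteType_toMod hP).1,
    (SubMod72.isQuasicoherent_isFiniteType_toMod hP).2, fun i hi s hs => ?_⟩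
  exact (SubMod72.mem_iff_exists P s).1 (hP' i hi s hs)

/-- EGA II 4.4.1: charts everywhere give an immersion into the bundle of a module of finite type. -/
theorem exists_bundle_immersion (q : X ⟶ S) [QuasiCompact q] [QuasiSeparated q] [LocallyOfFiniteType q]
    [CompactSpace S] (hS : QuasiSeparatedSpace S ∨ NoetherianSpace S) {L : X.Modules} (hL : PicF.IsInvertible L)
    (hd : ∀ x : X, ∃ (U : S.affineOpens) (T : Set Γ(L, q ⁻¹ᵁ U.1)), HasChart q U T x) :
    ∃ (E : S.Modules) (𝒯 : RelProj.QCGrAlg S) (j : E ⟶ 𝒯.toModule) (P : Scheme.{u}) (p : P ⟶ S)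
      (chart : ∀ (U : S.Opens) (hU : IsAffineOpen U), ((p ⁻¹ᵁ U : P.Opens) : Scheme.{u}) ≅ Proj (𝒯.deg U hU))
      (O1 : P.Modules)
      (lam : ∀ (U : S.Opens) (hU : IsAffineOpen U),
        O1 ⟶ (Scheme.Modules.pushforward (RelProj.emb p chart U hU)).obj (GrTwist.twist (𝒯.deg U hU) 1))
      (i : X ⟶ P),
      Coh.IsQCoh E ∧ CohB1.IsFT E ∧ RelProj.IsGrSymAlg E 𝒯 j ∧ RelProj.IsRelProj 𝒯 p chart ∧
        RelProj.IsRelTwist 𝒯 p chart 1 O1 lam ∧ IsImmersion i ∧ i ≫ p = q ∧
        Nonempty (L ≅ (Scheme.Modules.pullback i).obj O1) := by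
  classical
  have : CompactSpace X := QuasiCompact.compactSpace_of_compactSpace q
  choose U T hU using hd
  choose T₀ _ hT₀ hchart using fun x => (hU x).exists_finite
  have hW : ∀ x, ∃ W : X.Opens, x ∈ W ∧ ∀ y ∈ W, HasChart q (U x) (T₀ x) y := fun x => by
    obtain ⟨s, hs, c, hc, hx, ha, hcl⟩ := hchart x
    exact ⟨X.basicOpen c, hx, fun y hy => ⟨s, hs, c, hc, hy, ha, hcl⟩⟩
  choose W hxW hWc using hW
  obtain ⟨Z, hZ⟩ := isCompact_univ.elim_finite_subcover (fun x => (W x : Set X)) (fun x => (W x).2)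
    fun x _ => Set.mem_iUnion.2 ⟨x, hxW x⟩
  let F := (Scheme.Modules.pushforward q).obj L
  have : L.IsQuasicoherent := Mero90.isQCoh_of_isInvertible hL
  have : F.IsQuasicoherent := QCqs72.isQuasicoherent_pushforward L q
  obtain ⟨E, v, -, hEq, hEft, hv⟩ := exists_finiteType_through hS F Z U (fun x => T₀ x) hT₀
  have hd' : ∀ x : X, ∃ U' : S.affineOpens, HasChart q U' (Set.range (v.app U'.1)) x := fun x => by
    obtain ⟨y, hy, hxy⟩ := Set.mem_iUnion₂.1 (hZ (Set.mem_univ x))
    exact ⟨U y, (hWc y x hxy).mono (hv y hy)⟩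
  have hgen : IsGenerating v := fun x => by
    obtain ⟨U', s, ⟨e, he⟩, c, -, hx, -⟩ := hd' x
    subst he
    exact ⟨U', e, _, flocus_le _, X.basicOpen_le c hx, isFrame_flocus _⟩
  obtain ⟨𝒯, j, hj, P, p, chart, hP, O1, lam, hO1⟩ := exists_projBundle (E := E) hEq
  obtain ⟨φ, hφ⟩ := exists_canonical (lam := lam) hEq hj hO1 hP
  obtain ⟨r, hr⟩ := exists_classifies hEq hj hP hO1 hφ hgen
  have himm := isImmersion_of_classifies hEq hj hO1 hφ hr hd'
  obtain rfl := hr.comp_eq
  obtain ⟨τ, -⟩ := exists_iso_of_classifies hEq hj hO1 hφ hgen hr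
  exact ⟨E, 𝒯, j, P, p, chart, O1, lam, r, hEq, hEft, hj, hP, hO1, himm, rfl, ⟨τ.symm⟩⟩

end Groth.Agent.EGA73.BundleExistence

end
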