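import Groth.Agent.EGA73.TensorFrame
import Groth.Agent.EGAProj74.BundleClass
import Groth.Agent.Amp73.PullTensor

/-! `P(E) ≅ P(E ⊗ L)` for an invertible `L`. -/

set_option autoImplicit false
set_option backward.isDefEq.respectTransparency.types false

universe u

open CategoryTheory CategoryTheory.Limits AlgebraicGeometry TopologicalSpace Opposite
open scoped HomogeneousIdeal

noncomputable section

namespace Groth.Agent.EGA73.BundleTensor

open Var76.LineBundle EGAProj74 Amp73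

section ext

variable {S P X : Scheme.{u}} {E : S.Modules} {𝒮 : RelProj.QCGrAlg S} {j : E ⟶ 𝒮.toModule} {p : P ⟶ S}
  {chart : ∀ (U : S.Opens) (hU : IsAffineOpen U), ((p ⁻¹ᵁ U : P.Opens) : Scheme.{u}) ≅ Proj (𝒮.deg U hU)}
  (hE : E.IsQuasicoherent) (hj : RelProj.IsGrSymAlg E 𝒮 j) (hP : RelProj.IsRelProj 𝒮 p chart)

include hE hP in
/-- Morphisms to a bundle agree when they have the same coordinates. -/
theorem hom_ext_coord {a b : X ⟶ P} (hab : a ≫ p = b ≫ p)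
    (h : ∀ x : X, ∃ (U : S.affineOpens) (e : Γ(E, U.1)) (V : X.Opens)
      (hA : V ≤ a ⁻¹ᵁ dOpen j chart U e) (hB : V ≤ b ⁻¹ᵁ dOpen j chart U e), x ∈ V ∧
        ∀ e', a.appLE _ V hA (dFrac chart hj U e e') = b.appLE _ V hB (dFrac chart hj U e e')) : a = b := by
  refine Scheme.hom_ext_of_forall a b fun x => ?_
  obtain ⟨U, e, V, hA, hB, hx, he⟩ := h x
  refine ⟨V, hx, ?_⟩
  rw [ι_comp_eq_affMor a (isAffineOpen_dOpen chart hj U e) hA,
    ι_comp_eq_affMor b (isAffineOpen_dOpen chart hj U e) hB,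
    chartRing_hom_ext chart hj hP hE U e (θ := a.appLE _ V hA) (θ' := b.appLE _ V hB) ?_ he]
  rw [Scheme.Hom.appLE_comp_appLE, Scheme.Hom.appLE_comp_appLE]
  simp only [hab]

end ext

variable {S P Q : Scheme.{u}} {E L : S.Modules}
  {𝒮 : RelProj.QCGrAlg S} {j : E ⟶ 𝒮.toModule} {p : P ⟶ S}
  {chart : ∀ (U : S.Opens) (hU : IsAffineOpen U), ((p ⁻¹ᵁ U : P.Opens) : Scheme.{u}) ≅ Proj (𝒮.deg U hU)}
  {O1 : P.Modules}
  {lam : ∀ (U : S.Opens) (hU : IsAffineOpen U),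
    O1 ⟶ (Scheme.Modules.pushforward (RelProj.emb p chart U hU)).obj (GrTwist.twist (𝒮.deg U hU) 1)}
  {φ : E ⟶ (Scheme.Modules.pushforward p).obj O1}
  {𝒯 : RelProj.QCGrAlg S} {k : CohB1.tensorMod E L ⟶ 𝒯.toModule} {q : Q ⟶ S}
  {chartQ : ∀ (U : S.Opens) (hU : IsAffineOpen U), ((q ⁻¹ᵁ U : Q.Opens) : Scheme.{u}) ≅ Proj (𝒯.deg U hU)}
  {OQ : Q.Modules}
  {lamQ : ∀ (U : S.Opens) (hU : IsAffineOpen U),
    OQ ⟶ (Scheme.Modules.pushforward (RelProj.emb q chartQ U hU)).obj (GrTwist.twist (𝒯.deg U hU) 1)}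
  {ψ : CohB1.tensorMod E L ⟶ (Scheme.Modules.pushforward q).obj OQ}

variable (φ L) in
/-- `m ⊗ l ↦ φ m ⊗ p^* l`. -/
def twistPairing : Mero90.Pairing E L ((Scheme.Modules.pushforward p).obj
    (CohB1.tensorMod O1 ((Scheme.Modules.pullback p).obj L))) where
  b W m l := tm O1 _ (φ.app W m) (pullS p L W l)
  add_left W m m' l := by
    have h : φ.app W (m + m') = φ.app W m + φ.app W m' := map_add _ _ _
    rw [h]; exact tm_add_left _ _ _
  add_right W m l l' := by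
    have h : pullS p L W (l + l') = pullS p L W l + pullS p L W l' := map_add _ _ _
    rw [h]; exact tm_add_right _ _ _
  smul_left W r m l := by
    refine (congrArg (fun c => tm O1 _ c (pullS p L W l)) (Scheme.Modules.Hom.app_smul φ r m)).trans ?_
    exact tm_smul_left (p.app W r) _ _
  smul_right W r m l := by rw [pullS_smul, tm_smul_right]; rfl
  nat W V h m l := by
    rw [← res_pullS, show φ.app V (res E h m) = res O1 (p.preimage_mono h) (φ.app W m) from mres_app φ h m,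
      ← res_tm]
    rfl

variable (φ L) in
/-- The map classifying `P(E) ⟶ P(E ⊗ L)`. -/
def twistMap : CohB1.tensorMod E L ⟶ (Scheme.Modules.pushforward p).obj
    (CohB1.tensorMod O1 ((Scheme.Modules.pullback p).obj L)) :=
  (twistPairing L φ).lift

theorem twistMap_tm (W : S.Opens) (m : Γ(E, W)) (l : Γ(L, W)) :
    (twistMap L φ).app W (tm E L m l) = tm O1 _ (φ.app W m) (pullS p L W l) :=
  (twistPairing L φ).lift_tmul W m l

variable (hE : E.IsQuasicoherent) (hF : (CohB1.tensorMod E L).IsQuasicoherent) (hL : PicF.IsInvertible L)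
  (hj : RelProj.IsGrSymAlg E 𝒮 j) (hP : RelProj.IsRelProj 𝒮 p chart)
  (hO1 : RelProj.IsRelTwist 𝒮 p chart 1 O1 lam) (hφ : IsCanonical lam j φ)
  (hk : RelProj.IsGrSymAlg (CohB1.tensorMod E L) 𝒯 k) (hQ : RelProj.IsRelProj 𝒯 q chartQ)
  (hOQ : RelProj.IsRelTwist 𝒯 q chartQ 1 OQ lamQ) (hψ : IsCanonical lamQ k ψ)

include hL hj hO1 hφ in
theorem isFrame_twistMap {U : S.affineOpens} {l : Γ(L, U.1)} (hl : IsFrame L U.1 l) (e : Γ(E, U.1)) :
    IsFrame _ (dOpen j chart U e) (res _ (dOpen_le (j := j) chart U e) ((twistMap L φ).app U.1 (tm E L e l))) := by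
  rw [twistMap_tm]
  refine Eq.subst (motive := fun z => IsFrame _ (dOpen j chart U e) z)
    (res_tm (dOpen_le (j := j) chart U e) (φ.app U.1 e) (pullS p L U.1 l)).symm ?_
  exact isFrame_tm (isFrame_dOpen chart hj hO1 hφ U e) ((isFrame_pullS p hL hl).res _)

include hL hE hj hO1 hφ in
theorem isGenerating_twistMap : IsGenerating (twistMap L φ) := fun x => by
  obtain ⟨W, hxW, -, l, hl⟩ := Mero90.exists_affine_frame hL (p.base x) ⊤ trivial
  obtain ⟨y, rfl⟩ : x ∈ (RelProj.emb p chart W.1 W.2).opensRange := by rw [opensRange_emb]; exact hxW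
  obtain ⟨e, he⟩ := exists_gen_notMem hE hj W.2 y
  exact ⟨W, tm E L e l, dOpen j chart W e, dOpen_le (j := j) chart W e, ⟨y, he, rfl⟩,
    isFrame_twistMap hL hj hO1 hφ hl e⟩

include hL hj hO1 hφ in
theorem coord_twistMap {i : P ⟶ Q} (hi : Classifies chartQ hk (twistMap L φ) i) {U : S.affineOpens}
    {l : Γ(L, U.1)} (hl : IsFrame L U.1 l) (e : Γ(E, U.1)) :
    ∃ h : dOpen j chart U e ≤ i ⁻¹ᵁ dOpen k chartQ U (tm E L e l), ∀ e' : Γ(E, U.1),
      i.appLE _ _ h (dFrac chartQ hk U (tm E L e l) (tm E L e' l)) = dFrac chart hj U e e' := by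
  have hfr := isFrame_twistMap hL hj hO1 hφ hl e
  obtain ⟨h, hc⟩ := hi.coord U (tm E L e l) _ (dOpen_le (j := j) chart U e) hfr
  refine ⟨h, fun e' => (hfr _ le_rfl).1 ?_⟩
  have h1 : ∀ m : Γ(E, U.1), res _ (dOpen_le (j := j) chart U e) ((twistMap L φ).app U.1 (tm E L m l)) =
      tm O1 _ (mres O1 (dOpen_le (j := j) chart U e) (φ.app U.1 m))
        (res _ (dOpen_le (j := j) chart U e) (pullS p L U.1 l)) := fun m => by
    rw [twistMap_tm]; exact res_tm _ _ _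
  show _ • res _ le_rfl _ = _ • res _ le_rfl _
  rw [res_self, hc.frac, h1, h1, ← tm_smul_left, dFrac_smul chart hj hO1 hφ U e e']

variable {X : Scheme.{u}} {U₀ : S.Opens} (l₀ : Γ(L, U₀)) (r : X ⟶ Q) (hr : ∀ x, q.base (r.base x) ∈ U₀)

include hr in
theorem preimage_le (W : S.Opens) : (r ≫ q) ⁻¹ᵁ W ≤ r ⁻¹ᵁ (q ⁻¹ᵁ (W ⊓ U₀)) := fun x hx => ⟨hx, hr x⟩

variable (ψ) in
/-- `m ↦ r^*ψ(m ⊗ l)` over the open where `l` lives. -/
def untwistApp (W : S.Opens) (m : Γ(E, W)) : Γ((Scheme.Modules.pullback r).obj OQ, (r ≫ q) ⁻¹ᵁ W) :=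
  pullCan ψ r (W ⊓ U₀) (tm E L (res E inf_le_left m) (res L inf_le_right l₀)) _ (preimage_le r hr W)

theorem untwistApp_res {W W' : S.Opens} (h : W' ≤ W) (m : Γ(E, W)) :
    untwistApp ψ l₀ r hr W' (res E h m) = res _ ((r ≫ q).preimage_mono h) (untwistApp ψ l₀ r hr W m) := by
  have h' : W' ⊓ U₀ ≤ W ⊓ U₀ := inf_le_inf_right _ h
  have e : tm E L (res E (inf_le_left : W' ⊓ U₀ ≤ W') (res E h m)) (res L inf_le_right l₀) =
      res _ h' (tm E L (res E (inf_le_left : W ⊓ U₀ ≤ W) m) (res L inf_le_right l₀)) := by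
    rw [res_tm, res_res, res_res, res_res]
  rw [untwistApp, e, pullCan_res]
  exact (res_res _ _ _ _).symm

theorem untwistApp_add (W : S.Opens) (m m' : Γ(E, W)) :
    untwistApp ψ l₀ r hr W (m + m') = untwistApp ψ l₀ r hr W m + untwistApp ψ l₀ r hr W m' := by
  unfold untwistApp pullCan
  rw [Amp73.res_add, tm_add_left]
  refine Eq.trans (congrArg (fun z => res _ (preimage_le r hr W) (pullS r OQ _ z)) (map_add (ψ.app _).hom _ _)) ?_
  exact (congrArg (res _ (preimage_le r hr W)) (map_add _ _ _)).trans (Amp73.res_add _ _ _ _)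

theorem untwistApp_smul (W : S.Opens) (a : Γ(S, W)) (m : Γ(E, W)) :
    untwistApp ψ l₀ r hr W (a • m) = (r ≫ q).app W a • untwistApp ψ l₀ r hr W m := by
  unfold untwistApp pullCan
  rw [res_smul, tm_smul_left]
  refine Eq.trans (congrArg (fun z => res _ (preimage_le r hr W) (pullS r OQ _ z)) (Scheme.Modules.Hom.app_smul ψ _ _)) ?_
  refine (congrArg (res _ (preimage_le r hr W)) (pullS_smul r OQ _ _ _)).trans ?_
  rw [res_smul]
  congr 1
  show (q.app (W ⊓ U₀) ≫ r.app (q ⁻¹ᵁ (W ⊓ U₀)) ≫ X.presheaf.map (homOfLE (preimage_le r hr W)).op)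
    (S.presheaf.map (homOfLE (inf_le_left : W ⊓ U₀ ≤ W)).op a) = _
  rw [← Scheme.Hom.appLE, Scheme.Hom.app_eq_appLE q, Scheme.Hom.appLE_comp_appLE, ← CommRingCat.comp_apply,
    Scheme.Hom.map_appLE, ← Scheme.Hom.app_eq_appLE]

variable (ψ) in
/-- The map classifying the inverse. -/
def untwist : E ⟶ (Scheme.Modules.pushforward (r ≫ q)).obj ((Scheme.Modules.pullback r).obj OQ) :=
  ⟨PresheafOfModules.homMk
    { app := fun W => AddCommGrpCat.ofHom
        (AddMonoidHom.mk' (untwistApp ψ l₀ r hr W.unop) (untwistApp_add l₀ r hr W.unop))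
      naturality := fun {W V} i => AddCommGrpCat.hom_ext (AddMonoidHom.ext fun s =>
        untwistApp_res l₀ r hr i.unop.le s) }
    fun W a s => untwistApp_smul l₀ r hr W.unop a s⟩

theorem untwist_app (W : S.Opens) (m : Γ(E, W)) :
    (untwist ψ l₀ r hr).app W m = untwistApp ψ l₀ r hr W m := rfl

theorem res_untwist (U : S.affineOpens) (l : Γ(L, U.1)) (hr : ∀ x, q.base (r.base x) ∈ U.1) (m : Γ(E, U.1))
    {V : X.Opens} (hV : V ≤ (r ≫ q) ⁻¹ᵁ U.1) :
    res _ hV ((untwist ψ l r hr).app U.1 m) = pullCan ψ r U.1 (tm E L m l) V hV := by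
  rw [untwist_app, untwistApp, ← res_tm, pullCan_res]
  exact res_res _ _ _ _

variable {U : S.affineOpens} {l : Γ(L, U.1)} (hl : IsFrame L U.1 l) (hrU : ∀ x, q.base (r.base x) ∈ U.1)

include hF hk hOQ hψ in
theorem isFrame_untwist (e : Γ(E, U.1)) {V : X.Opens} (hV : V ≤ r ⁻¹ᵁ dOpen k chartQ U (tm E L e l)) :
    IsFrame _ V (res _ (hV.trans (r.preimage_mono (dOpen_le (j := k) chartQ U _)))
      ((untwist ψ l r hrU).app U.1 e)) := by
  refine Eq.subst (motive := fun z => IsFrame _ V z) (res_untwist r U l hrU e _).symm ?_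
  exact isFrame_pullCan hk hOQ hψ (isInvertible_of_isGenDegOne hOQ (isGenDegOne_grSym hF hk)) (tm E L e l) hV

include hF hk hl in
theorem exists_mem_dOpen (z : Q) (hz : q.base z ∈ U.1) :
    ∃ e : Γ(E, U.1), z ∈ dOpen k chartQ U (tm E L e l) := by
  obtain ⟨y, rfl⟩ : z ∈ (RelProj.emb q chartQ U.1 U.2).opensRange := by rw [opensRange_emb]; exact hz
  obtain ⟨f, hf⟩ := exists_gen_notMem hF hk U.2 y
  obtain ⟨e, he⟩ := (TensorFrame.tm_frame_bijective (M := E) hl le_rfl).2 f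
  dsimp only at he
  rw [res_self] at he
  exact ⟨e, y, by rw [he]; exact hf, rfl⟩

include hE hF hj hP hO1 hφ hk hOQ hψ hl hrU in
theorem exists_untwist :
    ∃ r' : X ⟶ P, r' ≫ p = r ≫ q ∧ ∀ (e : Γ(E, U.1)) (V : X.Opens) (hV : V ≤ r ⁻¹ᵁ dOpen k chartQ U (tm E L e l)),
      ∃ h : V ≤ r' ⁻¹ᵁ dOpen j chart U e, ∀ e' : Γ(E, U.1),
        r'.appLE _ V h (dFrac chart hj U e e') = r.appLE _ V hV (dFrac chartQ hk U (tm E L e l) (tm E L e' l)) := by
  have hgen : IsGenerating (untwist ψ l r hrU) := fun x => by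
    obtain ⟨e, he⟩ := exists_mem_dOpen hF hk (l := l) hl (r.base x) (hrU x)
    exact ⟨U, e, r ⁻¹ᵁ dOpen k chartQ U (tm E L e l), _, he, isFrame_untwist hF hk hOQ hψ r hrU e le_rfl⟩
  obtain ⟨r', hr'⟩ := exists_classifies hE hj hP hO1 hφ hgen
  refine ⟨r', hr'.comp_eq, fun e V hV => ?_⟩
  have hfr := isFrame_untwist hF hk hOQ hψ r hrU e hV
  obtain ⟨h, hc⟩ := hr'.coord U e V _ hfr
  refine ⟨h, fun e' => (hfr _ le_rfl).1 ?_⟩
  show _ • res _ le_rfl _ = _ • res _ le_rfl _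
  rw [res_self]
  refine (hc.frac e').trans ?_
  refine (res_untwist r U l hrU e' _).trans ?_
  refine Eq.trans ?_ (congrArg (r.appLE _ V hV (dFrac chartQ hk U (tm E L e l) (tm E L e' l)) • ·)
    (res_untwist (ψ := ψ) r U l hrU e _)).symm
  exact (pullCan_frac hk hOQ hψ (r := r) (tm E L e l) (tm E L e' l) hV).symm

omit l₀ r hr

include hE hF hL hj hP hO1 hφ hk hQ hOQ hψ in
theorem isIso_of_classifies {i : P ⟶ Q} (hi : Classifies chartQ hk (twistMap L φ) i) : IsIso i := by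
  have hip : i ≫ q = p := hi.comp_eq
  choose W hxW hW l hl using fun s : S => Mero90.exists_affine_frame hL s ⊤ trivial
  refine IsZariskiLocalAtTarget.of_iSup_eq_top (P := MorphismProperty.isomorphisms Scheme.{u})
    (fun s : S => q ⁻¹ᵁ (W s).1) (eq_top_iff.2 fun z _ => Opens.mem_iSup.2 ⟨q.base z, hxW (q.base z)⟩) fun s => ?_
  show IsIso (i ∣_ q ⁻¹ᵁ (W s).1)
  let D : Q.Opens := q ⁻¹ᵁ (W s).1
  obtain ⟨r', hr'p, hr'⟩ := exists_untwist hE hF hj hP hO1 hφ hk hOQ hψ D.ι (hl s) (fun z => z.2)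
  have h1 : r' ≫ i = D.ι := by
    refine hom_ext_coord hF hk hQ (by rw [Category.assoc, hip, hr'p]) fun z => ?_
    obtain ⟨e, he⟩ := exists_mem_dOpen hF hk (l := l s) (hl s) (D.ι.base z) z.2
    obtain ⟨hV', heq⟩ := hr' e _ le_rfl
    obtain ⟨hie, hieq⟩ := coord_twistMap hL hj hO1 hφ hk hi (hl s) e
    refine ⟨W s, tm E L e (l s), _, hV'.trans (r'.preimage_mono hie), le_rfl, he, fun f => ?_⟩
    obtain ⟨e', he'⟩ := (TensorFrame.tm_frame_bijective (M := E) (hl s) le_rfl).2 f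
    dsimp only at he'
    rw [res_self] at he'
    subst he'
    rw [← Scheme.Hom.appLE_comp_appLE r' i _ _ _ hie hV', CommRingCat.comp_apply, hieq, heq]
  have h2 : i ∣_ D ≫ r' = (i ⁻¹ᵁ D).ι := by
    refine hom_ext_coord hE hj hP (by rw [Category.assoc, hr'p, morphismRestrict_ι_assoc, hip]) fun z => ?_
    obtain ⟨y, hy⟩ : (i ⁻¹ᵁ D).ι.base z ∈ (RelProj.emb p chart (W s).1 (W s).2).opensRange := by
      rw [opensRange_emb]
      have : (i ≫ q).base ((i ⁻¹ᵁ D).ι.base z) ∈ (W s).1 := z.2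
      rwa [hip] at this
    obtain ⟨e, he⟩ := exists_gen_notMem hE hj (W s).2 y
    obtain ⟨hie, hieq⟩ := coord_twistMap hL hj hO1 hφ hk hi (hl s) e
    let V := (i ⁻¹ᵁ D).ι ⁻¹ᵁ dOpen j chart (W s) e
    obtain ⟨hV', heq⟩ := hr' e (D.ι ⁻¹ᵁ dOpen k chartQ (W s) (tm E L e (l s))) le_rfl
    have hVD : V ≤ (i ∣_ D) ⁻¹ᵁ (D.ι ⁻¹ᵁ dOpen k chartQ (W s) (tm E L e (l s))) := fun w hw => by
      show ((i ∣_ D) ≫ D.ι) w ∈ dOpen k chartQ (W s) (tm E L e (l s))
      rw [morphismRestrict_ι]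
      exact hie hw
    refine ⟨W s, e, V, hVD.trans ((i ∣_ D).preimage_mono hV'), le_rfl, ⟨y, he, hy⟩, fun e' => ?_⟩
    rw [← Scheme.Hom.appLE_comp_appLE (i ∣_ D) r' _ _ _ hV' hVD, CommRingCat.comp_apply, heq, ← hieq,
      ← CommRingCat.comp_apply, ← CommRingCat.comp_apply, Scheme.Hom.appLE_comp_appLE,
      Scheme.Hom.appLE_comp_appLE]
    simp only [morphismRestrict_ι]
  have hrange : Set.range r'.base ⊆ Set.range (i ⁻¹ᵁ D).ι.base := by
    rintro _ ⟨z, rfl⟩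
    rw [Scheme.Opens.range_ι]
    show i (r' z) ∈ D
    rw [← Scheme.Hom.comp_apply, h1]
    exact z.2
  refine ⟨IsOpenImmersion.lift (i ⁻¹ᵁ D).ι r' hrange, ?_, ?_⟩
  · rw [← cancel_mono (i ⁻¹ᵁ D).ι, Category.assoc, IsOpenImmersion.lift_fac, h2, Category.id_comp]
  · rw [← cancel_mono D.ι, Category.assoc, morphismRestrict_ι, IsOpenImmersion.lift_fac_assoc, h1,
      Category.id_comp]

include hE hF hL hj hP hO1 hφ hk hQ hOQ hψ in
theorem exists_iso : ∃ i : P ≅ Q, i.hom ≫ q = p ∧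
    Nonempty ((Scheme.Modules.pullback i.hom).obj OQ ≅
      CohB1.tensorMod O1 ((Scheme.Modules.pullback p).obj L)) := by
  have hgen := isGenerating_twistMap hE hL hj hO1 hφ
  obtain ⟨i, hi⟩ := exists_classifies hF hk hQ hOQ hψ hgen
  have := isIso_of_classifies hE hF hL hj hP hO1 hφ hk hQ hOQ hψ hi
  obtain ⟨τ⟩ : Nonempty ((Scheme.Modules.pullback i).obj OQ ≅
      CohB1.tensorMod O1 ((Scheme.Modules.pullback p).obj L)) := by
    have h' := hi.comp_eq
    subst h'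
    obtain ⟨τ, -⟩ := exists_iso_of_classifies hF hk hOQ hψ hgen hi
    exact ⟨τ⟩
  exact ⟨asIso i, hi.comp_eq, ⟨τ⟩⟩

end Groth.Agent.EGA73.BundleTensor

end
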