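import Mathlib.LinearAlgebra.Charpoly.Basic
import Mathlib.LinearAlgebra.Charpoly.BaseChange
import Mathlib.LinearAlgebra.Charpoly.ToMatrix
import Mathlib.LinearAlgebra.Matrix.Charpoly.Eigs
import Mathlib.LinearAlgebra.Determinant
import Mathlib.FieldTheory.IsAlgClosed.AlgebraicClosure
import Mathlib.FieldTheory.IsAlgClosed.Spectrum
import Mathlib.RingTheory.TensorProduct.Finite
import Mathlib.RingTheory.IntegralClosure.IsIntegralClosure.Basic
import Mathlib.RingTheory.Noetherian.Basic
import Mathlib.RingTheory.LocalRing.ResidueField.Ideal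

/-!
Integrality of characteristic polynomial coefficients of endomorphisms of finite modules.
-/

universe u

open Polynomial TensorProduct

namespace Groth.Agent.EGA73

variable {A : Type u} [CommRing A]

theorem isIntegral_charpoly_coeff_algClosed {L : Type u} [Field L] [IsAlgClosed L] [Algebra A L]
    {n : Type*} [Fintype n] [DecidableEq n] (M : Matrix n n L) {p : A[X]} (hp : p.Monic)
    (h : aeval M p = 0) (i : ℕ) : IsIntegral A (M.charpoly.coeff i) := by
  have hroot : ∀ x ∈ M.charpoly.roots, IsIntegral A x := by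
    intro x hx
    refine ⟨p, hp, ?_⟩
    rw [← aeval_def, ← aeval_map_algebraMap L, Polynomial.coe_aeval_eq_eval]
    have hne : Nonempty n := by
      by_contra hne
      rw [not_nonempty_iff] at hne
      simp [Matrix.charpoly, Matrix.det_isEmpty] at hx
    have hsp : x ∈ spectrum L M :=
      Matrix.mem_spectrum_iff_isRoot_charpoly.mpr (Polynomial.isRoot_of_mem_roots hx)
    have := spectrum.subset_polynomial_aeval M (p.map (algebraMap A L)) ⟨x, hsp, rfl⟩
    rw [aeval_map_algebraMap, h, spectrum.zero_eq] at this
    exact this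
  rw [(IsAlgClosed.splits M.charpoly).eq_prod_roots_of_monic M.charpoly_monic]
  have key : ∀ s : Multiset L, (∀ x ∈ s, IsIntegral A x) → ∀ i,
      IsIntegral A ((s.map fun x => X - C x).prod.coeff i) := by
    intro s hs
    induction s using Multiset.induction_on with
    | empty =>
      intro i
      simp only [Multiset.map_zero, Multiset.prod_zero, coeff_one]
      split_ifs
      exacts [isIntegral_one, isIntegral_zero]
    | cons x s ih =>
      intro i
      have ih' := ih fun y hy => hs y (Multiset.mem_cons_of_mem hy)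
      rw [Multiset.map_cons, Multiset.prod_cons, sub_mul, coeff_sub, coeff_C_mul]
      refine IsIntegral.sub ?_ ((hs x (Multiset.mem_cons_self x s)).mul (ih' i))
      rcases i with - | i
      · simpa using isIntegral_zero
      · rw [coeff_X_mul]
        exact ih' i
  exact key _ hroot i

variable {K : Type u} [CommRing K] [Algebra A K]

theorem aeval_matrix_map {L : Type u} [CommRing L] [Algebra A L] (φ : K →ₐ[A] L) {n : Type*} [Fintype n]
    [DecidableEq n] (M : Matrix n n K) (p : A[X]) :
    aeval (M.map φ) p = (aeval M p).map φ :=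
  (aeval_algHom_apply φ.mapMatrix M p)

theorem isIntegral_matrix_charpoly_coeff {n : Type*} [Fintype n] [DecidableEq n] (M : Matrix n n K)
    {p : A[X]} (hp : p.Monic) (h : aeval M p = 0) (i : ℕ) : IsIntegral A (M.charpoly.coeff i) := by
  by_contra hc
  let S : Submonoid K :=
    { carrier := {y | ∃ q : A[X], q.Monic ∧ aeval (M.charpoly.coeff i) q = y}
      one_mem' := ⟨1, monic_one, map_one _⟩
      mul_mem' := by
        rintro _ _ ⟨q, hq, rfl⟩ ⟨q', hq', rfl⟩
        exact ⟨q * q', hq.mul hq', map_mul _ _ _⟩ }
  have hdisj : Disjoint ((⊥ : Ideal K) : Set K) (S : Set K) := by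
    rw [Set.disjoint_left]
    rintro y hy ⟨q, hq, hqy⟩
    exact hc ⟨q, hq, by rw [← aeval_def, hqy]; exact hy⟩
  obtain ⟨P, hP, -, hPd⟩ := Ideal.exists_le_prime_disjoint (⊥ : Ideal K) S hdisj
  let L := AlgebraicClosure P.ResidueField
  let φ : K →ₐ[A] L := IsScalarTower.toAlgHom A K L
  obtain ⟨q, hq, hq0⟩ := isIntegral_charpoly_coeff_algClosed (M.map φ) hp
    (by rw [aeval_matrix_map, h]; exact map_zero φ.mapMatrix) i
  suffices aeval (M.charpoly.coeff i) q ∈ P from Set.disjoint_left.mp hPd this ⟨q, hq, rfl⟩
  have e : φ (aeval (M.charpoly.coeff i) q) = 0 := by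
    rw [← aeval_algHom_apply, aeval_def]
    have hcp : (M.map φ).charpoly = M.charpoly.map (φ : K →+* L) := Matrix.charpoly_map M (φ : K →+* L)
    rw [hcp, coeff_map] at hq0
    exact hq0
  have e' : algebraMap P.ResidueField L (algebraMap K P.ResidueField (aeval (M.charpoly.coeff i) q)) = 0 := by
    rw [← IsScalarTower.algebraMap_apply]
    exact e
  rw [map_eq_zero] at e'
  exact Ideal.algebraMap_residueField_eq_zero.mp e'

theorem baseChange_aeval {E : Type u} [AddCommGroup E] [Module A E] (u : Module.End A E) (p : A[X]) :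
    aeval (u.baseChange K) p = (aeval u p).baseChange K :=
  aeval_algHom_apply (Module.End.baseChangeHom A K E) u p

theorem isIntegral_baseChange_charpoly_coeff {E : Type u} [AddCommGroup E] [Module A E] [Module.Finite A E]
    [Module.Free K (K ⊗[A] E)] (u : E →ₗ[A] E) (i : ℕ) :
    IsIntegral A ((u.baseChange K).charpoly.coeff i) := by
  classical
  obtain ⟨p, hp, hp0⟩ := (Algebra.IsIntegral.isIntegral (R := A) (u : Module.End A E))
  rw [← aeval_def] at hp0
  let b := Module.Free.chooseBasis K (K ⊗[A] E)
  rw [← LinearMap.charpoly_toMatrix (u.baseChange K) b]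
  refine isIntegral_matrix_charpoly_coeff _ hp ?_ i
  have e : LinearMap.toMatrix b b (u.baseChange K) =
      ((LinearMap.toMatrixAlgEquiv b).toAlgHom.restrictScalars A) (u.baseChange K) := rfl
  rw [e, aeval_algHom_apply, baseChange_aeval, hp0, LinearMap.baseChange_zero, map_zero]

theorem fg_adjoin_baseChange_charpoly_coeff [IsNoetherianRing A] {E : Type u} [AddCommGroup E] [Module A E]
    [Module.Finite A E] [Module.Free K (K ⊗[A] E)] :
    (Algebra.adjoin A {c : K | ∃ (v : E →ₗ[A] E) (j : ℕ),
        c = ((v.baseChange K).charpoly).coeff j}).toSubmodule.FG := by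
  classical
  let T : Set K := {c : K | ∃ (v : E →ₗ[A] E) (j : ℕ), c = ((v.baseChange K).charpoly).coeff j}
  change (Algebra.adjoin A T).toSubmodule.FG
  obtain ⟨n, g, hg⟩ := Module.Finite.exists_fin (R := A) (M := E →ₗ[A] E)
  let b := Module.Free.chooseBasis K (K ⊗[A] E)
  let G := fun k => LinearMap.toMatrix b b ((g k).baseChange K)
  let N := ∑ k, (MvPolynomial.X k : MvPolynomial (Fin n) K) • (G k).map (MvPolynomial.C : K →+* MvPolynomial (Fin n) K)
  let C₀ : Set K := ⋃ j ∈ Finset.range (N.charpoly.natDegree + 1), (fun α => (N.charpoly.coeff j).coeff α) ''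
    ((N.charpoly.coeff j).support : Set (Fin n →₀ ℕ))
  have hC₀ : C₀.Finite := (Finset.finite_toSet _).biUnion fun _ _ => (Finset.finite_toSet _).image _
  have hle : Submodule.span A T ≤ Submodule.span A C₀ := by
    rw [Submodule.span_le]
    rintro _ ⟨v, j, rfl⟩
    have hv : v ∈ Submodule.span A (Set.range g) := hg ▸ Submodule.mem_top
    obtain ⟨t, rfl⟩ := (Submodule.mem_span_range_iff_exists_fun A).mp hv
    have e : LinearMap.toMatrix b b ((∑ k, t k • g k).baseChange K) =
        N.map (MvPolynomial.eval fun k => algebraMap A K (t k)) := by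
      change ((LinearMap.toMatrix b b).toLinearMap.restrictScalars A)
        (Module.End.baseChangeHom A K E (∑ k, t k • g k)) =
        (MvPolynomial.eval fun k => algebraMap A K (t k)).mapMatrix N
      rw [map_sum, map_sum, map_sum]
      refine Finset.sum_congr rfl fun k _ => ?_
      rw [map_smul, map_smul]
      ext a c
      show t k • G k a c = MvPolynomial.eval _ (MvPolynomial.X k * MvPolynomial.C (G k a c))
      rw [map_mul, MvPolynomial.eval_X, MvPolynomial.eval_C, Algebra.smul_def]
    rw [← LinearMap.charpoly_toMatrix ((∑ k, t k • g k).baseChange K) b, e, Matrix.charpoly_map, coeff_map,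
      MvPolynomial.eval_eq]
    refine Submodule.sum_mem _ fun α hα => ?_
    by_cases hj : j ≤ N.charpoly.natDegree
    · have hmem : (N.charpoly.coeff j).coeff α ∈ Submodule.span A C₀ := Submodule.subset_span
        (Set.mem_biUnion (Finset.mem_range.mpr (Nat.lt_succ_of_le hj)) ⟨α, hα, rfl⟩)
      rw [show (∏ i ∈ α.support, (algebraMap A K (t i)) ^ α i) = algebraMap A K (∏ i ∈ α.support, t i ^ α i) by
        simp, mul_comm, ← Algebra.smul_def]
      exact Submodule.smul_mem _ _ hmem
    · rw [coeff_eq_zero_of_natDegree_lt (not_le.mp hj)] at hα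
      simp at hα
  have := Module.Finite.span_of_finite A hC₀
  have hfg : (Submodule.span A T).FG := by
    have := IsNoetherian.noetherian ((Submodule.span A T).comap (Submodule.span A C₀).subtype)
    have h2 := this.map (Submodule.span A C₀).subtype
    rwa [Submodule.map_comap_eq, Submodule.range_subtype, inf_eq_right.mpr hle] at h2
  obtain ⟨s, hsT, hs, hspan⟩ : ∃ s ⊆ T, s.Finite ∧ T ⊆ Submodule.span A s := by
    obtain ⟨s, hs, hs'⟩ := (Submodule.fg_span_iff_fg_span_finset_subset T).mp hfg
    exact ⟨s, hs, s.finite_toSet, hs' ▸ Submodule.subset_span⟩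
  rw [le_antisymm (Algebra.adjoin_le fun x hx => Algebra.span_le_adjoin A s (hspan hx)) (Algebra.adjoin_mono hsT)]
  refine fg_adjoin_of_finite hs fun x hx => ?_
  obtain ⟨v, j, rfl⟩ := hsT hx
  exact isIntegral_baseChange_charpoly_coeff v j

end Groth.Agent.EGA73
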