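import Groth.Agent.Approx60.ChowMain

/-! Chow's lemma. -/

set_option autoImplicit false

universe u

open CategoryTheory CategoryTheory.Limits AlgebraicGeometry Opposite TopologicalSpace

noncomputable section

set_option backward.isDefEq.respectTransparency false
set_option backward.defeqAttrib.useBackward true

namespace Groth.Agent.EGA73.ChowDense

open Groth.Agent.Approx60 Groth.Agent.Approx60.Chow

/-- Chow's lemma, finitely many irreducible components. -/
theorem chow_dense_isCompact {X S : Scheme.{u}} (f : X ⟶ S) [CompactSpace S] [QuasiSeparatedSpace S]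
    [IsSeparated f] [LocallyOfFiniteType f] [QuasiCompact f]
    (hirr : (irreducibleComponents (X : Type u)).Finite) :
    ∃ (N : ℕ) (X' : Scheme.{u}) (π : X' ⟶ X) (J : X' ⟶ CohB1.ProjSpaceOver N S),
      IsImmersion J ∧ J ≫ CohB1.ProjSpaceOver.toBase N S = π ≫ f ∧ IsProper π ∧ Surjective π ∧
      ∃ U : X.Opens, Dense (U : Set X) ∧ IsCompact (U : Set X) ∧ IsIso (π ∣_ U) ∧
        IsSchemeTheoreticallyDominant (π ⁻¹ᵁ U).ι := by
  classical
  have : CompactSpace X := QuasiCompact.compactSpace_of_compactSpace f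
  have : QuasiSeparatedSpace X := quasiSeparatedSpace_of_quasiSeparated f
  have hcov : ∀ x : X, ∃ (W : X.Opens) (V : S.Opens), IsAffineOpen W ∧ IsAffineOpen V ∧ x ∈ W ∧ W ≤ f ⁻¹ᵁ V := by
    intro x
    obtain ⟨V, hV, hxV, -⟩ := exists_isAffineOpen_mem_and_subset (U := (⊤ : S.Opens)) (x := f x) trivial
    obtain ⟨W, hW, hxW, hWV⟩ := exists_isAffineOpen_mem_and_subset (U := f ⁻¹ᵁ V) (x := x) hxV
    exact ⟨W, V, hW, hV, hxW, hWV⟩
  choose W₀ V₀ hW₀ hV₀ hxW₀ hWV₀ using hcov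
  obtain ⟨T, hT⟩ := (CompactSpace.isCompact_univ (X := X)).elim_finite_subcover (fun x => (W₀ x : Set X))
    (fun x => (W₀ x).2) (fun x _ => Set.mem_iUnion.2 ⟨x, hxW₀ x⟩)
  let k := T.card
  let x : Fin k → X := fun i => (T.equivFin.symm i).1
  let W : Fin k → X.Opens := fun i => W₀ (x i)
  have hW : ⨆ i, W i = ⊤ := top_le_iff.1 fun y _ => by
    obtain ⟨z, hz, hy⟩ := Set.mem_iUnion₂.1 (hT (Set.mem_univ y))
    exact Opens.mem_iSup.2 ⟨T.equivFin ⟨z, hz⟩, by simpa [W, x] using hy⟩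
  choose n j O jO σ hcl hjO hjt hσt hσO using fun i =>
    exists_piece f (W i) (hW₀ (x i)) (V₀ (x i)) (hV₀ (x i)) (hWV₀ (x i))
  obtain ⟨ι, _, E, η, hEaff, hηE, hdisj, hdense, hEW⟩ := exists_generic_opens hirr W
  let U : X.Opens := ⨆ c, E c
  have : CompactSpace (U : Scheme.{u}) := isCompact_iff_compactSpace.1 (by
    simp only [U, Opens.coe_iSup]
    exact isCompact_iUnion fun c => (hEaff c).isCompact)
  let E' : ι → (U : Scheme.{u}).Opens := fun c => U.ι ⁻¹ᵁ E c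
  have hE'cov : ⨆ c, E' c = ⊤ := by
    rw [← Scheme.Hom.preimage_iSup]; exact U.ι_preimage_self
  have hlift : ∀ (c : ι) i, η c ∈ W i → Set.range ((E' c).ι ≫ U.ι) ⊆ Set.range (W i).ι := fun c i h => by
    rw [Scheme.Opens.range_ι]
    rintro _ ⟨y, rfl⟩
    exact (hEW c i).1 h y.2
  let m : ∀ i c, (E' c : Scheme.{u}) ⟶ CohB1.ProjSpaceOver (n i) S := fun i c =>
    if h : η c ∈ W i then IsOpenImmersion.lift (W i).ι ((E' c).ι ≫ U.ι) (hlift c i h) ≫ j i
    else (E' c).ι ≫ U.ι ≫ f ≫ σ i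
  let 𝒰 := (U : Scheme.{u}).openCoverOfIsOpenCover E' (TopologicalSpace.IsOpenCover.mk hE'cov)
  have hglue : ∀ i, ∀ (c c' : ι), pullback.fst (E' c).ι (E' c').ι ≫ m i c = pullback.snd _ _ ≫ m i c' := by
    intro i c c'
    by_cases h : c = c'
    · subst h
      rw [show pullback.fst (E' c).ι (E' c).ι = pullback.snd _ _ by rw [← cancel_mono (E' c).ι, pullback.condition]]
    · have : IsEmpty (pullback (E' c).ι (E' c').ι : Scheme.{u}) := ⟨fun p => by
        have h1 := (pullback.fst (E' c).ι (E' c').ι p).2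
        have h2 := (pullback.snd (E' c).ι (E' c').ι p).2
        have e : (pullback.fst (E' c).ι (E' c').ι ≫ (E' c).ι) p = (pullback.snd (E' c).ι (E' c').ι ≫ (E' c').ι) p := by
          rw [pullback.condition]
        have h3 : U.ι ((pullback.fst (E' c).ι (E' c').ι ≫ (E' c).ι) p) ∈ E c ⊓ E c' := ⟨h1, e ▸ h2⟩
        rw [hdisj c c' h] at h3
        exact h3⟩
      exact isInitialOfIsEmpty.hom_ext _ _
  let g : ∀ i, (U : Scheme.{u}) ⟶ CohB1.ProjSpaceOver (n i) S := fun i =>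
    𝒰.glueMorphisms (m i) (hglue i)
  have hg' : ∀ i c, (E' c).ι ≫ g i = m i c := fun i c => 𝒰.ι_glueMorphisms _ _ c
  have hg : ∀ i, g i ≫ CohB1.ProjSpaceOver.toBase (n i) S = U.ι ≫ f := fun i => 𝒰.hom_ext _ _ fun c => by
    show (E' c).ι ≫ g i ≫ _ = (E' c).ι ≫ U.ι ≫ f
    rw [← Category.assoc, hg']
    simp only [m]
    split_ifs with h
    · rw [Category.assoc, hjt, IsOpenImmersion.lift_fac_assoc, Category.assoc]
    · simp only [Category.assoc, hσt, Category.comp_id]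
  have hgO : ∀ i, g i ⁻¹ᵁ O i = U.ι ⁻¹ᵁ W i := fun i => by
    ext y
    obtain ⟨c, hc⟩ := Opens.mem_iSup.1 (hE'cov.ge (Opens.mem_top y))
    show g i y ∈ O i ↔ U.ι y ∈ W i
    rw [show g i y = m i c ⟨y, hc⟩ by rw [← hg' i c]; rfl]
    simp only [m]
    split_ifs with h
    · refine iff_of_true ?_ ((hEW c i).1 h hc)
      rw [← hjO i, ← Category.assoc]
      exact ((IsOpenImmersion.lift (W i).ι ((E' c).ι ≫ U.ι) (hlift c i h) ≫ jO i) ⟨y, hc⟩).2
    · refine iff_of_false (fun hh => ?_) (fun hh => ?_)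
      · have : f (U.ι y) ∈ σ i ⁻¹ᵁ O i := hh
        rw [hσO i] at this
        exact this
      · have h3 : U.ι y ∈ E c ⊓ W i := ⟨hc, hh⟩
        rw [(hEW c i).2 h] at h3
        exact h3
  have hgj : ∀ i {T : Scheme.{u}} (a : T ⟶ U) (b : T ⟶ W i), a ≫ U.ι = b ≫ (W i).ι → a ≫ g i = b ≫ j i := by
    intro i T a b hab
    refine (T.openCoverOfIsOpenCover (fun c => a ⁻¹ᵁ E' c) (TopologicalSpace.IsOpenCover.mk
      (by rw [← Scheme.Hom.preimage_iSup, hE'cov, Scheme.Hom.preimage_top]))).hom_ext _ _ fun c => ?_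
    show (a ⁻¹ᵁ E' c).ι ≫ a ≫ g i = (a ⁻¹ᵁ E' c).ι ≫ b ≫ j i
    rw [← morphismRestrict_ι_assoc, hg']
    simp only [m]
    split_ifs with h
    · rw [← Category.assoc, ← Category.assoc]
      congr 1
      rw [← cancel_mono (W i).ι, Category.assoc, IsOpenImmersion.lift_fac, morphismRestrict_ι_assoc,
        Category.assoc, hab]
    · have : IsEmpty (a ⁻¹ᵁ E' c : Scheme.{u}) := ⟨fun p => by
        have h1 : U.ι (a p.1) ∈ E c := p.2
        have h3 : U.ι (a p.1) ∈ E c ⊓ W i := ⟨h1, by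
          rw [← Scheme.Hom.comp_apply, hab]; exact (b p.1).2⟩
        rw [(hEW c i).2 h] at h3
        exact h3⟩
      exact isInitialOfIsEmpty.hom_ext _ _
  have := hcl
  obtain ⟨N, X', π, J, h1, h2, h3, h4, h5, h6⟩ := core f W hW n j hjt O jO hjO U hdense g hg hgO hgj
  exact ⟨N, X', π, J, h1, h2, h3, h4, U, hdense, isCompact_iff_compactSpace.2 ‹_›, h5, h6⟩

end Groth.Agent.EGA73.ChowDense
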