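import Groth.Agent.EGA73.RelVanish
import Groth.Agent.EGAProj74.Exists
import Groth.Agent.EGAProj74.RelMap
import Groth.Agent.S8263

/-!
A closed subscheme of a relative Proj of an algebra generated in degree one is projective over the base.
-/

set_option autoImplicit false
set_option backward.isDefEq.respectTransparency.types false

universe u

open CategoryTheory CategoryTheory.Limits AlgebraicGeometry TopologicalSpace Opposite
open scoped HomogeneousIdeal

noncomputable section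

namespace Groth.Agent.EGA73.ClosedRelProj

open Var76.ZeroScheme EGAProj74 GrFr RelVanish

variable {S P Z : Scheme.{u}} {𝒮 : RelProj.QCGrAlg S} {p : P ⟶ S}
  {chart : ∀ (U : S.Opens) (hU : IsAffineOpen U), (((p ⁻¹ᵁ U : P.Opens) : Scheme.{u}) ≅ Proj (𝒮.deg U hU))}
  (hgen : 𝒮.IsGenDegOne) (hft : 𝒮.IsFTDeg 1) (hP : RelProj.IsRelProj 𝒮 p chart)
  (i : Z ⟶ P) [IsAffineHom i]

theorem gfr_eq_zero_iff {A σ : Type u} [CommRing A] [SetLike σ A] [AddSubgroupClass σ A] {𝒜 : ℕ → σ} [GradedRing 𝒜]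
    {g : A} (hg : g ∈ 𝒜 1) {n : ℕ} {a : A} (ha : a ∈ 𝒜 n) : gfr hg ha = 0 ↔ ∃ K : ℕ, g ^ K * a = 0 := by
  have hinj : Function.Injective (Proj.awayToSection 𝒜 g).hom :=
    (ConcreteCategory.bijective_of_isIso (Proj.basicOpenIsoAway 𝒜 g hg one_pos).hom).1
  rw [gfr, map_eq_zero_iff _ hinj, HomogeneousLocalization.ext_iff_val, HomogeneousLocalization.Away.val_mk,
    HomogeneousLocalization.val_zero, Localization.mk_eq_mk', IsLocalization.mk'_eq_zero_iff]
  exact ⟨fun ⟨⟨_, K, rfl⟩, h⟩ => ⟨K, h⟩, fun ⟨K, h⟩ => ⟨⟨_, K, rfl⟩, h⟩⟩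

theorem exists_eq_sec {U : S.Opens} (hU : IsAffineOpen U) {t : 𝒮.presheaf.obj (op U)} (ht : t ∈ 𝒮.deg U hU 1)
    (x : Γ(P, dOpen chart hU t)) :
    ∃ (n : ℕ) (a : 𝒮.presheaf.obj (op U)) (ha : a ∈ 𝒮.deg U hU n), x = sec chart hU ht ha := by
  obtain ⟨s, hs⟩ := (ConcreteCategory.bijective_of_isIso (Proj.basicOpenIsoAway (𝒮.deg U hU) t ht one_pos).hom).2
    ((RelProj.emb p chart U hU).appLE (dOpen chart hU t) (Proj.basicOpen (𝒮.deg U hU) t)
      ((RelProj.emb p chart U hU).preimage_image_eq _).ge x)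
  obtain ⟨n, a, ha, rfl⟩ := HomogeneousLocalization.Away.mk_surjective (𝒮.deg U hU) ht s
  have ha' : a ∈ 𝒮.deg U hU n := by simpa using ha
  refine ⟨n, a, ha', dOpen_ext hU ?_⟩
  rw [appLE_sec]
  exact hs.symm

include hgen hft in
theorem exists_pow_mul_mem_of_app_eq_zero {U : S.Opens} (hU : IsAffineOpen U) {t : 𝒮.presheaf.obj (op U)}
    (ht : t ∈ 𝒮.deg U hU 1) {n : ℕ} {a : 𝒮.presheaf.obj (op U)} (ha : a ∈ 𝒮.deg U hU n)
    (h : i.app (dOpen chart hU t) (sec chart hU ht ha) = 0) : ∃ K : ℕ, t ^ K * a ∈ ideal chart i hU := by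
  classical
  obtain ⟨T, hT, hspan⟩ := hft U hU
  have hK : ∀ g : T, ∃ K : ℕ, i.app (dOpen chart hU (g : 𝒮.presheaf.obj (op U))) (sec chart hU (hT g.2) ht) ^ K *
      i.app (dOpen chart hU (g : 𝒮.presheaf.obj (op U))) (sec chart hU (hT g.2) ha) = 0 := by
    intro g
    let ρ := sec chart hU (hT g.2) ht
    have hO : IsAffineOpen (i ⁻¹ᵁ dOpen chart hU (g : 𝒮.presheaf.obj (op U))) :=
      (isAffineOpen_dOpen hU (hT g.2)).preimage i
    have := hO.isLocalization_basicOpen (i.app _ ρ)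
    let D := Proj.basicOpen (𝒮.deg U hU) t ⊓ Proj.basicOpen (𝒮.deg U hU) (g : 𝒮.presheaf.obj (op U))
    let e := RelProj.emb p chart U hU
    have hle : Z.basicOpen (i.app _ ρ) ≤ i ⁻¹ᵁ (e ''ᵁ D) :=
      ((i.preimage_basicOpen ρ).symm.trans (congrArg (i ⁻¹ᵁ ·)
        ((basicOpen_sec hU (hT g.2) ht).trans (congrArg (e ''ᵁ ·) ((Proj.basicOpen_mul _ _ _).trans (inf_comm _ _)))))).le
    have hD : fres (i.preimage_mono (e.image_mono (inf_le_right : D ≤ _)))
        (i.app (dOpen chart hU (g : 𝒮.presheaf.obj (op U))) (sec chart hU (hT g.2) ha)) = 0 := by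
      rw [← app_fres, sec_res hU ht (hT g.2) ha (inf_le_left : D ≤ _) inf_le_right, map_mul,
        app_fres i (e.image_mono (inf_le_left : D ≤ _)) (sec chart hU ht ha), h]
      · simp [fres]
      all_goals exact e.image_mono inf_le_right
    have hz : fres (Z.basicOpen_le (i.app _ ρ))
        (i.app (dOpen chart hU (g : 𝒮.presheaf.obj (op U))) (sec chart hU (hT g.2) ha)) = 0 := by
      have h2 := congrArg (fres hle) hD
      rw [fres_fres, show fres hle (0 : Γ(Z, _)) = 0 from map_zero (Z.presheaf.map _).hom] at h2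
      exact h2
    obtain ⟨⟨_, K, rfl⟩, hK⟩ := (IsLocalization.map_eq_zero_iff (Submonoid.powers (i.app _ ρ))
      Γ(Z, Z.basicOpen (i.app _ ρ)) _).1 hz
    exact ⟨K, hK⟩
  choose K hK using hK
  let K₀ := Finset.univ.sup K
  have hc : ∀ k : ℕ, t ^ k ∈ 𝒮.deg U hU k := fun k => by simpa using SetLike.pow_mem_graded k ht
  have hmem : t ^ K₀ * a ∈ 𝒮.deg U hU (K₀ + n) := SetLike.mul_mem_graded (hc K₀) ha
  have hsec : ∀ (g : T) (k : ℕ), sec chart hU (hT g.2) (hc k) = sec chart hU (hT g.2) ht ^ k := by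
    intro g k
    induction k with
    | zero =>
      have h0 : (g : 𝒮.presheaf.obj (op U)) ^ 0 ∈ 𝒮.deg U hU 0 := by rw [pow_zero]; exact SetLike.one_mem_graded _
      rw [sec_congr hU (hT g.2) (hc 0) h0 rfl ((pow_zero _).trans (pow_zero _).symm), sec_pow_self, pow_zero]
    | succ k ih =>
      rw [sec_congr hU (hT g.2) (hc (k + 1)) (SetLike.mul_mem_graded (hc k) ht) rfl (pow_succ _ _),
        sec_mul hU (hT g.2) (hc k) ht, ih, pow_succ]
  refine ⟨K₀, (mem_ideal_iff i hU hmem).2 fun t' ht' => ?_⟩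
  refine van_of_cover i hU (↑T : Set (𝒮.presheaf.obj (op U))) hT (fun y => ?_) hmem (fun g hg => ?_) ht'
  · obtain ⟨g', ⟨g, hg, rfl⟩, hy⟩ := cover_of_gen hgen hU T hT hspan hU le_rfl y
    exact ⟨g, hg, by simpa [RelProj.QCGrAlg.res_apply] using hy⟩
  · have hle : K ⟨g, hg⟩ ≤ K₀ := Finset.le_sup (f := K) (Finset.mem_univ (⟨g, hg⟩ : T))
    unfold Van
    rw [sec_mul hU (hT hg) (hc K₀) ha, hsec ⟨g, hg⟩, ← Nat.sub_add_cancel hle, pow_add, mul_assoc, map_mul, map_mul,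
      map_pow, map_pow, hK ⟨g, hg⟩, mul_zero]

omit [IsAffineHom i] in
theorem app_eq_zero_of_pow_mul_mem {U : S.Opens} (hU : IsAffineOpen U) {t : 𝒮.presheaf.obj (op U)}
    (ht : t ∈ 𝒮.deg U hU 1) {n : ℕ} {a : 𝒮.presheaf.obj (op U)} (ha : a ∈ 𝒮.deg U hU n) {K : ℕ}
    (h : t ^ K * a ∈ ideal chart i hU) : i.app (dOpen chart hU t) (sec chart hU ht ha) = 0 := by
  have hc : t ^ K ∈ 𝒮.deg U hU K := by simpa using SetLike.pow_mem_graded K ht
  have := (mem_ideal_iff i hU (SetLike.mul_mem_graded hc ha)).1 h t ht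
  unfold Van at this
  rwa [sec_mul hU ht hc ha, sec_pow_self, one_mul] at this

omit [IsAffineHom i] in
include hgen hft hP in
/-- A closed subscheme of a relative Proj of an algebra generated by a finite type degree-one part is the relative
Proj of a graded quotient, embedded by the induced morphism. -/
theorem exists_graded_quotient [IsClosedImmersion i] :
    ∃ (𝒬 : RelProj.QCGrAlg S) (φ' : 𝒮.toQCAlg ⟶ 𝒬.toQCAlg) (hgr : RelProj.IsGradedHom φ')
      (hirr : ∀ (U : S.Opens) (hU : IsAffineOpen U),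
        (𝒬.deg U hU)₊ ≤ ((𝒮.deg U hU)₊).map (RelProj.gradedHomAt φ' hgr U hU))
      (h : relProj 𝒬 ⟶ P) (e : Z ≅ relProj 𝒬),
      𝒬.IsGenDegOne ∧ 𝒬.IsFTDeg 1 ∧ RelProj.IsRelProj 𝒬 (relProjTo 𝒬) (relProjChart 𝒬) ∧
        RelProj.IsRelProjMap φ' hgr hirr chart (relProjChart 𝒬) h ∧ e.hom ≫ h = i ∧
        e.hom ≫ relProjTo 𝒬 = i ≫ p := by
  classical
  obtain ⟨A', φ, hφ⟩ := exists_quotient chart hgen hft hP i
  have hsurj : ∀ (U : S.Opens) (hU : IsAffineOpen U), Function.Surjective (φ.hom.app (op U)).hom :=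
    fun U hU => (hφ U hU).1
  have hker : ∀ (U : S.Opens) (hU : IsAffineOpen U), ∀ a, (φ.hom.app (op U)).hom a = 0 →
      ∀ n, (φ.hom.app (op U)).hom (DirectSum.decompose (𝒮.deg U hU) a n : 𝒮.presheaf.obj (op U)) = 0 :=
    fun U hU a ha n => ((hφ U hU).2 _).2 (decompose_mem_ideal i hU (((hφ U hU).2 a).1 ha) n)
  let G : LocGrading A' :=
    { Small := IsAffineOpen
      affine := id
      basis := fun U x hx => by
        obtain ⟨_, ⟨V, hV, rfl⟩, hxV, hVU⟩ :=
          (Scheme.isBasis_affineOpens S).exists_subset_of_mem_open hx U.2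
        exact ⟨V, hV, hxV, hVU⟩
      deg := fun V hV => GradedImage.deg (𝒮.deg V hV) (φ.hom.app (op V)).hom
      graded := fun V hV => GradedImage.gradedRing _ _ (hsurj V hV) (hker V hV)
      map_mem := fun {U V} hU hV h {d x} hx => by
        obtain ⟨a, ha, rfl⟩ := (GradedImage.mem_deg (𝒮.deg U hU) (φ.hom.app (op U)).hom).1 hx
        refine (GradedImage.mem_deg (𝒮.deg V hV) (φ.hom.app (op V)).hom).2 ⟨_, 𝒮.map_mem hU hV h ha, ?_⟩
        exact ConcreteCategory.congr_hom (φ.hom.naturality (homOfLE h).op) a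
      str_mem := fun V hV r => by
        refine (GradedImage.mem_deg (𝒮.deg V hV) (φ.hom.app (op V)).hom).2 ⟨_, 𝒮.str_mem V hV r, ?_⟩
        exact ConcreteCategory.congr_hom (congrArg (fun ψ => ψ.app (op V)) φ.comm) r }
  let 𝒬 := G.toQCGrAlg
  have hdeg : ∀ (U : S.Opens) (hU : IsAffineOpen U) (n : ℕ) (b : A'.presheaf.obj (op U)),
      b ∈ 𝒬.deg U hU n ↔ ∃ a ∈ 𝒮.deg U hU n, (φ.hom.app (op U)).hom a = b := fun U hU n b => by
    show b ∈ G.degAt U n ↔ _
    rw [G.degAt_eq (V := U) hU n]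
    exact GradedImage.mem_deg (𝒮.deg U hU) (φ.hom.app (op U)).hom
  let φ' : 𝒮.toQCAlg ⟶ 𝒬.toQCAlg := φ
  have hgr : RelProj.IsGradedHom φ' := fun U hU d x hx => (hdeg U hU d _).2 ⟨x, hx, rfl⟩
  have hgen' : 𝒬.IsGenDegOne := fun U hU => by
    refine eq_top_iff.2 fun b _ => ?_
    obtain ⟨a, rfl⟩ := hsurj U hU b
    have hmem : (φ.hom.app (op U)).hom a ∈ (Subring.closure
        ((𝒮.deg U hU 0 : Set (𝒮.presheaf.obj (op U))) ∪ (𝒮.deg U hU 1 : Set _))).map (φ.hom.app (op U)).hom :=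
      ⟨a, by rw [hgen U hU]; trivial, rfl⟩
    rw [RingHom.map_closure] at hmem
    refine Subring.closure_mono ?_ hmem
    rintro _ ⟨x, hx | hx, rfl⟩
    · exact Or.inl ((hdeg U hU 0 _).2 ⟨x, hx, rfl⟩)
    · exact Or.inr ((hdeg U hU 1 _).2 ⟨x, hx, rfl⟩)
  have hft' : 𝒬.IsFTDeg 1 := fun U hU => by
    obtain ⟨T, hT, hspan⟩ := hft U hU
    refine ⟨T.image (φ.hom.app (op U)).hom, ?_, fun x hx => ?_⟩
    · intro b hb
      obtain ⟨t, ht, rfl⟩ := Finset.mem_image.1 hb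
      exact (hdeg U hU 1 _).2 ⟨t, hT ht, rfl⟩
    · obtain ⟨a, ha, rfl⟩ := (hdeg U hU 1 x).1 hx
      obtain ⟨c, rfl⟩ := hspan a ha
      refine ⟨fun b => ∑ t ∈ T with (φ.hom.app (op U)).hom t = b, c t, ?_⟩
      rw [map_sum, ← Finset.sum_fiberwise_of_maps_to (t := T.image (φ.hom.app (op U)).hom)
        (fun t ht => Finset.mem_image_of_mem _ ht)]
      refine Finset.sum_congr rfl fun b _ => ?_
      rw [map_sum, Finset.sum_mul]
      refine Finset.sum_congr rfl fun t ht => ?_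
      rw [map_mul, (Finset.mem_filter.1 ht).2]
      congr 1
      exact ConcreteCategory.congr_hom (congrArg (fun ψ => ψ.app (op U)) φ.comm) (c t)
  have hirr : ∀ (U : S.Opens) (hU : IsAffineOpen U),
      (𝒬.deg U hU)₊ ≤ ((𝒮.deg U hU)₊).map (RelProj.gradedHomAt φ' hgr U hU) := fun U hU => by
    rw [HomogeneousIdeal.irrelevant_le]
    intro n hn b hb
    obtain ⟨a, ha, rfl⟩ := (hdeg U hU n b).1 hb
    exact Ideal.mem_map_of_mem (RelProj.gradedHomAt φ' hgr U hU) (HomogeneousIdeal.mem_irrelevant_of_mem _ hn ha)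
  have hQ := isRelProj_relProj 𝒬
  obtain ⟨h, hh, -⟩ := existsUnique_relProjMap (hirr := hirr) hP hQ
  have : IsClosedImmersion h := Groth.Agent.S8263.result φ' hgr hsurj hirr _ _ _ _ hP hQ h hh
  let ι := Σ U : S.affineOpens, {t : 𝒮.presheaf.obj (op U.1) // t ∈ 𝒮.deg U.1 U.2 1}
  let O : ι → P.affineOpens := fun j => ⟨dOpen chart j.1.2 j.2.1, isAffineOpen_dOpen j.1.2 j.2.2⟩
  have hker' : h.ker = i.ker := by
    refine Scheme.IdealSheafData.ext_of_iSup_eq_top O (eq_top_iff.2 fun x _ => ?_) fun j => ?_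
    · obtain ⟨U, hU, y, rfl⟩ := exists_emb_apply (𝒮 := 𝒮) (chart := chart) x
      obtain ⟨T, hT, hspan⟩ := hft U hU
      obtain ⟨g, ⟨t, ht, rfl⟩, hy⟩ := cover_of_gen hgen hU T hT hspan hU le_rfl y
      exact Opens.mem_iSup.2 ⟨⟨⟨U, hU⟩, t, hT ht⟩, ⟨y, by simpa [RelProj.QCGrAlg.res_apply] using hy, rfl⟩⟩
    · obtain ⟨⟨U, hU⟩, t, ht⟩ := j
      rw [Scheme.Hom.ker_apply, Scheme.Hom.ker_apply]
      ext x
      simp only [RingHom.mem_ker]
      obtain ⟨n, a, ha, rfl⟩ := exists_eq_sec hU ht x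
      show h.app (dOpen chart hU t) _ = 0 ↔ i.app (dOpen chart hU t) _ = 0
      let ψ := RelProj.gradedHomAt φ' hgr U hU
      have e1 : RelProj.emb (relProjTo 𝒬) (relProjChart 𝒬) U hU ≫ h =
          Proj.map ψ (hirr U hU) ≫ RelProj.emb p chart U hU := (isRelProjMap_iff h).1 hh U hU
      let eQ := RelProj.emb (relProjTo 𝒬) (relProjChart 𝒬) U hU
      have epre : eQ ⁻¹ᵁ (h ⁻¹ᵁ dOpen chart hU t) = Proj.basicOpen (𝒬.deg U hU) (ψ t) := by
        rw [← Scheme.Hom.comp_preimage, e1, Scheme.Hom.comp_preimage, Scheme.Hom.preimage_image_eq,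
          Proj.map_preimage_basicOpen]
      have hrange : h ⁻¹ᵁ dOpen chart hU t ≤ eQ.opensRange := by
        rw [opensRange_emb]
        exact (h.preimage_mono (dOpen_le hU t)).trans_eq (relProjMap_preimage hP hQ hh U)
      have key : ∀ (k : Proj (𝒬.deg U hU) ⟶ P) (_ : k = Proj.map ψ (hirr U hU) ≫ RelProj.emb p chart U hU)
          (e : Proj.basicOpen (𝒬.deg U hU) (ψ t) ≤ k ⁻¹ᵁ dOpen chart hU t),
          k.appLE (dOpen chart hU t) (Proj.basicOpen (𝒬.deg U hU) (ψ t)) e (sec chart hU ht ha) =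
            gfr (ψ.map_mem ht) (ψ.map_mem ha) := by
        rintro k rfl e
        refine (ConcreteCategory.congr_hom (Scheme.Hom.appLE_comp_appLE
          (Proj.map ψ (hirr U hU)) (RelProj.emb p chart U hU)
          (dOpen chart hU t) (Proj.basicOpen (𝒮.deg U hU) t) (Proj.basicOpen (𝒬.deg U hU) (ψ t))
          ((RelProj.emb p chart U hU).preimage_image_eq _).ge le_rfl) _).symm.trans ?_
        rw [ConcreteCategory.comp_apply, appLE_sec, map_gfr]
      have hinj : Function.Injective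
          (eQ.appLE (h ⁻¹ᵁ dOpen chart hU t) (Proj.basicOpen (𝒬.deg U hU) (ψ t)) epre.ge) := by
        have hiso : IsIso (eQ.app (h ⁻¹ᵁ dOpen chart hU t)) := Scheme.Hom.isIso_app eQ _ hrange
        have hiso' : IsIso (homOfLE epre.ge) := ⟨homOfLE epre.le, Subsingleton.elim _ _, Subsingleton.elim _ _⟩
        have : IsIso (eQ.appLE (h ⁻¹ᵁ dOpen chart hU t) (Proj.basicOpen (𝒬.deg U hU) (ψ t)) epre.ge) :=
          @IsIso.comp_isIso _ _ _ _ _ _ _ hiso inferInstance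
        exact (ConcreteCategory.bijective_of_isIso
          (eQ.appLE (h ⁻¹ᵁ dOpen chart hU t) (Proj.basicOpen (𝒬.deg U hU) (ψ t)) epre.ge)).1
      have e2 : eQ.appLE (h ⁻¹ᵁ dOpen chart hU t) (Proj.basicOpen (𝒬.deg U hU) (ψ t)) epre.ge
          (h.app (dOpen chart hU t) (sec chart hU ht ha)) = gfr (ψ.map_mem ht) (ψ.map_mem ha) := by
        rw [← ConcreteCategory.comp_apply, ← Scheme.Hom.appLE_eq_app, Scheme.Hom.appLE_comp_appLE]
        exact key _ e1 _
      rw [← map_eq_zero_iff _ hinj, e2, gfr_eq_zero_iff]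
      constructor
      · rintro ⟨K, hK⟩
        rw [← map_pow, ← map_mul] at hK
        exact app_eq_zero_of_pow_mul_mem i hU ht ha (((hφ U hU).2 _).1 hK)
      · intro hi
        obtain ⟨K, hK⟩ := exists_pow_mul_mem_of_app_eq_zero hgen hft i hU ht ha hi
        refine ⟨K, ?_⟩
        rw [← map_pow, ← map_mul]
        exact ((hφ U hU).2 _).2 hK
  have hiso := IsClosedImmersion.isIso_lift h i hker'
  let e := @asIso _ _ _ _ (IsClosedImmersion.lift h i hker'.le) hiso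
  refine ⟨𝒬, φ', hgr, hirr, h, e, hgen', hft', hQ, hh, IsClosedImmersion.lift_fac h i hker'.le, ?_⟩
  show IsClosedImmersion.lift h i hker'.le ≫ _ = _
  rw [← relProjMap_over hP hQ hh, IsClosedImmersion.lift_fac_assoc]

omit [IsAffineHom i] in
include hgen hft hP in
/-- A closed subscheme of a relative Proj of an algebra generated by a finite type degree-one part is projective. -/
theorem isProjective_of_closedImmersion [IsClosedImmersion i] : RelProj.IsProjective (i ≫ p) := by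
  obtain ⟨𝒬, φ', hgr, hirr, h, e, hgen', hft', hQ, -, -, he⟩ := exists_graded_quotient hgen hft hP i
  exact ⟨𝒬, relProj 𝒬, relProjTo 𝒬, relProjChart 𝒬, e, hgen', hft', hQ, he⟩

end Groth.Agent.EGA73.ClosedRelProj

end
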