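import Groth.Agent.EGAProj74.PConeDom
import Groth.Agent.EGA73.GradedBasics
import Mathlib.Algebra.Polynomial.Basic

/-!
Graded rings `B = A[z]`, for gradings by submodules.
-/

set_option autoImplicit false

universe u

open Polynomial CategoryTheory CategoryTheory.Limits AlgebraicGeometry HomogeneousLocalization TopologicalSpace
open scoped HomogeneousIdeal

noncomputable section

namespace Groth.Agent.EGA73.PolyConeGr

open Groth.Agent.EGAProj74 (irrelevant_toIdeal_le_span domMap domMap_preimage_basicOpen exists_of_mem_domOpen)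

section poly

variable {R A B : Type u} [CommRing R] [CommRing A] [Algebra R A] {𝒜 : ℕ → Submodule R A} [GradedAlgebra 𝒜]
  [CommRing B] [Algebra R B] {ℬ : ℕ → Submodule R B} [GradedAlgebra ℬ] (ι : 𝒜 →+*ᵍ ℬ) {z : B} (hz : z ∈ ℬ 1)
  (bij : Function.Bijective (Polynomial.eval₂RingHom ι.toRingHom z))

include bij in
theorem exists_poly (x : B) : ∃ p : A[X], eval₂ ι.toRingHom z p = x := bij.2 x

include hz bij in
/-- A homogeneous element of `A[z]` has homogeneous coefficients. -/
theorem coeff_mem_of_mem {k : ℕ} {p : A[X]} (hp : eval₂ ι.toRingHom z p ∈ ℬ k) :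
    (∀ j, j ≤ k → p.coeff j ∈ 𝒜 (k - j)) ∧ ∀ j, k < j → p.coeff j = 0 := by
  classical
  let q : A[X] := ∑ j ∈ p.support, if j ≤ k then C (GradedRing.proj 𝒜 (k - j) (p.coeff j)) * X ^ j else 0
  have hterm : ∀ j, GradedRing.proj ℬ k (ι (p.coeff j) * z ^ j) =
      if j ≤ k then ι (GradedRing.proj 𝒜 (k - j) (p.coeff j)) * z ^ j else 0 := by
    intro j
    rw [GradedRing.proj_apply,
      DirectSum.coe_decompose_mul_of_right_mem ℬ k (show z ^ j ∈ ℬ j by simpa using SetLike.pow_mem_graded j hz)]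
    split_ifs with h
    · congr 1
      rw [GradedRing.proj_apply]
      exact (GradedRingHom.map_directSumDecompose 𝒜 ℬ ι).symm
    · rfl
  have hq : eval₂ ι.toRingHom z q = eval₂ ι.toRingHom z p := by
    have e : eval₂ ι.toRingHom z p = ∑ j ∈ p.support, ι (p.coeff j) * z ^ j := by
      rw [eval₂_eq_sum, Polynomial.sum_def]; rfl
    have e2 : eval₂ ι.toRingHom z p = GradedRing.proj ℬ k (eval₂ ι.toRingHom z p) := by
      rw [GradedRing.proj_apply, DirectSum.decompose_of_mem_same ℬ hp]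
    rw [e2, e, map_sum, eval₂_finsetSum]
    refine Finset.sum_congr rfl fun j _ => ?_
    rw [hterm]
    split_ifs
    · simp
    · simp
  have hpq : q = p := bij.1 hq
  refine ⟨fun j hj => ?_, fun j hj => ?_⟩
  · rw [← hpq]
    simp only [q, finsetSum_coeff]
    refine sum_mem fun i _ => ?_
    split_ifs with hi
    · rw [coeff_C_mul, coeff_X_pow]
      split_ifs with h
      · subst h; rw [mul_one]; exact SetLike.coe_mem _
      · simp
    · simp
  · rw [← hpq]
    simp only [q, finsetSum_coeff]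
    refine Finset.sum_eq_zero fun i _ => ?_
    split_ifs with hi
    · rw [coeff_C_mul, coeff_X_pow, if_neg (by omega), mul_zero]
    · simp

include hz bij in
/-- "Set `z = 1`" is injective on each homogeneous piece. -/
theorem eval_one_inj {k : ℕ} {p : A[X]} (hp : eval₂ ι.toRingHom z p ∈ ℬ k) (h : p.eval 1 = 0) :
    p = 0 := by
  classical
  obtain ⟨h1, h2⟩ := coeff_mem_of_mem ι hz bij hp
  ext j
  rw [coeff_zero]
  by_cases hj : j ≤ k
  · have e : p.eval 1 = ∑ i ∈ p.support, p.coeff i := by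
      rw [eval_eq_sum, Polynomial.sum_def]; simp
    have := congr(GradedRing.proj 𝒜 (k - j) $(e ▸ h))
    rw [map_sum, map_zero, Finset.sum_eq_single j] at this
    · rwa [GradedRing.proj_apply, DirectSum.decompose_of_mem_same 𝒜 (h1 j hj)] at this
    · intro i _ hij
      by_cases hi : i ≤ k
      · rw [GradedRing.proj_apply, DirectSum.decompose_of_mem_ne 𝒜 (h1 i hi) (by omega)]
      · rw [h2 i (by omega), map_zero]
    · intro hjs
      rw [notMem_support_iff.mp hjs, map_zero]
  · exact h2 j (by omega)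

include hz bij in
theorem irrelevant_le_of_le {I : Ideal B} (hι : ∀ d, 0 < d → ∀ a ∈ 𝒜 d, ι a ∈ I) (hzI : z ∈ I) :
    (HomogeneousIdeal.irrelevant ℬ).toIdeal ≤ I := by
  refine irrelevant_toIdeal_le_span.trans (Ideal.span_le.mpr ?_)
  rintro x ⟨k, hk, hx⟩
  obtain ⟨p, rfl⟩ := exists_poly ι bij x
  obtain ⟨h1, h2⟩ := coeff_mem_of_mem ι hz bij hx
  rw [eval₂_eq_sum, Polynomial.sum_def]
  refine Submodule.sum_mem _ fun j hj => ?_
  rcases Nat.eq_zero_or_pos j with rfl | hj0
  · rw [pow_zero, mul_one]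
    exact hι _ (by omega) _ (h1 0 (by omega))
  · exact Ideal.mul_mem_left _ _ (Ideal.pow_mem_of_mem _ hzI _ hj0)

section retraction

variable (θ : ℬ →+*ᵍ 𝒜) (hθι : ∀ a, θ (ι a) = a) (hθz : θ z = 0)

include bij hθι hθz in
theorem sub_ι_θ_mem (b : B) : b - ι (θ b) ∈ Ideal.span {z} := by
  obtain ⟨p, rfl⟩ := exists_poly ι bij b
  refine Polynomial.induction_on p (fun a => ?_) (fun p q hp hq => ?_) fun n a _ => ?_
  · simp [hθι]
  · rw [eval₂_add, map_add, map_add, add_sub_add_comm]; exact add_mem hp hq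
  · rw [eval₂_mul, eval₂_C, eval₂_X_pow, map_mul, map_pow, hθz]
    simp only [pow_succ, mul_zero, map_zero, sub_zero]
    exact Ideal.mul_mem_left _ _ (Ideal.mul_mem_left _ _ (Ideal.subset_span rfl))

include hz bij hθι hθz in
theorem range_map_retraction (h : 𝒜₊ ≤ (ℬ₊).map θ) :
    Set.range (Proj.map θ h).base = ((Proj.basicOpen ℬ z : TopologicalSpace.Opens _) : Set (Proj ℬ))ᶜ := by
  refine Set.Subset.antisymm ?_ fun y hy => ?_
  · rintro _ ⟨x, rfl⟩ hx
    refine (Proj.mem_basicOpen ℬ z _).mp hx ?_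
    change θ z ∈ x.asHomogeneousIdeal.toIdeal
    rw [hθz]; exact zero_mem _
  · have hzy : z ∈ y.asHomogeneousIdeal.toIdeal := by
      by_contra h'; exact hy ((Proj.mem_basicOpen ℬ z y).mpr h')
    have hzs : ∀ b ∈ Ideal.span {z}, b ∈ y.asHomogeneousIdeal.toIdeal := fun b hb =>
      Ideal.span_le.mpr (Set.singleton_subset_iff.mpr hzy) hb
    refine ⟨(⟨y.asHomogeneousIdeal.comap ι, y.isPrime.comap ι.toRingHom, fun hle => ?_⟩ :
      ProjectiveSpectrum 𝒜), ?_⟩
    · exact y.not_irrelevant_le (irrelevant_le_of_le ι hz bij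
        (fun d hd a ha => hle (HomogeneousIdeal.mem_irrelevant_of_mem 𝒜 hd ha)) hzy)
    · refine ProjectiveSpectrum.ext (HomogeneousIdeal.toIdeal_injective ?_)
      ext b
      change ι (θ b) ∈ y.asHomogeneousIdeal.toIdeal ↔ b ∈ y.asHomogeneousIdeal.toIdeal
      have := hzs _ (sub_ι_θ_mem ι bij θ hθι hθz b)
      exact ⟨fun h => by simpa using add_mem this h, fun h => by simpa using sub_mem h this⟩

end retraction

include hz bij in
/-- The comparison `B_(z) → A` is bijective. -/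
theorem awayZ_bijective (g : Away ℬ z →+* A)
    (hg : ∀ (q : Away ℬ z) (p : A[X]) (k : ℕ),
      q.val = Localization.mk (eval₂ ι.toRingHom z p) ⟨z ^ k, pow_mem (Submonoid.mem_powers _) k⟩ →
        g q = p.eval 1) :
    Function.Bijective g := by
  classical
  constructor
  · rw [injective_iff_map_eq_zero]
    intro q hq
    obtain ⟨k, x, hx, rfl⟩ := Away.mk_surjective ℬ hz q
    obtain ⟨p, rfl⟩ := exists_poly ι bij x
    rw [hg _ p k (Away.val_mk (𝒜 := ℬ) k hz _ hx)] at hq
    have := eval_one_inj ι hz bij (k := k) (by simpa using hx) hq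
    refine val_injective _ ?_
    rw [Away.val_mk, val_zero]
    subst this
    simp only [eval₂_zero]
    exact Localization.mk_zero _
  · intro a
    rw [← DirectSum.sum_support_decompose 𝒜 a]
    refine (RingHom.range g).sum_mem fun i _ => ?_
    let q : Away ℬ z := Away.mk ℬ hz i (ι (DirectSum.decompose 𝒜 a i : A))
      (by simpa using ι.map_mem (SetLike.coe_mem (DirectSum.decompose 𝒜 a i)))
    refine ⟨q, ?_⟩
    rw [hg q (C (DirectSum.decompose 𝒜 a i : A)) i ?_, eval_C]
    rw [Away.val_mk, eval₂_C]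
    rfl


end poly

section retraction_points

variable {R A B : Type u} [CommRing R] [CommRing A] [Algebra R A] {𝒜 : ℕ → Submodule R A} [GradedAlgebra 𝒜]
  [CommRing B] [Algebra R B] {ℬ : ℕ → Submodule R B} [GradedAlgebra ℬ] 

/-- Two points of `Proj` containing the same homogeneous elements of positive degree are equal. -/
theorem proj_ext {x y : Proj 𝒜}
    (h : ∀ (d : ℕ), 0 < d → ∀ a ∈ 𝒜 d, a ∈ x.asHomogeneousIdeal ↔ a ∈ y.asHomogeneousIdeal) : x = y := by
  classical
  have key : ∀ x y : Proj 𝒜,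
      (∀ (d : ℕ), 0 < d → ∀ a ∈ 𝒜 d, a ∈ x.asHomogeneousIdeal ↔ a ∈ y.asHomogeneousIdeal) →
      x.asHomogeneousIdeal.toIdeal ≤ y.asHomogeneousIdeal.toIdeal := by
    intro x y h b hb
    rw [← DirectSum.sum_support_decompose 𝒜 b]
    refine Submodule.sum_mem _ fun i _ => ?_
    have hbi : (DirectSum.decompose 𝒜 b i : A) ∈ x.asHomogeneousIdeal.toIdeal :=
      x.asHomogeneousIdeal.isHomogeneous i hb
    rcases Nat.eq_zero_or_pos i with rfl | hi
    · obtain ⟨e, f, he, hf, hfy⟩ : ∃ (e : ℕ) (f : A), 0 < e ∧ f ∈ 𝒜 e ∧ f ∉ y.asHomogeneousIdeal.toIdeal := by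
        by_contra! h'
        refine y.not_irrelevant_le (irrelevant_toIdeal_le_span.trans (Ideal.span_le.mpr ?_))
        rintro a ⟨e, he, ha⟩
        exact h' e a he ha
      refine (y.isPrime.mem_or_mem ?_).resolve_right hfy
      exact (h e he _ (by simpa using SetLike.mul_mem_graded (SetLike.coe_mem (DirectSum.decompose 𝒜 b 0)) hf)).mp
        (Ideal.mul_mem_right f x.asHomogeneousIdeal.toIdeal hbi)
    · exact (h i hi _ (SetLike.coe_mem _)).mp hbi
  exact ProjectiveSpectrum.ext (HomogeneousIdeal.toIdeal_injective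
    (le_antisymm (key x y h) (key y x fun d hd a ha => (h d hd a ha).symm)))

theorem mem_domMap_iff (ψ : 𝒜 →+*ᵍ ℬ) (w : RelCone.domOpen ψ) {d : ℕ} (hd : 0 < d) {a : A} (ha : a ∈ 𝒜 d) :
    a ∈ ((domMap ψ).base w : Proj 𝒜).asHomogeneousIdeal ↔ ψ a ∈ (w.1 : Proj ℬ).asHomogeneousIdeal := by
  have h : w ∈ domMap ψ ⁻¹ᵁ Proj.basicOpen 𝒜 a ↔
      w ∈ (RelCone.domOpen ψ).ι ⁻¹ᵁ Proj.basicOpen ℬ (ψ a) :=
    SetLike.ext_iff.mp (domMap_preimage_basicOpen ψ hd a ha) w
  exact not_iff_not.mp h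

variable (ι : 𝒜 →+*ᵍ ℬ) {z : B} (hz : z ∈ ℬ 1)
  (bij : Function.Bijective (Polynomial.eval₂RingHom ι.toRingHom z))

/-- Setting `z = 0`. -/
def polyRetraction : ℬ →+*ᵍ 𝒜 where
  toRingHom := (Polynomial.evalRingHom 0).comp (RingEquiv.ofBijective _ bij).symm.toRingHom
  map_mem {k} {x} hx := by
    obtain ⟨p, rfl⟩ := exists_poly ι bij x
    change Polynomial.eval 0 ((RingEquiv.ofBijective _ bij).symm (RingEquiv.ofBijective _ bij p)) ∈ 𝒜 k
    rw [RingEquiv.symm_apply_apply, ← Polynomial.coeff_zero_eq_eval_zero]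
    have := (coeff_mem_of_mem ι hz bij hx).1 0 (Nat.zero_le k)
    rwa [Nat.sub_zero] at this

theorem polyRetraction_ι (a : A) : polyRetraction ι hz bij (ι a) = a := by
  have e : RingEquiv.ofBijective _ bij (Polynomial.C a) = ι a := Polynomial.eval₂_C _ _
  change Polynomial.eval 0 ((RingEquiv.ofBijective _ bij).symm (ι a)) = a
  rw [← e, RingEquiv.symm_apply_apply, Polynomial.eval_C]

include hz bij in
theorem surjective_domMap_poly : Function.Surjective (domMap ι).base := by
  intro y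
  let θ := polyRetraction ι hz bij
  have hirr : ¬ (HomogeneousIdeal.irrelevant ℬ).toIdeal ≤ (y.asHomogeneousIdeal.comap θ).toIdeal := by
    intro hle
    refine y.not_irrelevant_le (irrelevant_toIdeal_le_span.trans (Ideal.span_le.mpr ?_))
    rintro a ⟨d, hd, ha⟩
    have := hle (HomogeneousIdeal.mem_irrelevant_of_mem ℬ hd (ι.map_mem ha))
    change θ (ι a) ∈ y.asHomogeneousIdeal.toIdeal at this
    rwa [polyRetraction_ι] at this
  let x : Proj ℬ := (⟨y.asHomogeneousIdeal.comap θ, y.isPrime.comap θ.toRingHom, hirr⟩ : ProjectiveSpectrum ℬ)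
  have hx : x ∈ RelCone.domOpen ι := by
    by_contra hx
    refine y.not_irrelevant_le (irrelevant_toIdeal_le_span.trans (Ideal.span_le.mpr ?_))
    rintro a ⟨d, hd, ha⟩
    by_contra hay
    refine hx ((RelCone.mem_domOpen ι x).mpr ⟨a, HomogeneousIdeal.mem_irrelevant_of_mem 𝒜 hd ha, ?_⟩)
    change θ (ι a) ∉ y.asHomogeneousIdeal.toIdeal
    rwa [polyRetraction_ι]
  refine ⟨⟨x, hx⟩, proj_ext fun d hd a ha => ?_⟩
  rw [mem_domMap_iff ι ⟨x, hx⟩ hd ha]
  change θ (ι a) ∈ y.asHomogeneousIdeal.toIdeal ↔ _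
  rw [polyRetraction_ι]
  rfl


end retraction_points

section maps

variable {R A B : Type u} [CommRing R] [CommRing A] [Algebra R A] {𝒜 : ℕ → Submodule R A} [GradedAlgebra 𝒜]
  [CommRing B] [Algebra R B] {ℬ : ℕ → Submodule R B} [GradedAlgebra ℬ]

theorem bij_of_aeval [Algebra A B] (φ : 𝒜 →+*ᵍ ℬ) (hφ : ∀ a : A, φ a = algebraMap A B a) {z : B}
    (hhat : Function.Bijective (Polynomial.aeval (R := A) z)) :
    Function.Bijective (Polynomial.eval₂RingHom φ.toRingHom z) := by
  have e : φ.toRingHom = algebraMap A B := RingHom.ext hφ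
  rw [e]
  exact hhat

variable (ι : 𝒜 →+*ᵍ ℬ) {z : B} (hz : z ∈ ℬ 1)
  (bij : Function.Bijective (Polynomial.eval₂RingHom ι.toRingHom z))

include hz bij in
theorem exists_awayZEquiv : ∃ θ : A ≃+* Away ℬ z, ∀ (n : ℕ) (a : A), a ∈ 𝒜 n →
    (θ a).val = Localization.mk (ι a) ⟨z ^ n, pow_mem (Submonoid.mem_powers z) n⟩ := by
  let e : B →+* A := (Polynomial.evalRingHom 1).comp (RingEquiv.ofBijective _ bij).symm.toRingHom
  have he : ∀ p : A[X], e (eval₂ ι.toRingHom z p) = p.eval 1 := fun p => by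
    change Polynomial.eval 1 ((RingEquiv.ofBijective _ bij).symm (RingEquiv.ofBijective _ bij p)) = _
    rw [RingEquiv.symm_apply_apply]
  have hez : e z = 1 := by
    have h := he Polynomial.X
    rwa [Polynomial.eval₂_X, Polynomial.eval_X] at h
  have hu : IsUnit (e z) := hez ▸ isUnit_one
  let g : Away ℬ z →+* A :=
    (Localization.awayLift e z hu).comp (algebraMap (Away ℬ z) (Localization.Away z))
  have hg : ∀ (q : Away ℬ z) (p : A[X]) (k : ℕ),
      q.val = Localization.mk (eval₂ ι.toRingHom z p) ⟨z ^ k, pow_mem (Submonoid.mem_powers _) k⟩ →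
        g q = p.eval 1 := by
    intro q p k hq
    change Localization.awayLift e z hu q.val = _
    rw [hq, Localization.awayLift_mk e z (eval₂ ι.toRingHom z p) 1 (by rw [hez, one_mul]) k, he, one_pow, mul_one]
  refine ⟨(RingEquiv.ofBijective g (awayZ_bijective ι hz bij g hg)).symm, fun n a ha => ?_⟩
  let q : Away ℬ z := Away.mk ℬ hz n (ι a) (by simpa using ι.map_mem ha)
  have hq : q.val = Localization.mk (ι a) ⟨z ^ n, pow_mem (Submonoid.mem_powers z) n⟩ := Away.val_mk ℬ n hz _ _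
  have : g q = a := by
    rw [hg q (C a) n (by rw [hq, eval₂_C]; rfl), eval_C]
  have h2 : (RingEquiv.ofBijective g (awayZ_bijective ι hz bij g hg)).symm a = q := by
    rw [RingEquiv.symm_apply_eq]; exact this.symm
  rw [h2, hq]

end maps

end Groth.Agent.EGA73.PolyConeGr
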