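import Groth.Prelude.Def_Cone
import Groth.Agent.EGA73.PolyConeGr
import Mathlib.AlgebraicGeometry.Morphisms.Affine

/-! The retraction of the pointed affine cone. -/

universe u

open CategoryTheory CategoryTheory.Limits AlgebraicGeometry TopologicalSpace Opposite
open HomogeneousLocalization
open scoped HomogeneousIdeal

noncomputable section

namespace Groth.Agent.EGA73

variable {R A : Type u} [CommRing R] [CommRing A] [Algebra R A] {𝒜 : ℕ → Submodule R A} [GradedAlgebra 𝒜]

theorem exists_of_mem_pointed (x : Spec (CommRingCat.of A)) (hx : x ∈ Cone.pointed 𝒜) :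
    ∃ (d : ℕ) (f : A), 0 < d ∧ f ∈ 𝒜 d ∧ f ∉ x.asIdeal := by
  by_contra! h
  refine hx ((PrimeSpectrum.mem_zeroLocus _ _).2 (EGAProj74.irrelevant_toIdeal_le_span.trans (Ideal.span_le.2 ?_)))
  rintro a ⟨d, hd, ha⟩
  exact h d a hd ha

abbrev coneMap (f : A) : Spec (CommRingCat.of (Localization.Away f)) ⟶ Spec (CommRingCat.of A) :=
  Spec.map (CommRingCat.ofHom (algebraMap A (Localization.Away f)))

@[reassoc]
theorem chart_ι {d : ℕ} {f : A} (hd : 0 < d) (hf : f ∈ 𝒜 d) :
    Cone.chart hf hd ≫ (Cone.pointed 𝒜).ι = coneMap f :=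
  IsOpenImmersion.lift_fac ..

instance {d : ℕ} {f : A} (hd : 0 < d) (hf : f ∈ 𝒜 d) : IsOpenImmersion (Cone.chart hf hd) :=
  have : IsOpenImmersion (Cone.chart hf hd ≫ (Cone.pointed 𝒜).ι) := by
    rw [chart_ι]; exact IsOpenImmersion.of_isLocalization f
  IsOpenImmersion.of_comp _ (Cone.pointed 𝒜).ι

theorem opensRange_chart {d : ℕ} {f : A} (hd : 0 < d) (hf : f ∈ 𝒜 d) :
    (Cone.chart hf hd).opensRange = (Cone.pointed 𝒜).ι ⁻¹ᵁ Cone.coneOpen f := by
  ext x
  have hr : Set.range (coneMap f).base = (PrimeSpectrum.basicOpen f : Set (PrimeSpectrum A)) :=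
    PrimeSpectrum.localization_away_comap_range (Localization.Away f) f
  constructor
  · rintro ⟨y, rfl⟩
    show (Cone.pointed 𝒜).ι.base ((Cone.chart hf hd).base y) ∈ (PrimeSpectrum.basicOpen f : Set (PrimeSpectrum A))
    rw [← hr]
    exact ⟨y, by rw [← chart_ι hd hf]; rfl⟩
  · intro hx
    have hx' : (Cone.pointed 𝒜).ι.base x ∈ Set.range (coneMap f).base := hr ▸ hx
    obtain ⟨y, hy⟩ := hx'
    refine ⟨y, (Cone.pointed 𝒜).ι.isOpenEmbedding.injective ?_⟩
    rw [← hy, ← chart_ι hd hf]; rfl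

variable (𝒜) in
/-- The standard charts cover the pointed cone. -/
def pointedCover : (Cone.pointed 𝒜 : Scheme.{u}).OpenCover where
  I₀ := Σ d : {d : ℕ // 0 < d}, 𝒜 d.1
  X s := Spec (CommRingCat.of (Localization.Away (s.2 : A)))
  f s := Cone.chart s.2.2 s.1.2
  mem₀ := by
    rw [Scheme.presieve₀_mem_precoverage_iff]
    refine ⟨fun x => ?_, fun _ => inferInstance⟩
    obtain ⟨d, f, hd, hf, hfx⟩ := exists_of_mem_pointed _ x.2
    refine ⟨⟨⟨d, hd⟩, f, hf⟩, ?_⟩
    change x ∈ (Cone.chart hf hd).opensRange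
    rw [opensRange_chart]
    exact hfx

abbrev coneChartMap {d : ℕ} {f : A} (hd : 0 < d) (hf : f ∈ 𝒜 d) :
    Spec (CommRingCat.of (Localization.Away f)) ⟶ Proj 𝒜 :=
  Spec.map (CommRingCat.ofHom (algebraMap (Away 𝒜 f) (Localization.Away f))) ≫ Proj.awayι 𝒜 f hf hd

theorem coneChartMap_compat {d m : ℕ} {f g : A} (hd : 0 < d) (hf : f ∈ 𝒜 d) (hm : 0 < m) (hg : g ∈ 𝒜 m) :
    pullback.fst (Cone.chart hf hd) (Cone.chart hg hm) ≫ coneChartMap hd hf =
      pullback.snd (Cone.chart hf hd) (Cone.chart hg hm) ≫ coneChartMap hm hg := by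
  let L := Localization.Away (f * g)
  let αf : Localization.Away f →+* L := Localization.awayLift (algebraMap A L) f
    (isUnit_of_dvd_unit (map_dvd _ (dvd_mul_right f g)) (IsLocalization.Away.algebraMap_isUnit (f * g)))
  let αg : Localization.Away g →+* L := Localization.awayLift (algebraMap A L) g
    (isUnit_of_dvd_unit (map_dvd _ (dvd_mul_left g f)) (IsLocalization.Away.algebraMap_isUnit (f * g)))
  have hαf : αf.comp (algebraMap A _) = algebraMap A L := IsLocalization.lift_comp _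
  have hαg : αg.comp (algebraMap A _) = algebraMap A L := IsLocalization.lift_comp _
  have : IsOpenImmersion (coneMap (f * g)) := IsOpenImmersion.of_isLocalization (f * g)
  have : IsOpenImmersion (coneMap f) := IsOpenImmersion.of_isLocalization f
  have : IsOpenImmersion (coneMap g) := IsOpenImmersion.of_isLocalization g
  let κ : pullback (Cone.chart hf hd) (Cone.chart hg hm) ⟶ Spec (CommRingCat.of L) :=
    IsOpenImmersion.lift (coneMap (f * g))
      (pullback.fst (Cone.chart hf hd) (Cone.chart hg hm) ≫ coneMap f) (by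
      rintro _ ⟨y, rfl⟩
      have hr : ∀ h : A, Set.range (coneMap h).base = (PrimeSpectrum.basicOpen h : Set (PrimeSpectrum A)) :=
        fun h => PrimeSpectrum.localization_away_comap_range (Localization.Away h) h
      rw [hr, PrimeSpectrum.basicOpen_mul]
      refine ⟨(hr f).le ⟨_, rfl⟩, ?_⟩
      rw [← chart_ι hd hf, pullback.condition_assoc, chart_ι hm hg]
      exact (hr g).le ⟨_, rfl⟩)
  have hκ : κ ≫ coneMap (f * g) = pullback.fst _ _ ≫ coneMap f := IsOpenImmersion.lift_fac ..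
  have h1 : pullback.fst (Cone.chart hf hd) (Cone.chart hg hm) = κ ≫ Spec.map (CommRingCat.ofHom αf) := by
    rw [← cancel_mono (coneMap f), Category.assoc, ← Spec.map_comp, ← CommRingCat.ofHom_comp, hαf, hκ]
  have h2 : pullback.snd (Cone.chart hf hd) (Cone.chart hg hm) = κ ≫ Spec.map (CommRingCat.ofHom αg) := by
    rw [← cancel_mono (coneMap g), Category.assoc, ← Spec.map_comp, ← CommRingCat.ofHom_comp, hαg, hκ,
      ← chart_ι hd hf, pullback.condition_assoc, chart_ι hm hg]
  have e1 : αf.comp (algebraMap (Away 𝒜 f) _) =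
      (algebraMap (Away 𝒜 (f * g)) L).comp (awayMap 𝒜 hg (rfl : f * g = f * g)) := by
    refine RingHom.ext fun x => ?_
    obtain ⟨n, a, ha, rfl⟩ := Away.mk_surjective 𝒜 hf x
    simp only [RingHom.comp_apply, HomogeneousLocalization.algebraMap_apply, Away.val_mk]
    exact Localization.awayLift_mk (algebraMap A L) f a (Localization.mk g ⟨f * g, 1, pow_one _⟩)
      (by rw [← Localization.mk_one_eq_algebraMap, Localization.mk_mul, one_mul]
          exact Localization.mk_self (⟨f * g, 1, pow_one _⟩ : Submonoid.powers (f * g))) n |>.trans (by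
      rw [← Localization.mk_one_eq_algebraMap, Localization.mk_pow, Localization.mk_mul, one_mul]
      refine ((HomogeneousLocalization.algebraMap_apply
        (awayMap 𝒜 hg (rfl : f * g = f * g) (Away.mk 𝒜 hf n a ha))).trans ?_).symm
      rw [Away.mk, val_awayMap_mk]
      rfl)
  have e2 : αg.comp (algebraMap (Away 𝒜 g) _) =
      (algebraMap (Away 𝒜 (f * g)) L).comp (awayMap 𝒜 hf (mul_comm f g)) := by
    refine RingHom.ext fun x => ?_
    obtain ⟨n, a, ha, rfl⟩ := Away.mk_surjective 𝒜 hg x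
    simp only [RingHom.comp_apply, HomogeneousLocalization.algebraMap_apply, Away.val_mk]
    exact Localization.awayLift_mk (algebraMap A L) g a (Localization.mk f ⟨f * g, 1, pow_one _⟩)
      (by rw [← Localization.mk_one_eq_algebraMap, Localization.mk_mul, one_mul, mul_comm g f]
          exact Localization.mk_self (⟨f * g, 1, pow_one _⟩ : Submonoid.powers (f * g))) n |>.trans (by
      rw [← Localization.mk_one_eq_algebraMap, Localization.mk_pow, Localization.mk_mul, one_mul]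
      refine ((HomogeneousLocalization.algebraMap_apply
        (awayMap 𝒜 hf (mul_comm f g) (Away.mk 𝒜 hg n a ha))).trans ?_).symm
      rw [Away.mk, val_awayMap_mk]
      rfl)
  rw [h1, h2]
  simp only [Category.assoc]
  congr 1
  simp only [coneChartMap, ← Spec.map_comp_assoc, ← CommRingCat.ofHom_comp]
  rw [e1, e2]
  simp only [CommRingCat.ofHom_comp, Spec.map_comp, Category.assoc]
  rw [Proj.SpecMap_awayMap_awayι, Proj.SpecMap_awayMap_awayι]
  congr 1

theorem existsUnique_coneRetraction :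
    ∃! π : (Cone.pointed 𝒜 : Scheme.{u}) ⟶ Proj 𝒜,
      ∀ (d : ℕ) (f : A) (hd : 0 < d) (hf : f ∈ 𝒜 d), Cone.chart hf hd ≫ π = coneChartMap hd hf := by
  refine ⟨(pointedCover 𝒜).glueMorphisms (fun s => coneChartMap s.1.2 s.2.2)
    (fun s t => coneChartMap_compat s.1.2 s.2.2 t.1.2 t.2.2), fun d f hd hf => ?_, fun π hπ => ?_⟩
  · exact (pointedCover 𝒜).ι_glueMorphisms (fun s => coneChartMap s.1.2 s.2.2) _ ⟨⟨d, hd⟩, f, hf⟩
  · refine (pointedCover 𝒜).hom_ext _ _ fun s => ?_
    exact (hπ _ _ s.1.2 s.2.2).trans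
      ((pointedCover 𝒜).ι_glueMorphisms (fun s => coneChartMap s.1.2 s.2.2) _ s).symm

variable (π : (Cone.pointed 𝒜 : Scheme.{u}) ⟶ Proj 𝒜)
  (hπ : ∀ (d : ℕ) (f : A) (hd : 0 < d) (hf : f ∈ 𝒜 d), Cone.chart hf hd ≫ π = coneChartMap hd hf)

include hπ in
theorem preimage_basicOpen_cone {d : ℕ} {f : A} (hd : 0 < d) (hf : f ∈ 𝒜 d) :
    π ⁻¹ᵁ Proj.basicOpen 𝒜 f = (Cone.pointed 𝒜).ι ⁻¹ᵁ Cone.coneOpen f := by
  have key : ∀ (m : ℕ) (hm : 0 < m) (g : A) (hg : g ∈ 𝒜 m),
      Cone.chart hg hm ⁻¹ᵁ (π ⁻¹ᵁ Proj.basicOpen 𝒜 f) =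
        Cone.chart hg hm ⁻¹ᵁ ((Cone.pointed 𝒜).ι ⁻¹ᵁ Cone.coneOpen f) := by
    intro m hm g hg
    rw [← Scheme.Hom.comp_preimage, ← Scheme.Hom.comp_preimage, hπ _ _ hm hg, chart_ι hm hg]
    simp only [coneChartMap, Scheme.Hom.comp_preimage]
    rw [Proj.awayι_preimage_basicOpen 𝒜 hg hm hf hd]
    have hu : algebraMap (Away 𝒜 g) (Localization.Away g) (Away.isLocalizationElem hg hf) =
        algebraMap A (Localization.Away g) (f ^ m) *
          Localization.mk 1 ⟨g ^ d, pow_mem (Submonoid.mem_powers g) d⟩ := by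
      rw [HomogeneousLocalization.algebraMap_apply, Away.val_mk, ← Localization.mk_one_eq_algebraMap,
        Localization.mk_mul, mul_one, one_mul]
    have hunit : IsUnit (Localization.mk (1 : A) ⟨g ^ d, pow_mem (Submonoid.mem_powers g) d⟩) := by
      refine IsUnit.of_mul_eq_one (algebraMap A (Localization.Away g) (g ^ d)) ?_
      rw [← Localization.mk_one_eq_algebraMap, Localization.mk_mul, one_mul, mul_one]
      exact Localization.mk_self (⟨g ^ d, pow_mem (Submonoid.mem_powers g) d⟩ : Submonoid.powers g)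
    ext y
    show algebraMap (Away 𝒜 g) (Localization.Away g) (Away.isLocalizationElem hg hf) ∉ y.asIdeal ↔
      algebraMap A (Localization.Away g) f ∉ y.asIdeal
    rw [hu, not_iff_not, map_pow]
    constructor
    · intro h
      refine (y.isPrime.mem_or_mem h).elim (fun h => y.isPrime.mem_of_pow_mem _ h)
        fun h => absurd (Ideal.eq_top_of_isUnit_mem _ h hunit) y.isPrime.ne_top
    · exact fun h => Ideal.mul_mem_right _ _ (Ideal.pow_mem_of_mem _ h _ hm)
  ext x
  obtain ⟨m, g, hm, hg, hgx⟩ := exists_of_mem_pointed _ x.2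
  have hx : x ∈ (Cone.chart hg hm).opensRange := by rw [opensRange_chart]; exact hgx
  obtain ⟨y, rfl⟩ := hx
  exact SetLike.ext_iff.mp (key m hm g hg) y

include hπ in
theorem mem_coneRetraction_iff (p : (Cone.pointed 𝒜 : Scheme.{u})) {d : ℕ} (hd : 0 < d) {a : A}
    (ha : a ∈ 𝒜 d) :
    a ∈ (π.base p).asHomogeneousIdeal ↔ a ∈ ((Cone.pointed 𝒜).ι.base p).asIdeal :=
  not_iff_not.mp (SetLike.ext_iff.mp (preimage_basicOpen_cone π hπ hd ha) p)

include hπ in
theorem coneRetraction_base (p : (Cone.pointed 𝒜 : Scheme.{u})) :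
    (π.base p).asHomogeneousIdeal = (((Cone.pointed 𝒜).ι.base p).asIdeal).homogeneousCore 𝒜 := by
  let P := ((Cone.pointed 𝒜).ι.base p).asIdeal
  have hP : P.IsPrime := ((Cone.pointed 𝒜).ι.base p).isPrime
  have hne : ¬ HomogeneousIdeal.irrelevant 𝒜 ≤ P.homogeneousCore 𝒜 := by
    intro hle
    obtain ⟨d, f, hd, hf, hfp⟩ := exists_of_mem_pointed _ p.2
    exact hfp (Ideal.toIdeal_homogeneousCore_le 𝒜 P (hle (HomogeneousIdeal.mem_irrelevant_of_mem 𝒜 hd hf)))
  have h : π.base p = (⟨P.homogeneousCore 𝒜, hP.homogeneousCore, hne⟩ : ProjectiveSpectrum 𝒜) := by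
    refine PolyConeGr.proj_ext fun d hd a ha => ?_
    rw [mem_coneRetraction_iff π hπ p hd ha]
    exact ⟨fun h => Ideal.mem_homogeneousCore_of_homogeneous_of_mem ⟨d, ha⟩ h,
      fun h => Ideal.toIdeal_homogeneousCore_le 𝒜 P h⟩
  rw [h]

include hπ in
theorem surjective_coneRetraction : Function.Surjective π.base := by
  intro x
  have hx : (⟨x.asHomogeneousIdeal.toIdeal, x.isPrime⟩ : PrimeSpectrum A) ∈ Cone.pointed 𝒜 := fun h =>
    x.not_irrelevant_le ((PrimeSpectrum.mem_zeroLocus _ _).1 h)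
  refine ⟨⟨_, hx⟩, PolyConeGr.proj_ext fun d hd a ha => ?_⟩
  rw [mem_coneRetraction_iff π hπ ⟨_, hx⟩ hd ha]
  rfl

include hπ in
theorem isAffineHom_coneRetraction : IsAffineHom π := by
  refine isAffineHom_of_forall_exists_isAffineOpen _ fun x => ?_
  obtain ⟨d, f, hd, hf, hfx⟩ := exists_pos_notMem 𝒜 x
  refine ⟨Proj.basicOpen 𝒜 f, hfx, Proj.isAffineOpen_basicOpen 𝒜 f hf hd, ?_⟩
  rw [preimage_basicOpen_cone π hπ hd hf, ← opensRange_chart hd hf]
  exact isAffineOpen_opensRange _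

end Groth.Agent.EGA73
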