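import Groth.Agent.EGAProj74.PConeDom
import Groth.Agent.EGA73.PointedCone
import Mathlib.RingTheory.PolynomialAlgebra
import Mathlib.RingTheory.TensorProduct.MonoidAlgebra
import Mathlib.Algebra.Polynomial.Laurent
import Mathlib.AlgebraicGeometry.Morphisms.FiniteType
import Mathlib.AlgebraicGeometry.ResidueField

/-! Fibres of the retractions of the pointed cones. -/

set_option autoImplicit false
set_option linter.style.haveILetI false

universe u

open CategoryTheory CategoryTheory.Limits AlgebraicGeometry TopologicalSpace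
open HomogeneousLocalization

noncomputable section

namespace Groth.Agent.EGA73.ConeFibre

section scheme

attribute [local instance] Polynomial.algebra
open scoped AlgebraMonoidAlgebra

variable {X E : Scheme.{u}} (π : E ⟶ X)

theorem exists_iso_fibre {P Q : CommRingCat.{u}} {j : Spec P ⟶ X} [IsOpenImmersion j]
    {k : Spec Q ⟶ E} {q : P ⟶ Q} (h : IsPullback k (Spec.map q) π j) (x : X) (hx : x ∈ Set.range j) :
    ∃ φ : P ⟶ X.residueField x, ∀ (QK : CommRingCat.{u}) (i₁ : Q ⟶ QK) (i₂ : X.residueField x ⟶ QK),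
      IsPushout q φ i₁ i₂ →
        ∃ e : pullback π (X.fromSpecResidueField x) ≅ Spec QK,
          e.hom ≫ Spec.map i₂ = pullback.snd π (X.fromSpecResidueField x) := by
  have hr : Set.range (X.fromSpecResidueField x) ⊆ Set.range j := by
    rw [Scheme.range_fromSpecResidueField]
    exact Set.singleton_subset_iff.mpr hx
  let g := IsOpenImmersion.lift j (X.fromSpecResidueField x) hr
  have hg : g ≫ j = X.fromSpecResidueField x := IsOpenImmersion.lift_fac _ _ _
  obtain ⟨φ, hφ⟩ := Spec.map_surjective g
  refine ⟨φ, fun QK i₁ i₂ hp => ?_⟩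
  have h1 : IsPullback (Spec.map i₁ ≫ k) (Spec.map i₂) π (Spec.map φ ≫ j) :=
    (isPullback_SpecMap_of_isPushout _ _ _ _ hp).paste_horiz h
  rw [hφ, hg] at h1
  exact ⟨h1.isoPullback.symm, h1.isoPullback_inv_snd⟩

theorem isPushout_of_iso {P Q K M MK : CommRingCat.{u}} {q : P ⟶ Q} {φ : P ⟶ K} {a : P ⟶ M}
    {i₁ : M ⟶ MK} {i₂ : K ⟶ MK} (h : IsPushout a φ i₁ i₂) (θ : M ≅ Q) (hθ : a ≫ θ.hom = q) :
    IsPushout q φ (θ.inv ≫ i₁) i₂ := by
  refine h.of_iso (Iso.refl _) θ (Iso.refl _) (Iso.refl _) ?_ ?_ ?_ ?_
  · simp [hθ]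
  · simp
  · simp
  · simp

theorem exists_iso_fibre_poly {P Q : CommRingCat.{u}} {j : Spec P ⟶ X} [IsOpenImmersion j]
    {k : Spec Q ⟶ E} {q : P ⟶ Q} (h : IsPullback k (Spec.map q) π j) (θ : Polynomial P ≃+* Q)
    (hθ : ∀ a, θ (Polynomial.C a) = q a) (x : X) (hx : x ∈ Set.range j) :
    ∃ e : pullback π (X.fromSpecResidueField x) ≅
        Spec (CommRingCat.of (Polynomial (X.residueField x))),
      e.hom ≫ Spec.map (CommRingCat.ofHom (algebraMap (X.residueField x)
        (Polynomial (X.residueField x)))) = pullback.snd π (X.fromSpecResidueField x) := by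
  obtain ⟨φ, hφ⟩ := exists_iso_fibre π h x hx
  letI : Algebra P (X.residueField x) := φ.hom.toAlgebra
  exact hφ _ _ _ (isPushout_of_iso
    (CommRingCat.isPushout_of_isPushout P (X.residueField x) (Polynomial P)
      (Polynomial (X.residueField x))).flip
    θ.toCommRingCatIso (CommRingCat.hom_ext (RingHom.ext hθ)))

theorem exists_iso_fibre_laurent {P Q : CommRingCat.{u}} {j : Spec P ⟶ X} [IsOpenImmersion j]
    {k : Spec Q ⟶ E} {q : P ⟶ Q} (h : IsPullback k (Spec.map q) π j) (θ : LaurentPolynomial P ≃+* Q)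
    (hθ : ∀ a, θ (LaurentPolynomial.C a) = q a) (x : X) (hx : x ∈ Set.range j) :
    ∃ e : pullback π (X.fromSpecResidueField x) ≅
        Spec (CommRingCat.of (LaurentPolynomial (X.residueField x))),
      e.hom ≫ Spec.map (CommRingCat.ofHom (algebraMap (X.residueField x)
        (LaurentPolynomial (X.residueField x)))) = pullback.snd π (X.fromSpecResidueField x) := by
  obtain ⟨φ, hφ⟩ := exists_iso_fibre π h x hx
  letI : Algebra P (X.residueField x) := φ.hom.toAlgebra
  exact hφ _ _ _ (isPushout_of_iso
    (CommRingCat.isPushout_of_isPushout P (X.residueField x) (LaurentPolynomial P)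
      (LaurentPolynomial (X.residueField x))).flip
    θ.toCommRingCatIso (CommRingCat.hom_ext (RingHom.ext hθ)))

theorem of_isPullback_charts {ι : Type*} (P Q : ι → CommRingCat.{u}) (j : ∀ i, Spec (P i) ⟶ X)
    [∀ i, IsOpenImmersion (j i)] (hj : ∀ x, ∃ i, x ∈ Set.range (j i))
    (k : ∀ i, Spec (Q i) ⟶ E) (q : ∀ i, P i ⟶ Q i)
    (h : ∀ i, IsPullback (k i) (Spec.map (q i)) π (j i)) (hq : ∀ i, (q i).hom.FiniteType) :
    LocallyOfFiniteType π ∧ QuasiCompact π := by
  choose i hi using hj
  let 𝒰 : X.OpenCover :=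
    { I₀ := X
      X := fun x => Spec (P (i x))
      f := fun x => j (i x)
      mem₀ := by
        rw [Scheme.presieve₀_mem_precoverage_iff]
        exact ⟨fun x => ⟨x, hi x⟩, fun _ => inferInstance⟩ }
  constructor
  · refine IsZariskiLocalAtTarget.of_openCover (P := @LocallyOfFiniteType) 𝒰 fun x => ?_
    change LocallyOfFiniteType (pullback.snd π (j (i x)))
    rw [← (h (i x)).isoPullback_inv_snd]
    exact (MorphismProperty.cancel_left_of_respectsIso @LocallyOfFiniteType _ _).mpr
      ((HasRingHomProperty.Spec_iff (P := @LocallyOfFiniteType)).mpr (hq (i x)))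
  · refine IsZariskiLocalAtTarget.of_openCover (P := @QuasiCompact) 𝒰 fun x => ?_
    change QuasiCompact (pullback.snd π (j (i x)))
    rw [← (h (i x)).isoPullback_inv_snd]
    infer_instance

end scheme

section algebra

variable {R A : Type u} [CommRing R] [CommRing A] [Algebra R A] {𝒜 : ℕ → Submodule R A} [GradedAlgebra 𝒜]
  {f : A} (hf : f ∈ 𝒜 1)

include hf in
theorem val_mk_eq (n : ℕ) (a : A) (ha : a ∈ 𝒜 (n • 1)) :
    (Away.mk 𝒜 hf n a ha).val * algebraMap A (Localization.Away f) f ^ n = algebraMap A _ a := by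
  rw [Away.val_mk, ← map_pow, ← Localization.mk_one_eq_algebraMap, ← Localization.mk_one_eq_algebraMap,
    Localization.mk_mul, mul_one, Localization.mk_eq_mk_iff, Localization.r_iff_exists]
  exact ⟨1, by simp [mul_comm]⟩

include hf in
theorem exists_bounded_num (s : Finset ℕ) (c : ℕ → Away 𝒜 f) :
    ∃ (N : ℕ) (a : ℕ → A), ∀ i ∈ s, a i ∈ 𝒜 N ∧
      (c i).val * algebraMap A (Localization.Away f) f ^ N = algebraMap A _ (a i) := by
  choose n a₀ ha hc using fun i => Away.mk_surjective 𝒜 hf (c i)
  refine ⟨s.sup n, fun i => a₀ i * f ^ (s.sup n - n i), fun i hi => ⟨?_, ?_⟩⟩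
  · have h1 := SetLike.mul_mem_graded (ha i) (SetLike.pow_mem_graded (s.sup n - n i) hf)
    rwa [smul_eq_mul, smul_eq_mul, mul_one, mul_one, Nat.add_sub_cancel' (Finset.le_sup hi)] at h1
  · have h2 := val_mk_eq hf (n i) (a₀ i) (ha i)
    rw [hc i] at h2
    rw [map_mul, map_pow, ← h2, mul_assoc, ← pow_add, Nat.add_sub_cancel' (Finset.le_sup hi)]

variable (𝒜 f) in
/-- `T ↦ f`. -/
def toConePoly : Polynomial (Away 𝒜 f) →+* Localization.Away f :=
  Polynomial.eval₂RingHom (algebraMap (Away 𝒜 f) (Localization.Away f))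
    (algebraMap A (Localization.Away f) f)

theorem val_zero_of_num {N k : ℕ} {a : A} {c : Away 𝒜 f}
    (h : c.val * algebraMap A (Localization.Away f) f ^ N = algebraMap A _ a) (h0 : f ^ k * a = 0) :
    c = 0 := by
  have hu : IsUnit (algebraMap A (Localization.Away f) f) := IsLocalization.Away.algebraMap_isUnit f
  apply val_injective
  rw [val_zero, ← (hu.pow N).mul_left_eq_zero, h, ← (hu.pow k).mul_right_eq_zero, ← map_pow,
    ← map_mul, h0, map_zero]

include hf in
theorem toConePoly_injective : Function.Injective (toConePoly 𝒜 f) := by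
  classical
  rw [injective_iff_map_eq_zero]
  intro p hp
  obtain ⟨N, a, ha⟩ := exists_bounded_num hf p.support p.coeff
  have hsum : algebraMap A (Localization.Away f) (∑ i ∈ p.support, a i * f ^ i) = 0 := by
    have : toConePoly 𝒜 f p * algebraMap A (Localization.Away f) f ^ N = 0 := by rw [hp, zero_mul]
    rw [toConePoly, Polynomial.coe_eval₂RingHom, Polynomial.eval₂_eq_sum, Polynomial.sum,
      Finset.sum_mul] at this
    rw [← this, map_sum]
    refine Finset.sum_congr rfl fun i hi => ?_
    rw [map_mul, map_pow, ← (ha i hi).2, HomogeneousLocalization.algebraMap_apply]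
    ring
  obtain ⟨⟨_, k, rfl⟩, hk⟩ :=
    (IsLocalization.map_eq_zero_iff (Submonoid.powers f) (Localization.Away f) _).mp hsum
  refine Polynomial.ext fun i => ?_
  rw [Polynomial.coeff_zero]
  by_cases hi : i ∈ p.support
  · refine val_zero_of_num (ha i hi).2 (k := k + i) ?_
    have hmem : ∀ j ∈ p.support, f ^ k * (a j * f ^ j) ∈ 𝒜 (k + (N + j)) := fun j hj => by
      have := SetLike.mul_mem_graded (SetLike.pow_mem_graded k hf)
        (SetLike.mul_mem_graded (ha j hj).1 (SetLike.pow_mem_graded j hf))
      simpa using this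
    have h1 := congrArg (GradedRing.proj 𝒜 (k + (N + i))) hk
    rw [Finset.mul_sum, map_sum, map_zero] at h1
    simp only [GradedRing.proj_apply] at h1
    rw [Finset.sum_eq_single i (fun j hj hne =>
        DirectSum.decompose_of_mem_ne 𝒜 (hmem j hj) (by omega)) (fun h => absurd hi h),
      DirectSum.decompose_of_mem_same 𝒜 (hmem i hi)] at h1
    rw [← h1, pow_add]
    ring
  · exact Polynomial.notMem_support_iff.mp hi

variable (𝒜 f) in
/-- `T ↦ f` on Laurent polynomials. -/
def toCone : LaurentPolynomial (Away 𝒜 f) →+* Localization.Away f :=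
  IsLocalization.Away.lift (Polynomial.X : Polynomial (Away 𝒜 f)) (g := toConePoly 𝒜 f)
    (by simp [toConePoly, IsLocalization.Away.algebraMap_isUnit])

theorem toCone_toLaurent (p : Polynomial (Away 𝒜 f)) :
    toCone 𝒜 f (Polynomial.toLaurent p) = toConePoly 𝒜 f p := by
  rw [← LaurentPolynomial.algebraMap_eq_toLaurent]
  exact IsLocalization.Away.lift_eq _ _ p

theorem toCone_C (c : Away 𝒜 f) :
    toCone 𝒜 f (LaurentPolynomial.C c) = algebraMap (Away 𝒜 f) (Localization.Away f) c := by
  rw [← Polynomial.toLaurent_C, toCone_toLaurent]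
  simp [toConePoly]

include hf in
theorem toCone_bijective : Function.Bijective (toCone 𝒜 f) := by
  classical
  constructor
  · rw [injective_iff_map_eq_zero]
    intro p hp
    obtain ⟨n, p', hp'⟩ := LaurentPolynomial.exists_T_pow p
    have h1 : toConePoly 𝒜 f p' = 0 := by rw [← toCone_toLaurent, hp', map_mul, hp, zero_mul]
    rw [toConePoly_injective hf (h1.trans (map_zero _).symm), map_zero] at hp'
    exact (LaurentPolynomial.isUnit_T (R := Away 𝒜 f) (n : ℤ)).mul_left_eq_zero.mp hp'.symm
  · intro z
    have hι : ∀ a, algebraMap A (Localization.Away f) a ∈ (toCone 𝒜 f).range := by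
      intro a
      induction a using DirectSum.Decomposition.inductionOn 𝒜 with
      | zero => rw [map_zero]; exact zero_mem _
      | add x y hx hy => rw [map_add]; exact add_mem hx hy
      | @homogeneous n x =>
        refine ⟨Polynomial.toLaurent (Polynomial.monomial n (Away.mk 𝒜 hf n x (by simp [x.2]))), ?_⟩
        rw [toCone_toLaurent, toConePoly, Polynomial.coe_eval₂RingHom, Polynomial.eval₂_monomial,
          HomogeneousLocalization.algebraMap_apply]
        exact val_mk_eq hf n x _
    have hinv : IsLocalization.Away.invSelf f ∈ (toCone 𝒜 f).range := by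
      refine ⟨LaurentPolynomial.T (-1), ?_⟩
      refine (IsLocalization.Away.algebraMap_isUnit (S := Localization.Away f) f).mul_left_cancel ?_
      have hT : toCone 𝒜 f (LaurentPolynomial.T 1) = algebraMap A (Localization.Away f) f := by
        rw [← Polynomial.toLaurent_X, toCone_toLaurent]
        simp [toConePoly]
      conv_lhs => rw [← hT, ← map_mul, ← LaurentPolynomial.T_add]
      rw [IsLocalization.Away.mul_invSelf]
      simp
    obtain ⟨⟨a, ⟨_, n, rfl⟩⟩, hz⟩ := IsLocalization.surj (Submonoid.powers f) z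
    have : z = algebraMap A (Localization.Away f) a * IsLocalization.Away.invSelf f ^ n := by
      have h1 : z * algebraMap A (Localization.Away f) f ^ n = algebraMap A _ a := by
        rw [← map_pow]; exact hz
      rw [← h1, mul_assoc, ← mul_pow, IsLocalization.Away.mul_invSelf, one_pow, mul_one]
    rw [this]
    exact mul_mem (hι a) (pow_mem hinv n)

variable {B : Type u} [CommRing B] [Algebra R B] {ℬ : ℕ → Submodule R B} [GradedAlgebra ℬ]
  [Algebra A B] (φ : 𝒜 →+*ᵍ ℬ) (hφ : ∀ a : A, φ a = algebraMap A B a)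
  {z : B} (hz : z ∈ ℬ 1) (hhat : Function.Bijective (Polynomial.aeval (R := A) z))

/-- `T ↦ z / f`. -/
def toPCone : Polynomial (Away 𝒜 f) →+* Away ℬ (φ f) :=
  Polynomial.eval₂RingHom (Away.map φ f) (Away.mk ℬ (φ.map_mem hf) 1 z (by simpa using hz))

include hf in
theorem map_val_mul (c : Away 𝒜 f) {N : ℕ} {a : A}
    (h : c.val * algebraMap A (Localization.Away f) f ^ N = algebraMap A _ a) :
    (Away.map φ f c).val * algebraMap B (Localization.Away (φ f)) (φ f) ^ N = algebraMap B _ (φ a) := by
  let ψ : Localization.Away f →+* Localization.Away (φ f) := IsLocalization.Away.map _ _ φ.toRingHom f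
  have hψ : ∀ b, ψ (algebraMap A _ b) = algebraMap B _ (φ b) := fun b => IsLocalization.map_eq _ b
  have hc : ψ c.val = (Away.map φ f c).val := by
    obtain ⟨n, b, hb, rfl⟩ := Away.mk_surjective 𝒜 hf c
    refine ((IsLocalization.Away.algebraMap_isUnit (S := Localization.Away (φ f)) (φ f)).pow n).mul_right_cancel ?_
    rw [Away.map_mk]
    refine Eq.trans ?_ (val_mk_eq (φ.map_mem hf) n (φ b) (φ.map_mem hb)).symm
    rw [← hψ, ← map_pow, ← map_mul, val_mk_eq hf]
    exact hψ b
  rw [← hc, ← hψ, ← hψ, ← map_pow, ← map_mul, h]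

include hφ hhat in
theorem toPCone_bijective : Function.Bijective (toPCone hf φ hz) := by
  classical
  let L := Localization.Away (φ f)
  let F : L := algebraMap B L (φ f)
  have hF : IsUnit F := IsLocalization.Away.algebraMap_isUnit (φ f)
  let T : Away ℬ (φ f) := Away.mk ℬ (φ.map_mem hf) 1 z (by simpa using hz)
  have hT : T.val * F = algebraMap B L z := by
    simpa using val_mk_eq (φ.map_mem hf) 1 z (by simpa using hz)
  constructor
  · rw [injective_iff_map_eq_zero]
    intro p hp
    obtain ⟨N, a, ha⟩ := exists_bounded_num hf p.support p.coeff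
    have hsum : algebraMap B L
        (∑ i ∈ p.support, φ (a i * f ^ (p.natDegree - i)) * z ^ i) = 0 := by
      have h0 : (toPCone hf φ hz p).val * F ^ (N + p.natDegree) = 0 := by rw [hp, val_zero, zero_mul]
      rw [toPCone, Polynomial.coe_eval₂RingHom, Polynomial.eval₂_eq_sum, Polynomial.sum] at h0
      rw [← HomogeneousLocalization.algebraMap_apply, map_sum, Finset.sum_mul] at h0
      rw [← h0, map_sum]
      refine Finset.sum_congr rfl fun i hi => ?_
      rw [HomogeneousLocalization.algebraMap_apply, val_mul, val_pow, map_mul, map_pow, map_mul,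
        map_pow, map_mul, map_pow, ← map_val_mul hf φ _ (ha i hi).2, ← hT]
      rw [show N + p.natDegree = N + ((p.natDegree - i) + i) by
        rw [Nat.sub_add_cancel (Polynomial.le_natDegree_of_mem_supp i hi)]]
      ring
    obtain ⟨⟨_, k, rfl⟩, hk⟩ :=
      (IsLocalization.map_eq_zero_iff (Submonoid.powers (φ f)) L _).mp hsum
    have hpoly : Polynomial.aeval z
        (∑ i ∈ p.support, Polynomial.monomial i (f ^ k * (a i * f ^ (p.natDegree - i)))) = 0 := by
      rw [map_sum, ← hk]
      simp only [Finset.mul_sum]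
      refine Finset.sum_congr rfl fun i _ => ?_
      rw [Polynomial.aeval_monomial, ← hφ, map_mul, map_pow, mul_assoc]
    have hpoly' := hhat.1 (hpoly.trans (map_zero _).symm)
    refine Polynomial.ext fun i => ?_
    rw [Polynomial.coeff_zero]
    by_cases hi : i ∈ p.support
    · refine val_zero_of_num (ha i hi).2 (k := k + (p.natDegree - i)) ?_
      have h1 := congrArg (Polynomial.coeff · i) hpoly'
      simp only [Polynomial.finsetSum_coeff, Polynomial.coeff_monomial, Polynomial.coeff_zero,
        Finset.sum_ite_eq', hi, if_true] at h1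
      rw [← h1, pow_add]
      ring
    · exact Polynomial.notMem_support_iff.mp hi
  · intro w
    obtain ⟨n, b, hb, rfl⟩ := Away.mk_surjective ℬ (φ.map_mem hf) w
    have key : ∀ x : B, ∀ n, ∃ c ∈ (toPCone hf φ hz).range,
        c.val * F ^ n = algebraMap B L ((DirectSum.decompose ℬ x) n : B) := by
      intro x
      obtain ⟨q, rfl⟩ := hhat.2 x
      induction q using Polynomial.induction_on' with
      | add x y hx hy =>
        intro n
        obtain ⟨c, hc, e⟩ := hx n
        obtain ⟨c', hc', e'⟩ := hy n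
        refine ⟨c + c', add_mem hc hc', ?_⟩
        rw [val_add, add_mul, e, e', map_add, DirectSum.decompose_add, DirectSum.add_apply,
          Submodule.coe_add, map_add]
      | monomial i a =>
        induction a using DirectSum.Decomposition.inductionOn 𝒜 with
        | zero => intro n; exact ⟨0, zero_mem _, by simp⟩
        | add x y hx hy =>
          intro n
          obtain ⟨c, hc, e⟩ := hx n
          obtain ⟨c', hc', e'⟩ := hy n
          refine ⟨c + c', add_mem hc hc', ?_⟩
          rw [val_add, add_mul, e, e', map_add, map_add, DirectSum.decompose_add,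
            DirectSum.add_apply, Submodule.coe_add, map_add]
        | @homogeneous j x =>
          intro n
          have hm : φ (x : A) * z ^ i ∈ ℬ (j + i) := by
            have := SetLike.mul_mem_graded (φ.map_mem x.2) (SetLike.pow_mem_graded i hz)
            simpa using this
          rw [Polynomial.aeval_monomial, ← hφ]
          by_cases hn : j + i = n
          · subst hn
            refine ⟨toPCone hf φ hz (Polynomial.monomial i (Away.mk 𝒜 hf j x (by rw [smul_eq_mul, mul_one]; exact x.2))), ⟨_, rfl⟩, ?_⟩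
            rw [DirectSum.decompose_of_mem_same ℬ hm, toPCone, Polynomial.coe_eval₂RingHom,
              Polynomial.eval₂_monomial, val_mul, val_pow, map_mul, map_pow,
              ← map_val_mul hf φ _ (val_mk_eq hf j x (by rw [smul_eq_mul, mul_one]; exact x.2)), ← hT]
            ring
          · exact ⟨0, zero_mem _, by rw [DirectSum.decompose_of_mem_ne ℬ hm hn]; simp⟩
    obtain ⟨c, ⟨q, rfl⟩, e⟩ := key b n
    refine ⟨q, val_injective _ ((hF.pow n).mul_right_cancel ?_)⟩
    rw [e, DirectSum.decompose_of_mem_same ℬ (by simpa using hb)]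
    exact (val_mk_eq (φ.map_mem hf) n b hb).symm

end algebra

section cones

variable {R A : Type u} [CommRing R] [CommRing A] [Algebra R A] (𝒜 : ℕ → Submodule R A) [GradedAlgebra 𝒜]

theorem exists_deg_one (hgen : (HomogeneousIdeal.irrelevant 𝒜).toIdeal = Ideal.span (𝒜 1 : Set A))
    (x : Proj 𝒜) : ∃ f, ∃ hf : f ∈ 𝒜 1, x ∈ Set.range (Proj.awayι 𝒜 f hf one_pos) := by
  by_contra! h
  refine x.not_irrelevant_le ?_
  show (HomogeneousIdeal.irrelevant 𝒜).toIdeal ≤ x.asHomogeneousIdeal.toIdeal
  rw [hgen, Ideal.span_le]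
  intro f hf
  by_contra hfx
  refine h f hf ?_
  show x ∈ (Proj.awayι 𝒜 f hf one_pos).opensRange
  rw [Proj.opensRange_awayι]
  exact hfx

variable {𝒜}

theorem finiteType_of_poly {P Q : CommRingCat.{u}} {q : P ⟶ Q} (θ : Polynomial P ≃+* Q)
    (hθ : ∀ a, θ (Polynomial.C a) = q a) : q.hom.FiniteType := by
  rw [show q.hom = θ.toRingHom.comp (algebraMap P (Polynomial P)) from (RingHom.ext hθ).symm]
  exact (RingHom.FiniteType.of_surjective _ θ.surjective).comp
    (RingHom.finiteType_algebraMap.mpr inferInstance)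

theorem finiteType_of_laurent {P Q : CommRingCat.{u}} {q : P ⟶ Q} (θ : LaurentPolynomial P ≃+* Q)
    (hθ : ∀ a, θ (LaurentPolynomial.C a) = q a) : q.hom.FiniteType := by
  rw [show q.hom = θ.toRingHom.comp (algebraMap P (LaurentPolynomial P)) from (RingHom.ext hθ).symm]
  exact (RingHom.FiniteType.of_surjective _ θ.surjective).comp
    (RingHom.finiteType_algebraMap.mpr inferInstance)

end cones

end Groth.Agent.EGA73.ConeFibre
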