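import Groth.Agent.EGA73.CurveVal
import Groth.Agent.Curves2.CurveEmbed
import Groth.Agent.EGA73.ProperCrit
import Groth.Agent.Props58.Comp
import Mathlib.AlgebraicGeometry.Limits

/-!
Normal complete models of function fields in one variable and of normal curves.
-/

set_option autoImplicit false
set_option linter.style.haveILetI false
set_option backward.isDefEq.respectTransparency.types false

universe u

open CategoryTheory CategoryTheory.Limits AlgebraicGeometry TopologicalSpace IsLocalRing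
open scoped IntermediateField

namespace Groth.Agent.EGA73

/-- A finitely generated extension of transcendence degree one is finite over a rational function
field in one variable. -/
theorem exists_finite_adjoin_of_trdeg_one (k K : Type u) [Field k] [Field K] [Algebra k K]
    (hfg : (⊤ : IntermediateField k K).FG) (htr : Algebra.trdeg k K = 1) :
    ∃ t : K, FiniteDimensional k⟮t⟯ K := by
  obtain ⟨ι, x, hx⟩ := exists_isTranscendenceBasis' k K
  have hι : Cardinal.mk ι = 1 := hx.cardinalMk_eq_trdeg.trans htr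
  obtain ⟨hs, ⟨t⟩⟩ := Cardinal.eq_one_iff_unique.1 hι
  have := hs
  have hr : Set.range x = {x t} := by
    ext z
    constructor
    · rintro ⟨i, rfl⟩
      rw [Subsingleton.elim i t]; rfl
    · rintro rfl; exact ⟨t, rfl⟩
  have := hx.isAlgebraic_field
  rw [hr] at this
  have : Algebra.EssFiniteType k K := IntermediateField.fg_top_iff.1 hfg
  have : Algebra.EssFiniteType k⟮x t⟯ K := Algebra.EssFiniteType.of_comp k k⟮x t⟯ K
  exact ⟨x t, Algebra.finite_of_essFiniteType_of_isAlgebraic⟩

theorem isNormalScheme_of_valuationRing {Y : Scheme.{u}}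
    (h : ∀ y : Y, ∃ _ : IsDomain (Y.presheaf.stalk y), ValuationRing (Y.presheaf.stalk y)) :
    Pi1.IsNormalScheme Y := fun y => by
  obtain ⟨_, _⟩ := h y
  exact ⟨inferInstance, inferInstance⟩

theorem isProper_of_closedImmersion_projSpace {Y : Scheme.{u}} {k : Type u} [Field k]
    {sY : Y ⟶ Spec (CommRingCat.of k)}
    (h : ∃ (N : ℕ) (i : Y ⟶ CohB1.ProjSpace N k), IsClosedImmersion i ∧ i ≫ CohB1.ProjSpace.toSpec N k = sY) :
    IsProper sY := by
  obtain ⟨N, i, hi, rfl⟩ := h
  have : IsProper (CohB1.ProjSpace.toSpec N k) := Curves2.ProjLine.isProper_toSpec k N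
  infer_instance

theorem exists_eq_sigma {ι : Type u} (Y : ι → Scheme.{u}) (z : (∐ Y : Scheme.{u})) :
    ∃ (i : ι) (y : Y i), Sigma.ι Y i y = z :=
  (sigmaOpenCover Y).exists_eq z

/-- A finite disjoint sum of proper morphisms is proper. -/
theorem isProper_sigmaDesc {S : Scheme.{u}} [IsLocallyNoetherian S] {ι : Type u} [Finite ι]
    (Y : ι → Scheme.{u}) (f : ∀ i, Y i ⟶ S) [∀ i, IsProper (f i)] :
    IsProper (Sigma.desc f) := by
  have hlft : LocallyOfFiniteType (Sigma.desc f) :=
    IsZariskiLocalAtSource.sigmaDesc fun i => inferInstance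
  have huc : UniversallyClosed (Sigma.desc f) := by
    refine universallyClosed_of_closed_cover (Sigma.desc f) Y (Sigma.ι Y) (fun i => ?_) fun z => ?_
    · rw [Sigma.ι_desc]; infer_instance
    · obtain ⟨i, y, rfl⟩ := exists_eq_sigma Y z
      exact ⟨i, y, rfl⟩
  have : IsLocallyNoetherian (∐ Y) := LocallyOfFiniteType.isLocallyNoetherian (Sigma.desc f)
  have hqs : QuasiSeparated (Sigma.desc f) := inferInstance
  have hsep : IsSeparated (Sigma.desc f) := by
    refine IsSeparated.of_valuativeCriterion _ fun sq => ⟨fun ⟨l, h1, h2⟩ ⟨l', h1', h2'⟩ => ?_⟩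
    have hin : ∀ (m : Spec (CommRingCat.of sq.R) ⟶ ∐ Y) (i : ι),
        m (closedPoint sq.R) ∈ (Sigma.ι Y i).opensRange →
        Set.range m ⊆ Set.range (Sigma.ι Y i) := by
      rintro m i hm _ ⟨p, rfl⟩
      exact ((IsLocalRing.specializes_closedPoint p).map m.continuous).mem_open
        (Sigma.ι Y i).opensRange.isOpen hm
    obtain ⟨i, y, hy⟩ := exists_eq_sigma Y (l (closedPoint sq.R))
    obtain ⟨j, y', hy'⟩ := exists_eq_sigma Y (l' (closedPoint sq.R))
    have hi := hin l i ⟨y, hy⟩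
    have hj := hin l' j ⟨y', hy'⟩
    let g := Spec.map (CommRingCat.ofHom (algebraMap sq.R sq.K))
    have hg : g ≫ l = g ≫ l' := h1.trans h1'.symm
    obtain rfl : i = j := by
      by_contra hij
      let p := g (closedPoint sq.K)
      have e : l p = l' p := by
        rw [← Scheme.Hom.comp_apply, ← Scheme.Hom.comp_apply, hg]
      have hd := disjoint_opensRange_sigmaι Y i j hij
      have h3 : l p ∈ (Sigma.ι Y i).opensRange ⊓ (Sigma.ι Y j).opensRange :=
        ⟨hi ⟨p, rfl⟩, e ▸ hj ⟨p, rfl⟩⟩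
      rw [hd.eq_bot] at h3
      exact h3
    have e1 := IsOpenImmersion.lift_fac (Sigma.ι Y i) l hi
    have e2 := IsOpenImmersion.lift_fac (Sigma.ι Y i) l' hj
    have hval : ValuativeCriterion.Uniqueness (f i) := IsSeparated.valuativeCriterion (f i)
    let sq' : ValuativeCommSq (f i) :=
      { R := sq.R
        K := sq.K
        i₁ := g ≫ IsOpenImmersion.lift (Sigma.ι Y i) l hi
        i₂ := sq.i₂
        commSq := ⟨by
          rw [← Sigma.ι_desc f i, Category.assoc, ← Category.assoc (IsOpenImmersion.lift _ _ _), e1,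
            h2]⟩ }
    have heq : IsOpenImmersion.lift (Sigma.ι Y i) l hi = IsOpenImmersion.lift (Sigma.ι Y i) l' hj := by
      have := (hval sq').allEq
        ⟨IsOpenImmersion.lift (Sigma.ι Y i) l hi, rfl, by
          show _ ≫ f i = sq.i₂
          exact (congrArg (_ ≫ ·) (Sigma.ι_desc f i)).symm.trans
            ((Category.assoc _ _ _).symm.trans ((congrArg (· ≫ Sigma.desc f) e1).trans h2))⟩
        ⟨IsOpenImmersion.lift (Sigma.ι Y i) l' hj, by
          rw [← cancel_mono (Sigma.ι Y i)]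
          show (g ≫ _) ≫ _ = (g ≫ _) ≫ _
          rw [Category.assoc, Category.assoc, e1, e2, hg], by
          show _ ≫ f i = sq.i₂
          exact (congrArg (_ ≫ ·) (Sigma.ι_desc f i)).symm.trans
            ((Category.assoc _ _ _).symm.trans ((congrArg (· ≫ Sigma.desc f) e2).trans h2'))⟩
      exact congrArg CommSq.LiftStruct.l this
    have hll : l = l' := by rw [← e1, ← e2, heq]
    subst hll
    rfl
  exact {}

/-- Every normal curve has a normal completion. -/
theorem exists_completion (k : Type u) [Field k] (X : Scheme.{u})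
    [X.Over (Spec (CommRingCat.of k))] [LocallyOfFiniteType (X ↘ (Spec (CommRingCat.of k)))]
    [QuasiCompact (X ↘ (Spec (CommRingCat.of k)))] [IsSeparated (X ↘ (Spec (CommRingCat.of k)))]
    (hcurve : ∀ x : X, IsClosed ({x} : Set X) → ringKrullDim (X.presheaf.stalk x) = 1)
    (hnorm : Pi1.IsNormalScheme X) :
    ∃ (Xc : Scheme.{u}) (sc : Xc ⟶ Spec (CommRingCat.of k)) (j : X ⟶ Xc), IsOpenImmersion j ∧
      Dense (Set.range j.base) ∧ j ≫ sc = X ↘ (Spec (CommRingCat.of k)) ∧ IsProper sc ∧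
      Pi1.IsNormalScheme Xc ∧
      ∀ x : Xc, IsClosed ({x} : Set Xc) → ringKrullDim (Xc.presheaf.stalk x) = 1 := by
  obtain ⟨_, _, _, _⟩ := fieldFT_instances k (X ↘ (Spec (CommRingCat.of k)))
  have hu : ∀ x : X, ∀ Z ∈ irreducibleComponents X, ∀ Z' ∈ irreducibleComponents X,
      x ∈ Z → x ∈ Z' → Z = Z' := fun x Z hZ Z' hZ' =>
    Props58.eq_of_isDomain_stalk x (hnorm x).1 Z hZ Z' hZ'
  let ι := ↥(irreducibleComponents X)
  have : Finite ι := (NoetherianSpace.finite_irreducibleComponents (α := X)).to_subtype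
  let C : ι → X.Opens := fun Z => ⟨Z.1, Props58.isOpen_irreducibleComponent hu
    (fun x => ⟨⊤, trivial, by
      have : NoetherianSpace ↥(⊤ : X.Opens) := Topology.IsInducing.subtypeVal.noetherianSpace
      exact NoetherianSpace.finite_irreducibleComponents⟩) Z.2⟩
  have hCclosed : ∀ Z, IsClosed (C Z : Set X) := fun Z => isClosed_of_mem_irreducibleComponents _ Z.2
  have hirr : ∀ Z, IrreducibleSpace (C Z) := fun Z =>
    Subtype.irreducibleSpace Z.2.1
  have key : ∀ Z, ∃ (Y : Scheme.{u}) (_ : IsIntegral Y) (sY : Y ⟶ Spec (CommRingCat.of k))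
      (j : (C Z : Scheme.{u}) ⟶ Y), IsOpenImmersion j ∧
      j ≫ sY = (C Z).ι ≫ (X ↘ Spec (CommRingCat.of k)) ∧ IsProper sY ∧
      Pi1.IsNormalScheme Y ∧ topologicalKrullDim Y = 1 := by
    intro Z
    have := hirr Z
    let W : Scheme.{u} := C Z
    letI : W.Over (Spec (CommRingCat.of k)) := ⟨(C Z).ι ≫ (X ↘ Spec (CommRingCat.of k))⟩
    have hsW : (W ↘ Spec (CommRingCat.of k)) = (C Z).ι ≫ (X ↘ Spec (CommRingCat.of k)) := rfl
    have hci : IsClosedImmersion (C Z).ι := IsClosedImmersion.of_isPreimmersion _ (by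
      rw [Scheme.Opens.range_ι]; exact hCclosed Z)
    haveI : LocallyOfFiniteType (W ↘ Spec (CommRingCat.of k)) := by rw [hsW]; infer_instance
    haveI : QuasiCompact (W ↘ Spec (CommRingCat.of k)) := by rw [hsW]; infer_instance
    haveI : IsSeparated (W ↘ Spec (CommRingCat.of k)) := by rw [hsW]; infer_instance
    obtain ⟨_, _, _, _⟩ := fieldFT_instances k (W ↘ (Spec (CommRingCat.of k)))
    have hWn : Pi1.IsNormalScheme W := fun w => by
      obtain ⟨h1, h2⟩ := hnorm ((C Z).ι w)
      let e := (asIso ((C Z).ι.stalkMap w)).commRingCatIsoToRingEquiv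
      exact ⟨e.symm.toMulEquiv.isDomain _, @IsIntegrallyClosed.of_equiv _ _ _ _ e h2⟩
    have hWc : ∀ w : W, IsClosed ({w} : Set W) → ringKrullDim (W.presheaf.stalk w) = 1 := by
      intro w hw
      have hcl : IsClosed ({(C Z).ι w} : Set X) := by
        rw [← Set.image_singleton]
        exact (C Z).ι.isClosedEmbedding.isClosedMap _ hw
      rw [← ringKrullDim_eq_of_ringEquiv (asIso ((C Z).ι.stalkMap w)).commRingCatIsoToRingEquiv]
      exact hcurve _ hcl
    haveI : ∀ w : W, _root_.IsReduced (W.presheaf.stalk w) := fun w =>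
      have := (hWn w).1
      inferInstance
    haveI := isReduced_of_isReduced_stalk W
    haveI : IsIntegral W := isIntegral_of_irreducibleSpace_of_isReduced W
    have hdim := topologicalKrullDim_eq_one hWc
    obtain ⟨Y, hint, sY, j, hj, hjs, hproj, hv, hd⟩ :=
      Curves2.exists_openImmersion_model k W hdim (valuationRing_stalk hWn hdim.le)
    exact ⟨Y, hint, sY, j, hj, hjs, isProper_of_closedImmersion_projSpace hproj,
      isNormalScheme_of_valuationRing hv, hd⟩
  choose Y hint sY j hj hjs hprop hYn hYd using key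
  obtain ⟨hcol⟩ : Nonempty (IsColimit (Cofan.mk X fun Z => (C Z).ι)) := by
    refine nonempty_isColimit_cofanMk_of _ ?_ ?_
    · refine top_le_iff.1 fun x _ => Opens.mem_iSup.2
        ⟨⟨_, irreducibleComponent_mem_irreducibleComponents x⟩, ?_⟩
      rw [Scheme.Opens.opensRange_ι]
      exact mem_irreducibleComponent
    · intro Z Z' hZ
      rw [Function.onFun, Scheme.Opens.opensRange_ι, Scheme.Opens.opensRange_ι, disjoint_iff,
        eq_bot_iff]
      rintro x ⟨h1, h2⟩
      exact (hZ (Subtype.ext (hu x _ Z.2 _ Z'.2 h1 h2))).elim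
  let J : X ⟶ ∐ Y := hcol.desc (Cofan.mk (∐ Y) fun Z => j Z ≫ Sigma.ι Y Z)
  have hJ : ∀ Z, (C Z).ι ≫ J = j Z ≫ Sigma.ι Y Z := fun Z => hcol.fac _ ⟨Z⟩
  have hcov : ∀ x : X, ∃ (Z : ι) (w : C Z), (C Z).ι w = x := fun x =>
    ⟨⟨_, irreducibleComponent_mem_irreducibleComponents x⟩, ⟨x, mem_irreducibleComponent⟩, rfl⟩
  have hJw : ∀ (Z : ι) (w : C Z), J ((C Z).ι w) = Sigma.ι Y Z (j Z w) := fun Z w => by
    rw [← Scheme.Hom.comp_apply, hJ, Scheme.Hom.comp_apply]
  refine ⟨∐ Y, Sigma.desc sY, J, ?_, ?_, ?_, isProper_sigmaDesc Y sY, ?_, ?_⟩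
  · haveI : ∀ x, IsIso (J.stalkMap x) := fun x => by
      obtain ⟨Z, w, rfl⟩ := hcov x
      have h1 : IsIso (((C Z).ι ≫ J).stalkMap w) := by rw [hJ]; infer_instance
      rw [Scheme.Hom.stalkMap_comp] at h1
      exact @IsIso.of_isIso_comp_right _ _ _ _ _ _ _ (inferInstance : IsIso ((C Z).ι.stalkMap w)) h1
    refine IsOpenImmersion.of_isIso_stalkMap J (Topology.IsOpenEmbedding.of_continuous_injective_isOpenMap
      J.continuous ?_ ?_)
    · intro a b hab
      obtain ⟨Z, w, rfl⟩ := hcov a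
      obtain ⟨Z', w', rfl⟩ := hcov b
      rw [hJw, hJw] at hab
      obtain rfl : Z = Z' := by
        by_contra hne
        have hd := disjoint_opensRange_sigmaι Y Z Z' hne
        have h3 : Sigma.ι Y Z (j Z w) ∈ (Sigma.ι Y Z).opensRange ⊓ (Sigma.ι Y Z').opensRange :=
          ⟨⟨_, rfl⟩, ⟨_, hab.symm⟩⟩
        rw [hd.eq_bot] at h3
        exact h3
      rw [(j Z).isOpenEmbedding.injective ((Sigma.ι Y Z).isOpenEmbedding.injective hab)]
    · intro O hO
      have : J '' O = ⋃ Z, (j Z ≫ Sigma.ι Y Z) '' ((C Z).ι ⁻¹' O) := by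
        ext y
        simp only [Set.mem_image, Set.mem_iUnion, Set.mem_preimage]
        constructor
        · rintro ⟨x, hx, rfl⟩
          obtain ⟨Z, w, rfl⟩ := hcov x
          exact ⟨Z, w, hx, by rw [Scheme.Hom.comp_apply, hJw]⟩
        · rintro ⟨Z, w, hw, rfl⟩
          exact ⟨_, hw, by rw [Scheme.Hom.comp_apply, hJw]⟩
      rw [this]
      exact isOpen_iUnion fun Z => (j Z ≫ Sigma.ι Y Z).isOpenEmbedding.isOpenMap _
        (hO.preimage (C Z).ι.continuous)
  · intro z
    obtain ⟨Z, y, rfl⟩ := exists_eq_sigma Y z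
    have := hint Z
    have := hirr Z
    have hne : (Set.range (j Z)).Nonempty := ⟨_, ⟨genericPoint (C Z), rfl⟩⟩
    have hd : Dense (Set.range (j Z)) := (j Z).isOpenEmbedding.isOpen_range.dense hne
    refine closure_mono ?_ (image_closure_subset_closure_image (Sigma.ι Y Z).continuous
      ⟨y, hd y, rfl⟩)
    rintro _ ⟨_, ⟨w, rfl⟩, rfl⟩
    exact ⟨_, hJw Z w⟩
  · exact hcol.hom_ext fun ⟨Z⟩ => by
      show (C Z).ι ≫ J ≫ Sigma.desc sY = (C Z).ι ≫ _
      rw [← Category.assoc, hJ, Category.assoc, Sigma.ι_desc, hjs]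
  · intro z
    obtain ⟨Z, y, rfl⟩ := exists_eq_sigma Y z
    obtain ⟨h1, h2⟩ := hYn Z y
    let e := (asIso ((Sigma.ι Y Z).stalkMap y)).commRingCatIsoToRingEquiv
    exact ⟨e.toMulEquiv.isDomain _, @IsIntegrallyClosed.of_equiv _ _ _ _ e.symm h2⟩
  · intro z hz
    obtain ⟨Z, y, rfl⟩ := exists_eq_sigma Y z
    have := hint Z
    have := hprop Z
    obtain ⟨_, _, _, _⟩ := fieldFT_instances k (sY Z)
    have hy : IsClosed ({y} : Set (Y Z)) := by
      have h := hz.preimage (Sigma.ι Y Z).continuous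
      rwa [← Set.image_singleton, (Sigma.ι Y Z).isOpenEmbedding.injective.preimage_image] at h
    have e := (asIso ((Sigma.ι Y Z).stalkMap y)).commRingCatIsoToRingEquiv
    exact (ringKrullDim_eq_of_ringEquiv e).trans (ringKrullDim_stalk_eq_one (hYd Z) y hy)

end Groth.Agent.EGA73
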