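import Groth.Agent.EGA73.VeroneseProj

/-! Inverting an element of degree one is setting it to one. -/

universe u

open HomogeneousLocalization

noncomputable section

namespace Groth.Agent.EGA73

variable {R B : Type u} [CommRing R] [CommRing B] [Algebra R B] {ℬ : ℕ → Submodule R B} [GradedAlgebra ℬ]
  {f : B} (hf : f ∈ ℬ 1)

theorem isUnit_mk_sub_one : IsUnit (Ideal.Quotient.mk (Ideal.span {f - 1}) f) := by
  have h : Ideal.Quotient.mk (Ideal.span {f - 1}) f = 1 :=
    sub_eq_zero.mp (by rw [← map_one (Ideal.Quotient.mk _), ← map_sub, Ideal.Quotient.eq_zero_iff_mem]; exact Ideal.subset_span rfl)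
  rw [h]; exact isUnit_one

variable (f) in
/-- `B_(f) → B/(f - 1)`. -/
def degOneQuot : Away ℬ f →+* B ⧸ Ideal.span {f - 1} :=
  (Localization.awayLift (Ideal.Quotient.mk _) f isUnit_mk_sub_one).comp
    (algebraMap (Away ℬ f) (Localization.Away f))

theorem degOneQuot_mk (n : ℕ) (a : B) (ha : a ∈ ℬ (n • 1)) :
    degOneQuot f (Away.mk ℬ hf n a ha) = Ideal.Quotient.mk _ a := by
  have h : Ideal.Quotient.mk (Ideal.span {f - 1}) f = 1 :=
    sub_eq_zero.mp (by rw [← map_one (Ideal.Quotient.mk _), ← map_sub, Ideal.Quotient.eq_zero_iff_mem]; exact Ideal.subset_span rfl)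
  rw [degOneQuot, RingHom.comp_apply, HomogeneousLocalization.algebraMap_apply, Away.val_mk,
    Localization.awayLift_mk (Ideal.Quotient.mk _) f a 1 (by rw [h, one_mul]) n, one_pow, mul_one]

include hf in
theorem exists_pow_mul_eq_zero {n : ℕ} {a c : B} (ha : a ∈ ℬ n) (hc : a = c * (f - 1)) :
    ∃ N, f ^ N * a = 0 := by
  classical
  let cc : ℕ → B := fun i => DirectSum.decompose ℬ c i
  have hcomp : ∀ i, (DirectSum.decompose ℬ a i : B) = (if 1 ≤ i then cc (i - 1) * f else 0) - cc i := by
    intro i
    have h : GradedRing.proj ℬ i a = GradedRing.proj ℬ i (c * f) - GradedRing.proj ℬ i c := by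
      rw [← map_sub, hc, mul_sub, mul_one]
    rw [GradedRing.proj_apply, GradedRing.proj_apply, GradedRing.proj_apply] at h
    rw [h, DirectSum.coe_decompose_mul_of_right_mem ℬ i hf]
  have hlow : ∀ i, i < n → cc i = 0 := by
    intro i
    induction i with
    | zero =>
      intro h
      have := hcomp 0
      rw [DirectSum.decompose_of_mem_ne ℬ ha h.ne', if_neg (by omega), zero_sub] at this
      exact neg_eq_zero.1 this.symm
    | succ i ih =>
      intro h
      have := hcomp (i + 1)
      rw [DirectSum.decompose_of_mem_ne ℬ ha h.ne', if_pos (by omega), Nat.add_sub_cancel,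
        ih (by omega), zero_mul, zero_sub] at this
      exact neg_eq_zero.1 this.symm
  have hn : a = - cc n := by
    have := hcomp n
    rw [DirectSum.decompose_of_mem_same ℬ ha] at this
    rw [this]
    rcases Nat.eq_zero_or_pos n with rfl | hn
    · simp
    · rw [if_pos (by omega : 1 ≤ n), hlow (n - 1) (by omega), zero_mul, zero_sub]
  have hhigh : ∀ j, f ^ j * cc n = cc (n + j) := by
    intro j
    induction j with
    | zero => simp
    | succ j ih =>
      have := hcomp (n + (j + 1))
      rw [DirectSum.decompose_of_mem_ne ℬ ha (by omega), if_pos (by omega),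
        show n + (j + 1) - 1 = n + j by omega] at this
      rw [pow_succ', mul_assoc, ih, mul_comm]
      exact sub_eq_zero.1 this.symm
  refine ⟨(DirectSum.decompose ℬ c).support.sup id + 1, ?_⟩
  rw [hn, mul_neg, hhigh, neg_eq_zero]
  by_contra h
  have hmem : n + ((DirectSum.decompose ℬ c).support.sup id + 1) ∈ (DirectSum.decompose ℬ c).support :=
    DFinsupp.mem_support_iff.2 fun h0 => h (by simp only [cc, h0, ZeroMemClass.coe_zero])
  have := Finset.le_sup (f := id) hmem
  simp only [id] at this
  omega

include hf in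
theorem degOneQuot_bijective : Function.Bijective (degOneQuot (ℬ := ℬ) f) := by
  classical
  constructor
  · rw [injective_iff_map_eq_zero]
    intro q hq
    obtain ⟨n, a, ha, rfl⟩ := Away.mk_surjective ℬ hf q
    rw [degOneQuot_mk hf, Ideal.Quotient.eq_zero_iff_mem, Ideal.mem_span_singleton'] at hq
    obtain ⟨c, hc⟩ := hq
    obtain ⟨N, hN⟩ := exists_pow_mul_eq_zero hf (by simpa using ha) hc.symm
    apply val_injective
    rw [Away.val_mk, val_zero, ← Localization.mk_zero 1, Localization.mk_eq_mk_iff, Localization.r_iff_exists]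
    exact ⟨⟨f ^ N, N, rfl⟩, by simpa using hN⟩
  · intro y
    obtain ⟨b, rfl⟩ := Ideal.Quotient.mk_surjective y
    rw [← DirectSum.sum_support_decompose ℬ b, map_sum]
    refine (RingHom.rangeS (degOneQuot (ℬ := ℬ) f)).sum_mem fun i _ => ?_
    exact ⟨Away.mk ℬ hf i (DirectSum.decompose ℬ b i : B)
      (by rw [smul_eq_mul, mul_one]; exact SetLike.coe_mem _), degOneQuot_mk hf i _ _⟩

end Groth.Agent.EGA73
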