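import Groth.Agent.EGA73.FunctionFieldVal
import Groth.Agent.EGA73.DvrPoints

/-!
Properness tested on discrete valuation rings of the function field.
-/

universe u

open CategoryTheory AlgebraicGeometry Limits IsLocalRing

namespace Groth.Agent.EGA73

theorem lift_of_dvr {X Y : Scheme.{u}} [IsIntegral X] [IsIntegral Y] [Y.IsSeparated]
    [IsLocallyNoetherian Y] (f : X ⟶ Y) [LocallyOfFiniteType f] [QuasiCompact f]
    (H : ∀ R : ValuationSubring X.functionField, IsDiscreteValuationRing R → ∀ h : Spec (CommRingCat.of R) ⟶ Y,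
      Spec.map (CommRingCat.ofHom R.subtype) ≫ h = X.fromSpecStalk (genericPoint X) ≫ f →
        ∃ l : Spec (CommRingCat.of R) ⟶ X,
          Spec.map (CommRingCat.ofHom R.subtype) ≫ l = X.fromSpecStalk (genericPoint X))
    (R : ValuationSubring X.functionField) (h : Spec (CommRingCat.of R) ⟶ Y)
    (hh : Spec.map (CommRingCat.ofHom R.subtype) ≫ h = X.fromSpecStalk (genericPoint X) ≫ f) :
    ∃ l : Spec (CommRingCat.of R) ⟶ X,
      Spec.map (CommRingCat.ofHom R.subtype) ≫ l = X.fromSpecStalk (genericPoint X) := by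
  classical
  let ξ := genericPoint X
  let K := X.functionField
  by_contra hnot
  obtain ⟨y, hy, hdom, -⟩ := exists_dominated_of_hom f R h hh
  obtain ⟨_, ⟨U, hU, rfl⟩, hyU, -⟩ :=
    Y.isBasis_affineOpens.exists_subset_of_mem_open (Set.mem_univ y) isOpen_univ
  replace hU : IsAffineOpen U := hU
  have hξU : f ξ ∈ U := hy.mem_open U.2 hyU
  let φ : Γ(Y, U) ⟶ K := Y.presheaf.germ U (f ξ) hξU ≫ f.stalkMap ξ
  have hφR : ∀ a, φ.hom a ∈ R := fun a => by
    have := hdom (Y.presheaf.germ U y hyU a)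
    simp only [← CommRingCat.comp_apply, TopCat.Presheaf.germ_stalkSpecializes_assoc] at this
    exact this
  obtain ⟨V, hVU, hcov⟩ : ∃ V : Finset X.affineOpens, (∀ W ∈ V, (W : X.Opens) ≤ f ⁻¹ᵁ U) ∧
      (f ⁻¹' (U : Set Y)) ⊆ ⋃ W ∈ V, (W.1 : Set X) := by
    let J : Set X.affineOpens := {W | (W : X.Opens) ≤ f ⁻¹ᵁ U}
    obtain ⟨t, ht⟩ := (f.isCompact_preimage hU.isCompact).elim_finite_subcover
      (fun W : J => (W.1.1 : Set X)) (fun W => W.1.1.2) fun x hx => by
        obtain ⟨_, ⟨W, hW, rfl⟩, hxW, hWU⟩ :=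
          X.isBasis_affineOpens.exists_subset_of_mem_open hx (U.2.preimage f.continuous)
        exact Set.mem_iUnion.mpr ⟨⟨⟨W, hW⟩, hWU⟩, hxW⟩
    exact ⟨t.image Subtype.val, fun W hW => by
      obtain ⟨W', -, rfl⟩ := Finset.mem_image.mp hW
      exact W'.2, ht.trans (by simp)⟩
  have hbad : ∀ W : {W : X.affineOpens // W ∈ V ∧ ξ ∈ W.1}, ∃ t : Γ(X, W.1.1),
      (X.presheaf.germ W.1.1 ξ W.2.2).hom t ∉ R := by
    intro W
    by_contra hall
    push Not at hall
    refine hnot ⟨Spec.map (CommRingCat.ofHom ((X.presheaf.germ W.1.1 ξ W.2.2).hom.codRestrict R.toSubring hall))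
      ≫ W.1.2.fromSpec, ?_⟩
    rw [← Spec.map_comp_assoc, ← IsAffineOpen.fromSpecStalk_eq_fromSpecStalk W.1.2 W.2.2]
    rfl
  choose t ht using hbad
  let τ : {W : X.affineOpens // W ∈ V ∧ ξ ∈ W.1} → K := fun W => (X.presheaf.germ W.1.1 ξ W.2.2).hom (t W)
  let _ : Algebra Γ(Y, U) K := φ.hom.toAlgebra
  let B := Algebra.adjoin Γ(Y, U) (Set.range fun W => (τ W)⁻¹)
  have hinv : ∀ W, (τ W)⁻¹ ∈ R := fun W => (R.mem_or_inv_mem (τ W)).resolve_left (ht W)
  have hBR : B.toSubring ≤ R.toSubring := by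
    intro b hb
    induction hb using Algebra.adjoin_induction with
    | mem b hb => obtain ⟨W, rfl⟩ := hb; exact hinv W
    | algebraMap a => exact hφR a
    | add a b _ _ ha hb => exact add_mem ha hb
    | mul a b _ _ ha hb => exact mul_mem ha hb
  let m : Ideal B.toSubring := (maximalIdeal R).comap (Subring.inclusion hBR)
  have : m.IsPrime := Ideal.IsPrime.comap (Subring.inclusion hBR)
  have : Finite {W : X.affineOpens // W ∈ V ∧ ξ ∈ W.1} :=
    Finite.of_injective (fun W => (⟨W.1, W.2.1⟩ : {W // W ∈ V})) fun a b h => Subtype.ext (congrArg Subtype.val h :)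
  have : IsNoetherianRing Γ(Y, U) := IsLocallyNoetherian.component_noetherian ⟨U, hU⟩
  have : Algebra.FiniteType Γ(Y, U) B := .adjoin_of_finite (Set.finite_range _)
  have : IsNoetherianRing B := Algebra.FiniteType.isNoetherianRing Γ(Y, U) B
  let D := LocalSubring.ofPrime B.toSubring m
  have : IsNoetherianRing D.toSubring :=
    IsLocalization.isNoetherianRing m.primeCompl D.toSubring (inferInstanceAs (IsNoetherianRing B.toSubring))
  have hτ0 : ∀ W, τ W ≠ 0 := fun W h0 => ht W (show τ W ∈ R from h0 ▸ R.zero_mem)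
  have hmax : ∀ W, ∃ hW : (τ W)⁻¹ ∈ D.toSubring, (⟨(τ W)⁻¹, hW⟩ : D.toSubring) ∈ maximalIdeal D.toSubring := by
    intro W
    have hb : (τ W)⁻¹ ∈ B.toSubring := Algebra.subset_adjoin ⟨W, rfl⟩
    refine ⟨LocalSubring.le_ofPrime _ _ hb, ?_⟩
    refine (IsLocalization.AtPrime.to_map_mem_maximal_iff D.toSubring m ⟨_, hb⟩).mpr ?_
    show (⟨(τ W)⁻¹, hinv W⟩ : R) ∈ maximalIdeal R
    intro hu
    obtain ⟨u, hu⟩ := hu
    refine ht W ?_
    have h1 : R.subtype ↑u⁻¹ = τ W := by rw [map_units_inv R.subtype u, hu]; exact inv_inv _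
    exact (h1 ▸ (↑u⁻¹ : R).2 : τ W ∈ R)
  obtain ⟨W₀, hW₀V, hξW₀⟩ := Set.mem_iUnion₂.mp (hcov (show ξ ∈ f ⁻¹' (U : Set Y) from hξU))
  let F := Subfield.closure (D.toSubring : Set K)
  let _ : Algebra D.toSubring F :=
    (D.toSubring.subtype.codRestrict F fun z => Subfield.subset_closure z.2).toAlgebra
  have : IsScalarTower D.toSubring F K := IsScalarTower.of_algebraMap_eq fun _ => rfl
  have hDF : IsFractionRing D.toSubring F := by
    have : FaithfulSMul D.toSubring F := (faithfulSMul_iff_algebraMap_injective _ _).2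
      fun a b h => Subtype.ext (congrArg (fun t : F => (t : K)) h)
    refine IsFractionRing.of_field D.toSubring F fun z => ?_
    obtain ⟨a, ha, b, hb, hab⟩ := Subfield.mem_closure_iff.mp z.2
    rw [Subring.closure_eq] at ha hb
    exact ⟨⟨a, ha⟩, ⟨b, hb⟩, Subtype.ext hab.symm⟩
  have hfgF : (⊤ : IntermediateField F K).FG := by
    let _ : Algebra Γ(Y, U) F := (φ.hom.codRestrict F fun a =>
      Subfield.subset_closure (LocalSubring.le_ofPrime _ _ (B.algebraMap_mem a))).toAlgebra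
    have : IsScalarTower Γ(Y, U) F K := IsScalarTower.of_algebraMap_eq fun _ => rfl
    have hess : φ.hom.EssFiniteType := by
      let _ := TopCat.Presheaf.algebra_section_stalk Y.presheaf (⟨f ξ, hξU⟩ : U)
      have := hU.isLocalization_stalk ⟨f ξ, hξU⟩
      have h1 : (Y.presheaf.germ U (f ξ) hξU).hom.EssFiniteType :=
        RingHom.essFiniteType_algebraMap.mpr
          (Algebra.EssFiniteType.of_isLocalization (Y.presheaf.stalk (f ξ))
            (hU.primeIdealOf ⟨f ξ, hξU⟩).asIdeal.primeCompl)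
      exact RingHom.EssFiniteType.comp h1 (LocallyOfFiniteType.stalkMap f ξ)
    have : Algebra.EssFiniteType Γ(Y, U) K := hess
    exact IntermediateField.fg_top_iff.mpr (Algebra.EssFiniteType.of_comp Γ(Y, U) F K)
  have hnf : ¬ IsField D.toSubring := fun hf => by
    rw [IsLocalRing.isField_iff_maximalIdeal_eq] at hf
    obtain ⟨hW, hWm⟩ := hmax ⟨W₀, hW₀V, hξW₀⟩
    rw [hf, Ideal.mem_bot] at hWm
    exact inv_ne_zero (hτ0 _) (congrArg Subtype.val hWm)
  obtain ⟨Wv, hWv, hWD, hWm⟩ := E4O.exists_dvr_dominating hnf F K hfgF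
  have hφW : ∀ a, φ.hom a ∈ Wv := fun a => hWD ⟨_, LocalSubring.le_ofPrime _ _ (B.algebraMap_mem a)⟩
  let hW : Spec (CommRingCat.of Wv) ⟶ Y :=
    Spec.map (CommRingCat.ofHom (φ.hom.codRestrict Wv.toSubring hφW)) ≫ hU.fromSpec
  have hhW : Spec.map (CommRingCat.ofHom Wv.subtype) ≫ hW = X.fromSpecStalk ξ ≫ f := by
    rw [← Spec.map_comp_assoc, ← Scheme.SpecMap_stalkMap_fromSpecStalk f,
      ← IsAffineOpen.fromSpecStalk_eq_fromSpecStalk hU hξU, IsAffineOpen.fromSpecStalk, ← Spec.map_comp_assoc]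
    rfl
  obtain ⟨l, hl⟩ := H Wv hWv hW hhW
  have hlf : l ≫ f = hW := ext_of_generic Wv.subtype Subtype.val_injective (by
    rw [← Category.assoc, hl, hhW])
  let x := l (closedPoint Wv)
  have hxU : x ∈ f ⁻¹' (U : Set Y) := by
    show f (l (closedPoint Wv)) ∈ (U : Set Y)
    rw [← Scheme.Hom.comp_apply, hlf, ← hU.range_fromSpec]
    exact ⟨_, rfl⟩
  obtain ⟨W, hWV, hxW⟩ := Set.mem_iUnion₂.mp (hcov hxU)
  have hsp : ξ ⤳ x := (genericPoint_spec X).specializes trivial
  have hξW : ξ ∈ W.1 := hsp.mem_open W.1.2 hxW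
  have hmem := (dominates_of_hom Wv l (X.presheaf.stalkSpecializes hsp) (by
    rw [Scheme.SpecMap_stalkSpecializes_fromSpecStalk, hl])).1
      ((X.presheaf.germ W.1 x hxW).hom (t ⟨W, hWV, hξW⟩))
  rw [← CommRingCat.comp_apply, TopCat.Presheaf.germ_stalkSpecializes] at hmem
  obtain ⟨hW', hWm'⟩ := hmax ⟨W, hWV, hξW⟩
  have h2 : Wv.valuation (τ ⟨W, hWV, hξW⟩)⁻¹ < 1 := hWm _ hWm'
  have h1 : Wv.valuation (τ ⟨W, hWV, hξW⟩) ≤ 1 := (Wv.valuation_le_one_iff _).2 hmem
  rw [map_inv₀] at h2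
  exact absurd h1 (not_le.2 ((inv_lt_one_iff₀.mp h2).resolve_left
    (not_le.2 (zero_lt_iff.2 (Wv.valuation.ne_zero_iff.2 (hτ0 _))))))

end Groth.Agent.EGA73
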