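import Groth.Agent.EGA73.TildeFinite
import Groth.Agent.Amp73.Gen
import Mathlib.Algebra.Polynomial.Module.Basic

/-!
The graded module of twisted sections of a module on `Proj`, in coordinates.
-/

set_option autoImplicit false
set_option backward.isDefEq.respectTransparency.types false

universe u

open CategoryTheory Limits AlgebraicGeometry TopologicalSpace Opposite GrTilde
open scoped DirectSum

noncomputable section

namespace Groth.Agent.EGA73.GammaStar

open Groth.Agent.Var76.LineBundle Groth.Agent.Var76.ZeroScheme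

variable {R A : Type u} [CommRing R] [CommRing A] [Algebra R A] (𝒜 : ℕ → Submodule R A) [GradedAlgebra 𝒜]

/-- `a / g ^ j` as an element of the chart ring. -/
def frh {g : A} (hg : g ∈ 𝒜 1) (j : ℕ) : 𝒜 j →+ Γ(Proj 𝒜, Proj.basicOpen 𝒜 g) :=
  AddMonoidHom.mk'
    (fun a => Proj.awayToSection 𝒜 g (HomogeneousLocalization.mk
      ⟨j, a, ⟨g ^ j, by simpa using SetLike.pow_mem_graded j hg⟩, (Submonoid.mem_powers_iff _ _).2 ⟨j, rfl⟩⟩))
    (fun a b => by
      rw [← map_add]
      refine congrArg (Proj.awayToSection 𝒜 g) (HomogeneousLocalization.val_injective _ ?_)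
      rw [HomogeneousLocalization.val_add, HomogeneousLocalization.val_mk, HomogeneousLocalization.val_mk,
        HomogeneousLocalization.val_mk, Localization.add_mk_self]
      rfl)

/-- A homogeneous element as a function on the chart. -/
def fr {g : A} (hg : g ∈ 𝒜 1) {j : ℕ} {a : A} (ha : a ∈ 𝒜 j) : Γ(Proj 𝒜, Proj.basicOpen 𝒜 g) :=
  frh 𝒜 hg j ⟨a, ha⟩

theorem fr_apply {g : A} (hg : g ∈ 𝒜 1) {j : ℕ} {a : A} (ha : a ∈ 𝒜 j) (x : ProjectiveSpectrum.basicOpen 𝒜 g) :
    ((fr 𝒜 hg ha).1 x : Twist.A0 𝒜 x.1) =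
      a0Frac x.1 ha (by simpa using SetLike.pow_mem_graded j hg) (pow_notMem x.2 j) := rfl

theorem fr_congr {g : A} (hg : g ∈ 𝒜 1) {j : ℕ} {a b : A} (ha : a ∈ 𝒜 j) (hb : b ∈ 𝒜 j) (h : a = b) :
    fr 𝒜 hg ha = fr 𝒜 hg hb := by
  subst h; rfl

theorem fr_mul {g : A} (hg : g ∈ 𝒜 1) {i j : ℕ} {a b : A} (ha : a ∈ 𝒜 i) (hb : b ∈ 𝒜 j) :
    fr 𝒜 hg (SetLike.mul_mem_graded ha hb) = fr 𝒜 hg ha * fr 𝒜 hg hb := by
  show Proj.awayToSection 𝒜 g _ = Proj.awayToSection 𝒜 g _ * Proj.awayToSection 𝒜 g _
  rw [← map_mul]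
  refine congrArg (Proj.awayToSection 𝒜 g) (HomogeneousLocalization.val_injective _ ?_)
  rw [HomogeneousLocalization.val_mul, HomogeneousLocalization.val_mk, HomogeneousLocalization.val_mk,
    HomogeneousLocalization.val_mk, Localization.mk_mul]
  congr 1
  exact Subtype.ext (pow_add g i j)

theorem fr_pow_self {g : A} (hg : g ∈ 𝒜 1) (j : ℕ) (h : g ^ j ∈ 𝒜 j) : fr 𝒜 hg h = 1 := by
  show Proj.awayToSection 𝒜 g _ = 1
  rw [← map_one (Proj.awayToSection 𝒜 g).hom]
  refine congrArg (Proj.awayToSection 𝒜 g) (HomogeneousLocalization.val_injective _ ?_)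
  rw [HomogeneousLocalization.val_mk, HomogeneousLocalization.val_one]
  exact Localization.mk_self (⟨g ^ j, (Submonoid.mem_powers_iff _ _).2 ⟨j, rfl⟩⟩ : Submonoid.powers g)

theorem fr_one {g : A} (hg : g ∈ 𝒜 1) (h : (1 : A) ∈ 𝒜 0) : fr 𝒜 hg h = 1 := by
  have h0 : g ^ 0 ∈ 𝒜 0 := by rwa [pow_zero]
  exact (fr_congr 𝒜 hg h h0 (pow_zero g).symm).trans (fr_pow_self 𝒜 hg 0 h0)

theorem fr_self {g : A} (hg : g ∈ 𝒜 1) : fr 𝒜 hg hg = 1 := by
  have h1 : g ^ 1 ∈ 𝒜 1 := by rwa [pow_one]
  exact (fr_congr 𝒜 hg hg h1 (pow_one g).symm).trans (fr_pow_self 𝒜 hg 1 h1)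

/-- On an overlap the functions of one chart are those of the other times powers of the ratio. -/
theorem fr_res {g g' : A} (hg : g ∈ 𝒜 1) (hg' : g' ∈ 𝒜 1) {j : ℕ} {a : A} (ha : a ∈ 𝒜 j)
    (W : (Proj 𝒜).Opens) (h : W ≤ Proj.basicOpen 𝒜 g) (h' : W ≤ Proj.basicOpen 𝒜 g') :
    fres h' (fr 𝒜 hg' ha) = fres h' (fr 𝒜 hg' hg) ^ j * fres h (fr 𝒜 hg ha) := by
  refine Subtype.ext (funext fun x => ?_)
  show (fr 𝒜 hg' ha).1 ⟨x.1, h' x.2⟩ = (fr 𝒜 hg' hg).1 ⟨x.1, h' x.2⟩ ^ j * (fr 𝒜 hg ha).1 ⟨x.1, h x.2⟩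
  rw [fr_apply, fr_apply, fr_apply]
  refine HomogeneousLocalization.val_injective _ ?_
  rw [HomogeneousLocalization.val_mul, a0Frac_pow _ _ _ _ _ (by rw [pow_one]; exact pow_notMem (h' x.2) j)]
  simp only [a0Frac, HomogeneousLocalization.val_mk, Localization.mk_mul, pow_one]
  rw [Localization.mk_eq_mk_iff, Localization.r_iff_exists]
  exact ⟨1, by push_cast; ring⟩

/-- The coordinates of elements. -/
def theta {g : A} (hg : g ∈ 𝒜 1) : A →+* Polynomial Γ(Proj 𝒜, Proj.basicOpen 𝒜 g) :=
  (DirectSum.toSemiring (fun j => (Polynomial.monomial j).toAddMonoidHom.comp (frh 𝒜 hg j))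
    (by
      show Polynomial.monomial 0 (frh 𝒜 hg 0 ⟨1, SetLike.GradedOne.one_mem⟩) = 1
      rw [show frh 𝒜 hg 0 ⟨1, SetLike.GradedOne.one_mem⟩ = 1 from fr_one 𝒜 hg _, Polynomial.monomial_zero_one])
    (fun {i j} a b => by
      show Polynomial.monomial (i + j) (fr 𝒜 hg (SetLike.mul_mem_graded a.2 b.2)) =
        Polynomial.monomial i (fr 𝒜 hg a.2) * Polynomial.monomial j (fr 𝒜 hg b.2)
      rw [Polynomial.monomial_mul_monomial, fr_mul])).comp (DirectSum.decomposeRingEquiv 𝒜).toRingHom

theorem theta_mem {g : A} (hg : g ∈ 𝒜 1) {j : ℕ} {a : A} (ha : a ∈ 𝒜 j) :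
    theta 𝒜 hg a = Polynomial.monomial j (fr 𝒜 hg ha) := by
  rw [theta, RingHom.comp_apply, RingEquiv.toRingHom_eq_coe, RingEquiv.coe_toRingHom,
    show DirectSum.decomposeRingEquiv 𝒜 a = DirectSum.of (fun i => 𝒜 i) j ⟨a, ha⟩ from
      DirectSum.decompose_of_mem 𝒜 ha, DirectSum.toSemiring_of]
  rfl

variable (s : Finset A) (hs1 : ∀ f ∈ s, f ∈ 𝒜 1) (F : (Proj 𝒜).Modules)

/-- Families of polynomials with coefficients the sections on the charts. -/
def Carrier : Type u :=
  ∀ g : s, PolynomialModule Γ(Proj 𝒜, Proj.basicOpen 𝒜 (g : A)) Γ(F, Proj.basicOpen 𝒜 (g : A))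

instance : AddCommGroup (Carrier 𝒜 s F) := inferInstanceAs (AddCommGroup (∀ _, _))

/-- The action of the graded ring. -/
@[reducible] def moduleA : Module A (Carrier 𝒜 s F) :=
  letI := fun g : s => Module.compHom
    (PolynomialModule Γ(Proj 𝒜, Proj.basicOpen 𝒜 (g : A)) Γ(F, Proj.basicOpen 𝒜 (g : A))) (theta 𝒜 (hs1 g g.2))
  inferInstanceAs (Module A (∀ _, _))

/-- The compatible families. -/
def IsCompat (w : Carrier 𝒜 s F) : Prop :=
  ∀ (g g' : s) (n : ℕ) (W : (Proj 𝒜).Opens) (h : W ≤ Proj.basicOpen 𝒜 (g : A))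
    (h' : W ≤ Proj.basicOpen 𝒜 (g' : A)),
    res F h' ((w g').coeff n) = fres h' (fr 𝒜 (hs1 g' g'.2) (hs1 g g.2)) ^ n • res F h ((w g).coeff n)

/-- The twisted sections. -/
def sectionsSubmodule : letI := moduleA 𝒜 s hs1 F; Submodule A (Carrier 𝒜 s F) :=
  letI := moduleA 𝒜 s hs1 F
  { carrier := {w | IsCompat 𝒜 s hs1 F w}
    zero_mem' := fun g g' n W h h' => by
      show res F h' 0 = _ • res F h 0
      rw [show res F h' 0 = 0 from map_zero (F.presheaf.map _).hom,
        show res F h 0 = 0 from map_zero (F.presheaf.map _).hom, smul_zero]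
    add_mem' := fun {v w} hv hw g g' n W h h' => by
      show res F h' ((v g').coeff n + (w g').coeff n) = _ • res F h ((v g).coeff n + (w g).coeff n)
      rw [Amp73.res_add, Amp73.res_add, hv g g' n W h h', hw g g' n W h h', smul_add]
    smul_mem' := fun a w hw => by
      classical
      induction a using DirectSum.Decomposition.inductionOn 𝒜 with
      | zero =>
        intro g g' n W h h'
        rw [zero_smul]
        show res F h' 0 = _ • res F h 0
        rw [show res F h' 0 = 0 from map_zero (F.presheaf.map _).hom,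
          show res F h 0 = 0 from map_zero (F.presheaf.map _).hom, smul_zero]
      | homogeneous b =>
        rename_i j
        intro g g' n W h h'
        show res F h' ((theta 𝒜 (hs1 g' g'.2) (b : A) • w g').coeff n) =
          _ • res F h ((theta 𝒜 (hs1 g g.2) (b : A) • w g).coeff n)
        rw [theta_mem 𝒜 _ b.2, theta_mem 𝒜 _ b.2, PolynomialModule.monomial_smul_apply,
          PolynomialModule.monomial_smul_apply]
        split_ifs with hjn
        · rw [res_smul, res_smul, hw g g' (n - j) W h h', smul_smul, smul_smul]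
          congr 1
          show fres h' (fr 𝒜 (hs1 g' g'.2) b.2) * fres h' (fr 𝒜 (hs1 g' g'.2) (hs1 g g.2)) ^ (n - j) =
            fres h' (fr 𝒜 (hs1 g' g'.2) (hs1 g g.2)) ^ n * fres h (fr 𝒜 (hs1 g g.2) b.2)
          rw [fr_res 𝒜 (hs1 g g.2) (hs1 g' g'.2) b.2 W h h']
          conv_rhs => rw [← Nat.add_sub_cancel' hjn, pow_add]
          ring
        · rw [show res F h' 0 = 0 from map_zero (F.presheaf.map _).hom,
            show res F h 0 = 0 from map_zero (F.presheaf.map _).hom, smul_zero]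
      | add b c hb hc =>
        intro g g' n W h h'
        rw [add_smul]
        show res F h' (((b • w) g').coeff n + ((c • w) g').coeff n) =
          _ • res F h (((b • w) g).coeff n + ((c • w) g).coeff n)
        rw [Amp73.res_add, Amp73.res_add, hb g g' n W h h', hc g g' n W h h', smul_add] }

/-- The component of degree `n`. -/
def comp (n : ℕ) : Carrier 𝒜 s F →+ Carrier 𝒜 s F :=
  AddMonoidHom.mk' (fun w g => PolynomialModule.single _ n ((w g).coeff n))
    (fun v w => funext fun g => PolynomialModule.single_add _ _ _)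

theorem coeff_comp (n : ℕ) (w : Carrier 𝒜 s F) (g : s) (i : ℕ) :
    (comp 𝒜 s F n w g).coeff i = if i = n then (w g).coeff i else 0 := by
  show (PolynomialModule.single _ n ((w g).coeff n)).coeff i = _
  rw [PolynomialModule.coeff_single, Finsupp.single_apply]
  split_ifs <;> grind

theorem comp_mem (n : ℕ) {w : Carrier 𝒜 s F} (hw : IsCompat 𝒜 s hs1 F w) :
    IsCompat 𝒜 s hs1 F (comp 𝒜 s F n w) := by
  intro g g' i W h h'
  rw [coeff_comp, coeff_comp]
  split_ifs with hi
  · exact hw g g' i W h h'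
  · rw [show res F h' 0 = 0 from map_zero (F.presheaf.map _).hom,
      show res F h 0 = 0 from map_zero (F.presheaf.map _).hom, smul_zero]

theorem coeff_smul_mem {j : ℕ} {a : A} (ha : a ∈ 𝒜 j) (w : Carrier 𝒜 s F) (g : s) (n : ℕ) :
    letI := moduleA 𝒜 s hs1 F
    ((a • w) g).coeff n = if j ≤ n then fr 𝒜 (hs1 g g.2) ha • (w g).coeff (n - j) else 0 := by
  letI := moduleA 𝒜 s hs1 F
  show (theta 𝒜 (hs1 g g.2) a • w g).coeff n = _
  rw [theta_mem 𝒜 _ ha, PolynomialModule.monomial_smul_apply]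

/-- A graded submodule of the twisted sections. -/
structure Sub where
  /-- The underlying submodule. -/
  carrier : letI := moduleA 𝒜 s hs1 F; Submodule A (Carrier 𝒜 s F)
  /-- Members are compatible. -/
  compat : ∀ w ∈ carrier, IsCompat 𝒜 s hs1 F w
  /-- Components of members are members. -/
  comp_mem : ∀ w ∈ carrier, ∀ n, comp 𝒜 s F n w ∈ carrier

variable {𝒜 s hs1 F} (N : Sub 𝒜 s hs1 F)

/-- The module underlying a graded submodule. -/
def Sub.Ty : Type u := {w : Carrier 𝒜 s F // w ∈ N.carrier}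

instance : AddCommGroup N.Ty :=
  letI := moduleA 𝒜 s hs1 F
  inferInstanceAs (AddCommGroup N.carrier)

instance : Module A N.Ty :=
  letI := moduleA 𝒜 s hs1 F
  inferInstanceAs (Module A N.carrier)

instance : Module R N.Ty := Module.compHom _ (algebraMap R A)

instance : IsScalarTower R A N.Ty := IsScalarTower.of_algebraMap_smul fun _ _ => rfl

theorem coe_smul_apply {j : ℕ} {a : A} (ha : a ∈ 𝒜 j) (w : N.Ty) (g : s) (n : ℕ) :
    ((a • w).1 g).coeff n = if j ≤ n then fr 𝒜 (hs1 g g.2) ha • (w.1 g).coeff (n - j) else 0 :=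
  coeff_smul_mem 𝒜 s hs1 F ha w.1 g n

theorem coe_add_apply (v w : N.Ty) (g : s) (n : ℕ) :
    ((v + w).1 g).coeff n = (v.1 g).coeff n + (w.1 g).coeff n := rfl

/-- The grading. -/
def Sub.grading (n : ℕ) : Submodule R N.Ty where
  carrier := {w | ∀ g i, i ≠ n → (w.1 g).coeff i = 0}
  zero_mem' := fun _ _ _ => rfl
  add_mem' := fun {v w} hv hw g i hi => by rw [coe_add_apply, hv g i hi, hw g i hi, add_zero]
  smul_mem' := fun r w hw g i hi => by
    show ((algebraMap R A r • w).1 g).coeff i = 0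
    rw [coe_smul_apply N (SetLike.algebraMap_mem_graded 𝒜 r), if_pos (Nat.zero_le _), Nat.sub_zero, hw g i hi,
      smul_zero]

instance : SetLike.GradedSMul 𝒜 N.grading where
  smul_mem {j n a w} ha hw := fun g i hi => by
    rw [coe_smul_apply N ha]
    split_ifs with h
    · rw [hw g (i - j) (by simp only [vadd_eq_add] at hi; omega), smul_zero]
    · rfl

/-- The component in a given degree. -/
def Sub.piece (n : ℕ) : N.Ty →+ N.grading n :=
  AddMonoidHom.mk' (fun w => ⟨⟨comp 𝒜 s F n w.1, N.comp_mem w.1 w.2 n⟩, fun g i hi => by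
      show (comp 𝒜 s F n w.1 g).coeff i = 0
      rw [coeff_comp, if_neg hi]⟩)
    (fun v w => Subtype.ext (Subtype.ext (map_add (comp 𝒜 s F n) v.1 w.1)))

theorem piece_coeff (n : ℕ) (w : N.Ty) (g : s) (i : ℕ) :
    (((N.piece n w : N.grading n) : N.Ty).1 g).coeff i = if i = n then (w.1 g).coeff i else 0 :=
  coeff_comp 𝒜 s F n w.1 g i

theorem ty_ext {v w : N.Ty} (h : ∀ g i, (v.1 g).coeff i = (w.1 g).coeff i) : v = w :=
  Subtype.ext (funext fun g => PolynomialModule.ext (Finsupp.ext (h g)))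

/-- The degrees occurring in a family. -/
def Sub.degrees (w : N.Ty) : Finset ℕ := Finset.univ.biUnion fun g : s => (w.1 g).coeff.support

/-- Evaluation of a coefficient. -/
def Sub.evalCoeff (g : s) (i : ℕ) : N.Ty →+ Γ(F, Proj.basicOpen 𝒜 (g : A)) :=
  AddMonoidHom.mk' (fun w => (w.1 g).coeff i) fun v w => coe_add_apply N v w g i

open Classical in
instance : DirectSum.Decomposition N.grading where
  decompose' w := DirectSum.mk (fun n => N.grading n) (N.degrees w) fun n => N.piece n w
  left_inv w := by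
    refine ty_ext N fun g i => ?_
    show N.evalCoeff g i (DirectSum.coeAddMonoidHom N.grading
      (DirectSum.mk (fun n => N.grading n) (N.degrees w) fun n => N.piece n w)) = N.evalCoeff g i w
    rw [← DirectSum.sum_support_of (DirectSum.mk (fun n => N.grading n) (N.degrees w) fun n => N.piece n w),
      map_sum, map_sum]
    simp only [DirectSum.coeAddMonoidHom_of]
    by_cases hi : (w.1 g).coeff i = 0
    · refine (Finset.sum_eq_zero fun n hn => ?_).trans hi.symm
      show _ = (0 : Γ(F, _))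
      rw [DFinsupp.mem_support_iff] at hn
      by_cases hnd : n ∈ N.degrees w
      · rw [DirectSum.mk_apply_of_mem hnd]
        show (((N.piece n w : N.grading n) : N.Ty).1 g).coeff i = 0
        rw [piece_coeff]
        split_ifs <;> simp [hi]
      · exact absurd (DirectSum.mk_apply_of_notMem hnd) hn
    · have hid : i ∈ N.degrees w := Finset.mem_biUnion.2 ⟨g, Finset.mem_univ g, Finsupp.mem_support_iff.2 hi⟩
      rw [Finset.sum_eq_single i]
      · rw [DirectSum.mk_apply_of_mem hid]
        show (((N.piece i w : N.grading i) : N.Ty).1 g).coeff i = _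
        rw [piece_coeff, if_pos rfl]
        rfl
      · intro n hn hni
        exact ((DirectSum.mk (fun n => N.grading n) (N.degrees w) fun n => N.piece n w) n).2 g i hni.symm
      · intro hns
        rw [DFinsupp.notMem_support_iff] at hns
        rw [hns]
        rfl
  right_inv x := by
    refine DFinsupp.ext fun n => ?_
    have hcoe : ∀ g, ((DirectSum.coeAddMonoidHom N.grading x).1 g).coeff n = ((x n : N.Ty).1 g).coeff n := by
      intro g
      induction x using DirectSum.induction_on with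
      | zero => rfl
      | of i y =>
        rw [DirectSum.coeAddMonoidHom_of]
        by_cases hin : i = n
        · subst hin
          rw [DirectSum.of_eq_same]
        · rw [DirectSum.of_eq_of_ne _ _ _ (Ne.symm hin)]
          exact y.2 g n (Ne.symm hin)
      | add u v hu hv =>
        rw [map_add, coe_add_apply, hu, hv]
        rfl
    refine Subtype.ext (ty_ext N fun g i => ?_)
    by_cases hin : i = n
    · subst hin
      by_cases hd : i ∈ N.degrees (DirectSum.coeAddMonoidHom N.grading x)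
      · rw [DirectSum.mk_apply_of_mem hd, piece_coeff, if_pos rfl, hcoe]
      · rw [DirectSum.mk_apply_of_notMem hd]
        have h0 : ((DirectSum.coeAddMonoidHom N.grading x).1 g).coeff i = 0 := by
          by_contra h
          exact hd (Finset.mem_biUnion.2 ⟨g, Finset.mem_univ g, Finsupp.mem_support_iff.2 h⟩)
        rw [hcoe] at h0
        exact h0.symm
    · rw [(x n).2 g i hin]
      exact ((DirectSum.mk (fun n => N.grading n) (N.degrees _) fun n => N.piece n _) n).2 g i hin

variable (𝒜 s hs1 F) in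
/-- All twisted sections. -/
def Sub.top : Sub 𝒜 s hs1 F :=
  letI := moduleA 𝒜 s hs1 F
  { carrier := sectionsSubmodule 𝒜 s hs1 F
    compat := fun _ h => h
    comp_mem := fun w h n => GammaStar.comp_mem 𝒜 s hs1 F n h }

end Groth.Agent.EGA73.GammaStar
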