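import Groth.Agent.EGA73.RelAmpleTwist
import Groth.Agent.Amp73.QA

/-!
Inverse images of `O(1)` by embeddings into a relative Proj generated in degree one are relatively ample.
-/

set_option autoImplicit false
set_option backward.isDefEq.respectTransparency.types false

universe u

open CategoryTheory CategoryTheory.Limits AlgebraicGeometry TopologicalSpace Opposite
open scoped HomogeneousIdeal

noncomputable section

namespace Groth.Agent.EGA73

open Var76.LineBundle Var76.ZeroScheme Amp73 EGAProj74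

variable {S P X : Scheme.{u}} {𝒮 : RelProj.QCGrAlg S} {p : P ⟶ S}
  {chart : ∀ (U : S.Opens) (hU : IsAffineOpen U), (((p ⁻¹ᵁ U : P.Opens) : Scheme.{u}) ≅ Proj (𝒮.deg U hU))}
  {L : P.Modules}

/-- Pullback along a map factoring through an open. -/
def pullFactorIso {A : Scheme.{u}} {W : P.Opens} (a : A ⟶ W) (b : A ⟶ P) (h : a ≫ W.ι = b) :
    (Scheme.Modules.pullback a).obj (L.restrict W.ι) ≅ (Scheme.Modules.pullback b).obj L :=
  (Scheme.Modules.pullback a).mapIso ((Scheme.Modules.restrictFunctorIsoPullback W.ι).app L) ≪≫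
    (Scheme.Modules.pullbackComp a W.ι).app L ≪≫ (Scheme.Modules.pullbackCongr h).app L

/-- The inverse image of `O(1)` by an embedding is relatively ample. -/
theorem isRelAmple_pullback_twist_one {lam : ∀ (U : S.Opens) (hU : IsAffineOpen U),
      L ⟶ (Scheme.Modules.pushforward (RelProj.emb p chart U hU)).obj (GrTwist.twist (𝒮.deg U hU) ((1 : ℕ) : ℤ))}
    (hgen : 𝒮.IsGenDegOne) (hL : RelProj.IsRelTwist 𝒮 p chart ((1 : ℕ) : ℤ) L lam)
    (g : X ⟶ P) (hg : Topology.IsEmbedding g.base) [QuasiCompact (g ≫ p)] :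
    RelAmple.IsRelAmple (g ≫ p) ((Scheme.Modules.pullback g).obj L) := by
  classical
  refine ⟨inferInstance, fun ⟨U, hU⟩ => ?_⟩
  let pU := p ⁻¹ᵁ U
  have : CompactSpace ((g ≫ p) ⁻¹ᵁ U : X.Opens) := compactSpace_preimage (g ≫ p) hU
  let A : X.Opens := g ⁻¹ᵁ pU
  have hA : CompactSpace A := this
  let D : {f : 𝒮.presheaf.obj (op U) // f ∈ 𝒮.deg U hU 1} → (pU : Scheme.{u}).Opens := fun f =>
    pU.ι ⁻¹ᵁ (RelProj.emb p chart U hU ''ᵁ Proj.basicOpen (𝒮.deg U hU) f.1)
  have hDaff : ∀ f, IsAffineOpen (D f) := fun f => IsAffineOpen.preimage_of_isOpenImmersion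
    ((Proj.isAffineOpen_basicOpen _ f.1 f.2 zero_lt_one).image_of_isOpenImmersion _) _ (by
      rw [Scheme.Opens.opensRange_ι]
      exact ((RelProj.emb p chart U hU).image_le_opensRange _).trans_eq (opensRange_emb U hU))
  let a : (A : Scheme.{u}) ⟶ pU := g ∣_ pU
  have hcov : ∀ z : A, ∃ f, a.base z ∈ D f := by
    intro z
    obtain ⟨y, hy⟩ : (pU.ι.base (a.base z)) ∈ (RelProj.emb p chart U hU).opensRange := by
      rw [opensRange_emb]; exact (a.base z).2
    obtain ⟨f, hf, hyf⟩ : ∃ f ∈ 𝒮.deg U hU 1, f ∉ (y : ProjectiveSpectrum (𝒮.deg U hU)).asHomogeneousIdeal := by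
      by_contra H
      push Not at H
      exact ProjectiveSpectrum.not_irrelevant_le y
        ((irrelevant_le_span_one_of_gen (hgen U hU)).trans (Ideal.span_le.mpr H))
    exact ⟨⟨f, hf⟩, y, hyf, hy⟩
  obtain ⟨T, hT⟩ := isCompact_univ.elim_finite_subcover (fun f => a.base ⁻¹' (D f : Set (pU : Scheme.{u})))
    (fun f => (D f).2.preimage a.continuous) fun z _ => Set.mem_iUnion.2 (hcov z)
  let W : (pU : Scheme.{u}).Opens := T.sup D
  have hDW : ∀ f ∈ T, D f ≤ W := fun f hf => Finset.le_sup hf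
  have hWc : CompactSpace W := by
    refine isCompact_iff_compactSpace.1 ?_
    show IsCompact (W : Set (pU : Scheme.{u}))
    simp only [W, Finset.sup_eq_iSup, Opens.coe_iSup]
    exact T.isCompact_biUnion fun f _ => (hDaff f).isCompact
  have hWamp : CohB1.IsAmple ((L.restrict pU.ι).restrict W.ι) := by
    have hinv : PicF.IsInvertible (L.restrict pU.ι) :=
      EGA73.isInvertible_restrict (isInvertible_of_isGenDegOne hL hgen) _
    refine isAmple_iff.2 ⟨EGA73.isInvertible_restrict hinv _, hWc, fun z => ?_⟩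
    obtain ⟨f, hf, hzf⟩ : ∃ f ∈ T, W.ι.base z ∈ D f := by
      have : (W.ι.base z) ∈ (W : Set (pU : Scheme.{u})) := z.2
      simpa [W, Finset.sup_eq_iSup] using this
    obtain ⟨s, hs⟩ := exists_hom_genLocus hgen hL hU f.2
    refine ⟨_, mem_genSet_one (restrHom W.ι s), ?_, ?_⟩ <;> rw [genLocus_restrHom W.ι hinv, hs]
    · exact hzf
    · exact (hDaff f).preimage_of_isOpenImmersion _ (by rw [Scheme.Opens.opensRange_ι]; exact hDW f hf)
  have haW : Set.range a.base ⊆ Set.range W.ι.base := by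
    rintro _ ⟨z, rfl⟩
    obtain ⟨f, hf, hzf⟩ := Set.mem_iUnion₂.1 (hT (Set.mem_univ z))
    rw [Scheme.Opens.range_ι]
    exact hDW f hf hzf
  let a' := IsOpenImmersion.lift W.ι a haW
  have hemb : Topology.IsEmbedding a'.base := by
    refine Topology.IsEmbedding.of_comp a'.continuous W.ι.continuous ?_
    have e1 : W.ι.base ∘ a'.base = a.base :=
      congrArg (fun q : (A : Scheme.{u}) ⟶ pU => (⇑q.base : _ → _)) (IsOpenImmersion.lift_fac W.ι a haW)
    show Topology.IsEmbedding (W.ι.base ∘ a'.base)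
    rw [e1]
    refine Topology.IsEmbedding.of_comp a.continuous pU.ι.continuous ?_
    have e2 : pU.ι.base ∘ a.base = g.base ∘ A.ι.base :=
      congrArg (fun q : (A : Scheme.{u}) ⟶ P => (⇑q.base : _ → _)) (morphismRestrict_ι g pU)
    show Topology.IsEmbedding (pU.ι.base ∘ a.base)
    rw [e2]
    exact hg.comp A.ι.isOpenEmbedding.isEmbedding
  exact isAmple_of_iso (pullFactorIso a' a (IsOpenImmersion.lift_fac W.ι a haW) ≪≫
    pullSquareIso a pU.ι A.ι g (morphismRestrict_ι g pU) L) (isAmple_pullback_of_isEmbedding a' hemb hWamp)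

end Groth.Agent.EGA73

end
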