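import Groth.Agent.Amp73.CounitIff
import Groth.Agent.Serre69.Lifts
import Groth.Agent.QCqs72.Basic
import Groth.Agent.EGA73.RelAmpleEmb
import Groth.Agent.EGA73.RelAmpleComp
import Groth.Agent.EGA73.Invertible

/-!
Twists by a relatively ample module are quotients of inverse images of finite type quasi-coherent modules.
-/

set_option autoImplicit false
set_option linter.style.haveILetI false
set_option backward.isDefEq.respectTransparency.types false

universe u

open CategoryTheory CategoryTheory.Limits AlgebraicGeometry Opposite TopologicalSpace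
open Groth.Agent.Var76 Groth.Agent.Var76.LineBundle

noncomputable section

namespace Groth.Agent.EGA73

variable {X Y : Scheme.{u}}

theorem exists_finset_span {R M : Type u} [CommRing R] [AddCommGroup M] [Module R M] [Module.Finite R M]
    {T : Type u} (v : T → M) (h : Submodule.span R (Set.range v) = ⊤) :
    ∃ S : Finset T, Submodule.span R (v '' (S : Set T)) = ⊤ := by
  classical
  obtain ⟨G, hG⟩ := (Module.finite_def.1 ‹Module.Finite R M› : (⊤ : Submodule R M).FG)
  have hmem : ∀ g : M, ∃ S : Finset T, g ∈ Submodule.span R (v '' (S : Set T)) := by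
    intro g
    obtain ⟨c, hc⟩ := (Finsupp.mem_span_range_iff_exists_finsupp (R := R) (v := v)).1
      (h.ge (Submodule.mem_top (x := g)))
    refine ⟨c.support, ?_⟩
    rw [← hc]
    exact Submodule.sum_mem _ fun t ht => Submodule.smul_mem _ _ (Submodule.subset_span ⟨t, ht, rfl⟩)
  choose S hS using hmem
  refine ⟨G.biUnion S, eq_top_iff.2 (hG.ge.trans (Submodule.span_le.2 fun g hg => ?_))⟩
  exact Submodule.span_mono (Set.image_mono (by exact_mod_cast Finset.subset_biUnion_of_mem S hg)) (hS g)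

/-- A module spanned locally by sections over preimages of affine opens is a quotient of the inverse image of a
finite type quasi-coherent module. -/
theorem exists_ft_epi_of_span [CompactSpace X] [CompactSpace Y] [QuasiSeparatedSpace Y] (f : X ⟶ Y) [QuasiCompact f]
    [QuasiSeparated f] {M : X.Modules} (hM : Coh.IsCoh M)
    (h : ∀ x : X, ∃ (V : Y.affineOpens) (U : X.Opens) (hUV : U ≤ f ⁻¹ᵁ V.1),
      x ∈ U ∧ IsAffineOpen U ∧ Submodule.span Γ(X, U) (Set.range fun t : Γ(M, f ⁻¹ᵁ V.1) => res M hUV t) = ⊤) :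
    ∃ (F : Y.Modules) (φ : (Scheme.Modules.pullback f).obj F ⟶ M), Coh.IsQCoh F ∧ CohB1.IsFT F ∧ Epi φ := by
  classical
  choose V U hUV hxU hU hsp using h
  obtain ⟨S, hS⟩ := isCompact_univ.elim_finite_subcover (fun x => (U x : Set X)) (fun x => (U x).2)
    (fun x _ => Set.mem_iUnion.2 ⟨x, hxU x⟩)
  haveI := hM.1
  haveI := hM.2
  have hfin : ∀ x, ∃ T : Finset Γ(M, f ⁻¹ᵁ (V x).1),
      Submodule.span Γ(X, U x) ((fun t => res M (hUV x) t) '' (T : Set _)) = ⊤ := fun x =>
    haveI : Module.Finite Γ(X, U x) Γ(M, U x) := QC70.finite_sections_of_isFiniteType M (hU x)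
    exists_finset_span _ (hsp x)
  choose T hT using hfin
  haveI := QCqs72.isQuasicoherent_pushforward (M := M) f
  obtain ⟨G, i, -, hGq, hGf, hG⟩ := Serre69.exists_ft_sub (X := Y) ((Scheme.Modules.pushforward f).obj M)
    (κ := Σ x : S, T x.1) (fun k => V k.1.1) (fun k => (k.2.1 : Γ(M, f ⁻¹ᵁ (V k.1.1).1)))
  let adj := Scheme.Modules.pullbackPushforwardAdjunction f
  let φ : (Scheme.Modules.pullback f).obj G ⟶ M := (Scheme.Modules.pullback f).map i ≫ adj.counit.app M
  refine ⟨G, φ, hGq, hGf, QC70.epi_of_locally_surjective _ fun W s p hp => ?_⟩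
  obtain ⟨x, hxS, hpx⟩ := Set.mem_iUnion₂.1 (hS (Set.mem_univ p))
  obtain ⟨r, hrW, hpr⟩ := (hU x).exists_basicOpen_le ⟨p, hp⟩ hpx
  obtain ⟨n, u, hu⟩ := (Amp73.isLocAt hM.1 (hU x)).exists_of r (res M hrW s)
  have hr : IsUnit (Var76.ZeroScheme.fres (X.basicOpen_le r) r) := RingedSpace.isUnit_res_basicOpen _ r
  obtain ⟨v, hv⟩ := (hr.pow n).exists_left_inv
  have hrange : ∀ z : Γ(M, U x), ∃ y, φ.app (U x) y = z := by
    let R : Submodule Γ(X, U x) Γ(M, U x) :=
      { carrier := Set.range (φ.app (U x))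
        add_mem' := by rintro _ _ ⟨a, rfl⟩ ⟨b, rfl⟩; exact ⟨a + b, map_add (φ.app (U x)).hom a b⟩
        zero_mem' := ⟨0, map_zero (φ.app (U x)).hom⟩
        smul_mem' := by rintro c _ ⟨a, rfl⟩; exact ⟨c • a, Scheme.Modules.Hom.app_smul φ c a⟩ }
    have hR : R = ⊤ := eq_top_iff.2 ((hT x).ge.trans (Submodule.span_le.2 ?_))
    · exact fun z => hR.ge Submodule.mem_top
    rintro _ ⟨t, ht, rfl⟩
    obtain ⟨t', ht'⟩ := hG ⟨⟨x, hxS⟩, ⟨t, ht⟩⟩
    refine ⟨res _ (hUV x) (Amp73.pullS f G (V x).1 t'), (Mero90.app_res φ (hUV x) _).trans (congrArg (res M (hUV x)) ?_)⟩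
    show (adj.counit.app M).app _ (((Scheme.Modules.pullback f).map i).app _ (Amp73.pullS f G (V x).1 t')) = t
    rw [Amp73.map_app_pullS, ht']
    exact Amp73.counit_app_pullS f M (V x).1 t
  obtain ⟨y, hy⟩ := hrange u
  refine ⟨X.basicOpen r, hrW, v • res _ (X.basicOpen_le r) y, hpr, ?_⟩
  rw [Scheme.Modules.Hom.app_smul]
  refine (congrArg (v • ·) ((Mero90.app_res _ _ _).trans (congrArg (res M (X.basicOpen_le r)) hy))).trans ?_
  refine (congrArg (v • ·) hu).trans ?_
  refine (smul_smul _ _ _).trans ?_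
  exact (congrArg (· • _) hv).trans (one_smul _ _)

/-- High twists by a relatively ample module are quotients of inverse images of finite type modules. -/
theorem eventually_exists_ft_epi [CompactSpace Y] [QuasiSeparatedSpace Y] (f : X ⟶ Y) [QuasiCompact f]
    {L : X.Modules} (h : RelAmple.IsRelAmple f L) {E : X.Modules} (hE : Coh.IsCoh E) :
    ∃ m₀ : ℕ, ∀ m : ℕ, m₀ ≤ m → ∃ (F : Y.Modules)
      (φ : (Scheme.Modules.pullback f).obj F ⟶ CohB1.tensorMod E (CohB1.tensorPow L m)),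
        Coh.IsQCoh F ∧ CohB1.IsFT F ∧ Epi φ := by
  classical
  haveI := RelAmpleComp.quasiSeparated_of_isRelAmple h
  haveI : CompactSpace X := QuasiCompact.compactSpace_of_compactSpace f
  choose V hV hxV _ using fun x : X =>
    exists_isAffineOpen_mem_and_subset (U := (⊤ : Y.Opens)) (x := f x) trivial
  obtain ⟨S, hS⟩ := isCompact_univ.elim_finite_subcover (fun x => ((f ⁻¹ᵁ V x : X.Opens) : Set X))
    (fun x => (f ⁻¹ᵁ V x).2) (fun x _ => Set.mem_iUnion.2 ⟨x, hxV x⟩)
  choose N hN using fun x => Amp73.eventually_spanAt_twist (h.2 ⟨V x, hV x⟩) (Amp73.isCoh_restrict hE (f ⁻¹ᵁ V x))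
  refine ⟨S.sup N, fun n hn => exists_ft_epi_of_span f
    (Amp73.isCoh_tensorMod hE (Amp73.isCoh_of_isInvertible
      (EGA73.isInvertible_tensorPow (Amp73.isInvertible_of_isRelAmple h) n))) fun x => ?_⟩
  obtain ⟨y, hy, hxy⟩ := Set.mem_iUnion₂.1 (hS (Set.mem_univ x))
  obtain ⟨U, hxU, hU, hsp⟩ := hN y n ((Finset.le_sup hy).trans hn) ⟨x, hxy⟩
  refine ⟨⟨V y, hV y⟩, (f ⁻¹ᵁ V y).ι ''ᵁ U, _, ⟨_, hxU, rfl⟩, hU.image_of_isOpenImmersion _,
    Amp73.span_of_spanAt_restrict _ (Amp73.spanAt_of_iso (EGA73.tensIso (Iso.refl _) (Amp73.powRestrict (f ⁻¹ᵁ V y).ι L n) ≪≫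
      EGA73.tensorRestrictIso (f ⁻¹ᵁ V y).ι E (CohB1.tensorPow L n)).hom hsp)⟩

end Groth.Agent.EGA73
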