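import Mathlib.AlgebraicGeometry.ProjectiveSpectrum.Basic
import Mathlib.RingTheory.GradedAlgebra.HomogeneousLocalization

/-!
Morphisms into `Proj` from degree-preserving data on an open cover.
-/

set_option autoImplicit false
set_option backward.isDefEq.respectTransparency.types false

universe u

open CategoryTheory CategoryTheory.Limits AlgebraicGeometry HomogeneousLocalization TopologicalSpace

noncomputable section

namespace Groth.Agent.EGA73.ProjMor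

variable {R A : Type u} [CommRing R] [CommRing A] [Algebra R A] {𝒜 : ℕ → Submodule R A} [GradedAlgebra 𝒜]
  {X : Scheme.{u}}

theorem toSpecΓ_appLE {Y : Scheme.{u}} (f : X ⟶ Y) (U : Y.Opens) (W : X.Opens) (e : W ≤ f ⁻¹ᵁ U) :
    W.toSpecΓ ≫ Spec.map (f.appLE U W e) = f.resLE U W e ≫ U.toSpecΓ := by
  rw [Scheme.Hom.appLE, Spec.map_comp, Scheme.Opens.toSpecΓ_SpecMap_presheaf_map_assoc,
    Scheme.Opens.toSpecΓ_naturality, Scheme.Hom.resLE, Category.assoc]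

theorem toSpecΓ_ext {W : X.Opens} {S : CommRingCat.{u}} {p q : S ⟶ Γ(X, W)}
    (h : W.toSpecΓ ≫ Spec.map p = W.toSpecΓ ≫ Spec.map q) : p = q := by
  have h2 := congrArg (fun m : (W : Scheme.{u}) ⟶ Spec S =>
    (Scheme.ΓSpecIso S).inv ≫ m.appTop ≫ W.topIso.hom) h
  simp only [Scheme.Hom.comp_appTop, Scheme.Opens.toSpecΓ_appTop, Category.assoc,
    Scheme.ΓSpecIso_naturality_assoc, Iso.inv_hom_id_assoc, Iso.inv_hom_id, Category.comp_id] at h2
  exact h2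

theorem basicOpen_ι_eq {f : A} {d : ℕ} (hf : f ∈ 𝒜 d) (hd : 0 < d) :
    (Proj.basicOpen 𝒜 f).ι =
      (Proj.basicOpen 𝒜 f).toSpecΓ ≫ Spec.map (Proj.awayToSection 𝒜 f) ≫ Proj.awayι 𝒜 f hf hd := by
  rw [← Proj.basicOpenIsoSpec_inv_ι 𝒜 f hf hd, ← Category.assoc]
  rw [show (Proj.basicOpen 𝒜 f).toSpecΓ ≫ Spec.map (Proj.awayToSection 𝒜 f) =
    (Proj.basicOpenIsoSpec 𝒜 f hf hd).hom from (Proj.basicOpenIsoSpec_hom 𝒜 f hf hd).symm,
    Iso.hom_inv_id_assoc]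

/-- A morphism into `Proj` on the preimage of a basic open, through global functions. -/
theorem ι_comp_eq (r : X ⟶ Proj 𝒜) {f : A} {d : ℕ} (hf : f ∈ 𝒜 d) (hd : 0 < d) (W : X.Opens)
    (e : W ≤ r ⁻¹ᵁ Proj.basicOpen 𝒜 f) :
    W.ι ≫ r = W.toSpecΓ ≫ Spec.map (Proj.awayToSection 𝒜 f ≫ r.appLE _ W e) ≫
      Proj.awayι 𝒜 f hf hd := by
  rw [Spec.map_comp, Category.assoc, ← Category.assoc W.toSpecΓ, toSpecΓ_appLE, Category.assoc,
    ← basicOpen_ι_eq, Scheme.Hom.resLE_comp_ι]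

theorem le_preimage_of_factor (r : X ⟶ Proj 𝒜) {f : A} {d : ℕ} (hf : f ∈ 𝒜 d) (hd : 0 < d)
    (W : X.Opens) (m : (W : Scheme.{u}) ⟶ Spec (CommRingCat.of (Away 𝒜 f)))
    (h : W.ι ≫ r = m ≫ Proj.awayι 𝒜 f hf hd) : W ≤ r ⁻¹ᵁ Proj.basicOpen 𝒜 f := by
  intro x hx
  show r x ∈ Proj.basicOpen 𝒜 f
  rw [← Proj.opensRange_awayι 𝒜 f hf hd]
  exact ⟨m ⟨x, hx⟩, by rw [← Scheme.Hom.comp_apply, ← h, Scheme.Hom.comp_apply]; rfl⟩

theorem awayToSection_appLE_eq (r : X ⟶ Proj 𝒜) {f : A} {d : ℕ} (hf : f ∈ 𝒜 d) (hd : 0 < d)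
    (W : X.Opens) (e : W ≤ r ⁻¹ᵁ Proj.basicOpen 𝒜 f)
    (p : CommRingCat.of (Away 𝒜 f) ⟶ Γ(X, W))
    (h : W.ι ≫ r = W.toSpecΓ ≫ Spec.map p ≫ Proj.awayι 𝒜 f hf hd) :
    Proj.awayToSection 𝒜 f ≫ r.appLE _ W e = p := by
  refine toSpecΓ_ext ?_
  rw [← cancel_mono (Proj.awayι 𝒜 f hf hd), Category.assoc, Category.assoc, ← ι_comp_eq r hf hd W e, h]

/-- Evaluation of fractions at a ring map sending `f` to a unit. -/
def ev {S : Type u} [CommRing S] (ρ : A →+* S) {f : A} (h : IsUnit (ρ f)) : Away 𝒜 f →+* S :=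
  (IsLocalization.Away.lift (S := Localization.Away f) f h).comp (algebraMap _ _)

theorem ev_mk {S : Type u} [CommRing S] (ρ : A →+* S) {f : A} (h : IsUnit (ρ f))
    (c : NumDenSameDeg 𝒜 (Submonoid.powers f)) :
    ev ρ h (HomogeneousLocalization.mk c) * ρ c.den.1 = ρ c.num.1 := by
  have h2 := congrArg (IsLocalization.Away.lift (S := Localization.Away f) f h)
    (IsLocalization.mk'_spec (Localization.Away f) c.num.1 ⟨c.den.1, c.den_mem⟩)
  rw [map_mul, IsLocalization.Away.lift_eq, IsLocalization.Away.lift_eq] at h2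
  rw [ev, RingHom.comp_apply, HomogeneousLocalization.algebraMap_apply,
    HomogeneousLocalization.val_mk, Localization.mk_eq_mk']
  exact h2

omit [GradedAlgebra 𝒜] in
theorem isUnit_den {S : Type u} [CommRing S] (ρ : A →+* S) {f : A} (h : IsUnit (ρ f))
    (c : NumDenSameDeg 𝒜 (Submonoid.powers f)) : IsUnit (ρ c.den.1) := by
  obtain ⟨m, hm⟩ := c.den_mem
  rw [← show f ^ m = c.den.1 from hm, map_pow]
  exact h.pow m

theorem ev_comp {S T : Type u} [CommRing S] [CommRing T] (ρ : A →+* S) {f : A} (h : IsUnit (ρ f))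
    (φ : S →+* T) :
    ev (𝒜 := 𝒜) (φ.comp ρ) (h.map φ) = φ.comp (ev ρ h) := by
  refine RingHom.ext fun z => ?_
  obtain ⟨c, rfl⟩ := HomogeneousLocalization.mk_surjective z
  refine (isUnit_den (φ.comp ρ) (h.map φ) c).mul_left_inj.1 ?_
  rw [ev_mk, RingHom.comp_apply, RingHom.comp_apply, RingHom.comp_apply, ← map_mul, ev_mk]

theorem ev_eq_of_scaled {S : Type u} [CommRing S] (ρ ρ' : A →+* S) {f : A} (h : IsUnit (ρ f))
    (h' : IsUnit (ρ' f)) (u : S) (hu : ∀ (d : ℕ), ∀ x ∈ 𝒜 d, ρ x = u ^ d * ρ' x) :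
    ev (𝒜 := 𝒜) ρ h = ev ρ' h' := by
  refine RingHom.ext fun z => ?_
  obtain ⟨c, rfl⟩ := HomogeneousLocalization.mk_surjective z
  refine (isUnit_den ρ h c).mul_left_inj.1 ?_
  rw [ev_mk, hu _ _ c.num.2, hu _ _ c.den.2, mul_left_comm, ev_mk]

theorem ev_awayMap {S : Type u} [CommRing S] (ρ : A →+* S) {f g x : A} {e : ℕ} (hg : g ∈ 𝒜 e)
    (hx : x = f * g) (h : IsUnit (ρ f)) (h' : IsUnit (ρ x)) :
    (ev ρ h').comp (awayMap 𝒜 hg hx) = ev ρ h := by
  refine RingHom.ext fun z => ?_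
  have hl : (IsLocalization.Away.lift (S := Localization.Away x) x h').comp
      (Localization.awayLift (algebraMap A (Localization.Away x)) f (isUnit_of_dvd_unit
        (map_dvd _ (hx ▸ Dvd.intro g rfl)) (IsLocalization.Away.algebraMap_isUnit x))) =
      IsLocalization.Away.lift (S := Localization.Away f) f h := by
    refine IsLocalization.ringHom_ext (Submonoid.powers f) (RingHom.ext fun a => ?_)
    simp only [RingHom.comp_apply, IsLocalization.Away.lift_eq, Localization.awayLift]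
  rw [ev, ev, RingHom.comp_apply, RingHom.comp_apply, RingHom.comp_apply,
    HomogeneousLocalization.algebraMap_apply, HomogeneousLocalization.algebraMap_apply, val_awayMap]
  exact RingHom.congr_fun hl z.val

variable {ι : Type u} (f : ι → A) (hf : ∀ j, f j ∈ 𝒜 1) (G : ι → X.Opens) (hG : ⨆ j, G j = ⊤)
  (ρ : ∀ j, A →+* Γ(X, G j)) (hρ : ∀ j, ρ j (f j) = 1)
  (hcompat : ∀ (j k : ι) (d : ℕ), ∀ x ∈ 𝒜 d,
    X.presheaf.map (homOfLE (inf_le_left : G j ⊓ G k ≤ G j)).op (ρ j x) =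
      X.presheaf.map (homOfLE (inf_le_left : G j ⊓ G k ≤ G j)).op (ρ j (f k)) ^ d *
        X.presheaf.map (homOfLE (inf_le_right : G j ⊓ G k ≤ G k)).op (ρ k x))

include hG hρ hcompat in
/-- The morphism into `Proj` given by the data. -/
theorem exists_hom : ∃ r : X ⟶ Proj 𝒜, ∀ j, ∃ e : G j ≤ r ⁻¹ᵁ Proj.basicOpen 𝒜 (f j),
    (G j).ι ≫ r = (G j).toSpecΓ ≫ Spec.map (CommRingCat.ofHom
        (ev (ρ j) (f := f j) ((hρ j).symm ▸ isUnit_one))) ≫ Proj.awayι 𝒜 (f j) (hf j) one_pos ∧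
      ∀ z, r.appLE _ (G j) e (Proj.awayToSection 𝒜 (f j) z) =
        ev (ρ j) (f := f j) ((hρ j).symm ▸ isUnit_one) z := by
  let m : ∀ j, (G j : Scheme.{u}) ⟶ Proj 𝒜 := fun j =>
    (G j).toSpecΓ ≫ Spec.map (CommRingCat.ofHom
      (ev (ρ j) (f := f j) ((hρ j).symm ▸ isUnit_one))) ≫ Proj.awayι 𝒜 (f j) (hf j) one_pos
  have key : ∀ j k, X.homOfLE (inf_le_left : G j ⊓ G k ≤ G j) ≫ m j =
      X.homOfLE (inf_le_right : G j ⊓ G k ≤ G k) ≫ m k := by
    intro j k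
    let rj : Γ(X, G j) →+* Γ(X, G j ⊓ G k) := (X.presheaf.map (homOfLE inf_le_left).op).hom
    let rk : Γ(X, G k) →+* Γ(X, G j ⊓ G k) := (X.presheaf.map (homOfLE inf_le_right).op).hom
    have hf1 : rj (ρ j (f j)) = 1 := by rw [hρ, map_one]
    have hf2 : rk (ρ k (f k)) = 1 := by rw [hρ, map_one]
    have hprod : rj (ρ j (f k)) * rk (ρ k (f j)) = 1 := by
      have h : rj (ρ j (f j)) = rj (ρ j (f k)) ^ 1 * rk (ρ k (f j)) := hcompat j k 1 (f j) (hf j)
      rw [pow_one, hf1] at h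
      exact h.symm
    let x := f j * f k
    have hxj : IsUnit (rj.comp (ρ j) x) := by
      rw [RingHom.comp_apply, map_mul, map_mul, hf1, one_mul]
      exact IsUnit.of_mul_eq_one _ hprod
    have hxk : IsUnit (rk.comp (ρ k) x) := by
      rw [RingHom.comp_apply, map_mul, map_mul, hf2, mul_one]
      exact IsUnit.of_mul_eq_one _ ((mul_comm _ _).trans hprod)
    have heq : ev (𝒜 := 𝒜) (rj.comp (ρ j)) hxj = ev (rk.comp (ρ k)) hxk :=
      ev_eq_of_scaled _ _ _ _ (rj (ρ j (f k))) fun d y hy => hcompat j k d y hy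
    have e1 : X.homOfLE (inf_le_left : G j ⊓ G k ≤ G j) ≫ m j = (G j ⊓ G k).toSpecΓ ≫
        Spec.map (CommRingCat.ofHom (ev (rj.comp (ρ j)) hxj)) ≫
        Proj.awayι 𝒜 x (SetLike.mul_mem_graded (hf j) (hf k)) (Nat.succ_pos _) := by
      simp only [m]
      rw [← Scheme.Opens.toSpecΓ_SpecMap_presheaf_map_assoc,
        ← Proj.SpecMap_awayMap_awayι 𝒜 (f := f j) (hf j) one_pos (hf k) (x := x) rfl,
        ← Spec.map_comp_assoc, ← Spec.map_comp_assoc]
      congr 3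
      refine CommRingCat.hom_ext ?_
      show rj.comp (ev (ρ j) _) = (ev (rj.comp (ρ j)) hxj).comp (awayMap 𝒜 (hf k) rfl)
      rw [ev_awayMap (rj.comp (ρ j)) (hf k) rfl (by rw [RingHom.comp_apply, hf1]; exact isUnit_one),
        ← ev_comp]
    have e2 : X.homOfLE (inf_le_right : G j ⊓ G k ≤ G k) ≫ m k = (G j ⊓ G k).toSpecΓ ≫
        Spec.map (CommRingCat.ofHom (ev (rk.comp (ρ k)) hxk)) ≫
        Proj.awayι 𝒜 x (SetLike.mul_mem_graded (hf j) (hf k)) (Nat.succ_pos _) := by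
      simp only [m]
      rw [← Scheme.Opens.toSpecΓ_SpecMap_presheaf_map_assoc,
        ← Proj.SpecMap_awayMap_awayι 𝒜 (f := f k) (hf k) one_pos (hf j) (x := x) (mul_comm _ _),
        ← Spec.map_comp_assoc, ← Spec.map_comp_assoc]
      congr 3
      refine CommRingCat.hom_ext ?_
      show rk.comp (ev (ρ k) _) = (ev (rk.comp (ρ k)) hxk).comp (awayMap 𝒜 (hf j) (mul_comm _ _))
      rw [ev_awayMap (rk.comp (ρ k)) (hf j) (mul_comm _ _)
        (by rw [RingHom.comp_apply, hf2]; exact isUnit_one), ← ev_comp]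
    rw [e1, e2, heq]
  let 𝒰 := X.openCoverOfIsOpenCover G hG
  let r : X ⟶ Proj 𝒜 := 𝒰.glueMorphisms m fun (j k : ι) => by
    show pullback.fst (G j).ι (G k).ι ≫ m j = pullback.snd (G j).ι (G k).ι ≫ m k
    rw [← cancel_epi (isPullback_opens_inf (G j) (G k)).isoPullback.hom,
      IsPullback.isoPullback_hom_fst_assoc, IsPullback.isoPullback_hom_snd_assoc]
    exact key j k
  refine ⟨r, fun j => ?_⟩
  have hι : (G j).ι ≫ r = m j := 𝒰.ι_glueMorphisms m _ j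
  have e := le_preimage_of_factor r (hf j) one_pos (G j)
    ((G j).toSpecΓ ≫ Spec.map (CommRingCat.ofHom (ev (ρ j) ((hρ j).symm ▸ isUnit_one))))
    (by rw [hι, Category.assoc])
  refine ⟨e, hι, fun z => ?_⟩
  exact ConcreteCategory.congr_hom (awayToSection_appLE_eq r (hf j) one_pos (G j) e _ hι) z

end Groth.Agent.EGA73.ProjMor
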