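import Groth.Agent.EGAProj74.GrT.TildeQCoh
import Groth.Agent.EGAProj74.RelBasic
import Groth.Agent.EGA73.ProjMor
import Groth.Agent.Var76.ZeroScheme

/-!
Functions on the standard charts of `Proj` and of a relative `Proj` attached to homogeneous elements.
-/

set_option autoImplicit false
set_option backward.isDefEq.respectTransparency.types false

universe u

open CategoryTheory CategoryTheory.Limits AlgebraicGeometry TopologicalSpace Opposite
open scoped HomogeneousIdeal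

noncomputable section

namespace Groth.Agent.EGA73.GrFr

open HomogeneousLocalization Var76.ZeroScheme EGAProj74

section ring

variable {A σ : Type u} [CommRing A] [SetLike σ A] [AddSubgroupClass σ A] {𝒜 : ℕ → σ} [GradedRing 𝒜]

/-- `a / g ^ n` on `D₊(g)`. -/
def gfr {g : A} (hg : g ∈ 𝒜 1) {n : ℕ} {a : A} (ha : a ∈ 𝒜 n) : Γ(Proj 𝒜, Proj.basicOpen 𝒜 g) :=
  Proj.awayToSection 𝒜 g (Away.mk 𝒜 hg n a (by simpa using ha))

theorem gfr_apply {g : A} (hg : g ∈ 𝒜 1) {n : ℕ} {a : A} (ha : a ∈ 𝒜 n)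
    (x : ProjectiveSpectrum.basicOpen 𝒜 g) :
    ((gfr hg ha).1 x : GrTwist.A0 𝒜 x.1).val = Localization.mk a ⟨g ^ n, GrT.pow_notMem x.2 n⟩ := by
  refine Eq.trans ?_ (HomogeneousLocalization.val_mk
    (⟨n, ⟨a, ha⟩, ⟨g ^ n, by simpa using SetLike.pow_mem_graded n hg⟩, GrT.pow_notMem x.2 n⟩ :
      NumDenSameDeg 𝒜 x.1.asHomogeneousIdeal.toIdeal.primeCompl))
  erw [ProjectiveSpectrum.Proj.awayToSection_apply]

theorem gfr_congr {g : A} (hg : g ∈ 𝒜 1) {n m : ℕ} {a b : A} (ha : a ∈ 𝒜 n) (hb : b ∈ 𝒜 m)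
    (h : n = m) (hab : a = b) : gfr hg ha = gfr hg hb := by
  subst h hab; rfl

theorem gfr_add {g : A} (hg : g ∈ 𝒜 1) {n : ℕ} {a b : A} (ha : a ∈ 𝒜 n) (hb : b ∈ 𝒜 n) :
    gfr hg (add_mem ha hb) = gfr hg ha + gfr hg hb := by
  simp only [gfr, ← map_add]
  refine congrArg (Proj.awayToSection 𝒜 g) (val_injective _ ?_)
  simp [Localization.add_mk_self]

theorem gfr_zero {g : A} (hg : g ∈ 𝒜 1) (n : ℕ) : gfr hg (zero_mem (𝒜 n)) = 0 := by
  simp only [gfr]
  rw [← map_zero (Proj.awayToSection 𝒜 g).hom]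
  refine congrArg (Proj.awayToSection 𝒜 g) (val_injective _ ?_)
  simp [Localization.mk_zero]

theorem gfr_mul {g : A} (hg : g ∈ 𝒜 1) {i j : ℕ} {a b : A} (ha : a ∈ 𝒜 i) (hb : b ∈ 𝒜 j) :
    gfr hg (SetLike.mul_mem_graded ha hb) = gfr hg ha * gfr hg hb := by
  simp only [gfr, ← map_mul]
  refine congrArg (Proj.awayToSection 𝒜 g) (val_injective _ ?_)
  rw [HomogeneousLocalization.val_mul, Away.val_mk, Away.val_mk, Away.val_mk, Localization.mk_mul]
  congr 1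
  exact Subtype.ext (pow_add g i j)

theorem gfr_pow_self {g : A} (hg : g ∈ 𝒜 1) (n : ℕ) (h : g ^ n ∈ 𝒜 n) : gfr hg h = 1 := by
  simp only [gfr]
  rw [← map_one (Proj.awayToSection 𝒜 g).hom]
  refine congrArg (Proj.awayToSection 𝒜 g) (val_injective _ ?_)
  rw [Away.val_mk, HomogeneousLocalization.val_one]
  exact Localization.mk_self (⟨g ^ n, (Submonoid.mem_powers_iff _ _).2 ⟨n, rfl⟩⟩ : Submonoid.powers g)

theorem gfr_res {g g' : A} (hg : g ∈ 𝒜 1) (hg' : g' ∈ 𝒜 1) {n : ℕ} {a : A} (ha : a ∈ 𝒜 n)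
    (W : (Proj 𝒜).Opens) (h : W ≤ Proj.basicOpen 𝒜 g) (h' : W ≤ Proj.basicOpen 𝒜 g') :
    fres h' (gfr hg' ha) = fres h' (gfr hg' hg) ^ n * fres h (gfr hg ha) := by
  refine Subtype.ext (funext fun x => val_injective _ ?_)
  show ((gfr hg' ha).1 ⟨x.1, h' x.2⟩).val =
    ((gfr hg' hg).1 ⟨x.1, h' x.2⟩ ^ n * (gfr hg ha).1 ⟨x.1, h x.2⟩).val
  rw [HomogeneousLocalization.val_mul, HomogeneousLocalization.val_pow, gfr_apply, gfr_apply, gfr_apply,
    Localization.mk_pow, Localization.mk_mul, Localization.mk_eq_mk_iff, Localization.r_iff_exists]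
  exact ⟨1, by push_cast; ring⟩

theorem basicOpen_gfr {g b : A} (hg : g ∈ 𝒜 1) (hb : b ∈ 𝒜 1) :
    (Proj 𝒜).basicOpen (gfr hg hb) = Proj.basicOpen 𝒜 (g * b) :=
  GrT.proj_basicOpen_eq (d := 1) (l := 1) _ (by simpa using hb) (by simpa using hg) fun x => val_injective _ (by
    rw [gfr_apply]
    simp [GrT.a0Frac])

theorem map_gfr {B τ : Type u} [CommRing B] [SetLike τ B] [AddSubgroupClass τ B] {ℬ : ℕ → τ} [GradedRing ℬ]
    (φ : 𝒜 →+*ᵍ ℬ) (hφ : ℬ₊ ≤ (𝒜₊).map φ) {g : A} (hg : g ∈ 𝒜 1) {n : ℕ} {a : A} (ha : a ∈ 𝒜 n) :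
    (Proj.map φ hφ).appLE (Proj.basicOpen 𝒜 g) (Proj.basicOpen ℬ (φ g)) le_rfl (gfr hg ha) =
      gfr (φ.map_mem hg) (φ.map_mem ha) := by
  refine (ConcreteCategory.congr_hom (Proj.awayToSection_comp_appLE φ hφ hg) _).trans ?_
  show Proj.awayToSection ℬ (φ g) (Away.map φ g (Away.mk 𝒜 hg n a _)) = Proj.awayToSection ℬ (φ g) _
  rw [Away.map_mk]
  rfl

end ring

variable {S P : Scheme.{u}} {𝒮 : RelProj.QCGrAlg S} {p : P ⟶ S}
  {chart : ∀ (U : S.Opens) (hU : IsAffineOpen U), (((p ⁻¹ᵁ U : P.Opens) : Scheme.{u}) ≅ Proj (𝒮.deg U hU))}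

variable (chart) in
/-- A standard affine open of a relative Proj. -/
abbrev dOpen {U : S.Opens} (hU : IsAffineOpen U) (t : 𝒮.presheaf.obj (op U)) : P.Opens :=
  RelProj.emb p chart U hU ''ᵁ Proj.basicOpen (𝒮.deg U hU) t

theorem isAffineOpen_dOpen {U : S.Opens} (hU : IsAffineOpen U) {t : 𝒮.presheaf.obj (op U)}
    (ht : t ∈ 𝒮.deg U hU 1) : IsAffineOpen (dOpen chart hU t) :=
  (Proj.isAffineOpen_basicOpen _ t ht one_pos).image_of_isOpenImmersion _

theorem dOpen_le {U : S.Opens} (hU : IsAffineOpen U) (t : 𝒮.presheaf.obj (op U)) : dOpen chart hU t ≤ p ⁻¹ᵁ U :=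
  ((RelProj.emb p chart U hU).image_le_opensRange _).trans_eq (opensRange_emb U hU)

/-- Functions on a standard open are read in the chart. -/
theorem dOpen_ext {U : S.Opens} (hU : IsAffineOpen U) {t : 𝒮.presheaf.obj (op U)}
    {s s' : Γ(P, dOpen chart hU t)}
    (h : (RelProj.emb p chart U hU).appLE (dOpen chart hU t) (Proj.basicOpen (𝒮.deg U hU) t)
      ((RelProj.emb p chart U hU).preimage_image_eq _).ge s =
      (RelProj.emb p chart U hU).appLE (dOpen chart hU t) (Proj.basicOpen (𝒮.deg U hU) t)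
      ((RelProj.emb p chart U hU).preimage_image_eq _).ge s') : s = s' := by
  have := congrArg ((RelProj.emb p chart U hU).appIso (Proj.basicOpen (𝒮.deg U hU) t)).inv h
  rw [← ConcreteCategory.comp_apply, ← ConcreteCategory.comp_apply, Scheme.Hom.appLE_appIso_inv] at this
  simpa using this

variable (chart) in
/-- The function `a / t ^ n` on a standard open. -/
def sec {U : S.Opens} (hU : IsAffineOpen U) {t : 𝒮.presheaf.obj (op U)} (ht : t ∈ 𝒮.deg U hU 1) {n : ℕ}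
    {a : 𝒮.presheaf.obj (op U)} (ha : a ∈ 𝒮.deg U hU n) : Γ(P, dOpen chart hU t) :=
  ((RelProj.emb p chart U hU).appIso _).inv (gfr ht ha)

theorem appLE_sec {U : S.Opens} (hU : IsAffineOpen U) {t : 𝒮.presheaf.obj (op U)} (ht : t ∈ 𝒮.deg U hU 1) {n : ℕ}
    {a : 𝒮.presheaf.obj (op U)} (ha : a ∈ 𝒮.deg U hU n) :
    (RelProj.emb p chart U hU).appLE (dOpen chart hU t) (Proj.basicOpen (𝒮.deg U hU) t)
      ((RelProj.emb p chart U hU).preimage_image_eq _).ge (sec chart hU ht ha) = gfr ht ha := by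
  rw [sec, ← ConcreteCategory.comp_apply, Scheme.Hom.appIso_inv_appLE]
  exact ConcreteCategory.congr_hom ((Proj (𝒮.deg U hU)).presheaf.map_id _) _

theorem fres_sec {U : S.Opens} (hU : IsAffineOpen U) {t : 𝒮.presheaf.obj (op U)} (ht : t ∈ 𝒮.deg U hU 1) {n : ℕ}
    {a : 𝒮.presheaf.obj (op U)} (ha : a ∈ 𝒮.deg U hU n) {V : (Proj (𝒮.deg U hU)).Opens}
    (hV : V ≤ Proj.basicOpen (𝒮.deg U hU) t) :
    fres ((RelProj.emb p chart U hU).image_mono hV) (sec chart hU ht ha) =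
      ((RelProj.emb p chart U hU).appIso V).inv (fres hV (gfr ht ha)) :=
  (ConcreteCategory.congr_hom ((RelProj.emb p chart U hU).appIso_inv_naturality (homOfLE hV).op) (gfr ht ha)).symm

theorem sec_res {U : S.Opens} (hU : IsAffineOpen U) {t t' : 𝒮.presheaf.obj (op U)} (ht : t ∈ 𝒮.deg U hU 1)
    (ht' : t' ∈ 𝒮.deg U hU 1) {n : ℕ} {a : 𝒮.presheaf.obj (op U)} (ha : a ∈ 𝒮.deg U hU n)
    {V : (Proj (𝒮.deg U hU)).Opens} (hV : V ≤ Proj.basicOpen (𝒮.deg U hU) t)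
    (hV' : V ≤ Proj.basicOpen (𝒮.deg U hU) t') :
    fres ((RelProj.emb p chart U hU).image_mono hV') (sec chart hU ht' ha) =
      fres ((RelProj.emb p chart U hU).image_mono hV') (sec chart hU ht' ht) ^ n *
        fres ((RelProj.emb p chart U hU).image_mono hV) (sec chart hU ht ha) := by
  rw [fres_sec, fres_sec, fres_sec, ← map_pow, ← map_mul, gfr_res ht ht' ha V hV hV']
  all_goals assumption

theorem sec_mul {U : S.Opens} (hU : IsAffineOpen U) {t : 𝒮.presheaf.obj (op U)} (ht : t ∈ 𝒮.deg U hU 1) {i j : ℕ}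
    {a b : 𝒮.presheaf.obj (op U)} (ha : a ∈ 𝒮.deg U hU i) (hb : b ∈ 𝒮.deg U hU j) :
    sec chart hU ht (SetLike.mul_mem_graded ha hb) = sec chart hU ht ha * sec chart hU ht hb :=
  (congrArg _ (gfr_mul ht ha hb)).trans (map_mul _ _ _)

theorem sec_congr {U : S.Opens} (hU : IsAffineOpen U) {t : 𝒮.presheaf.obj (op U)} (ht : t ∈ 𝒮.deg U hU 1) {n m : ℕ}
    {a b : 𝒮.presheaf.obj (op U)} (ha : a ∈ 𝒮.deg U hU n) (hb : b ∈ 𝒮.deg U hU m) (h : n = m) (hab : a = b) :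
    sec chart hU ht ha = sec chart hU ht hb := by
  subst h hab; rfl

theorem sec_add {U : S.Opens} (hU : IsAffineOpen U) {t : 𝒮.presheaf.obj (op U)} (ht : t ∈ 𝒮.deg U hU 1) {n : ℕ}
    {a b : 𝒮.presheaf.obj (op U)} (ha : a ∈ 𝒮.deg U hU n) (hb : b ∈ 𝒮.deg U hU n) :
    sec chart hU ht (add_mem ha hb) = sec chart hU ht ha + sec chart hU ht hb :=
  (congrArg _ (gfr_add ht ha hb)).trans (map_add _ _ _)

theorem sec_zero {U : S.Opens} (hU : IsAffineOpen U) {t : 𝒮.presheaf.obj (op U)} (ht : t ∈ 𝒮.deg U hU 1) (n : ℕ) :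
    sec chart hU ht (zero_mem (𝒮.deg U hU n)) = 0 := by
  simp only [sec, gfr_zero, map_zero]

theorem sec_pow_self {U : S.Opens} (hU : IsAffineOpen U) {t : 𝒮.presheaf.obj (op U)} (ht : t ∈ 𝒮.deg U hU 1) (n : ℕ)
    (h : t ^ n ∈ 𝒮.deg U hU n) : sec chart hU ht h = 1 := by
  simp only [sec, gfr_pow_self, map_one]

theorem basicOpen_sec {U : S.Opens} (hU : IsAffineOpen U) {t b : 𝒮.presheaf.obj (op U)} (ht : t ∈ 𝒮.deg U hU 1)
    (hb : b ∈ 𝒮.deg U hU 1) :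
    P.basicOpen (sec chart hU ht hb) = dOpen chart hU (t * b) := by
  rw [sec, ← Scheme.image_basicOpen, basicOpen_gfr]

variable (hP : RelProj.IsRelProj 𝒮 p chart)
include hP

theorem dOpen_res {U V : S.Opens} (hU : IsAffineOpen U) (hV : IsAffineOpen V) (i : V ≤ U)
    (t : 𝒮.presheaf.obj (op U)) : dOpen chart hV (𝒮.res hU hV i t) = dOpen chart hU t ⊓ p ⁻¹ᵁ V := by
  have h1 : RelProj.emb p chart V hV ⁻¹ᵁ dOpen chart hU t = Proj.basicOpen (𝒮.deg V hV) (𝒮.res hU hV i t) := by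
    rw [← map_res_emb' hP hU hV i, Scheme.Hom.comp_preimage, Scheme.Hom.preimage_image_eq,
      Proj.map_preimage_basicOpen]
  rw [dOpen, ← h1, Scheme.Hom.image_preimage_eq_opensRange_inf, opensRange_emb, inf_comm]

theorem dOpen_res_le {U V : S.Opens} (hU : IsAffineOpen U) (hV : IsAffineOpen V) (i : V ≤ U)
    (t : 𝒮.presheaf.obj (op U)) : dOpen chart hV (𝒮.res hU hV i t) ≤ dOpen chart hU t :=
  (dOpen_res hP hU hV i t).trans_le inf_le_left

theorem sec_restrict {U V : S.Opens} (hU : IsAffineOpen U) (hV : IsAffineOpen V) (i : V ≤ U)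
    {t : 𝒮.presheaf.obj (op U)} (ht : t ∈ 𝒮.deg U hU 1) {n : ℕ}
    {a : 𝒮.presheaf.obj (op U)} (ha : a ∈ 𝒮.deg U hU n) :
    fres (dOpen_res_le hP hU hV i t) (sec chart hU ht ha) =
      sec chart hV ((𝒮.res hU hV i).map_mem ht) ((𝒮.res hU hV i).map_mem ha) := by
  refine dOpen_ext hV ?_
  rw [appLE_sec, fres, ← ConcreteCategory.comp_apply, Scheme.Hom.map_appLE]
  have key : ∀ (k : Proj (𝒮.deg V hV) ⟶ P) (_ : k = Proj.map (𝒮.res hU hV i) (irrelevant_le_map_res 𝒮 hU hV i) ≫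
      RelProj.emb p chart U hU)
      (e : Proj.basicOpen (𝒮.deg V hV) (𝒮.res hU hV i t) ≤ k ⁻¹ᵁ dOpen chart hU t),
      k.appLE (dOpen chart hU t) (Proj.basicOpen (𝒮.deg V hV) (𝒮.res hU hV i t)) e (sec chart hU ht ha) =
        gfr ((𝒮.res hU hV i).map_mem ht) ((𝒮.res hU hV i).map_mem ha) := by
    rintro k rfl e
    refine (ConcreteCategory.congr_hom (Scheme.Hom.appLE_comp_appLE
      (Proj.map (𝒮.res hU hV i) (irrelevant_le_map_res 𝒮 hU hV i)) (RelProj.emb p chart U hU)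
      (dOpen chart hU t) (Proj.basicOpen (𝒮.deg U hU) t) (Proj.basicOpen (𝒮.deg V hV) (𝒮.res hU hV i t))
      ((RelProj.emb p chart U hU).preimage_image_eq _).ge le_rfl) _).symm.trans ?_
    rw [ConcreteCategory.comp_apply, appLE_sec, map_gfr]
  exact key _ (map_res_emb' hP hU hV i).symm _

theorem fres_str {U : S.Opens} (hU : IsAffineOpen U) {t : 𝒮.presheaf.obj (op U)} (ht : t ∈ 𝒮.deg U hU 1)
    (r : Γ(S, U)) :
    p.appLE U (dOpen chart hU t) (dOpen_le hU t) r = sec chart hU ht (𝒮.str_mem U hU r) := by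
  refine dOpen_ext hU ?_
  rw [appLE_sec, ← ConcreteCategory.comp_apply, Scheme.Hom.appLE_comp_appLE]
  let D := Proj.basicOpen (𝒮.deg U hU) t
  have hD : IsAffineOpen D := Proj.isAffineOpen_basicOpen _ t ht one_pos
  let ψ₂ : Γ(S, U) ⟶ Γ(Proj (𝒮.deg U hU), D) := 𝒮.strZero U hU ≫
    CommRingCat.ofHom (fromZeroRingHom (𝒮.deg U hU) (Submonoid.powers t)) ≫ Proj.awayToSection (𝒮.deg U hU) t
  have h2 : ψ₂ r = gfr ht (𝒮.str_mem U hU r) := by
    show Proj.awayToSection (𝒮.deg U hU) t _ = Proj.awayToSection (𝒮.deg U hU) t _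
    refine congrArg (Proj.awayToSection (𝒮.deg U hU) t) (val_injective _ ?_)
    rw [Away.val_mk]
    show (HomogeneousLocalization.mk _).val = _
    rw [HomogeneousLocalization.val_mk]
    simp
    rfl
  rw [← h2]
  refine ConcreteCategory.congr_hom (ProjMor.toSpecΓ_ext ?_) r
  rw [← cancel_mono hU.fromSpec]
  simp only [Category.assoc]
  rw [IsAffineOpen.SpecMap_appLE_fromSpec _ hU hD, ← Category.assoc, hD.toSpecΓ_fromSpec, emb_p hP]
  simp only [ψ₂, Spec.map_comp, Category.assoc]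
  show (Proj.basicOpen (𝒮.deg U hU) t).ι ≫ _ = _
  have hι : (Proj.basicOpen (𝒮.deg U hU) t).ι = (Proj.basicOpen (𝒮.deg U hU) t).toSpecΓ ≫
      Spec.map (Proj.awayToSection (𝒮.deg U hU) t) ≫ Proj.awayι (𝒮.deg U hU) t ht one_pos := by
    rw [← Proj.basicOpenIsoSpec_inv_ι (𝒮.deg U hU) t ht one_pos, ← Category.assoc]
    rw [show (Proj.basicOpen (𝒮.deg U hU) t).toSpecΓ ≫ Spec.map (Proj.awayToSection (𝒮.deg U hU) t) =
      (Proj.basicOpenIsoSpec (𝒮.deg U hU) t ht one_pos).hom from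
        (Proj.basicOpenIsoSpec_hom (𝒮.deg U hU) t ht one_pos).symm, Iso.hom_inv_id_assoc]
  rw [hι]
  simp only [Category.assoc]
  rw [Proj.awayι_toSpecZero_assoc]

end Groth.Agent.EGA73.GrFr

end
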