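import Groth.Agent.EGA73.GradedBasics
import Mathlib.RingTheory.GradedAlgebra.FiniteType
import Mathlib.RingTheory.GradedAlgebra.Noetherian
import Mathlib.RingTheory.MvPolynomial.Basic
import Mathlib.RingTheory.FiniteType
import Mathlib.RingTheory.Adjoin.Polynomial.Basic

/-!
Graded rings generated by homogeneous elements over their degree-zero part.
-/

universe u

namespace Groth.Agent.EGA73

variable {R A : Type u} [CommRing R] [CommRing A] [Algebra R A] {𝒜 : ℕ → Submodule R A} [GradedAlgebra 𝒜]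

theorem irrelevant_eq_span_of_adjoin_eq_top {E : Set A} (hE : ∀ e ∈ E, ∃ d : ℕ, 0 < d ∧ e ∈ 𝒜 d)
    (h : Algebra.adjoin (𝒜 0) E = ⊤) : (HomogeneousIdeal.irrelevant 𝒜).toIdeal = Ideal.span E := by
  apply le_antisymm
  · intro x hx
    have key : ∀ y ∈ Algebra.adjoin (𝒜 0) E, y - GradedRing.projZeroRingHom 𝒜 y ∈ Ideal.span E := by
      intro y hy
      induction hy using Algebra.adjoin_induction with
      | mem y hy =>
        obtain ⟨d, hd, hyd⟩ := hE y hy
        rw [GradedRing.projZeroRingHom_apply, DirectSum.decompose_of_mem_ne 𝒜 hyd hd.ne', sub_zero]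
        exact Ideal.subset_span hy
      | algebraMap r =>
        convert zero_mem (Ideal.span E)
        rw [sub_eq_zero]
        exact (DirectSum.decompose_of_mem_same 𝒜 r.2).symm
      | add a b _ _ ha hb =>
        rw [map_add, add_sub_add_comm]
        exact add_mem ha hb
      | mul a b _ _ ha hb =>
        convert add_mem (Ideal.mul_mem_left _ a hb)
          (Ideal.mul_mem_right (GradedRing.projZeroRingHom 𝒜 b) _ ha) using 1
        rw [map_mul]
        ring
    have h0 : GradedRing.projZeroRingHom 𝒜 x = 0 := by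
      rw [GradedRing.projZeroRingHom_apply, ← GradedRing.proj_apply]
      exact (HomogeneousIdeal.mem_irrelevant_iff _ _).mp hx
    simpa [h0] using key x (h ▸ Algebra.mem_top)
  · rw [Ideal.span_le]
    intro e he
    obtain ⟨d, hd, hed⟩ := hE e he
    exact HomogeneousIdeal.mem_irrelevant_of_mem 𝒜 hd hed

/-- The component of degree `n` of `b * e` with `e` homogeneous. -/
theorem decompose_mul_eq (b : A) {e : A} {d : ℕ} (he : e ∈ 𝒜 d) (n : ℕ) :
    (DirectSum.decompose 𝒜 (b * e) n : A) =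
      if d ≤ n then (DirectSum.decompose 𝒜 b (n - d) : A) * e else 0 :=
  DirectSum.coe_decompose_mul_of_right_mem 𝒜 n he

theorem adjoin_eq_top_of_irrelevant_eq_span {E : Set A} (hE : ∀ e ∈ E, ∃ d : ℕ, 0 < d ∧ e ∈ 𝒜 d)
    (h : (HomogeneousIdeal.irrelevant 𝒜).toIdeal = Ideal.span E) : Algebra.adjoin (𝒜 0) E = ⊤ := by
  classical
  have key : ∀ n, ∀ a ∈ 𝒜 n, a ∈ Algebra.adjoin (𝒜 0) E := by
    intro n
    induction n using Nat.strong_induction_on with
    | _ n ih =>
      intro a ha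
      rcases Nat.eq_zero_or_pos n with rfl | hn
      · exact Subalgebra.algebraMap_mem _ (⟨a, ha⟩ : 𝒜 0)
      · have haE : a ∈ Ideal.span E := h ▸ HomogeneousIdeal.mem_irrelevant_of_mem 𝒜 hn ha
        obtain ⟨c, hc, hsum⟩ := Submodule.mem_span_set.mp haE
        rw [← DirectSum.decompose_of_mem_same 𝒜 ha, ← hsum, Finsupp.sum, DirectSum.decompose_sum,
          DFinsupp.finsetSum_apply, AddSubmonoidClass.coe_finsetSum]
        refine Subalgebra.sum_mem _ fun e he => ?_
        obtain ⟨d, hd, hed⟩ := hE e (hc he)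
        rw [smul_eq_mul, decompose_mul_eq _ hed]
        split_ifs with hdn
        · exact mul_mem (ih _ (by omega) _ (SetLike.coe_mem _)) (Algebra.subset_adjoin (hc he))
        · exact zero_mem _
  rw [eq_top_iff]
  intro a _
  rw [← DirectSum.sum_support_decompose 𝒜 a]
  exact Subalgebra.sum_mem _ fun n _ => key n _ (SetLike.coe_mem _)

/-- A finitely generated irrelevant ideal has finitely many homogeneous generators of positive degree. -/
theorem exists_generators_of_fg (h : (HomogeneousIdeal.irrelevant 𝒜).toIdeal.FG) :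
    ∃ E : Finset A, (∀ e ∈ E, ∃ d : ℕ, 0 < d ∧ e ∈ 𝒜 d) ∧
      (HomogeneousIdeal.irrelevant 𝒜).toIdeal = Ideal.span (E : Set A) := by
  classical
  obtain ⟨G, hG⟩ := h
  let E := G.biUnion fun g =>
    (((DirectSum.decompose 𝒜 g).support.filter (0 < ·))).image fun i => (DirectSum.decompose 𝒜 g i : A)
  have hE : ∀ e ∈ E, ∃ d : ℕ, 0 < d ∧ e ∈ 𝒜 d := by
    intro e he
    simp only [E, Finset.mem_biUnion, Finset.mem_image, Finset.mem_filter] at he
    obtain ⟨g, _, i, ⟨_, hi⟩, rfl⟩ := he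
    exact ⟨i, hi, SetLike.coe_mem _⟩
  refine ⟨E, hE, le_antisymm ?_ ?_⟩
  · conv_lhs => rw [← hG]
    rw [Ideal.span_le]
    intro g hg
    show g ∈ Ideal.span (E : Set A)
    rw [← DirectSum.sum_support_decompose 𝒜 g]
    refine Ideal.sum_mem _ fun i hi => ?_
    rcases Nat.eq_zero_or_pos i with rfl | hi0
    · have hgI : g ∈ (HomogeneousIdeal.irrelevant 𝒜).toIdeal := hG ▸ Ideal.subset_span hg
      have h0 := (HomogeneousIdeal.mem_irrelevant_iff 𝒜 g).mp hgI
      rw [GradedRing.proj_apply] at h0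
      rw [h0]
      exact zero_mem _
    · refine Ideal.subset_span ?_
      simp only [E, Finset.coe_biUnion, Finset.coe_image, Finset.coe_filter, Set.mem_iUnion, Set.mem_image]
      exact ⟨g, hg, i, ⟨hi, hi0⟩, rfl⟩
  · rw [Ideal.span_le]
    intro e he
    obtain ⟨d, hd, hed⟩ := hE e he
    exact HomogeneousIdeal.mem_irrelevant_of_mem 𝒜 hd hed

theorem irrelevant_fg_iff_finiteType :
    (HomogeneousIdeal.irrelevant 𝒜).toIdeal.FG ↔ Algebra.FiniteType (𝒜 0) A := by
  constructor
  · intro h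
    obtain ⟨E, hE, hspan⟩ := exists_generators_of_fg h
    exact ⟨⟨E, adjoin_eq_top_of_irrelevant_eq_span hE hspan⟩⟩
  · intro h
    obtain ⟨s, hs, hdeg⟩ := GradedAlgebra.exists_finset_adjoin_eq_top_and_homogeneous_ne_zero 𝒜
    exact ⟨s, (irrelevant_eq_span_of_adjoin_eq_top
      (fun e he => by obtain ⟨n, hn, hen⟩ := hdeg e he; exact ⟨n, Nat.pos_of_ne_zero hn, hen⟩) hs).symm⟩

theorem finiteType_of_isNoetherianRing [IsNoetherianRing A] : Algebra.FiniteType (𝒜 0) A :=
  irrelevant_fg_iff_finiteType.mp (IsNoetherian.noetherian _)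

variable (𝒜) in
/-- Homogeneous generators, and every homogeneous element is a combination of monomials in them of its degree. -/
theorem exists_monomial_generators [Algebra.FiniteType (𝒜 0) A] :
    ∃ (r : ℕ) (e : Fin r → A) (d : Fin r → ℕ), (∀ i, 0 < d i) ∧ (∀ i, e i ∈ 𝒜 (d i)) ∧
      Algebra.adjoin (𝒜 0) (Set.range e) = ⊤ ∧
      ∀ n, ∀ a ∈ 𝒜 n, a ∈ Submodule.span (𝒜 0)
        {b | ∃ k : Fin r → ℕ, ∑ i, k i * d i = n ∧ b = ∏ i, e i ^ k i} := by
  classical
  obtain ⟨s, hs, hdeg⟩ := GradedAlgebra.exists_finset_adjoin_eq_top_and_homogeneous_ne_zero 𝒜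
  choose dg hdg0 hdgm using hdeg
  let e : Fin s.card → A := fun i => (s.equivFin.symm i).1
  let d : Fin s.card → ℕ := fun i => dg _ (s.equivFin.symm i).2
  have hrange : Set.range e = (s : Set A) := by
    ext a
    exact ⟨by rintro ⟨i, rfl⟩; exact (s.equivFin.symm i).2, fun ha => ⟨s.equivFin ⟨a, ha⟩, by simp [e]⟩⟩
  refine ⟨s.card, e, d, fun i => Nat.pos_of_ne_zero (hdg0 _ _), fun i => hdgm _ _, hrange ▸ hs, fun n a ha => ?_⟩
  have haadj : a ∈ Algebra.adjoin (𝒜 0) (Set.range e) := by rw [hrange, hs]; trivial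
  rw [Algebra.adjoin_range_eq_range_aeval, AlgHom.mem_range] at haadj
  obtain ⟨P, hP⟩ := haadj
  rw [← DirectSum.decompose_of_mem_same 𝒜 ha, ← hP]
  conv in MvPolynomial.aeval e P => rw [P.as_sum, map_sum]
  rw [DirectSum.decompose_sum, DFinsupp.finsetSum_apply, AddSubmonoidClass.coe_finsetSum]
  refine Submodule.sum_mem _ fun v _ => ?_
  rw [MvPolynomial.aeval_monomial, Finsupp.prod_fintype _ _ (fun i => pow_zero (e i))]
  have hmon : ∏ i, e i ^ v i ∈ 𝒜 (∑ i, v i * d i) := by
    have := SetLike.prod_mem_graded 𝒜 (fun i => v i • d i) (fun i => e i ^ v i) (F := Finset.univ) fun i _ => SetLike.pow_mem_graded (v i) (hdgm _ (s.equivFin.symm i).2)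
    simpa [mul_comm] using this
  rw [show algebraMap (𝒜 0) A (P.coeff v) = ((P.coeff v : 𝒜 0) : A) from rfl,
    DirectSum.coe_decompose_mul_of_left_mem_zero 𝒜 (P.coeff v).2]
  by_cases hn : ∑ i, v i * d i = n
  · rw [DirectSum.decompose_of_mem_same 𝒜 (hn ▸ hmon)]
    exact Submodule.smul_mem _ (P.coeff v) (Submodule.subset_span ⟨fun i => v i, hn, rfl⟩)
  · rw [DirectSum.decompose_of_mem_ne 𝒜 hmon hn, mul_zero]
    exact zero_mem _

end Groth.Agent.EGA73
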