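import Groth.Agent.EGA73.GradedFinite

/-!
Growth of the homogeneous pieces of a graded algebra of finite type over its degree-zero part.
-/

universe u

namespace Groth.Agent.EGA73

variable {R A : Type u} [CommRing R] [CommRing A] [Algebra R A] (𝒜 : ℕ → Submodule R A) [GradedAlgebra 𝒜]

theorem prod_pow_mem {r : ℕ} {e : Fin r → A} {d : Fin r → ℕ} (he : ∀ i, e i ∈ 𝒜 (d i)) (k : Fin r → ℕ) :
    ∏ i, e i ^ k i ∈ 𝒜 (∑ i, k i * d i) := by
  have := SetLike.prod_pow_mem_graded 𝒜 d e (F := Finset.univ) k fun i _ => he i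
  simpa only [smul_eq_mul] using this

/-- Pieces of large degree lie in high powers of the irrelevant ideal. -/
theorem exists_subset_irrelevant_pow [Algebra.FiniteType (𝒜 0) A] (n : ℕ) :
    ∃ m₀ : ℕ, ∀ m : ℕ, m₀ ≤ m → ∀ a ∈ 𝒜 m, a ∈ (HomogeneousIdeal.irrelevant 𝒜).toIdeal ^ n := by
  obtain ⟨r, e, d, hd, he, -, hmon⟩ := exists_monomial_generators 𝒜
  refine ⟨n * (Finset.univ.sup d + 1), fun m hm a ha => ?_⟩
  refine (Submodule.span_le (p := Submodule.restrictScalars (𝒜 0)
    ((HomogeneousIdeal.irrelevant 𝒜).toIdeal ^ n : Ideal A))).mpr ?_ (hmon m a ha)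
  rintro _ ⟨k, hk, rfl⟩
  have hn : n ≤ ∑ i, k i := by
    have h1 : ∑ i, k i * d i ≤ (∑ i, k i) * (Finset.univ.sup d + 1) := by
      rw [Finset.sum_mul]
      exact Finset.sum_le_sum fun i _ => Nat.mul_le_mul le_rfl
        (Nat.le_succ_of_le (Finset.le_sup (f := d) (Finset.mem_univ i)))
    exact Nat.le_of_mul_le_mul_right ((hm.trans_eq hk.symm).trans h1) (Nat.succ_pos _)
  refine Ideal.pow_le_pow_right hn ?_
  rw [← Finset.prod_pow_eq_pow_sum]
  exact Ideal.prod_mem_prod fun i _ =>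
    Ideal.pow_mem_pow (HomogeneousIdeal.mem_irrelevant_of_mem 𝒜 (hd i) (he i)) _

theorem zero_smul_mem_mul (i : ℕ) (P : Submodule R A) {a : A} (ha : a ∈ 𝒜 i * P) (c : 𝒜 0) :
    c • a ∈ 𝒜 i * P := by
  refine Submodule.mul_induction_on (C := fun a => c • a ∈ 𝒜 i * P) ha (fun x hx y hy => ?_) fun x y hx hy => ?_
  · rw [← smul_mul_assoc]
    refine Submodule.mul_mem_mul ?_ hy
    have := SetLike.mul_mem_graded c.2 hx
    rwa [zero_add] at this
  · show (c : A) * (x + y) ∈ _
    rw [mul_add]; exact add_mem hx hy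

/-- There is `L > 0` such that in large degrees a factor of degree `L` splits off. -/
theorem exists_split_degree [Algebra.FiniteType (𝒜 0) A] :
    ∃ (L N : ℕ), 0 < L ∧ ∀ n, N ≤ n → 𝒜 (n + L) ≤ 𝒜 L * 𝒜 n := by
  obtain ⟨r, e, d, hd, he, -, hmon⟩ := exists_monomial_generators 𝒜
  have hL : 0 < ∏ i, d i := Finset.prod_pos fun i _ => hd i
  refine ⟨∏ i, d i, r * ∏ i, d i, hL, fun n hn a ha => ?_⟩
  generalize hLdef : (∏ i, d i) = L at *
  let P : Submodule (𝒜 0) A :=
    { carrier := (𝒜 L * 𝒜 n : Submodule R A)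
      add_mem' := fun h h' => add_mem h h'
      zero_mem' := zero_mem _
      smul_mem' := fun c _ h => zero_smul_mem_mul 𝒜 L _ h c }
  refine (Submodule.span_le (p := P)).mpr ?_ (hmon _ a ha)
  rintro _ ⟨k, hk, rfl⟩
  show ∏ i, e i ^ k i ∈ 𝒜 L * 𝒜 n
  obtain ⟨i, hi⟩ : ∃ i, L ≤ k i * d i := by
    by_contra hcon
    push Not at hcon
    have : ∑ i, k i * d i ≤ r * L :=
      (Finset.sum_le_sum fun i _ => (hcon i).le).trans_eq (by simp)
    omega
  have hdi : d i ∣ L := hLdef ▸ Finset.dvd_prod_of_mem d (Finset.mem_univ i)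
  have hqd : L / d i * d i = L := Nat.div_mul_cancel hdi
  have hq : L / d i ≤ k i := Nat.le_of_mul_le_mul_right (by rw [hqd]; exact hi) (hd i)
  have hsplit : ∏ j, e j ^ k j = e i ^ (L / d i) * ∏ j, e j ^ (Function.update k i (k i - L / d i) j) := by
    rw [← Finset.mul_prod_erase _ _ (Finset.mem_univ i), ← Finset.mul_prod_erase _ _ (Finset.mem_univ i),
      ← mul_assoc, Function.update_self, ← pow_add, Nat.add_sub_cancel' hq]
    congr 1
    exact Finset.prod_congr rfl fun j hj => by rw [Function.update_of_ne (Finset.ne_of_mem_erase hj)]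
  have hsum : ∑ j, Function.update k i (k i - L / d i) j * d j = n := by
    rw [← Finset.add_sum_erase _ _ (Finset.mem_univ i), Function.update_self]
    rw [← Finset.add_sum_erase _ _ (Finset.mem_univ i)] at hk
    have : ∑ j ∈ Finset.univ.erase i, Function.update k i (k i - L / d i) j * d j
        = ∑ j ∈ Finset.univ.erase i, k j * d j :=
      Finset.sum_congr rfl fun j hj => by rw [Function.update_of_ne (Finset.ne_of_mem_erase hj)]
    rw [this, Nat.sub_mul, hqd]
    omega
  rw [hsplit]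
  refine Submodule.mul_mem_mul ?_ (hsum ▸ prod_pow_mem 𝒜 he _)
  have := SetLike.pow_mem_graded (L / d i) (he i)
  rwa [smul_eq_mul, hqd] at this

theorem mul_graded_le (i j : ℕ) : 𝒜 i * 𝒜 j ≤ 𝒜 (i + j) :=
  Submodule.mul_le.mpr fun _ ha _ hb => SetLike.mul_mem_graded ha hb

theorem le_mul_of_split {L N : ℕ} (h : ∀ n, N ≤ n → 𝒜 (n + L) ≤ 𝒜 L * 𝒜 n) :
    ∀ j n, N ≤ n → 𝒜 (n + j * L) ≤ 𝒜 (j * L) * 𝒜 n := by
  intro j
  induction j with
  | zero =>
    intro n _ a ha
    rw [Nat.zero_mul, Nat.add_zero] at ha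
    rw [← one_mul a]
    exact Submodule.mul_mem_mul (by rw [Nat.zero_mul]; exact SetLike.one_mem_graded 𝒜) ha
  | succ j ih =>
    intro n hn
    calc 𝒜 (n + (j + 1) * L) = 𝒜 (n + j * L + L) := by rw [Nat.succ_mul, Nat.add_assoc]
      _ ≤ 𝒜 L * 𝒜 (n + j * L) := h _ (by omega)
      _ ≤ 𝒜 L * (𝒜 (j * L) * 𝒜 n) := mul_le_mul' le_rfl (ih n hn)
      _ = (𝒜 L * 𝒜 (j * L)) * 𝒜 n := (mul_assoc _ _ _).symm
      _ ≤ 𝒜 ((j + 1) * L) * 𝒜 n := by
          refine mul_le_mul' ?_ le_rfl
          rw [Nat.succ_mul, Nat.add_comm (j * L)]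
          exact mul_graded_le 𝒜 _ _

/-- Some `h > 0` generates the `h`-th Veronese subring in degree one. -/
theorem exists_pow_degree [Algebra.FiniteType (𝒜 0) A] :
    ∃ h : ℕ, 0 < h ∧ ∀ m : ℕ, 0 < m → 𝒜 (m * h) = (𝒜 h : Submodule R A) ^ m := by
  obtain ⟨L, N, hL, hN⟩ := exists_split_degree 𝒜
  refine ⟨(N + 1) * L, by positivity, fun m hm => ?_⟩
  induction m with
  | zero => omega
  | succ m ih =>
    rcases Nat.eq_zero_or_pos m with rfl | hm'
    · rw [zero_add, one_mul, pow_one]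
    rw [pow_succ', ← ih hm']
    have hsucc : (m + 1) * ((N + 1) * L) = m * ((N + 1) * L) + (N + 1) * L := by ring
    refine le_antisymm ?_ ?_
    · rw [hsucc]
      refine le_mul_of_split 𝒜 hN _ _ ?_
      calc N ≤ N + 1 := Nat.le_succ _
        _ = 1 * ((N + 1) * 1) := by ring
        _ ≤ m * ((N + 1) * L) := by gcongr; omega; omega
    · rw [hsucc, Nat.add_comm (m * _)]
      exact mul_graded_le 𝒜 _ _

/-- Large degrees of a finitely generated graded module are `𝒜 L` times lower degrees. -/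
theorem exists_smul_degree [Algebra.FiniteType (𝒜 0) A] {M : Type u} [AddCommGroup M] [Module R M]
    [Module A M] [IsScalarTower R A M] (ℳ : ℕ → Submodule R M) [DirectSum.Decomposition ℳ]
    [SetLike.GradedSMul 𝒜 ℳ] [Module.Finite A M] :
    ∃ (n₁ h : ℕ), 0 < h ∧ ∀ n : ℕ, n₁ ≤ n → ℳ (n + h) = (𝒜 h : Submodule R A) • (ℳ n : Submodule R M) := by
  classical
  obtain ⟨L, N, hL, hN⟩ := exists_split_degree 𝒜
  obtain ⟨G, hG⟩ := Module.Finite.fg_top (R := A) (M := M)
  let D := G.sup fun g => (DirectSum.decompose ℳ g).support.sup id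
  refine ⟨N + D, L, hL, fun n hn => le_antisymm ?_ (Submodule.smul_le.mpr fun a ha m hm => ?_)⟩
  · intro m hm
    have hmem : m ∈ Submodule.span A (G : Set M) := by rw [hG]; trivial
    obtain ⟨c, hc, hsum⟩ := Submodule.mem_span_set.mp hmem
    rw [← DirectSum.decompose_of_mem_same ℳ hm, ← hsum, Finsupp.sum, DirectSum.decompose_sum,
      DFinsupp.finsetSum_apply, AddSubmonoidClass.coe_finsetSum]
    refine Submodule.sum_mem _ fun g hg => ?_
    rw [show c g • g = ∑ j ∈ (DirectSum.decompose ℳ g).support, c g • (DirectSum.decompose ℳ g j : M) by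
        rw [← Finset.smul_sum, DirectSum.sum_support_decompose ℳ g],
      DirectSum.decompose_sum, DFinsupp.finsetSum_apply, AddSubmonoidClass.coe_finsetSum]
    refine Submodule.sum_mem _ fun j hj => ?_
    rw [show c g • (DirectSum.decompose ℳ g j : M) = ∑ i ∈ (DirectSum.decompose 𝒜 (c g)).support,
          (DirectSum.decompose 𝒜 (c g) i : A) • (DirectSum.decompose ℳ g j : M) by
        rw [← Finset.sum_smul, DirectSum.sum_support_decompose 𝒜 (c g)],
      DirectSum.decompose_sum, DFinsupp.finsetSum_apply, AddSubmonoidClass.coe_finsetSum]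
    refine Submodule.sum_mem _ fun i _ => ?_
    have hdeg : (DirectSum.decompose 𝒜 (c g) i : A) • (DirectSum.decompose ℳ g j : M) ∈ ℳ (i + j) :=
      SetLike.GradedSMul.smul_mem (A := 𝒜) (B := ℳ) (SetLike.coe_mem _) (SetLike.coe_mem _)
    by_cases hij : i + j = n + L
    · rw [DirectSum.decompose_of_mem_same ℳ (hij ▸ hdeg)]
      have hjD : j ≤ D := (Finset.le_sup (f := id) hj).trans
        (Finset.le_sup (f := fun g => (DirectSum.decompose ℳ g).support.sup id) (hc hg))
      have hi : (DirectSum.decompose 𝒜 (c g) i : A) ∈ 𝒜 L * 𝒜 (n - j) :=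
        hN (n - j) (by omega) (by rw [show n - j + L = i by omega]; exact SetLike.coe_mem _)
      generalize (DirectSum.decompose 𝒜 (c g) i : A) = a at hi ⊢
      refine Submodule.mul_induction_on hi (fun x hx y hy => ?_) fun x y hx hy => ?_
      · rw [mul_smul]
        refine Submodule.smul_mem_smul hx ?_
        have := SetLike.GradedSMul.smul_mem (B := ℳ) hy (SetLike.coe_mem (DirectSum.decompose ℳ g j))
        rwa [vadd_eq_add, show n - j + j = n by omega] at this
      · rw [add_smul]; exact add_mem hx hy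
    · rw [DirectSum.decompose_of_mem_ne ℳ hdeg hij]
      exact zero_mem _
  · rw [Nat.add_comm]
    exact SetLike.GradedSMul.smul_mem ha hm

end Groth.Agent.EGA73
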