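import Groth.Agent.EGA73.ProjMorph

/-!
The quotient of a graded algebra by a homogeneous ideal.
-/

set_option autoImplicit false

universe u

open DirectSum

noncomputable section

namespace Groth.Agent.EGA73.GradedQuot

variable {R A : Type u} [CommRing R] [CommRing A] [Algebra R A] (𝒜 : ℕ → Submodule R A) [GradedAlgebra 𝒜]
  (I : HomogeneousIdeal 𝒜)

/-- The grading of the quotient. -/
def grading (n : ℕ) : Submodule R (A ⧸ I.toIdeal) :=
  (𝒜 n).map (Ideal.Quotient.mkₐ R I.toIdeal).toLinearMap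

theorem mk_mem {n : ℕ} {a : A} (ha : a ∈ 𝒜 n) : Ideal.Quotient.mk I.toIdeal a ∈ grading 𝒜 I n :=
  ⟨a, ha, rfl⟩

instance gradedMonoid : SetLike.GradedMonoid (grading 𝒜 I) where
  one_mem := ⟨1, SetLike.GradedOne.one_mem, map_one (Ideal.Quotient.mkₐ R I.toIdeal)⟩
  mul_mem {i j a b} ha hb := by
    obtain ⟨a, ha', rfl⟩ := ha
    obtain ⟨b, hb', rfl⟩ := hb
    exact ⟨a * b, SetLike.mul_mem_graded ha' hb', map_mul (Ideal.Quotient.mkₐ R I.toIdeal) a b⟩

/-- The components of an element, in the quotient. -/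
def comps : A →+* ⨁ n, grading 𝒜 I n :=
  (DirectSum.toSemiring
    (fun n => AddMonoidHom.mk'
      (fun a : 𝒜 n => DirectSum.of (fun k => grading 𝒜 I k) n ⟨Ideal.Quotient.mk I.toIdeal a, mk_mem 𝒜 I a.2⟩)
      (fun a b => by rw [← map_add]; rfl))
    rfl
    (fun {i j} a b => by
      show DirectSum.of (fun k => grading 𝒜 I k) (i + j) ⟨Ideal.Quotient.mk I.toIdeal (a * b : A), _⟩ =
        DirectSum.of (fun k => grading 𝒜 I k) i ⟨Ideal.Quotient.mk I.toIdeal a, mk_mem 𝒜 I a.2⟩ *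
          DirectSum.of (fun k => grading 𝒜 I k) j ⟨Ideal.Quotient.mk I.toIdeal b, mk_mem 𝒜 I b.2⟩
      rw [DirectSum.of_mul_of]
      congr 1)).comp (DirectSum.decomposeRingEquiv 𝒜).toRingHom

theorem comps_mem {n : ℕ} {a : A} (ha : a ∈ 𝒜 n) :
    comps 𝒜 I a = DirectSum.of (fun k => grading 𝒜 I k) n ⟨Ideal.Quotient.mk I.toIdeal a, mk_mem 𝒜 I ha⟩ := by
  rw [comps, RingHom.comp_apply, RingEquiv.toRingHom_eq_coe, RingEquiv.coe_toRingHom,
    show DirectSum.decomposeRingEquiv 𝒜 a = DirectSum.of (fun i => 𝒜 i) n ⟨a, ha⟩ from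
      DirectSum.decompose_of_mem 𝒜 ha, DirectSum.toSemiring_of]
  rfl

theorem comps_eq_zero (a : A) (ha : a ∈ I.toIdeal) : comps 𝒜 I a = 0 := by
  classical
  rw [← DirectSum.sum_support_decompose 𝒜 a, map_sum]
  refine Finset.sum_eq_zero fun n _ => ?_
  rw [comps_mem 𝒜 I (SetLike.coe_mem _)]
  have h0 : (⟨Ideal.Quotient.mk I.toIdeal (DirectSum.decompose 𝒜 a n : A), mk_mem 𝒜 I (SetLike.coe_mem _)⟩ :
      grading 𝒜 I n) = 0 := Subtype.ext (Ideal.Quotient.eq_zero_iff_mem.2 (I.isHomogeneous n ha))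
  rw [h0, map_zero]

instance gradedAlgebra : GradedAlgebra (grading 𝒜 I) where
  toGradedMonoid := gradedMonoid 𝒜 I
  decompose' := Ideal.Quotient.lift I.toIdeal (comps 𝒜 I) (comps_eq_zero 𝒜 I)
  left_inv x := by
    obtain ⟨a, rfl⟩ := Ideal.Quotient.mk_surjective x
    rw [Ideal.Quotient.lift_mk]
    induction a using DirectSum.Decomposition.inductionOn 𝒜 with
    | zero => rw [map_zero, map_zero, map_zero]
    | homogeneous b => rw [comps_mem 𝒜 I b.2, DirectSum.coeAddMonoidHom_of]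
    | add b c hb hc => rw [map_add, map_add, hb, hc, map_add]
  right_inv x := by
    induction x using DirectSum.induction_on with
    | zero => rw [map_zero, map_zero]
    | of i y =>
      obtain ⟨_, a, ha, rfl⟩ := y
      rw [DirectSum.coeAddMonoidHom_of]
      show Ideal.Quotient.lift I.toIdeal (comps 𝒜 I) _ (Ideal.Quotient.mk I.toIdeal a) = _
      rw [Ideal.Quotient.lift_mk, comps_mem 𝒜 I ha]
      rfl
    | add u v hu hv => rw [map_add, map_add, hu, hv]

/-- The quotient map. -/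
def hom : 𝒜 →+*ᵍ grading 𝒜 I where
  __ := Ideal.Quotient.mk I.toIdeal
  map_mem := fun {_ _} h => mk_mem 𝒜 I h

theorem hom_apply (a : A) : hom 𝒜 I a = Ideal.Quotient.mk I.toIdeal a := rfl

theorem hom_surjective : Function.Surjective (hom 𝒜 I) := Ideal.Quotient.mk_surjective

theorem irrelevant_le : HomogeneousIdeal.irrelevant (grading 𝒜 I) ≤ (HomogeneousIdeal.irrelevant 𝒜).map (hom 𝒜 I) := by
  intro b hb
  obtain ⟨a, rfl⟩ := hom_surjective 𝒜 I b
  have h0 : hom 𝒜 I (DirectSum.decompose 𝒜 a 0) = 0 := by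
    have := (HomogeneousIdeal.mem_irrelevant_iff _ _).1 hb
    rwa [GradedRing.proj_apply, ← GradedRingHom.map_directSumDecompose] at this
  have hmem : a - DirectSum.decompose 𝒜 a 0 ∈ HomogeneousIdeal.irrelevant 𝒜 := by
    rw [HomogeneousIdeal.mem_irrelevant_iff, GradedRing.proj_apply, DirectSum.decompose_sub]
    show ((DirectSum.decompose 𝒜 a 0 : A) - (DirectSum.decompose 𝒜 (DirectSum.decompose 𝒜 a 0 : A) 0 : A)) = 0
    rw [DirectSum.decompose_of_mem_same 𝒜 (SetLike.coe_mem _), sub_self]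
  have := Ideal.mem_map_of_mem (hom 𝒜 I) hmem
  rw [map_sub, h0, sub_zero] at this
  exact this

end Groth.Agent.EGA73.GradedQuot
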