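import Groth.Agent.EGA73.GradedBasics
import Mathlib.RingTheory.Nilpotent.Lemmas

/-!
Vanishing of homogeneous elements on `Proj` and nilpotence.
-/

universe u

open TopologicalSpace

namespace Groth.Agent.EGA73

variable {R A : Type u} [CommRing R] [CommRing A] [Algebra R A] {𝒜 : ℕ → Submodule R A} [GradedAlgebra 𝒜]

theorem decompose_zero_eq_zero {a : A} (ha : a ∈ (HomogeneousIdeal.irrelevant 𝒜).toIdeal) :
    (DirectSum.decompose 𝒜 a 0 : A) = 0 := by
  have h := (HomogeneousIdeal.mem_irrelevant_iff 𝒜 a).mp ha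
  rwa [GradedRing.proj_apply] at h

/-- An element of the irrelevant ideal lies in an ideal as soon as its positive components do. -/
theorem mem_of_pos_components {I : Ideal A} {a : A} (ha : a ∈ (HomogeneousIdeal.irrelevant 𝒜).toIdeal)
    (h : ∀ i, 0 < i → (DirectSum.decompose 𝒜 a i : A) ∈ I) : a ∈ I := by
  classical
  rw [← DirectSum.sum_support_decompose 𝒜 a]
  refine Ideal.sum_mem _ fun i _ => ?_
  rcases Nat.eq_zero_or_pos i with rfl | hi
  · rw [decompose_zero_eq_zero ha]
    exact zero_mem _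
  · exact h i hi

/-- An element of the irrelevant ideal vanishing at every point containing a homogeneous `I` is in `rad I`. -/
theorem mem_radical_of_irrelevant {I : Ideal A} (hI : I.IsHomogeneous 𝒜) {a : A}
    (ha : a ∈ (HomogeneousIdeal.irrelevant 𝒜).toIdeal)
    (h : ∀ x : ProjectiveSpectrum 𝒜, I ≤ x.asHomogeneousIdeal.toIdeal → a ∈ x.asHomogeneousIdeal) :
    a ∈ I.radical :=
  mem_of_pos_components ha fun i hi => mem_radical_of_forall_mem 𝒜 hI hi (SetLike.coe_mem _) fun x hx =>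
    x.asHomogeneousIdeal.isHomogeneous i (h x hx)

/-- An element of the irrelevant ideal vanishing everywhere is nilpotent. -/
theorem isNilpotent_of_forall_mem {a : A} (ha : a ∈ (HomogeneousIdeal.irrelevant 𝒜).toIdeal)
    (h : ∀ x : ProjectiveSpectrum 𝒜, a ∈ x.asHomogeneousIdeal) : IsNilpotent a :=
  mem_nilradical.mp (mem_radical_of_irrelevant (Ideal.IsHomogeneous.bot 𝒜) ha fun x _ => h x)

theorem mem_point_of_isNilpotent {a : A} (ha : IsNilpotent a) (x : ProjectiveSpectrum 𝒜) :
    a ∈ x.asHomogeneousIdeal := by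
  obtain ⟨n, hn⟩ := ha
  exact x.isPrime.mem_of_pow_mem n (hn ▸ zero_mem _)

/-- If `D₊(f)` and `D₊(g)` are disjoint, then `f g` is nilpotent. -/
theorem isNilpotent_mul_of_disjoint {i j : ℕ} (hi : 0 < i) {f g : A} (hf : f ∈ 𝒜 i) (hg : g ∈ 𝒜 j)
    (h : ∀ x : ProjectiveSpectrum 𝒜, f ∈ x.asHomogeneousIdeal ∨ g ∈ x.asHomogeneousIdeal) :
    IsNilpotent (f * g) :=
  isNilpotent_of_forall_mem
    (HomogeneousIdeal.mem_irrelevant_of_mem 𝒜 (Nat.add_pos_left hi j) (SetLike.mul_mem_graded hf hg))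
    fun x => (h x).elim (fun e => Ideal.mul_mem_right _ _ e) fun e => Ideal.mul_mem_left _ _ e

end Groth.Agent.EGA73
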