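import Groth.Agent.Amp73.Avoid
import Groth.Agent.Amp73.PullTensor
import Groth.Agent.Amp73.Local
import Groth.Agent.Amp73.Powers
import Mathlib.AlgebraicGeometry.Morphisms.Finite
import Mathlib.AlgebraicGeometry.Morphisms.QuasiFinite

/-!
Weak norms for a morphism and descent of ampleness along a finite morphism carrying one.
-/

universe u

open CategoryTheory CategoryTheory.Limits AlgebraicGeometry Opposite TopologicalSpace

noncomputable section

namespace Groth.Agent.EGA73

open Var76.LineBundle Var76.ZeroScheme Amp73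

variable {X Y : Scheme.{u}}

/-- Multiplicative maps to the functions on the target such that a value invertible at `y` comes from a
function invertible at some point over `y`. -/
structure WNorm (π : X ⟶ Y) where
  norm : ∀ U : Y.Opens, Γ(X, π ⁻¹ᵁ U) →* Γ(Y, U)
  norm_res : ∀ {U V : Y.Opens} (h : V ≤ U) (s : Γ(X, π ⁻¹ᵁ U)),
    fres h (norm U s) = norm V (fres (π.preimage_mono h) s)
  norm_fibre : ∀ (U : Y.Opens) (s : Γ(X, π ⁻¹ᵁ U)) (y : Y),
    y ∈ Y.basicOpen (norm U s) → ∃ x ∈ X.basicOpen s, π x = y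

/-- A weak norm of degree `d`. -/
structure FNorm (π : X ⟶ Y) (d : ℕ) extends WNorm π where
  one_le : 1 ≤ d
  norm_app : ∀ (U : Y.Opens) (g : Γ(Y, U)), norm U (π.app U g) = g ^ d

namespace WNorm

variable {π : X ⟶ Y} (N : WNorm π)
include N

theorem surjective : Surjective π := by
  refine ⟨fun y => ?_⟩
  obtain ⟨x, -, hx⟩ := N.norm_fibre ⊤ 1 y (by rw [map_one, Scheme.basicOpen_of_isUnit _ isUnit_one]; trivial)
  exact ⟨x, hx⟩

theorem mem_basicOpen_norm (hc : IsClosedMap π) {U : Y.Opens} {s : Γ(X, π ⁻¹ᵁ U)} {y : Y}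
    (hy : y ∈ U) (h : ∀ x, π x = y → x ∈ X.basicOpen s) : y ∈ Y.basicOpen (N.norm U s) := by
  let V : Y.Opens := U ⊓ ⟨(π '' ((X.basicOpen s : X.Opens) : Set X)ᶜ)ᶜ,
    (hc _ (X.basicOpen s).2.isClosed_compl).isOpen_compl⟩
  have hle : π ⁻¹ᵁ V ≤ X.basicOpen s := fun x hx => by
    by_contra hxs
    exact hx.2 ⟨x, hxs, rfl⟩
  have hu : IsUnit (fres (π.preimage_mono (inf_le_left : V ≤ U)) s) := by
    have h1 : IsUnit (fres (X.basicOpen_le s) s) := RingedSpace.isUnit_res_basicOpen _ s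
    have h2 := h1.map (X.presheaf.map (homOfLE hle).op).hom
    rwa [← show fres hle (fres (X.basicOpen_le s) s) = fres (π.preimage_mono (inf_le_left : V ≤ U)) s from
      fres_fres _ _ s]
  have hyV : y ∈ V := ⟨hy, fun ⟨x, hx, hxy⟩ => hx (h x hxy)⟩
  have h3 := hu.map (N.norm V)
  rw [← N.norm_res (inf_le_left : V ≤ U)] at h3
  have h4 : V ⊓ Y.basicOpen (N.norm U s) = V :=
    (Y.basicOpen_res (N.norm U s) (homOfLE inf_le_left).op).symm.trans (Scheme.basicOpen_of_isUnit _ h3)
  exact (h4.ge hyV).2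

end WNorm

namespace FNorm

variable {π : X ⟶ Y} {d : ℕ} (N : FNorm π d)
include N

/-- The norm of a section. -/
theorem exists_section_norm (hc : IsClosedMap π) {M : Y.Modules} (hM : PicF.IsInvertible M)
    (t : Coh.structureModule X ⟶ (Scheme.Modules.pullback π).obj M) :
    ∃ s : Coh.structureModule Y ⟶ CohB1.tensorPow M d,
      (∀ y, (∀ x, π x = y → x ∈ CohB1.genLocus _ t) → y ∈ CohB1.genLocus _ s) ∧
        ∀ y ∈ CohB1.genLocus _ s, ∃ x ∈ CohB1.genLocus _ t, π x = y := by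
  choose V hyV _ e he using fun y : Y => Mero90.exists_affine_frame hM y ⊤ trivial
  have hpe := fun y => isFrame_pullS π hM (he y)
  choose a ha using fun y => exists_coord t (hpe y)
  let σ : ∀ y, Γ(CohB1.tensorPow M d, (V y).1) := fun y => N.norm _ (a y) • epow (e y) d
  have hσ : ∀ y y', res (CohB1.tensorPow M d) (inf_le_left : (V y).1 ⊓ (V y').1 ≤ (V y).1) (σ y) =
      res (CohB1.tensorPow M d) (inf_le_right : (V y).1 ⊓ (V y').1 ≤ (V y').1) (σ y') := by
    intro y y'
    let W := (V y).1 ⊓ (V y').1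
    let hl : W ≤ (V y).1 := inf_le_left
    let hr : W ≤ (V y').1 := inf_le_right
    obtain ⟨c, hc'⟩ := (he y W hl).2 (res M hr (e y'))
    dsimp only at hc'
    have hP : res _ (π.preimage_mono hr) (pullS π M _ (e y')) =
        π.app W c • res _ (π.preimage_mono hl) (pullS π M _ (e y)) := by
      rw [res_pullS π M hr, res_pullS π M hl, ← hc', pullS_smul]
    have h1 := congrArg (res _ (π.preimage_mono hl)) (ha y)
    have h2 := congrArg (res _ (π.preimage_mono hr)) (ha y')
    rw [res_smul, res_val] at h1 h2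
    rw [hP, smul_smul] at h2
    have h3 : fres (π.preimage_mono hl) (a y) = fres (π.preimage_mono hr) (a y') * π.app W c :=
      (hpe y (π ⁻¹ᵁ W) (π.preimage_mono hl)).1 (h1.trans h2.symm)
    show res _ hl (σ y) = res _ hr (σ y')
    dsimp only [σ]
    rw [res_smul, res_smul, res_epow, res_epow, ← hc', epow_smul, smul_smul]
    congr 1
    show fres hl (N.norm _ (a y)) = fres hr (N.norm _ (a y')) * c ^ d
    rw [N.norm_res hl, N.norm_res hr, h3, map_mul, N.norm_app]
  obtain ⟨S, hS, -⟩ := TopCat.Sheaf.existsUnique_gluing'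
    (⟨(CohB1.tensorPow M d).presheaf, (CohB1.tensorPow M d).isSheaf⟩ : TopCat.Sheaf _ Y.toTopCat)
    (fun y => (V y).1) ⊤ (fun _ => homOfLE le_top) (fun y _ => Opens.mem_iSup.2 ⟨y, hyV y⟩) σ hσ
  let s := Var76.Frames.ofSection (CohB1.tensorPow M d) S
  have hs : ∀ y, N.norm _ (a y) • epow (e y) d = val _ s (V y).1 := fun y => by
    rw [Var76.Frames.val_ofSection]
    exact (hS y).symm
  refine ⟨s, fun y h => ?_, fun y hy => ?_⟩
  · have hy : y ∈ Y.basicOpen (N.norm _ (a y)) := N.mem_basicOpen_norm hc (hyV y) fun x hx =>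
      (genLocus_inf_eq_basicOpen t (hpe y) (ha y)).le ⟨h x hx, show π x ∈ (V y).1 from hx ▸ hyV y⟩
    exact ((genLocus_inf_eq_basicOpen s (isFrame_epow (he y) d) (hs y)).ge hy).1
  · have h := (genLocus_inf_eq_basicOpen s (isFrame_epow (he y) d) (hs y)).le ⟨hy, hyV y⟩
    obtain ⟨x, hx, hxy⟩ := N.norm_fibre _ (a y) y h
    exact ⟨x, ((genLocus_inf_eq_basicOpen t (hpe y) (ha y)).ge hx).1, hxy⟩

theorem exists_genSet_norm (hc : IsClosedMap π) {M : Y.Modules} (hM : PicF.IsInvertible M)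
    {G : X.Opens} (hG : G ∈ GenSet ((Scheme.Modules.pullback π).obj M)) :
    ∃ H ∈ GenSet M, (∀ y, (∀ x, π x = y → x ∈ G) → y ∈ H) ∧ ∀ y ∈ H, ∃ x ∈ G, π x = y := by
  obtain ⟨n, t, rfl⟩ := hG
  have hMn := EGA73.isInvertible_tensorPow hM (n + 1)
  obtain ⟨s, h1, h2⟩ := N.exists_section_norm hc hMn (t ≫ (pullPowIso π hM (n + 1)).inv)
  rw [genLocus_comp_iso] at h1 h2
  have hd : d - 1 + 1 = d := Nat.sub_add_cancel N.one_le
  refine ⟨_, mem_genSet_of_tensorPow (Nat.succ_pos n) ⟨d - 1, s ≫ eqToHom (congrArg _ hd.symm), rfl⟩, ?_, ?_⟩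
  all_goals rw [genLocus_comp_iso]
  · exact h1
  · exact h2

/-- Ampleness descends along a finite morphism with a norm. -/
theorem isAmple [IsFinite π] {M : Y.Modules} (hM : PicF.IsInvertible M)
    (h : CohB1.IsAmple ((Scheme.Modules.pullback π).obj M)) : CohB1.IsAmple M := by
  have := h.2.1
  have := N.surjective
  have : CompactSpace Y := π.surjective.compactSpace π.continuous
  refine isAmple_of_le_basis hM fun y U hy => ?_
  obtain ⟨G, hG, hZG, hGU, -⟩ := exists_affine_genSet_of_finite h (π.finite_preimage_singleton y)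
    (U := π ⁻¹ᵁ U) (fun x hx => show π x ∈ U from (show π x = y from hx) ▸ hy)
  obtain ⟨H, hH, h1, h2⟩ := N.exists_genSet_norm π.isClosedMap hM hG
  refine ⟨H, hH, h1 y fun x hx => hZG hx, fun y' hy' => ?_⟩
  obtain ⟨x, hx, rfl⟩ := h2 y' hy'
  exact hGU hx

end FNorm

end Groth.Agent.EGA73
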