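import Groth.Agent.EGA73.DetNorm
import Groth.Agent.EGA73.CharpolyInt
import Groth.Agent.FlatMor66.FreeNhd
import Groth.Agent.QC70.PushFinite
import Groth.Agent.QC70.DevissageAux
import Groth.Agent.QCCohInd72.Basic
import Groth.Agent.SGA3a.MaxPts
import Groth.Agent.SGA3a.DominantHom
import Groth.Agent.Cyc90.Gen
import Mathlib.RingTheory.Ideal.GoingUp
import Mathlib.LinearAlgebra.Matrix.Charpoly.Coeff

/-!
The norm of a finite morphism to a reduced Noetherian scheme whose points are normal or have a neighbourhood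
over which the direct image is free.
-/

set_option autoImplicit false
set_option linter.style.haveILetI false
set_option backward.isDefEq.respectTransparency.types false

universe u

open CategoryTheory CategoryTheory.Limits AlgebraicGeometry Opposite TopologicalSpace Polynomial

noncomputable section

namespace Groth.Agent.EGA73

open Var76.ZeroScheme

variable {X X' : Scheme.{u}}

/-- Maximal for generization. -/
def MaxPt (η : X) : Prop := ∀ z, z ⤳ η → z = η

theorem germ_fres {U V : X.Opens} (h : V ≤ U) (a : Γ(X, U)) {y : X} (hy : y ∈ V) :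
    X.presheaf.germ V y hy (fres h a) = X.presheaf.germ U y (h hy) a :=
  X.presheaf.germ_res_apply (homOfLE h) y hy a

theorem exists_maxPt_specializes (x : X) : ∃ η : X, η ⤳ x ∧ MaxPt η :=
  SGA3a.exists_maximal_generalization x

theorem eq_of_germ_maxPt [IsReduced X] {U : X.Opens} (a b : Γ(X, U))
    (h : ∀ η (hη : η ∈ U), MaxPt η → X.presheaf.germ U η hη a = X.presheaf.germ U η hη b) : a = b := by
  rw [← sub_eq_zero, ← basicOpen_eq_bot_iff, eq_bot_iff]
  intro x hx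
  obtain ⟨η, hηx, hη⟩ := exists_maxPt_specializes x
  have hηB := hηx.mem_open (X.basicOpen _).2 hx
  have hu := (X.mem_basicOpen _ η (X.basicOpen_le _ hηB)).1 hηB
  rw [map_sub, h η _ hη, sub_self] at hu
  exact (not_isUnit_zero hu).elim

theorem finite_maxPt [NoetherianSpace X] : {η : X | MaxPt η}.Finite := by
  refine (genericPoints.finite NoetherianSpace.finite_irreducibleComponents).subset fun η hη => ?_
  obtain ⟨ζ, hζ⟩ := QuasiSober.sober (isIrreducible_irreducibleComponent (x := η)) isClosed_irreducibleComponent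
  have h1 : ζ ⤳ η := by
    rw [specializes_iff_mem_closure, hζ.def]
    exact mem_irreducibleComponent
  have h2 : closure {η} = irreducibleComponent η := (congrArg (fun w => closure {w}) (hη ζ h1)).symm.trans hζ.def
  show closure {η} ∈ irreducibleComponents X
  rw [h2]
  exact irreducibleComponent_mem_irreducibleComponents η

theorem maxPt_unique {y η η' : X} [IsDomain (X.presheaf.stalk y)] (h : η ⤳ y) (h' : η' ⤳ y)
    (hη : MaxPt η) (hη' : MaxPt η') : η = η' := by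
  let z : X := X.fromSpecStalk y ⟨⊥, Ideal.isPrime_bot⟩
  have key : ∀ w : X, w ⤳ y → z ⤳ w := by
    intro w hw
    obtain ⟨q, rfl⟩ : w ∈ Set.range (X.fromSpecStalk y) := by rw [Scheme.range_fromSpecStalk]; exact hw
    exact ((PrimeSpectrum.le_iff_specializes ⟨⊥, Ideal.isPrime_bot⟩ q).1 bot_le).map
      (X.fromSpecStalk y).continuous
  exact (hη z (key η h)).symm.trans (hη' z (key η' h'))

theorem exists_nhd_maxPt_unique [NoetherianSpace X] {y η : X} [IsDomain (X.presheaf.stalk y)]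
    (hηy : η ⤳ y) (hη : MaxPt η) : ∃ O : X.Opens, y ∈ O ∧ ∀ η' ∈ O, MaxPt η' → η' = η := by
  let C : Set X := ⋃ ζ ∈ {ζ : X | MaxPt ζ} \ {η}, closure {ζ}
  have hC : IsClosed C := (finite_maxPt.subset Set.sdiff_subset).isClosed_biUnion fun _ _ => isClosed_closure
  refine ⟨⟨Cᶜ, hC.isOpen_compl⟩, fun hy => ?_, fun η' hη'O hη' => ?_⟩
  · obtain ⟨ζ, hζ, hyζ⟩ := Set.mem_iUnion₂.1 hy
    exact hζ.2 (maxPt_unique (specializes_iff_mem_closure.2 hyζ) hηy hζ.1 hη)
  · by_contra hne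
    exact hη'O (Set.mem_iUnion₂.2 ⟨η', ⟨hη', hne⟩, subset_closure rfl⟩)

variable (g : X' ⟶ X)

theorem exists_isChart_maxPt [IsLocallyNoetherian X] [IsReduced X] [IsFinite g] {η : X} (hη : MaxPt η) :
    ∃ V : X.Opens, η ∈ V ∧ IsChart g V := by
  let _ := (SGA3a.isField_stalk_maximal hη).toField
  haveI : IsLocallyNoetherian X' := LocallyOfFiniteType.isLocallyNoetherian g
  have hcoh : Coh.IsCoh ((Coh.push g).obj (Coh.structureModule X')) :=
    QC70.isCoh_pushforward_of_isFinite g _ QC70.isCoh_unit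
  haveI : CohB1.IsFP ((Coh.push g).obj (Coh.structureModule X')) := QCCohInd72.isFP_of_isCoh hcoh
  obtain ⟨V, n, hηV, ⟨e⟩⟩ := FlatMor66.exists_free_nhd _ η
    (Module.Free.of_divisionRing (X.presheaf.stalk η)
      (((Coh.push g).obj (Coh.structureModule X')).presheaf.stalk η))
  obtain ⟨s, hs⟩ := Props58.LocFree.exists_stalkBasis_of_iso e
  exact ⟨V, hηV, n, s, fun W hW => hs.bijective hW⟩

/-- Normal at the point. -/
def NormalPt (y : X) : Prop := IsDomain (X.presheaf.stalk y) ∧ IsIntegrallyClosed (X.presheaf.stalk y)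

theorem exists_germ_of_isIntegral [IsReduced X] {y η : X} (hy : NormalPt y) (hηy : η ⤳ y) (hη : MaxPt η)
    (c : X.presheaf.stalk η)
    (hc : (X.presheaf.stalkSpecializes hηy).hom.IsIntegralElem c) :
    ∃ (A : X.Opens) (hyA : y ∈ A) (a : Γ(X, A)),
      X.presheaf.germ A η (hηy.mem_open A.2 hyA) a = c := by
  obtain ⟨hdom, hic⟩ := hy
  let Ry := X.presheaf.stalk y
  let K := X.presheaf.stalk η
  have hK : IsField K := SGA3a.isField_stalk_maximal hη
  letI := (X.presheaf.stalkSpecializes hηy).hom.toAlgebra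
  haveI hloc : IsLocalization.AtPrime K (Cyc90.genPrime hηy).asIdeal := Cyc90.isLocalization_genPrime hηy
  have hinj : Function.Injective (algebraMap Ry K) :=
    IsLocalization.injective K (Cyc90.genPrime hηy).asIdeal.primeCompl_le_nonZeroDivisors
  have hP : (Cyc90.genPrime hηy).asIdeal = ⊥ := by
    refine eq_bot_iff.2 fun r hr => ?_
    have hr' : ¬ IsUnit (algebraMap Ry K r) := hr
    by_contra hr0
    refine hr' ?_
    obtain ⟨i, hi⟩ := hK.mul_inv_cancel (show algebraMap Ry K r ≠ 0 from fun h0 =>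
      hr0 (hinj (h0.trans (map_zero _).symm)))
    exact IsUnit.of_mul_eq_one i hi
  haveI : IsFractionRing Ry K := by
    have e : (Cyc90.genPrime hηy).asIdeal.primeCompl = nonZeroDivisors Ry := by
      ext r
      rw [mem_nonZeroDivisors_iff_ne_zero]
      show r ∉ (Cyc90.genPrime hηy).asIdeal ↔ r ≠ 0
      rw [hP, Ideal.mem_bot]
    show IsLocalization (nonZeroDivisors Ry) K
    rw [← e]
    exact hloc
  obtain ⟨α, hα⟩ := IsIntegrallyClosed.algebraMap_eq_of_integral (R := Ry) (K := K) hc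
  obtain ⟨A, hyA, a, ha⟩ := TopCat.Presheaf.exists_germ_eq X.presheaf α
  refine ⟨A, hyA, a, ?_⟩
  rw [← hα, ← ha]
  exact (X.presheaf.germ_stalkSpecializes_apply hyA hηy a).symm

/-- A lift to a neighbourhood of a normal point of the coefficients of the characteristic polynomial of a
function at the generic point. -/
theorem exists_local_charpoly [IsNoetherian X] [IsReduced X] [IsFinite g] {U : X.Opens}
    (z : Γ(X', g ⁻¹ᵁ U)) {y η : X} (hy : NormalPt y) (hyU : y ∈ U) (hηy : η ⤳ y) (hη : MaxPt η)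
    {V₁ : X.Opens} (hηV₁ : η ∈ V₁) {n : ℕ} {s : Fin n → Γ(X', g ⁻¹ᵁ V₁)} (hs : NatBasis g s) :
    ∃ (W : X.Opens) (_ : IsAffineOpen W) (_ : y ∈ W) (hWU : W ≤ U) (a : ℕ → Γ(X, W)),
      (∀ η' ∈ W, MaxPt η' → η' = η) ∧
      fres (inf_le_left : W ⊓ V₁ ≤ W) ((-1) ^ n * a 0) =
        nrm g (W ⊓ V₁) (fres (g.preimage_mono (inf_le_left.trans hWU)) z) ∧
      ∑ i ∈ Finset.range (n + 1), g.app (W ⊓ V₁) (fres inf_le_left (a i)) *
        fres (g.preimage_mono (inf_le_left.trans hWU)) z ^ i = 0 := by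
  classical
  haveI := hy.1
  obtain ⟨W₀, hW₀, hyW₀, hW₀U⟩ := exists_isAffineOpen_mem_and_subset hyU
  let V₀ := W₀ ⊓ V₁
  let hV₀ : V₀ ≤ U := inf_le_left.trans hW₀U
  let t₀ := fres (g.preimage_mono hV₀) z
  have hs₀ : NatBasis g fun i => fres (g.preimage_mono (inf_le_right : V₀ ≤ V₁)) (s i) := hs.res g inf_le_right
  letI := (g.app W₀).hom.toAlgebra
  letI := (g.app V₀).hom.toAlgebra
  obtain ⟨b, -⟩ := hs₀.exists_basis g
  letI : Algebra Γ(X, W₀) Γ(X, V₀) :=
    (X.presheaf.map (homOfLE (inf_le_left : V₀ ≤ W₀)).op).hom.toAlgebra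
  let M := Algebra.leftMulMatrix b t₀
  haveI : Module.Finite Γ(X, W₀) Γ(X', g ⁻¹ᵁ W₀) := IsFinite.finite_app g W₀ hW₀
  obtain ⟨p, hp, hp0⟩ := Algebra.IsIntegral.isIntegral (R := Γ(X, W₀)) (fres (g.preimage_mono hW₀U) z)
  have hM : aeval M p = 0 := by
    have h1 : p.eval₂ ((algebraMap Γ(X, V₀) Γ(X', g ⁻¹ᵁ V₀)).comp (algebraMap Γ(X, W₀) Γ(X, V₀))) t₀ = 0 := by
      let r : Γ(X', g ⁻¹ᵁ W₀) →+* Γ(X', g ⁻¹ᵁ V₀) :=
        (X'.presheaf.map (homOfLE (g.preimage_mono (inf_le_left : V₀ ≤ W₀))).op).hom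
      have h2 := congrArg r hp0
      rw [hom_eval₂, map_zero] at h2
      have e1 : r.comp (algebraMap Γ(X, W₀) Γ(X', g ⁻¹ᵁ W₀)) =
          (algebraMap Γ(X, V₀) Γ(X', g ⁻¹ᵁ V₀)).comp (algebraMap Γ(X, W₀) Γ(X, V₀)) :=
        RingHom.ext fun a => (app_fres g (inf_le_left : V₀ ≤ W₀) a).symm
      have e2 : r (fres (g.preimage_mono hW₀U) z) = t₀ := fres_fres _ _ z
      rw [e1, e2] at h2
      exact h2
    let e : Γ(X', g ⁻¹ᵁ V₀) →+* Matrix (Fin n) (Fin n) Γ(X, V₀) := (Algebra.leftMulMatrix b).toRingHom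
    have h3 := congrArg e h1
    rw [hom_eval₂, map_zero] at h3
    rw [aeval_def, ← h3]
    congr 1
    exact RingHom.ext fun a => ((Algebra.leftMulMatrix b).commutes (algebraMap Γ(X, W₀) Γ(X, V₀) a)).symm
  have hint : ∀ i, (X.presheaf.stalkSpecializes hηy).hom.IsIntegralElem
      (X.presheaf.germ V₀ η ⟨hηy.mem_open W₀.2 hyW₀, hηV₁⟩ (M.charpoly.coeff i)) := by
    intro i
    obtain ⟨q, hq, hq0⟩ := isIntegral_matrix_charpoly_coeff M hp hM i
    refine ⟨q.map (X.presheaf.germ W₀ y hyW₀).hom, hq.map _, ?_⟩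
    let r : Γ(X, V₀) →+* X.presheaf.stalk η :=
      (X.presheaf.germ V₀ η ⟨hηy.mem_open W₀.2 hyW₀, hηV₁⟩).hom
    have h2 := congrArg r hq0
    rw [hom_eval₂, map_zero] at h2
    rw [eval₂_map]
    refine Eq.trans ?_ h2
    congr 1
    refine RingHom.ext fun a => ?_
    exact (X.presheaf.germ_stalkSpecializes_apply hyW₀ hηy a).trans
      (germ_fres (inf_le_left : V₀ ≤ W₀) a ⟨hηy.mem_open W₀.2 hyW₀, hηV₁⟩).symm
  choose A hyA a ha using fun i => exists_germ_of_isIntegral hy hηy hη _ (hint i)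
  obtain ⟨O, hyO, hO⟩ := exists_nhd_maxPt_unique hηy hη
  obtain ⟨W, hW, hyW, hWle⟩ := exists_isAffineOpen_mem_and_subset
    (U := W₀ ⊓ O ⊓ ⟨⋂ i ∈ Finset.range (n + 1), (A i : Set X), isOpen_biInter_finset fun i _ => (A i).2⟩)
    (x := y) ⟨⟨hyW₀, hyO⟩, Set.mem_iInter₂.2 fun i _ => hyA i⟩
  have hW0 : W ≤ W₀ := hWle.trans (inf_le_left.trans inf_le_left)
  have hWA : ∀ i ∈ Finset.range (n + 1), W ≤ A i := fun i hi x hx => Set.mem_iInter₂.1 (hWle hx).2 i hi
  have honly : ∀ η' ∈ W, MaxPt η' → η' = η := fun η' h h' => hO η' (hWle h).1.2 h'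
  let a' : ℕ → Γ(X, W) := fun i => if hi : i ∈ Finset.range (n + 1) then fres (hWA i hi) (a i) else 0
  let V := W ⊓ V₁
  let hVV₀ : V ≤ V₀ := inf_le_inf_right _ hW0
  have hcoef : ∀ i ∈ Finset.range (n + 1),
      fres (inf_le_left : V ≤ W) (a' i) = fres hVV₀ (M.charpoly.coeff i) := by
    intro i hi
    refine eq_of_germ_maxPt _ _ fun η' hη'V hη' => ?_
    obtain rfl := honly η' hη'V.1 hη'
    simp only [a', dif_pos hi, germ_fres]
    exact ha i
  have hWU : W ≤ U := hW0.trans hW₀U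
  refine ⟨W, hW, hyW, hWU, a', honly, ?_, ?_⟩
  · have h1 : fres hVV₀ (nrm g V₀ t₀) = nrm g V (fres (g.preimage_mono (inf_le_left.trans hWU)) z) := by
      rw [hs₀.nrm_res g hVV₀, fres_fres]
    have h2 : nrm g V₀ t₀ = (-1) ^ n * M.charpoly.coeff 0 := by
      show Algebra.norm Γ(X, V₀) t₀ = _
      rw [Algebra.norm_eq_matrix_det b, Matrix.det_eq_sign_charpoly_coeff, Fintype.card_fin]
    rw [← h1, h2]
    show (X.presheaf.map (homOfLE (inf_le_left : V ≤ W)).op).hom ((-1) ^ n * a' 0) =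
      (X.presheaf.map (homOfLE hVV₀).op).hom ((-1) ^ n * M.charpoly.coeff 0)
    simp only [map_mul, map_pow, map_neg, map_one]
    exact congrArg (_ * ·) (hcoef 0 (Finset.mem_range.2 n.succ_pos))
  · have h1 : ∑ i ∈ Finset.range (n + 1), g.app V₀ (M.charpoly.coeff i) * t₀ ^ i = 0 := by
      rcases subsingleton_or (Y := X) (V := V₀) with hss | ⟨x, hx⟩
      · refine Finset.sum_eq_zero fun i _ => ?_
        rw [Subsingleton.elim (M.charpoly.coeff i) 0, map_zero, zero_mul]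
      have := nontrivial_of_mem hx
      have hd : M.charpoly.natDegree = n :=
        (Matrix.charpoly_natDegree_eq_dim M).trans (Fintype.card_fin n)
      apply Algebra.leftMulMatrix_injective b
      rw [map_zero, map_sum, ← Matrix.aeval_self_charpoly M, aeval_eq_sum_range, hd]
      refine Finset.sum_congr rfl fun i _ => ?_
      rw [map_mul, map_pow, Algebra.smul_def]
      exact congrArg (· * _) ((Algebra.leftMulMatrix b).commutes (M.charpoly.coeff i))
    let r : Γ(X', g ⁻¹ᵁ V₀) →+* Γ(X', g ⁻¹ᵁ V) := (X'.presheaf.map (homOfLE (g.preimage_mono hVV₀)).op).hom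
    have h3 := congrArg r h1
    rw [map_sum, map_zero] at h3
    refine Eq.trans (Finset.sum_congr rfl fun i hi => ?_) h3
    rw [hcoef i hi, map_mul, map_pow, app_fres g hVV₀]
    exact congrArg (fun w => _ * w ^ i) (fres_fres _ _ z).symm

/-- The hypothesis on the points of the target. -/
def NormalOrChart : Prop := ∀ y : X, NormalPt y ∨ ∃ V : X.Opens, y ∈ V ∧ IsChart g V

variable [IsNoetherian X] [IsReduced X] [IsFinite g]

theorem hasVals_of_normalOrChart (H : NormalOrChart g) (k : ℕ → ℕ) : HasVals g k := by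
  classical
  intro U z
  have key : ∀ y ∈ U, ∃ (A : X.Opens) (_ : y ∈ A) (hA : A ≤ U) (b : Γ(X, A)),
      ∀ (V : X.Opens) (h : V ≤ A), IsChart g V →
        fres h b = nD g k V (fres (g.preimage_mono (h.trans hA)) z) := by
    intro y hyU
    rcases H y with hy | ⟨V, hyV, hV⟩
    · obtain ⟨η, hηy, hη⟩ := exists_maxPt_specializes y
      obtain ⟨V₁, hηV₁, hV₁⟩ := exists_isChart_maxPt g hη
      obtain ⟨n, s, hs⟩ := hV₁
      obtain ⟨W, -, hyW, hWU, a, honly, hnrm, -⟩ := exists_local_charpoly g z hy hyU hηy hη hηV₁ hs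
      refine ⟨W, hyW, hWU, ((-1) ^ n * a 0) ^ k n, fun V hV hVc => ?_⟩
      refine eq_of_germ_maxPt _ _ fun η' hη'V hη' => ?_
      obtain rfl := honly η' (hV hη'V) hη'
      have hmem : η' ∈ V ⊓ (W ⊓ V₁) := ⟨hη'V, hV hη'V, hηV₁⟩
      rw [← germ_fres (inf_le_left : V ⊓ (W ⊓ V₁) ≤ V) _ hmem,
        ← germ_fres (inf_le_left : V ⊓ (W ⊓ V₁) ≤ V) (nD g k V _) hmem]
      congr 1
      have hWV : IsChart g (W ⊓ V₁) := ⟨n, _, hs.res g inf_le_right⟩
      have hrk : rk g (W ⊓ V₁) = n :=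
        haveI := nontrivial_of_mem (show η' ∈ W ⊓ V₁ from ⟨hV hη'V, hηV₁⟩)
        (hs.res g inf_le_right).rk_eq g
      rw [nD_res g hVc, fres_fres, fres_fres,
        ← fres_fres (inf_le_left : W ⊓ V₁ ≤ W) (inf_le_right : V ⊓ (W ⊓ V₁) ≤ W ⊓ V₁)]
      have e : fres (inf_le_left : W ⊓ V₁ ≤ W) (((-1) ^ n * a 0) ^ k n) =
          nD g k (W ⊓ V₁) (fres (g.preimage_mono (inf_le_left.trans hWU)) z) := by
        show (X.presheaf.map (homOfLE (inf_le_left : W ⊓ V₁ ≤ W)).op).hom (((-1) ^ n * a 0) ^ k n) =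
          nrm g (W ⊓ V₁) _ ^ k (rk g (W ⊓ V₁))
        rw [map_pow, hrk]
        exact congrArg (· ^ k n) hnrm
      rw [e, nD_res g hWV, fres_fres]
    · refine ⟨U ⊓ V, ⟨hyU, hyV⟩, inf_le_left, nD g k _ (fres (g.preimage_mono inf_le_left) z),
        fun V' h hV' => ?_⟩
      rw [nD_res g (hV.mono g inf_le_right), fres_fres]
  choose A hyA hAU b hb using key
  let A' : U → X.Opens := fun y => A y.1 y.2
  have huniq : ∀ (B : X.Opens) (hB : B ≤ U) (c c' : Γ(X, B)),
      (∀ (V : X.Opens) (h : V ≤ B), IsChart g V →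
        fres h c = nD g k V (fres (g.preimage_mono (h.trans hB)) z)) →
      (∀ (V : X.Opens) (h : V ≤ B), IsChart g V →
        fres h c' = nD g k V (fres (g.preimage_mono (h.trans hB)) z)) → c = c' := by
    intro B hB c c' hc hc'
    refine eq_of_germ_maxPt _ _ fun η hηB hη => ?_
    obtain ⟨V, hηV, hV⟩ := exists_isChart_maxPt g hη
    rw [← germ_fres (inf_le_left : B ⊓ V ≤ B) c ⟨hηB, hηV⟩, ← germ_fres (inf_le_left : B ⊓ V ≤ B) c' ⟨hηB, hηV⟩,
      hc _ _ (hV.mono g inf_le_right), hc' _ _ (hV.mono g inf_le_right)]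
  obtain ⟨c, hc, -⟩ := TopCat.Sheaf.existsUnique_gluing' X.sheaf A' U (fun y => homOfLE (hAU y.1 y.2))
    (fun y hy => Opens.mem_iSup.2 ⟨⟨y, hy⟩, hyA y hy⟩) (fun y => b y.1 y.2) fun y y' =>
      huniq (A' y ⊓ A' y') (inf_le_left.trans (hAU y.1 y.2)) _ _
        (fun V h hV => by
          show fres h (fres inf_le_left (b y.1 y.2)) = _
          rw [fres_fres]; exact hb y.1 y.2 V _ hV)
        (fun V h hV => by
          show fres h (fres inf_le_right (b y'.1 y'.2)) = _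
          rw [fres_fres]; exact hb y'.1 y'.2 V _ hV)
  have hc' : ∀ (V : X.Opens) (h : V ≤ U), IsChart g V →
      fres h c = nD g k V (fres (g.preimage_mono h) z) := by
    intro V h hV
    refine eq_of_germ_maxPt _ _ fun η hηV hη => ?_
    have hm : η ∈ V ⊓ A' ⟨η, h hηV⟩ := ⟨hηV, hyA η (h hηV)⟩
    rw [← germ_fres (inf_le_left : V ⊓ A' ⟨η, h hηV⟩ ≤ V) _ hm,
      ← germ_fres (inf_le_left : V ⊓ A' ⟨η, h hηV⟩ ≤ V) (nD g k V _) hm, nD_res g hV, fres_fres, fres_fres,
      ← fres_fres (hAU η (h hηV)) (inf_le_right : V ⊓ A' ⟨η, h hηV⟩ ≤ A' ⟨η, h hηV⟩) c,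
      show fres (hAU η (h hηV)) c = b η (h hηV) from hc ⟨η, h hηV⟩,
      hb η (h hηV) _ _ (hV.mono g inf_le_left)]
  exact ⟨c, hc', fun c' hc'' => huniq U le_rfl c' c hc'' hc'⟩

theorem exists_mem_basicOpen_of_normalPt [Surjective g] {k : ℕ → ℕ} (H : HasVals g k)
    (hk : ∀ V : X.Opens, IsChart g V → ∀ y ∈ V, k (rk g V) ≠ 0) {U : X.Opens} (z : Γ(X', g ⁻¹ᵁ U))
    {y : X} (hy : NormalPt y) (hyb : y ∈ X.basicOpen (H.normFun U z)) :
    ∃ x ∈ X'.basicOpen z, g x = y := by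
  have hyU : y ∈ U := X.basicOpen_le _ hyb
  obtain ⟨η, hηy, hη⟩ := exists_maxPt_specializes y
  obtain ⟨V₁, hηV₁, hV₁⟩ := exists_isChart_maxPt g hη
  obtain ⟨n, s, hs⟩ := hV₁
  obtain ⟨W, hW, hyW, hWU, a, honly, hnrm, hsum⟩ := exists_local_charpoly g z hy hyU hηy hη hηV₁ hs
  set V := W ⊓ V₁
  have hηV : η ∈ V := ⟨hηy.mem_open W.2 hyW, hηV₁⟩
  have hVc : IsChart g V := ⟨n, _, hs.res g inf_le_right⟩
  have hrk : rk g V = n := haveI := nontrivial_of_mem hηV; (hs.res g inf_le_right).rk_eq g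
  have hkn : k n ≠ 0 := hrk ▸ hk V hVc η hηV
  have heq : fres hWU (H.normFun U z) = ((-1) ^ n * a 0) ^ k n := by
    refine eq_of_germ_maxPt _ _ fun η' hη'W hη' => ?_
    obtain rfl := honly η' hη'W hη'
    rw [← germ_fres (inf_le_left : V ≤ W) _ hηV,
      ← germ_fres (inf_le_left : V ≤ W) (((-1) ^ n * a 0) ^ k n) hηV]
    congr 1
    rw [fres_fres, H.normFun_spec z _ hVc]
    show nrm g V _ ^ k (rk g V) =
      (X.presheaf.map (homOfLE (inf_le_left : V ≤ W)).op).hom (((-1) ^ n * a 0) ^ k n)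
    rw [map_pow, hrk]
    exact congrArg (· ^ k n) hnrm.symm
  have hu : IsUnit (X.presheaf.germ W y hyW (a 0)) := by
    have h1 := (X.mem_basicOpen (H.normFun U z) y hyU).1 hyb
    rw [← germ_fres hWU _ hyW, heq, map_pow, isUnit_pow_iff hkn, map_mul] at h1
    exact isUnit_of_mul_isUnit_right h1
  let R := Γ(X, W)
  let S := Γ(X', g ⁻¹ᵁ W)
  letI : Algebra R S := (g.app W).hom.toAlgebra
  haveI : Module.Finite R S := IsFinite.finite_app g W hW
  let t : S := fres (g.preimage_mono hWU) z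
  let ρ : S →+* Γ(X', g ⁻¹ᵁ V) := (X'.presheaf.map (homOfLE (g.preimage_mono (inf_le_left : V ≤ W))).op).hom
  let p := (hW.primeIdealOf ⟨y, hyW⟩).asIdeal
  have hker : (RingHom.ker ρ).comap (algebraMap R S) ≤ p := by
    intro r hr
    have h1 : g.app V (fres inf_le_left r) = 0 := (app_fres g inf_le_left r).trans hr
    have h2 : fres (inf_le_left : V ≤ W) r = 0 := by
      letI := (g.app V).hom.toAlgebra
      obtain ⟨b, -⟩ := (hs.res g (inf_le_right : V ≤ V₁)).exists_basis g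
      have hn : 0 < n := (hs.res g (inf_le_right : V ≤ V₁)).pos g hηV
      have h3 : fres (inf_le_left : V ≤ W) r • b ⟨0, hn⟩ = 0 := by
        rw [Algebra.smul_def]; exact (congrArg (· * _) h1).trans (zero_mul _)
      have h4 := congrArg (fun v => b.repr v ⟨0, hn⟩) h3
      simpa using h4
    have h5 : r = 0 := eq_of_germ_maxPt r 0 fun η' hη'W hη' => by
      obtain rfl := honly η' hη'W hη'
      rw [← germ_fres (inf_le_left : V ≤ W) r hηV, h2, map_zero, map_zero]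
    rw [h5]
    exact zero_mem _
  obtain ⟨Q, hJQ, hQ, hQp⟩ := Ideal.exists_ideal_over_prime_of_isIntegral (R := R) (S := S) p (RingHom.ker ρ) hker
  have htQ : t ∉ Q := by
    intro ht
    have hJ : ∑ i ∈ Finset.range (n + 1), algebraMap R S (a i) * t ^ i ∈ Q := hJQ (by
      rw [RingHom.mem_ker, map_sum, ← hsum]
      refine Finset.sum_congr rfl fun i _ => ?_
      rw [map_mul, map_pow, app_fres g (inf_le_left : V ≤ W)]
      exact congrArg (fun w => _ * w ^ i) (fres_fres _ _ z))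
    rw [Finset.sum_range_succ'] at hJ
    have h0 := (Ideal.add_mem_iff_right Q (Ideal.sum_mem Q fun i _ =>
      Q.mul_mem_left (algebraMap R S (a (i + 1))) (Ideal.pow_mem_of_mem Q ht (i + 1) (Nat.succ_pos i)))).1 hJ
    rw [pow_zero, mul_one] at h0
    have h1 : a 0 ∈ p := hQp.le h0
    letI : Algebra R (X.presheaf.stalk y) := (X.presheaf.germ W y hyW).hom.toAlgebra
    haveI : IsLocalization.AtPrime (X.presheaf.stalk y) p := hW.isLocalization_stalk ⟨y, hyW⟩
    exact (IsLocalization.AtPrime.isUnit_to_map_iff (X.presheaf.stalk y) p (a 0)).1 hu h1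
  let hW' := hW.preimage g
  refine ⟨hW'.fromSpec ⟨Q, hQ⟩, ?_, ?_⟩
  · have h1 : hW'.fromSpec ⟨Q, hQ⟩ ∈ X'.basicOpen t :=
      (congrArg (fun O => (⟨Q, hQ⟩ : PrimeSpectrum S) ∈ O) (hW'.fromSpec_preimage_basicOpen t)).mpr htQ
    exact ((X'.basicOpen_res z (homOfLE (g.preimage_mono hWU)).op).le h1).2
  · have h1 := congrArg (fun f => f ⟨Q, hQ⟩)
      (IsAffineOpen.SpecMap_appLE_fromSpec g hW hW' le_rfl)
    simp only [Scheme.Hom.comp_apply, ← Scheme.Hom.app_eq_appLE] at h1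
    refine h1.symm.trans ((congrArg hW.fromSpec (PrimeSpectrum.ext hQp)).trans ?_)
    exact hW.fromSpec_primeIdealOf ⟨y, hyW⟩

theorem exists_degree [Surjective g] : ∃ D : ℕ, 0 < D ∧
    ∀ V : X.Opens, IsChart g V → ∀ y ∈ V, 0 < rk g V ∧ rk g V ∣ D := by
  classical
  haveI := (finite_maxPt (X := X)).fintype
  choose V hV hVc using fun η : {η : X | MaxPt η} => exists_isChart_maxPt g η.2
  refine ⟨∏ η, rk g (V η), Finset.prod_pos fun η _ => ?_, fun A hA y hy => ?_⟩
  · obtain ⟨n, s, hs⟩ := hVc η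
    have := nontrivial_of_mem (hV η)
    rw [hs.rk_eq g]
    exact hs.pos g (hV η)
  · obtain ⟨η, hηy, hη⟩ := exists_maxPt_specializes y
    obtain ⟨m, w, hw⟩ := hA
    obtain ⟨n, s, hs⟩ := hVc ⟨η, hη⟩
    have := nontrivial_of_mem hy
    have := nontrivial_of_mem (hV ⟨η, hη⟩)
    have := nontrivial_of_mem (show η ∈ A ⊓ V ⟨η, hη⟩ from ⟨hηy.mem_open A.2 hy, hV _⟩)
    have h1 : m = n := ((hw.res g (inf_le_left : A ⊓ V ⟨η, hη⟩ ≤ A)).rk_eq g).symm.trans
      ((hs.res g (inf_le_right : A ⊓ V ⟨η, hη⟩ ≤ V ⟨η, hη⟩)).rk_eq g)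
    refine ⟨by rw [hw.rk_eq g]; exact hw.pos g hy, ?_⟩
    rw [hw.rk_eq g, h1, ← hs.rk_eq g]
    exact Finset.dvd_prod_of_mem _ (Finset.mem_univ _)

theorem exists_fnorm_normalOrChart [Surjective g] (H : NormalOrChart g) : ∃ d, Nonempty (FNorm g d) := by
  obtain ⟨D, hD, hdvd⟩ := exists_degree g
  have hk : ∀ V : X.Opens, IsChart g V → ∀ y ∈ V, D / rk g V ≠ 0 := fun V hV y hy =>
    (Nat.div_pos (Nat.le_of_dvd hD (hdvd V hV y hy).2) (hdvd V hV y hy).1).ne'
  have hv := hasVals_of_normalOrChart g H fun r => D / r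
  refine ⟨D, ⟨{ norm := hv.normHom
                norm_res := hv.normHom_res
                norm_fibre := fun U z y hyb => ?_
                one_le := hD
                norm_app := hv.normHom_app hdvd }⟩⟩
  rcases H y with hy | ⟨W, hyW, hW⟩
  · exact exists_mem_basicOpen_of_normalPt g hv hk z hy hyb
  · obtain ⟨x, rfl⟩ := g.surjective y
    exact ⟨x, hv.basicOpen_normFun hk z hyW hW hyb, rfl⟩

theorem exists_isChart_of_restrict {X X' : Scheme.{u}} (g : X' ⟶ X) {T : X.Opens} {y : X} (hy : y ∈ T)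
    (h : FlatMod.IsFinLocFree (((Coh.push g).obj (Coh.structureModule X')).restrict T.ι)) :
    ∃ V : X.Opens, y ∈ V ∧ IsChart g V := by
  obtain ⟨U, n, s, hyU, hs⟩ := Props58.LocFree.isFinLocFree_iff.1 h ⟨y, hy⟩
  refine ⟨T.ι ''ᵁ U, ⟨⟨y, hy⟩, hyU, rfl⟩, n, fun i => s i, fun W hW => ?_⟩
  obtain ⟨W', rfl⟩ : ∃ W' : T.toScheme.Opens, T.ι ''ᵁ W' = W := ⟨T.ι ⁻¹ᵁ W, by
    rw [Scheme.Hom.image_preimage_eq_opensRange_inf, Scheme.Opens.opensRange_ι,
      inf_eq_right.2 (hW.trans ((T.ι.image_mono le_top).trans T.ι_image_top.le))]⟩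
  have h1 := hs.bijective ((T.ι.image_le_image_iff _ _).1 hW : W' ≤ U)
  have e : (fun a : Fin n → Γ(X, T.ι ''ᵁ W') =>
      ∑ i, g.app (T.ι ''ᵁ W') (a i) * fres (g.preimage_mono hW) (s i)) =
      (fun a : Fin n → Γ(T.toScheme, W') => ∑ i, a i • QC70.res
        (((Coh.push g).obj (Coh.structureModule X')).restrict T.ι) ((T.ι.image_le_image_iff _ _).1 hW) (s i)) := by
    funext a
    refine Finset.sum_congr rfl fun i _ => ?_
    show _ = g.app (T.ι ''ᵁ W') ((T.ι.appIso W').inv (a i)) * fres (g.preimage_mono hW) (s i)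
    rw [Scheme.Opens.ι_appIso]
    rfl
  exact e ▸ h1

end Groth.Agent.EGA73
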