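import Mathlib.AlgebraicGeometry.ProjectiveSpectrum.Proper
import Mathlib.Algebra.Polynomial.AlgebraMap
import Groth.Agent.EGAProj74.GenDegOne

/-!
The grading of a polynomial ring in one variable.
-/

set_option autoImplicit false
set_option backward.isDefEq.respectTransparency.types false

universe u

open CategoryTheory AlgebraicGeometry Polynomial DirectSum
open scoped HomogeneousIdeal

noncomputable section

namespace Groth.Agent.EGA73.PolyGrading

variable {A R : Type u} [CommRing A] [CommRing R] (e : A ≃+* R[X])

/-- The elements `a T ^ n`. -/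
def deg (n : ℕ) : AddSubgroup A :=
  (e.symm.toAddEquiv.toAddMonoidHom.comp (monomial n : R →ₗ[R] R[X]).toAddMonoidHom).range

theorem mem_deg {n : ℕ} {x : A} : x ∈ deg e n ↔ ∃ r : R, e.symm (monomial n r) = x := Iff.rfl

theorem monomial_mem (n : ℕ) (r : R) : e.symm (monomial n r) ∈ deg e n := ⟨r, rfl⟩

theorem isInternal : DirectSum.IsInternal (deg e) := by
  classical
  refine ⟨(injective_iff_map_eq_zero _).2 fun z hz => DFinsupp.ext fun n => Subtype.ext ?_, fun x => ?_⟩
  · have hz' : ∀ k, ∃ r : R, e.symm (monomial k r) = (z k : A) := fun k => (z k).2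
    choose r hr using hz'
    have hsum : ∑ k ∈ z.support, monomial k (r k) = 0 := by
      apply e.symm.injective
      rw [map_sum, Finset.sum_congr rfl fun k _ => hr k, map_zero, ← hz]
      conv_rhs => rw [← DirectSum.sum_support_of z]
      simp only [map_sum, DirectSum.coeAddMonoidHom_of]
    by_cases hn : n ∈ z.support
    · have := congrArg (fun p : R[X] => p.coeff n) hsum
      simp [finsetSum_coeff, coeff_monomial, hn] at this
      rw [← hr, this]
      simp
    · rw [DFinsupp.notMem_support_iff.1 hn]
      rfl
  · refine ⟨∑ k ∈ (e x).support, DirectSum.of (fun n => deg e n) k ⟨_, monomial_mem e k ((e x).coeff k)⟩, ?_⟩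
    simp only [map_sum, DirectSum.coeAddMonoidHom_of]
    rw [← map_sum, ← as_sum_support, e.symm_apply_apply]

/-- The grading. -/
@[instance_reducible]
def gradedRing : GradedRing (deg e) where
  toGradedMonoid :=
    { one_mem := ⟨1, show e.symm (monomial 0 1) = 1 by rw [monomial_zero_left, map_one, map_one]⟩
      mul_mem := fun {i j _ _} hx hy => by
        obtain ⟨a, rfl⟩ := (mem_deg e).1 hx
        obtain ⟨b, rfl⟩ := (mem_deg e).1 hy
        exact ⟨a * b, show e.symm (monomial (i + j) (a * b)) = _ by rw [← map_mul, monomial_mul_monomial]⟩ }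
  toDecomposition := (isInternal e).chooseDecomposition

theorem mem_closure (x : A) : x ∈ Subring.closure ((deg e 0 : Set A) ∪ (deg e 1 : Set A)) := by
  rw [← e.symm_apply_apply x]
  generalize e x = p
  induction p using Polynomial.induction_on' with
  | add p q hp hq => rw [map_add]; exact add_mem hp hq
  | monomial n r =>
    rw [← C_mul_X_pow_eq_monomial, map_mul, map_pow]
    refine Subring.mul_mem _ (Subring.subset_closure (Set.mem_union_left _ ?_)) (Subring.pow_mem _ (Subring.subset_closure (Set.mem_union_right _ ?_)) n)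
    · exact ⟨r, rfl⟩
    · exact ⟨1, show e.symm (monomial 1 1) = _ by rw [monomial_one_one_eq_X]⟩

/-- `Proj` of a ring with the monomial grading is the spectrum of its degree-zero part. -/
theorem isIso_toSpecZero (𝒜 : ℕ → AddSubgroup A) [GradedRing 𝒜] (h𝒜 : 𝒜 = deg e) :
    IsIso (Proj.toSpecZero 𝒜) := by
  subst h𝒜
  let z : A := e.symm X
  have hz : z ∈ deg e 1 := ⟨1, show e.symm (monomial 1 1) = _ by rw [monomial_one_one_eq_X]⟩
  have hdeg : ∀ n, ∀ a ∈ deg e n, ∃ r : R, a = e.symm (C r) * z ^ n := fun n a ha => by
    obtain ⟨r, rfl⟩ := (mem_deg e).1 ha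
    exact ⟨r, by rw [← C_mul_X_pow_eq_monomial, map_mul, map_pow]⟩
  have hnot : ∀ y : Proj (deg e), y ∈ Proj.basicOpen (deg e) z := fun y => by
    refine (Proj.mem_basicOpen _ z y).2 fun hy => ?_
    refine (y : ProjectiveSpectrum _).not_irrelevant_le (EGAProj74.irrelevant_toIdeal_le_span.trans (Ideal.span_le.mpr ?_))
    rintro a ⟨d, hd, ha⟩
    obtain ⟨r, rfl⟩ := hdeg d a ha
    exact Ideal.mul_mem_left _ _ (Ideal.pow_mem_of_mem _ hy d hd)
  have : IsIso (Proj.awayι (deg e) z hz Nat.one_pos) := by
    refine (isIso_iff_isOpenImmersion_and_epi_base _).mpr ⟨inferInstance, ?_⟩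
    rw [TopCat.epi_iff_surjective]
    intro y
    have : y ∈ (Proj.awayι (deg e) z hz Nat.one_pos).opensRange := by
      rw [Proj.opensRange_awayι]
      exact hnot y
    exact this
  have hbij : Function.Bijective (HomogeneousLocalization.fromZeroRingHom (deg e) (Submonoid.powers z)) := by
    have hval : ∀ a : deg e 0, (HomogeneousLocalization.fromZeroRingHom (deg e) (Submonoid.powers z) a).val =
        algebraMap _ (Localization (Submonoid.powers z)) (a : A) := fun a =>
      (HomogeneousLocalization.val_mk _).trans (Localization.mk_one_eq_algebraMap _)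
    constructor
    · rw [injective_iff_map_eq_zero]
      intro a ha
      have h1 := congrArg HomogeneousLocalization.val ha
      rw [hval, HomogeneousLocalization.val_zero, IsLocalization.map_eq_zero_iff (Submonoid.powers z)] at h1
      obtain ⟨⟨_, n, rfl⟩, hn⟩ := h1
      obtain ⟨r, hr⟩ := hdeg 0 a a.2
      rw [pow_zero, mul_one] at hr
      have h2 := congrArg e hn
      simp [hr, z] at h2
      refine Subtype.ext ?_
      rw [hr]
      have h3 : r = 0 := by
        have := congrArg (fun p : R[X] => p.coeff n) h2
        simpa [coeff_X_pow_mul'] using this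
      simp [h3]
    · intro x
      obtain ⟨n, a, ha, rfl⟩ := HomogeneousLocalization.Away.mk_surjective (deg e) hz x
      obtain ⟨r, rfl⟩ := hdeg n a (by simpa using ha)
      refine ⟨⟨e.symm (C r), r, rfl⟩, HomogeneousLocalization.val_injective _ ?_⟩
      rw [hval, HomogeneousLocalization.Away.val_mk, ← Localization.mk_one_eq_algebraMap, Localization.mk_eq_mk_iff,
        Localization.r_iff_exists]
      exact ⟨1, by simp; ring⟩
  have : IsIso (Proj.awayι (deg e) z hz Nat.one_pos ≫ Proj.toSpecZero (deg e)) := by
    rw [Proj.awayι_toSpecZero]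
    have : IsIso (CommRingCat.ofHom (HomogeneousLocalization.fromZeroRingHom (deg e) (Submonoid.powers z))) :=
      (ConcreteCategory.isIso_iff_bijective _).mpr hbij
    infer_instance
  exact IsIso.of_isIso_comp_left (Proj.awayι (deg e) z hz Nat.one_pos) _

end Groth.Agent.EGA73.PolyGrading

end
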