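import Groth.Agent.EGA73.GradedVanish

/-!
Irreducible closed subsets of `Proj`.
-/

universe u

open TopologicalSpace

namespace Groth.Agent.EGA73

variable {R A : Type u} [CommRing R] [CommRing A] [Algebra R A] {𝒜 : ℕ → Submodule R A} [GradedAlgebra 𝒜]

/-- Some element of `I` and of the irrelevant ideal avoids a point outside `V₊(I)`. -/
theorem exists_irrelevant_notMem {I : Ideal A} {x : ProjectiveSpectrum 𝒜}
    (h : ¬ I ≤ x.asHomogeneousIdeal.toIdeal) :
    ∃ f ∈ (HomogeneousIdeal.irrelevant 𝒜).toIdeal, f ∈ I ∧ f ∉ x.asHomogeneousIdeal := by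
  obtain ⟨a, haI, hax⟩ := SetLike.not_le_iff_exists.mp h
  obtain ⟨g, hg, hgx⟩ := SetLike.not_le_iff_exists.mp x.not_irrelevant_le
  exact ⟨a * g, Ideal.mul_mem_left _ a hg, Ideal.mul_mem_right g I haI,
    fun hmem => (x.isPrime.mem_or_mem hmem).elim hax hgx⟩

/-- A closed subset of `Proj` is irreducible iff its ideal in the irrelevant ideal is prime. -/
theorem isIrreducible_iff {Z : Set (ProjectiveSpectrum 𝒜)} :
    IsIrreducible Z ↔
      (¬ (HomogeneousIdeal.irrelevant 𝒜).toIdeal ≤ (ProjectiveSpectrum.vanishingIdeal Z).toIdeal ∧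
        ∀ f ∈ (HomogeneousIdeal.irrelevant 𝒜).toIdeal, ∀ g ∈ (HomogeneousIdeal.irrelevant 𝒜).toIdeal,
          f * g ∈ (ProjectiveSpectrum.vanishingIdeal Z).toIdeal →
            f ∈ (ProjectiveSpectrum.vanishingIdeal Z).toIdeal ∨ g ∈ (ProjectiveSpectrum.vanishingIdeal Z).toIdeal) := by
  constructor
  · rintro ⟨⟨x, hx⟩, hpre⟩
    refine ⟨fun hle => x.not_irrelevant_le fun a ha =>
      (ProjectiveSpectrum.mem_vanishingIdeal Z a).mp (hle ha) x hx, fun f _ g _ hfg => ?_⟩
    have hsub : Z ⊆ ProjectiveSpectrum.zeroLocus 𝒜 {f} ∪ ProjectiveSpectrum.zeroLocus 𝒜 {g} := by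
      rw [← ProjectiveSpectrum.zeroLocus_singleton_mul]
      intro y hy
      exact Set.singleton_subset_iff.mpr ((ProjectiveSpectrum.mem_vanishingIdeal Z _).mp hfg y hy)
    refine ((isPreirreducible_iff_isClosed_union_isClosed.mp hpre) _ _
      (ProjectiveSpectrum.isClosed_zeroLocus 𝒜 _) (ProjectiveSpectrum.isClosed_zeroLocus 𝒜 _) hsub).imp ?_ ?_ <;>
    · intro h
      exact (ProjectiveSpectrum.mem_vanishingIdeal Z _).mpr fun y hy => Set.singleton_subset_iff.mp (h hy)
  · rintro ⟨hne, hmul⟩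
    refine ⟨?_, isPreirreducible_iff_isClosed_union_isClosed.mpr fun z₁ z₂ hz₁ hz₂ hsub => ?_⟩
    · by_contra hcon
      rw [Set.not_nonempty_iff_eq_empty] at hcon
      exact hne fun a _ => (ProjectiveSpectrum.mem_vanishingIdeal Z a).mpr (by simp [hcon])
    · by_contra hcon
      rw [not_or, Set.not_subset, Set.not_subset] at hcon
      obtain ⟨⟨x, hxZ, hx⟩, y, hyZ, hy⟩ := hcon
      have out : ∀ {z : Set (ProjectiveSpectrum 𝒜)} {p : ProjectiveSpectrum 𝒜}, IsClosed z → p ∉ z →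
          ¬ (ProjectiveSpectrum.vanishingIdeal z).toIdeal ≤ p.asHomogeneousIdeal.toIdeal := by
        intro z p hz hp hle
        refine hp ?_
        rw [← hz.closure_eq, ← ProjectiveSpectrum.zeroLocus_vanishingIdeal_eq_closure]
        exact hle
      obtain ⟨f, hfS, hf1, hfx⟩ := exists_irrelevant_notMem (out hz₁ hx)
      obtain ⟨g, hgS, hg2, hgy⟩ := exists_irrelevant_notMem (out hz₂ hy)
      rcases hmul f hfS g hgS ((ProjectiveSpectrum.mem_vanishingIdeal Z _).mpr fun p hp =>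
          (hsub hp).elim (fun h => Ideal.mul_mem_right _ _ ((ProjectiveSpectrum.mem_vanishingIdeal _ _).mp hf1 p h))
            (fun h => Ideal.mul_mem_left _ _ ((ProjectiveSpectrum.mem_vanishingIdeal _ _).mp hg2 p h))) with h | h
      · exact hfx ((ProjectiveSpectrum.mem_vanishingIdeal Z _).mp h x hxZ)
      · exact hgy ((ProjectiveSpectrum.mem_vanishingIdeal Z _).mp h y hyZ)

end Groth.Agent.EGA73
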