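import Groth.Agent.EGA73.ClosedRelProj
import Groth.Agent.EGA73.ProjectiveBaseChange

/-!
Closed immersions followed by projective morphisms.
-/

set_option autoImplicit false

universe u

open CategoryTheory CategoryTheory.Limits AlgebraicGeometry TopologicalSpace Opposite

noncomputable section

namespace Groth.Agent.EGA73

theorem isProjective_closedImmersion_comp {X Y Z : Scheme.{u}} (i : X ⟶ Y) [IsClosedImmersion i] {g : Y ⟶ Z}
    (hg : RelProj.IsProjective g) : RelProj.IsProjective (i ≫ g) := by
  obtain ⟨𝒮, P, p, chart, e, hgen, hft, hP, he⟩ := hg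
  rw [← he, ← Category.assoc]
  exact ClosedRelProj.isProjective_of_closedImmersion hgen hft hP (i ≫ e.hom)

theorem isProjective_of_comp {X Y Z : Scheme.{u}} (f : X ⟶ Y) (g : Y ⟶ Z) [IsSeparated g]
    (h : RelProj.IsProjective (f ≫ g)) : RelProj.IsProjective f := by
  let Γ₀ : X ⟶ pullback (f ≫ g) g := pullback.lift (𝟙 X) f (by simp)
  have : IsClosedImmersion (Γ₀ ≫ pullback.fst (f ≫ g) g) := by rw [pullback.lift_fst]; infer_instance
  have : IsClosedImmersion Γ₀ := IsClosedImmersion.of_comp Γ₀ (pullback.fst (f ≫ g) g)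
  have hp := isProjective_of_isPullback (IsPullback.of_hasPullback (f ≫ g) g) h
  have := isProjective_closedImmersion_comp Γ₀ hp
  rwa [pullback.lift_snd] at this

end Groth.Agent.EGA73

end
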