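import Groth.Agent.EGAProj74.RelGenLocus
import Groth.Agent.EGAProj74.RelBasic
import Groth.Agent.EGAProj74.RelFiniteType
import Groth.Agent.Amp73.Local
import Groth.Agent.Var76.Frames
import Groth.Agent.EGA73.RelAmpleTwist
import Groth.Agent.EGAProj74.GrLoc
import Groth.Prelude.Def_LCI2

/-!
`O(d)` is invertible and relatively ample on a relative Proj covered by the standard opens of degree `d`.
-/

set_option autoImplicit false
set_option backward.isDefEq.respectTransparency.types false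

universe u

open CategoryTheory CategoryTheory.Limits AlgebraicGeometry TopologicalSpace Opposite
open scoped HomogeneousIdeal

noncomputable section

namespace Groth.Agent.EGA73.RelAmpleTwistD

open Var76.LineBundle Var76.ZeroScheme Amp73 EGAProj74

variable {S P : Scheme.{u}}

/-- The relative Proj is covered by the standard opens of degree `d` over the affine open `U`. -/
def CoveredBy (𝒮 : RelProj.QCGrAlg S) (d : ℕ) {U : S.Opens} (hU : IsAffineOpen U) : Prop :=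
  ∀ y : Proj (𝒮.deg U hU), ∃ f ∈ 𝒮.deg U hU d, y ∈ Proj.basicOpen (𝒮.deg U hU) f

variable {𝒮 : RelProj.QCGrAlg S}

theorem exists_mem_basicOpen {A : Type u} [CommRing A] {𝒜 : ℕ → AddSubgroup A} [GradedRing 𝒜] {d : ℕ}
    (h : ∀ n : ℕ, 0 < n → AddSubgroup.toIntSubmodule (𝒜 (n * d)) ≤ AddSubgroup.toIntSubmodule (𝒜 d) ^ n)
    (y : ProjectiveSpectrum 𝒜) : ∃ f ∈ 𝒜 d, f ∉ y.asHomogeneousIdeal := by
  by_contra H
  push Not at H
  refine ProjectiveSpectrum.not_irrelevant_le y ((HomogeneousIdeal.irrelevant_le _).2 fun n hn a ha => ?_)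
  have h1 : a ^ d ∈ 𝒜 (d • n) := SetLike.pow_mem_graded d ha
  rw [smul_eq_mul, Nat.mul_comm] at h1
  have hpow : a ^ d ∈ AddSubgroup.toIntSubmodule (𝒜 d) ^ n := h n hn h1
  obtain ⟨m, rfl⟩ := Nat.exists_eq_succ_of_ne_zero hn.ne'
  rw [pow_succ] at hpow
  have h2 : AddSubgroup.toIntSubmodule (𝒜 d) ^ m * AddSubgroup.toIntSubmodule (𝒜 d) ≤
      y.asHomogeneousIdeal.toIdeal.restrictScalars ℤ :=
    Submodule.mul_le.2 fun b _ c hc => Ideal.mul_mem_left _ b (H c hc)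
  exact y.isPrime.mem_of_pow_mem d (h2 hpow)

theorem coveredBy_of_gen {d : ℕ} {U : S.Opens} (hU : IsAffineOpen U)
    (h : ∀ n : ℕ, 0 < n → AddSubgroup.toIntSubmodule (𝒮.deg U hU (n * d)) ≤
      AddSubgroup.toIntSubmodule (𝒮.deg U hU d) ^ n) : CoveredBy 𝒮 d hU :=
  fun y => exists_mem_basicOpen h y

variable {p : P ⟶ S}
  {chart : ∀ (U : S.Opens) (hU : IsAffineOpen U), (((p ⁻¹ᵁ U : P.Opens) : Scheme.{u}) ≅ Proj (𝒮.deg U hU))}

/-- Being covered by degree `d` spreads from an affine cover to all affine opens. -/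
theorem coveredBy_of_cover (hP : RelProj.IsRelProj 𝒮 p chart) {d : ℕ} {ι : Type u} (V : ι → S.Opens)
    (hV : ∀ i, IsAffineOpen (V i)) (hcov : ⨆ i, V i = ⊤) (h : ∀ i, CoveredBy 𝒮 d (hV i))
    {U : S.Opens} (hU : IsAffineOpen U) : CoveredBy 𝒮 d hU := by
  intro y
  have hyU : p.base ((RelProj.emb p chart U hU).base y) ∈ U := by
    have : (RelProj.emb p chart U hU).base y ∈ (RelProj.emb p chart U hU).opensRange := ⟨y, rfl⟩
    rwa [opensRange_emb] at this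
  obtain ⟨i, hi⟩ := Opens.mem_iSup.1 (hcov.ge (Opens.mem_top (p.base ((RelProj.emb p chart U hU).base y))))
  obtain ⟨r, r', hrr, hxr⟩ := exists_basicOpen_le_affine_inter hU (hV i) _ ⟨hyU, hi⟩
  have hE : IsAffineOpen (S.basicOpen r) := hU.basicOpen r
  have hEU : S.basicOpen r ≤ U := S.basicOpen_le r
  have hEi : S.basicOpen r ≤ V i := hrr.trans_le (S.basicOpen_le r')
  obtain ⟨z, hz⟩ : (RelProj.emb p chart U hU).base y ∈ (RelProj.emb p chart _ hE).opensRange := by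
    rw [opensRange_emb]; exact hxr
  have hzU : (Proj.map (𝒮.res hU hE hEU) (irrelevant_le_map_res 𝒮 hU hE hEU)).base z = y :=
    (RelProj.emb p chart U hU).isOpenEmbedding.injective (by
      rw [← Scheme.Hom.comp_apply, map_res_emb' hP hU hE hEU]; exact hz)
  obtain ⟨f, hf, hfz⟩ := h i ((Proj.map (𝒮.res (hV i) hE hEi) (irrelevant_le_map_res 𝒮 (hV i) hE hEi)).base z)
  have hfz' : z ∈ Proj.basicOpen (𝒮.deg _ hE) (𝒮.res (hV i) hE hEi f) :=
    (Proj.map_preimage_basicOpen (𝒮.res (hV i) hE hEi) (irrelevant_le_map_res 𝒮 (hV i) hE hEi) f).le hfz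
  obtain ⟨k, a, ha, hea⟩ := exists_deg_res (e := rfl) 𝒮 hU hE hEU (r := r) (𝒮.map_mem (hV i) hE hEi hf)
  refine ⟨a, ha, ?_⟩
  rw [← hzU]
  refine (Proj.map_preimage_basicOpen (𝒮.res hU hE hEU) (irrelevant_le_map_res 𝒮 hU hE hEU) a).ge ?_
  rw [RelProj.QCGrAlg.res_apply, hea]
  intro hmem
  rcases z.isPrime.mem_or_mem hmem with h1 | h1
  · exact z.isPrime.ne_top
      (Ideal.eq_top_of_isUnit_mem _ h1 ((isUnit_res_str 𝒮 hU hEU rfl).pow k))
  · exact hfz' h1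

variable {d : ℕ} {L : P.Modules}
  {lam : ∀ (U : S.Opens) (hU : IsAffineOpen U),
    L ⟶ (Scheme.Modules.pushforward (RelProj.emb p chart U hU)).obj (GrTwist.twist (𝒮.deg U hU) (d : ℤ))}

theorem isInvertible_of_coveredBy (hL : RelProj.IsRelTwist 𝒮 p chart (d : ℤ) L lam)
    (hcov : ∀ (U : S.Opens) (hU : IsAffineOpen U), CoveredBy 𝒮 d hU) : PicF.IsInvertible L := fun z => by
  obtain ⟨U, hU, y, rfl⟩ := exists_emb_apply (chart := chart) z
  obtain ⟨f, hf, hy⟩ := hcov U hU y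
  obtain ⟨e, -⟩ := exists_unit_mk_one (𝒜 := 𝒮.deg U hU) hf
  exact ⟨RelProj.emb p chart U hU ''ᵁ Proj.basicOpen (𝒮.deg U hU) f, ⟨y, hy, rfl⟩,
    nonempty_restrict_iso_of_unit hL hU e⟩

variable (hcov : ∀ (U : S.Opens) (hU : IsAffineOpen U), CoveredBy 𝒮 d hU)
  (hL : RelProj.IsRelTwist 𝒮 p chart (d : ℤ) L lam)
  {U : S.Opens} (hU : IsAffineOpen U) {f : 𝒮.presheaf.obj (op U)}

include hcov hL in
/-- A section with values `f / 1` can only be a frame inside `D₊(f)`. -/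
theorem mem_basicOpen_of_frame {V : P.Opens} (hV : V ≤ p ⁻¹ᵁ U) (g : Γ(L, V)) (hframe : IsFrame L V g)
    (hval : ∀ y : (RelProj.emb p chart U hU ⁻¹ᵁ V : (Proj (𝒮.deg U hU)).Opens),
      GrTwist.val (V := RelProj.emb p chart U hU ⁻¹ᵁ V) ((lam U hU).app V g) y = Localization.mk f 1)
    (y : Proj (𝒮.deg U hU)) (hy : (RelProj.emb p chart U hU).base y ∈ V) :
    y ∈ Proj.basicOpen (𝒮.deg U hU) f := by
  obtain ⟨f₀, hf₀, hyD⟩ := hcov U hU y
  obtain ⟨e, -⟩ := exists_unit_mk_one (𝒜 := 𝒮.deg U hU) hf₀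
  let D := Proj.basicOpen (𝒮.deg U hU) f₀
  let V' := V ⊓ RelProj.emb p chart U hU ''ᵁ D
  have hV' : V' ≤ V := inf_le_left
  have hyV : (RelProj.emb p chart U hU).base y ∈ V' := ⟨hy, y, hyD, rfl⟩
  have hpre : RelProj.emb p chart U hU ⁻¹ᵁ V' ≤ D := fun w hw =>
    ((RelProj.emb p chart U hU).preimage_image_eq D).le hw.2
  obtain ⟨g', hg'⟩ := (hL.bijective U hU V' (hV'.trans hV)).surjective (e.res hpre).fwd
  obtain ⟨a, ha⟩ := (hframe V' hV').2 g'
  have h1 : (lam U hU).app V' (a • mres L hV' g) = (e.res hpre).fwd := (congrArg _ ha).trans hg'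
  have h1' := ((Scheme.Modules.Hom.app_smul (lam U hU) a (mres L hV' g)).symm.trans h1)
  have h2 := (congrArg (fun q => GrTwist.val (V := RelProj.emb p chart U hU ⁻¹ᵁ V') q ⟨y, hyV⟩) h1')
  have hval' : GrTwist.val (V := RelProj.emb p chart U hU ⁻¹ᵁ V') ((lam U hU).app V' (mres L hV' g)) ⟨y, hyV⟩ =
      Localization.mk f 1 := by
    refine (congrArg (fun q => GrTwist.val (V := RelProj.emb p chart U hU ⁻¹ᵁ V') q ⟨y, hyV⟩) (mres_app (lam U hU) hV' g)).trans ?_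
    exact (val_mres_pushforward _ hV' _ ⟨y, hyV⟩).trans (hval ⟨y, hy⟩)
  have h3 : (((RelProj.emb p chart U hU).app V' a).1 ⟨y, hyV⟩).val * Localization.mk f 1 = (e.fwd.1 ⟨y, hpre hyV⟩).1 := by
    refine Eq.trans ?_ h2
    refine Eq.trans ?_ (GrTwist.coe_smul_val (d : ℤ) y _ _).symm
    exact congrArg _ hval'.symm
  have h4 : IsUnit ((algebraMap (𝒮.presheaf.obj (op U)) (GrTwist.Loc (𝒮.deg U hU) y)) f) := by
    rw [← Localization.mk_one_eq_algebraMap]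
    refine IsUnit.of_mul_eq_one (((((RelProj.emb p chart U hU).app V' a).1 ⟨y, hyV⟩).val) * (e.bwd.1 ⟨y, hpre hyV⟩).1) ?_
    rw [← mul_assoc, mul_comm (Localization.mk f 1), h3, e.mul_eq]
  exact (IsLocalization.AtPrime.isUnit_to_map_iff (GrTwist.Loc (𝒮.deg U hU) y) _ f).mp h4

include hL in
/-- A section with values `f / 1` is a frame inside `D₊(f)`. -/
theorem isFrame_of_val (hf : f ∈ 𝒮.deg U hU d) {V : P.Opens} (hVU : V ≤ p ⁻¹ᵁ U)
    (hVD : RelProj.emb p chart U hU ⁻¹ᵁ V ≤ Proj.basicOpen (𝒮.deg U hU) f) (g : Γ(L, V))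
    (hval : ∀ y : (RelProj.emb p chart U hU ⁻¹ᵁ V : (Proj (𝒮.deg U hU)).Opens),
      GrTwist.val (V := RelProj.emb p chart U hU ⁻¹ᵁ V) ((lam U hU).app V g) y = Localization.mk f 1) :
    IsFrame L V g := by
  intro V' hV'
  obtain ⟨e', he'⟩ := exists_unit_mk_one (𝒜 := 𝒮.deg U hU) hf
  have hpre : RelProj.emb p chart U hU ⁻¹ᵁ V' ≤ Proj.basicOpen (𝒮.deg U hU) f :=
    fun w hw => hVD (hV' hw)
  refine bijective_smul_of_unit hL hU e' (hV'.trans hVU) hpre (mres L hV' g) fun w => ?_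
  refine Eq.trans ?_ (he' ⟨w.1, hpre w.2⟩).symm
  refine (congrArg (fun q => GrTwist.val (V := RelProj.emb p chart U hU ⁻¹ᵁ V') q w) (mres_app (lam U hU) hV' g)).trans ?_
  exact (val_mres_pushforward _ hV' _ w).trans (hval ⟨w.1, hV' w.2⟩)

include hcov hL in
/-- Over an affine open of the base, degree one elements give sections of `O(1)` with the expected loci. -/
theorem exists_hom_genLocus (hf : f ∈ 𝒮.deg U hU d) :
    ∃ s : Coh.structureModule (p ⁻¹ᵁ U : P.Opens) ⟶ L.restrict (p ⁻¹ᵁ U).ι,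
      CohB1.genLocus _ s =
        (p ⁻¹ᵁ U).ι ⁻¹ᵁ (RelProj.emb p chart U hU ''ᵁ Proj.basicOpen (𝒮.deg U hU) f) := by
  obtain ⟨g, hg⟩ := (hL.bijective U hU (p ⁻¹ᵁ U) le_rfl).surjective
    (mres (GrTwist.twist (𝒮.deg U hU) (d : ℤ)) (le_top : RelProj.emb p chart U hU ⁻¹ᵁ (p ⁻¹ᵁ U) ≤ ⊤)
      (GrTwist.globalOf (𝒮.deg U hU) ⟨f, hf⟩))
  have hU' : (p ⁻¹ᵁ U).ι ''ᵁ ⊤ ≤ p ⁻¹ᵁ U := (p ⁻¹ᵁ U).ι_image_top.le
  have hle : ∀ W : ((p ⁻¹ᵁ U : P.Opens) : Scheme.{u}).Opens, (p ⁻¹ᵁ U).ι ''ᵁ W ≤ p ⁻¹ᵁ U :=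
    fun W => ((p ⁻¹ᵁ U).ι.image_mono le_top).trans hU'
  have hval : ∀ (V : P.Opens) (hV : V ≤ p ⁻¹ᵁ U) (y : (RelProj.emb p chart U hU ⁻¹ᵁ V : (Proj (𝒮.deg U hU)).Opens)),
      GrTwist.val (V := RelProj.emb p chart U hU ⁻¹ᵁ V) ((lam U hU).app V (mres L hV g)) y =
        Localization.mk f 1 := by
    intro V hV y
    refine (congrArg (fun q => GrTwist.val (V := RelProj.emb p chart U hU ⁻¹ᵁ V) q y) (mres_app (lam U hU) hV g)).trans ?_
    refine (val_mres_pushforward _ hV _ y).trans ?_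
    exact congrArg (fun q => GrTwist.val (V := RelProj.emb p chart U hU ⁻¹ᵁ (p ⁻¹ᵁ U)) q ⟨y.1, hV y.2⟩) hg
  refine ⟨Var76.Frames.ofSection (L.restrict (p ⁻¹ᵁ U).ι) (mres L hU' g), ?_⟩
  have hfr : ∀ W : ((p ⁻¹ᵁ U : P.Opens) : Scheme.{u}).Opens,
      W ≤ CohB1.genLocus _ (Var76.Frames.ofSection (L.restrict (p ⁻¹ᵁ U).ι) (mres L hU' g)) ↔
        IsFrame L ((p ⁻¹ᵁ U).ι ''ᵁ W) (mres L (hle W) g) := by
    intro W
    rw [← isFrame_iff_le_genLocus, isFrame_restrict_iff, Var76.Frames.val_ofSection]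
    exact iff_of_eq (congrArg (IsFrame L _) (mres_mres L hU' ((p ⁻¹ᵁ U).ι.image_mono (le_top (a := W))) g))
  refine le_antisymm (fun z hz => ?_) ?_
  · obtain ⟨y, hy⟩ : ((p ⁻¹ᵁ U).ι.base z) ∈ (RelProj.emb p chart U hU).opensRange := by
      rw [opensRange_emb]; exact z.2
    exact ⟨y, mem_basicOpen_of_frame hcov hL hU (hle _) _ ((hfr _).1 le_rfl) (hval _ (hle _)) y
      ⟨z, hz, hy.symm⟩, hy⟩
  · rw [hfr]
    refine isFrame_of_val hL hU hf (hle _) (fun w hw => ?_) _ (hval _ (hle _))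
    obtain ⟨w', hw', e'⟩ := hw
    refine ((RelProj.emb p chart U hU).preimage_image_eq _).le ?_
    show (RelProj.emb p chart U hU).base w ∈ RelProj.emb p chart U hU ''ᵁ _
    rw [← e']
    exact hw'

omit hcov hL in
theorem isRelAmple (hd : 0 < d) (hL : RelProj.IsRelTwist 𝒮 p chart (d : ℤ) L lam)
    (hcov : ∀ (U : S.Opens) (hU : IsAffineOpen U), CoveredBy 𝒮 d hU) [QuasiCompact p] :
    RelAmple.IsRelAmple p L := by
  refine ⟨inferInstance, fun ⟨U, hU⟩ => ?_⟩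
  have := compactSpace_preimage p hU
  refine isAmple_iff.2 ⟨EGA73.isInvertible_restrict (isInvertible_of_coveredBy hL hcov) _, inferInstance, fun z => ?_⟩
  obtain ⟨y, hy⟩ : ((p ⁻¹ᵁ U).ι.base z) ∈ (RelProj.emb p chart U hU).opensRange := by
    rw [opensRange_emb]; exact z.2
  obtain ⟨f, hf, hyf⟩ := hcov U hU y
  obtain ⟨s, hs⟩ := exists_hom_genLocus hcov hL hU hf
  refine ⟨_, mem_genSet_one s, ?_, ?_⟩ <;> rw [hs]
  · exact ⟨y, hyf, hy⟩
  · refine IsAffineOpen.preimage_of_isOpenImmersion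
      ((Proj.isAffineOpen_basicOpen _ f hf hd).image_of_isOpenImmersion _) _ ?_
    rw [Scheme.Opens.opensRange_ι]
    exact ((RelProj.emb p chart U hU).image_le_opensRange _).trans_eq (opensRange_emb U hU)

end Groth.Agent.EGA73.RelAmpleTwistD

end
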