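import Groth.Agent.EGAProj74.SelfModule
import Groth.Agent.EGAProj74.RelTensor
import Groth.Agent.Amp73.Powers

/-! `O(n) ≅ O(1)^{⊗ n}` on a relative Proj generated in degree one. -/

set_option autoImplicit false
set_option backward.isDefEq.respectTransparency.types false

universe u

open CategoryTheory CategoryTheory.Limits AlgebraicGeometry TopologicalSpace Opposite
open scoped HomogeneousIdeal

noncomputable section

namespace Groth.Agent.EGA73.RelTwistPow

open EGAProj74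

/-- A module trivial over the whole space is trivial. -/
theorem nonempty_iso_of_restrict_top {X : Scheme.{u}} {M : X.Modules}
    (h : Nonempty (M.restrict (⊤ : X.Opens).ι ≅ Coh.structureModule ((⊤ : X.Opens) : Scheme.{u}))) :
    Nonempty (M ≅ Coh.structureModule X) := by
  obtain ⟨e⟩ := h
  let t := X.topIso.inv
  have ht : t ≫ (⊤ : X.Opens).ι = 𝟙 X := X.topIso.inv_hom_id
  exact ⟨(Scheme.Modules.restrictFunctorId.app M).symm ≪≫
    (Scheme.Modules.restrictFunctorCongr ht.symm).app M ≪≫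
    (Scheme.Modules.restrictFunctorComp t (⊤ : X.Opens).ι).app M ≪≫
    (Scheme.Modules.restrictFunctor t).mapIso e ≪≫ Scheme.Modules.restrictUnitIso t⟩

variable {S P : Scheme.{u}} {𝒮 : RelProj.QCGrAlg S} {p : P ⟶ S}
  {chart : ∀ (U : S.Opens) (hU : IsAffineOpen U), (((p ⁻¹ᵁ U : P.Opens) : Scheme.{u}) ≅ Proj (𝒮.deg U hU))}
  (hP : RelProj.IsRelProj 𝒮 p chart) (hgen : 𝒮.IsGenDegOne) {O1 : P.Modules}
  {lam1 : ∀ (U : S.Opens) (hU : IsAffineOpen U),
    O1 ⟶ (Scheme.Modules.pushforward (RelProj.emb p chart U hU)).obj (GrTwist.twist (𝒮.deg U hU) 1)}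
  (hO1 : RelProj.IsRelTwist 𝒮 p chart 1 O1 lam1)

include hP hgen hO1 in
theorem nonempty_iso_pow : ∀ (n : ℕ) (L : P.Modules)
    (lam : ∀ (U : S.Opens) (hU : IsAffineOpen U),
      L ⟶ (Scheme.Modules.pushforward (RelProj.emb p chart U hU)).obj (GrTwist.twist (𝒮.deg U hU) (n : ℤ))),
    RelProj.IsRelTwist 𝒮 p chart (n : ℤ) L lam → Nonempty (L ≅ CohB1.tensorPow O1 n)
  | 0, L, lam, h => nonempty_iso_of_restrict_top (nonempty_twist_zero_iso hP Nat.cast_zero h ⊤)
  | n + 1, L, lam, h => by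
    obtain ⟨M, lamM, hM⟩ := exists_isRelTwist (hP := hP) (n : ℤ)
    obtain ⟨e⟩ := nonempty_tensor_iso hP (isQCoh_selfModule 𝒮) (isRelTilde_of_isRelTwist (hP := hP) hM) hO1
      (isRelTilde_of_isRelTwist (hP := hP) h) (Nat.cast_succ n).symm hgen
    obtain ⟨e'⟩ := nonempty_iso_pow n M lamM hM
    exact ⟨e.symm ≪≫ EGA73.tensIso e' (Iso.refl _)⟩

end Groth.Agent.EGA73.RelTwistPow

end
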