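import Groth.Agent.EGA73.AffineCriterion
import Groth.Agent.Serre69.Criterion
import Groth.Agent.Serre69.RPushVanish
import Groth.Agent.CartMod7.Affine
import Mathlib.AlgebraicGeometry.Restrict

/-!
Serre's criterion for morphisms (EGA II 5.2.2).
-/

set_option autoImplicit false
set_option backward.isDefEq.respectTransparency.types false

universe u

open CategoryTheory CategoryTheory.Limits AlgebraicGeometry TopologicalSpace Opposite

noncomputable section

namespace Groth.Agent.EGA73.SerreAffine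

open QC70 Serre69

variable {X : Scheme.{u}}

/-- The quotient map of a closed immersion. -/
theorem exists_quotient {W : Scheme.{u}} (ι : W ⟶ X) [IsClosedImmersion ι] :
    ∃ (φ : unitMod X ⟶ (Scheme.Modules.pushforward ι).obj (unitMod W)),
      Epi φ ∧ ((Scheme.Modules.pushforward ι).obj (unitMod W)).IsQuasicoherent ∧
        ∀ U : X.Opens, Function.Surjective (φ.app U) → Function.Surjective (ι.app U) := by
  have : (unitMod W).IsQuasicoherent := isQuasicoherent_unit
  let N := (Scheme.Modules.pushforward ι).obj (unitMod W)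
  have hN : N.IsQuasicoherent := QCqs72.isQuasicoherent_pushforward (M := unitMod W) ι
  let φ : unitMod X ⟶ N := QC70.unitHom (show Γ(N, ⊤) from toUnit (1 : Γ(W, ι ⁻¹ᵁ ⊤)))
  have happ : ∀ (U : X.Opens) (a : Γ(X, U)), φ.app U (toUnit a) = (show Γ(N, U) from toUnit (ι.app U a)) := by
    intro U a
    refine (Serre69.unitHom_app (N := N) _ U a).trans ?_
    refine (QCqs72.pushforward_smul (M := unitMod W) ι a _).trans ?_
    show ι.app U a • toUnit (resO W _ 1) = toUnit (ι.app U a)
    exact (smul_unit _ _).trans (congrArg toUnit ((congrArg (ι.app U a * ·) (map_one _)).trans (mul_one _)))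
  refine ⟨φ, ?_, hN, fun U hU g => ?_⟩
  · exact Serre71.epi_of_app_surjective φ (fun U : X.affineOpens => U.1) (iSup_affineOpens_eq_top X)
      (fun U => U.2) (fun U => isLocAt_of_isQuasicoherent N U.2) fun U t => by
        obtain ⟨a, ha⟩ := ι.app_surjective U.1 U.2 (show Γ(W, ι ⁻¹ᵁ U.1) from t)
        exact ⟨toUnit a, (happ U.1 a).trans ha⟩
  · obtain ⟨a, ha⟩ := hU (show Γ(N, U) from toUnit g)
    exact ⟨(show Γ(X, U) from a), (happ U (show Γ(X, U) from a)).symm.trans ha⟩

/-- An open whose functions surject along all closed subschemes of `X` extends from reduced closed subschemes. -/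
theorem extendsFromReduced_of_app_surjective (U : X.Opens)
    (h : ∀ (W : Scheme.{u}) (ι : W ⟶ X) [IsClosedImmersion ι], Function.Surjective (ι.app U)) :
    AffineCriterion.ExtendsFromReduced (U : Scheme.{u}) := by
  intro C
  let C' : Closeds X := ⟨closure (U.ι '' (C : Set (U : Scheme.{u}))), isClosed_closure⟩
  let I := Scheme.IdealSheafData.vanishingIdeal C'
  let ι := I.subschemeι
  have hred : IsReduced I.subscheme := SchBasics.isReduced_vanishingIdeal_subscheme _
  refine ⟨_, ι ∣_ U, inferInstance, isReduced_of_isOpenImmersion (ι ⁻¹ᵁ U).ι, ?_, ?_⟩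
  · have hU : U.ι ⁻¹' closure (U.ι '' (C : Set (U : Scheme.{u}))) = (C : Set (U : Scheme.{u})) := by
      rw [← U.ι.isOpenEmbedding.isInducing.closure_eq_preimage_closure_image]
      exact C.isClosed.closure_eq
    rw [← hU]
    ext z
    refine ⟨?_, fun hz => ?_⟩
    · rintro ⟨w, rfl⟩
      show U.ι ((ι ∣_ U) w) ∈ (C' : Set X)
      rw [← Scheme.Hom.comp_apply, morphismRestrict_ι]
      exact (SchBasics.range_vanishingIdeal_subschemeι C').le ⟨_, rfl⟩
    · obtain ⟨w, hw⟩ : U.ι z ∈ Set.range ι := (SchBasics.range_vanishingIdeal_subschemeι C').ge hz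
      have hwU : ι w ∈ U := by rw [hw]; exact z.2
      refine ⟨⟨w, hwU⟩, U.ι.isOpenEmbedding.injective ?_⟩
      rw [← Scheme.Hom.comp_apply, morphismRestrict_ι]
      exact hw
  · have key : ∀ (V : X.Opens) (_ : V = U), Function.Surjective (ι.app V) := by
      rintro V rfl
      exact h _ ι
    intro t
    obtain ⟨t₁, ht₁⟩ := (ConcreteCategory.bijective_of_isIso
      (I.subscheme.presheaf.map (eqToHom (image_morphismRestrict_preimage ι U ⊤)).op)).2 t
    obtain ⟨t₂, ht₂⟩ := key _ U.ι_image_top t₁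
    refine ⟨t₂, ?_⟩
    rw [morphismRestrict_appTop, ← ht₁, ← ht₂]
    rfl

theorem isAffineHom_of_app_surjective {Y : Scheme.{u}} (f : X ⟶ Y) [IsSeparated f] [QuasiCompact f]
    (h : ∀ (V : Y.Opens), IsAffineOpen V → ∀ (W : Scheme.{u}) (ι : W ⟶ X) [IsClosedImmersion ι],
      Function.Surjective (ι.app (f ⁻¹ᵁ V))) : IsAffineHom f := by
  refine ⟨fun V hV => ?_⟩
  have : IsAffine (V : Scheme.{u}) := hV
  have : CompactSpace (f ⁻¹ᵁ V : Scheme.{u}) := isCompact_iff_compactSpace.1 (f.isCompact_preimage hV.isCompact)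
  have : QuasiSeparatedSpace (f ⁻¹ᵁ V : Scheme.{u}) := quasiSeparatedSpace_of_quasiSeparated (f ∣_ V)
  exact AffineCriterion.isAffine_of_extendsFromReduced (extendsFromReduced_of_app_surjective _ (h V hV))

/-- EGA II 5.2.2, (b) ⇒ (a). -/
theorem isAffineHom_of_pushforward_epi {Y : Scheme.{u}} (f : X ⟶ Y) [IsSeparated f] [QuasiCompact f]
    (h : ∀ (F F'' : X.Modules) (p : F ⟶ F''), Coh.IsQCoh F → Coh.IsQCoh F'' → Epi p →
      Epi ((Scheme.Modules.pushforward f).map p)) : IsAffineHom f := by
  refine isAffineHom_of_app_surjective f fun V hV W ι _ => ?_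
  obtain ⟨φ, hφ, hN, hsurj⟩ := exists_quotient ι
  have : (unitMod X).IsQuasicoherent := isQuasicoherent_unit
  have := hN
  have := QCqs72.isQuasicoherent_pushforward (M := unitMod X) f
  have := QCqs72.isQuasicoherent_pushforward (M := (Scheme.Modules.pushforward ι).obj (unitMod W)) f
  have := h _ _ φ ‹_› hN hφ
  exact hsurj _ (CartMod7.app_surjective_of_epi ((Scheme.Modules.pushforward f).map φ) hV)

/-- EGA II 5.2.2, (c') ⇒ (a). -/
theorem isAffineHom_of_rpush_one {Y : Scheme.{u}} (f : X ⟶ Y) [IsSeparated f] [QuasiCompact f]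
    (h : ∀ (J : X.Modules) (i : J ⟶ Coh.structureModule X), Mono i → Coh.IsQCoh J →
      IsZero ((Coh.RpushAb f 1).obj (Coh.toAb J))) : IsAffineHom f := by
  refine isAffineHom_of_app_surjective f fun V hV W ι _ => ?_
  obtain ⟨φ, hφ, hN, hsurj⟩ := exists_quotient ι
  have : (unitMod X).IsQuasicoherent := isQuasicoherent_unit
  have := hN
  have hK : (kernel φ).IsQuasicoherent := isQuasicoherent_kernel φ
  have hT : (ShortComplex.mk (kernel.ι φ) φ (kernel.condition φ)).ShortExact :=
    { exact := ShortComplex.exact_of_f_is_kernel _ (kernelIsKernel φ)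
      mono_f := (inferInstance : Mono (kernel.ι φ))
      epi_g := hφ }
  have : Subsingleton (Coh69.HE (Crv77.abComplex (ShortComplex.mk (kernel.ι φ) φ (kernel.condition φ))).X₁ 1 (f ⁻¹ᵁ V)) :=
    subsingleton_HE_preimage f (kernel φ) 0 (h _ (kernel.ι φ) inferInstance hK) hV
  refine hsurj _ fun t => ?_
  exact Coh69.surjective_of_subsingleton_H1 (Crv77.abComplex_shortExact hT) (f ⁻¹ᵁ V) t

/-- EGA II 5.2.1, (c') ⇒ (a). -/
theorem isAffine_of_lifts [CompactSpace X] [QuasiSeparatedSpace X]
    (h : ∀ (N : X.Modules) (φ : unitMod X ⟶ N), Epi φ → N.IsQuasicoherent → Function.Surjective (φ.app ⊤)) :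
    IsAffine X := by
  have : CompactSpace ((⊤ : X.Opens) : Scheme.{u}) := isCompact_iff_compactSpace.1 isCompact_univ
  have : QuasiSeparatedSpace ((⊤ : X.Opens) : Scheme.{u}) := quasiSeparatedSpace_of_quasiSeparated (⊤ : X.Opens).ι
  have : IsAffine ((⊤ : X.Opens) : Scheme.{u}) := AffineCriterion.isAffine_of_extendsFromReduced
    (extendsFromReduced_of_app_surjective (X := X) ⊤ fun W ι _ => by
      obtain ⟨φ, hφ, hN, hsurj⟩ := exists_quotient ι
      exact hsurj _ (h _ φ hφ hN))
  exact IsAffine.of_isIso X.topIso.inv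

end Groth.Agent.EGA73.SerreAffine

end
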