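import Groth.Agent.Amp73.Tensor
import Groth.Agent.EGAProj74.RelTensor

/-! Tensoring against a frame is bijective on sections. -/

set_option autoImplicit false

universe u

open CategoryTheory CategoryTheory.Limits AlgebraicGeometry Opposite TopologicalSpace

noncomputable section

namespace Groth.Agent.EGA73.TensorFrame

open Var76.LineBundle Var76.ZeroScheme Amp73

variable {X : Scheme.{u}} {M L : X.Modules} {U : X.Opens} {l : Γ(L, U)}

theorem tm_frame_bijective (hl : IsFrame L U l) {V : X.Opens} (hV : V ≤ U) :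
    Function.Bijective (fun m : Γ(M, V) => tm M L m (res L hV l)) := by
  have hloc := (Mod48.isIso_shf_map_iff_isLocalIso (O := X.sheaf) (Mod48.shfU (CohB1.tensorPre M L))).mp
    inferInstance
  have coord : ∀ (W : X.Opens) (hW : W ≤ U) (a b : Γ(M, W)),
      Mero90.tq a (res L hW l) = Mero90.tq b (res L hW l) → a = b := by
    intro W hW a b hab
    let cL : Γ(L, W) ≃ₗ[Γ(X, W)] Γ(X, W) :=
      (LinearEquiv.ofBijective (LinearMap.toSpanSingleton Γ(X, W) Γ(L, W) (res L hW l)) (hl W hW)).symm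
    have hL1 : cL (res L hW l) = 1 := by
      rw [LinearEquiv.symm_apply_eq]; exact (one_smul _ _).symm
    letI : Module (X.sheaf.obj.obj (op W)) Γ(M, W) := inferInstanceAs (Module Γ(X, W) Γ(M, W))
    let β : (CohB1.tensorPre M L).obj (op W) →ₗ[X.sheaf.obj.obj (op W)] (Γ(M, W) : Type u) :=
      (TensorProduct.rid _ _).toLinearMap.comp (TensorProduct.map LinearMap.id cL.toLinearMap)
    have hval : ∀ c : Γ(M, W), β (Mero90.tq c (res L hW l)) = c := fun c => by
      show (cL (res L hW l) : Γ(X, W)) • c = c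
      rw [hL1, one_smul]
    rw [← hval a, ← hval b, hab]
  have hinj : ∀ (O : X.Opens) (hO : O ≤ U),
      Function.Injective (fun m : Γ(M, O) => tm M L m (res L hO l)) := by
    intro O hO a b hab
    dsimp only at hab
    rw [tm_eq, tm_eq] at hab
    refine eq_of_locally M a b fun x hx => ?_
    obtain ⟨W, i, hW, hxW⟩ := hloc.inj.equalizerSieve_mem _ _ hab x hx
    replace hW : (CohB1.tensorPre M L).map i.op (Mero90.tq a (res L hO l)) =
        (CohB1.tensorPre M L).map i.op (Mero90.tq b (res L hO l)) := hW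
    have hmap : ∀ c : Γ(M, O), (CohB1.tensorPre M L).map i.op (Mero90.tq c (res L hO l)) =
        Mero90.tq (res M i.le c) (res L (i.le.trans hO) l) := fun c => by
      refine (Mod48.map_tp (O := X.sheaf) (M := CohB1.toPMod M) (N := CohB1.toPMod L) i.op _ _).trans ?_
      show Mero90.tq (res M i.le c) (res L i.le (res L hO l)) = _
      rw [res_res]
    rw [hmap, hmap] at hW
    exact ⟨W, i.le, hxW, coord W (i.le.trans hO) _ _ hW⟩
  refine ⟨hinj V hV, fun s => ?_⟩
  have key : ∀ x : V, ∃ (W : X.Opens) (hW : W ≤ V) (m : Γ(M, W)), x.1 ∈ W ∧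
      tm M L m (res L (hW.trans hV) l) = res (CohB1.tensorMod M L) hW s := by
    intro x
    obtain ⟨W, i, ⟨z, hz⟩, hxW⟩ := hloc.surj.imageSieve_mem s x.1 x.2
    obtain ⟨m, rfl⟩ := EGAProj74.exists_tq_frame hl (i.le.trans hV) z
    exact ⟨W, i.le, m, hxW, (tm_eq _ _).trans hz⟩
  choose W hW m hxW hm using key
  obtain ⟨a, ha, -⟩ := TopCat.Sheaf.existsUnique_gluing' (⟨M.presheaf, M.isSheaf⟩ : TopCat.Sheaf Ab X) W V
    (fun x => homOfLE (hW x)) (fun y hy => Opens.mem_iSup.2 ⟨⟨y, hy⟩, hxW ⟨y, hy⟩⟩) m fun x y => by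
      refine hinj (W x ⊓ W y) ((inf_le_left.trans (hW x)).trans hV) ?_
      have h1 := congrArg (res (CohB1.tensorMod M L) (inf_le_left : W x ⊓ W y ≤ W x)) (hm x)
      have h2 := congrArg (res (CohB1.tensorMod M L) (inf_le_right : W x ⊓ W y ≤ W y)) (hm y)
      rw [res_tm, res_res, res_res] at h1 h2
      exact h1.trans h2.symm
  refine ⟨a, eq_of_locally _ _ _ fun y hy => ⟨W ⟨y, hy⟩, hW _, hxW _, ?_⟩⟩
  rw [res_tm, res_res, ← hm ⟨y, hy⟩]
  exact congrArg (fun c => tm M L c _) (ha ⟨y, hy⟩)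

end Groth.Agent.EGA73.TensorFrame

end
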