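import Groth.Agent.EGA73.TildeQCoh
import Groth.Agent.EGA73.GradedFinite
import Groth.Agent.QC70.FiniteType

/-!
`M~` is of finite type when a tail of `M` is finitely generated.
-/

set_option autoImplicit false
set_option backward.isDefEq.respectTransparency.types false

universe u

open CategoryTheory Limits AlgebraicGeometry TopologicalSpace Opposite GrTilde

noncomputable section

namespace Groth.Agent.EGA73.TildeFinite

variable {R A : Type u} [CommRing R] [CommRing A] [Algebra R A] {𝒜 : ℕ → Submodule R A} [GradedAlgebra 𝒜]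
variable {M : Type u} [AddCommGroup M] [Module R M] [Module A M] {ℳ : ℕ → Submodule R M}
  [SetLike.GradedSMul 𝒜 ℳ]

variable {d : ℕ} {f : A} (hf : f ∈ 𝒜 d)

/-- The function `b / f ^ j` on `D₊(f)`. -/
def scalar {j : ℕ} (b : 𝒜 (j * d)) : Γ(Proj 𝒜, Proj.basicOpen 𝒜 f) :=
  Proj.awayToSection 𝒜 f (HomogeneousLocalization.mk
    ⟨j * d, b, ⟨f ^ j, by simpa using SetLike.pow_mem_graded j hf⟩, Submonoid.mem_powers_iff _ _ |>.2 ⟨j, rfl⟩⟩)

/-- The section `z / f ^ k` of `M~` on `D₊(f)`. -/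
def section' {k : ℕ} (z : ℳ (k * d)) : Γ(GrTilde.tilde 𝒜 ℳ 0, Proj.basicOpen 𝒜 f) :=
  fracSect (U := ProjectiveSpectrum.basicOpen 𝒜 f) (j := k * d) z.2
    (h := f ^ k) (by simpa using SetLike.pow_mem_graded k hf) (fun x => pow_notMem x.2 k) (by simp)

theorem scalar_smul {j l k : ℕ} (hk : j + l = k) (b : 𝒜 (j * d)) (y : ℳ (l * d)) (z : ℳ (k * d))
    (hz : (z : M) = (b : A) • (y : M)) : scalar hf b • section' hf y = section' hf z := by
  subst hk
  refine sect_ext fun x => ?_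
  show (a0Frac (e := j * d) x.1 b.2 (by simpa using SetLike.pow_mem_graded j hf) (pow_notMem x.2 j)) •
      frac x.1 (y : M) (f ^ l) (pow_notMem x.2 l) = frac x.1 (z : M) (f ^ (j + l)) (pow_notMem x.2 _)
  rw [a0_smul_def, a0Frac, HomogeneousLocalization.val_mk]
  refine (LocalizedModule.mk_smul_mk _ _ _ _).trans (frac_congr ?_)
  simp [hz, pow_add]

theorem section'_add {k : ℕ} (y z : ℳ (k * d)) : section' hf (y + z) = section' hf y + section' hf z := by
  refine sect_ext fun x => ?_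
  show frac x.1 ((y : M) + z) (f ^ k) (pow_notMem x.2 k) =
    frac x.1 (y : M) (f ^ k) (pow_notMem x.2 k) + frac x.1 (z : M) (f ^ k) (pow_notMem x.2 k)
  rw [frac, frac, frac, LocalizedModule.mk_add_mk]
  refine frac_congr ?_
  simp [Submonoid.smul_def, smul_add, smul_smul]

theorem section'_zero {k : ℕ} : section' (ℳ := ℳ) hf (0 : ℳ (k * d)) = 0 :=
  sect_ext fun _ => LocalizedModule.zero_mk _

variable [IsScalarTower R A M] [DirectSum.Decomposition ℳ]

variable (𝒜 ℳ) in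
theorem isFT_tilde (hfg : (HomogeneousIdeal.irrelevant 𝒜).toIdeal.FG)
    (hTF : ∃ n : ℕ, (Submodule.span A (⋃ k ∈ Set.Ici n, (ℳ k : Set M))).FG) :
    CohB1.IsFT (GrTilde.tilde 𝒜 ℳ 0) := by
  classical
  have : Algebra.FiniteType (𝒜 0) A := irrelevant_fg_iff_finiteType.1 hfg
  obtain ⟨r, e, d, hd, he, hadj, hmon⟩ := exists_monomial_generators 𝒜
  obtain ⟨n, hn⟩ := hTF
  obtain ⟨T, hT, hTspan⟩ := Submodule.fg_span_iff_fg_span_finset_subset _ |>.1 hn
  have hTdeg : ∀ m : T, ∃ a, (m : M) ∈ ℳ a := fun m => by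
    obtain ⟨a, -, ha⟩ := Set.mem_iUnion₂.1 (hT m.2)
    exact ⟨a, ha⟩
  choose a ha using hTdeg
  have hcov : ∀ x : Proj 𝒜, ∃ i, x ∈ Proj.basicOpen 𝒜 (e i) := fun x => by
    by_contra H
    push Not at H
    refine (x : ProjectiveSpectrum 𝒜).not_irrelevant_le ((irrelevant_eq_span_of_adjoin_eq_top
      (E := Set.range e) (fun b hb => by obtain ⟨i, rfl⟩ := hb; exact ⟨d i, hd i, he i⟩) hadj).trans_le (Ideal.span_le.2 ?_))
    rintro _ ⟨i, rfl⟩
    exact not_not.1 (H i)
  have : (GrTilde.tilde 𝒜 ℳ 0).IsQuasicoherent := isQCoh_tilde 𝒜 ℳ 0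
  refine QC70.isFiniteType_of_finite_sections (GrTilde.tilde 𝒜 ℳ 0)
    (fun i : ULift.{u} (Fin r) => Proj.basicOpen 𝒜 (e i.down))
    (IsOpenCover.mk (top_le_iff.1 fun x _ => by
      obtain ⟨i, hi⟩ := hcov x
      exact Opens.mem_iSup.2 ⟨⟨i⟩, hi⟩))
    (fun i => Proj.isAffineOpen_basicOpen 𝒜 _ (he _) (hd _)) fun ⟨i₀⟩ => ?_
  let D := d i₀
  have hf := he i₀
  let ρ : (Fin r → Fin D) → A := fun p => ∏ i, e i ^ (p i : ℕ)
  have hρ : ∀ p, ρ p ∈ 𝒜 (∑ i, (p i : ℕ) * d i) := fun p => by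
    have := SetLike.prod_mem_graded 𝒜 (fun i => (p i : ℕ) • d i) (fun i => e i ^ (p i : ℕ)) (F := Finset.univ)
      fun i _ => SetLike.pow_mem_graded _ (he i)
    simpa using this
  let deg : T × (Fin r → Fin D) → ℕ := fun tp => ∑ i, (tp.2 i : ℕ) * d i + a tp.1
  let gen : T × (Fin r → Fin D) → Γ(GrTilde.tilde 𝒜 ℳ 0, Proj.basicOpen 𝒜 (e i₀)) := fun tp =>
    if h : D ∣ deg tp then
      section' hf (k := deg tp / D) ⟨ρ tp.2 • (tp.1 : M), by
        rw [Nat.div_mul_cancel h]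
        exact gsmul_mem 𝒜 ℳ (hρ tp.2) (ha tp.1)⟩
    else 0
  refine ⟨⟨Finset.univ.image gen, top_le_iff.1 fun s _ => ?_⟩⟩
  rw [Finset.coe_image, Finset.coe_univ, Set.image_univ]
  let Sp := Submodule.span Γ(Proj 𝒜, Proj.basicOpen 𝒜 (e i₀)) (Set.range gen)
  show s ∈ Sp
  -- one homogeneous coefficient times a generator
  have key : ∀ (k : ℕ) (t : T) (N : ℕ), N + a t = k * D → ∀ c ∈ Submodule.span (𝒜 0)
      {b | ∃ q : Fin r → ℕ, ∑ i, q i * d i = N ∧ b = ∏ i, e i ^ q i},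
      ∀ hc : c • (t : M) ∈ ℳ (k * D), section' hf ⟨c • (t : M), hc⟩ ∈ Sp := by
    intro k t N hN c hc
    suffices c ∈ 𝒜 N ∧ ∀ hc : c • (t : M) ∈ ℳ (k * D), section' hf ⟨c • (t : M), hc⟩ ∈ Sp from this.2
    induction hc using Submodule.span_induction with
    | mem b hb =>
      obtain ⟨q, hq, rfl⟩ := hb
      refine ⟨?_, fun hc => ?_⟩
      · have := SetLike.prod_mem_graded 𝒜 (fun i => q i • d i) (fun i => e i ^ q i) (F := Finset.univ)
          fun i _ => SetLike.pow_mem_graded _ (he i)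
        simpa [hq] using this
      let p : Fin r → Fin D := fun i => ⟨q i % D, Nat.mod_lt _ (hd i₀)⟩
      let j := ∑ i, q i / D * d i
      have hsplit : N = j * D + ∑ i, (p i : ℕ) * d i := by
        rw [← hq, Finset.sum_mul, ← Finset.sum_add_distrib]
        refine Finset.sum_congr rfl fun i _ => ?_
        show q i * d i = q i / D * d i * D + q i % D * d i
        conv_lhs => rw [← Nat.div_add_mod (q i) D]
        ring
      have hdeg : deg (t, p) + j * D = k * D := by simp only [deg]; omega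
      have hdvd : D ∣ deg (t, p) := by
        rw [← Nat.dvd_add_left (Dvd.intro_left j rfl), hdeg]
        exact Dvd.intro_left k rfl
      have hb : ∏ i, e i ^ (D * (q i / D)) ∈ 𝒜 (j * D) := by
        have := SetLike.prod_mem_graded 𝒜 (fun i => (D * (q i / D)) • d i) (fun i => e i ^ (D * (q i / D)))
          (F := Finset.univ) fun i _ => SetLike.pow_mem_graded _ (he i)
        convert this using 2
        rw [Finset.sum_mul]
        exact Finset.sum_congr rfl fun i _ => by rw [smul_eq_mul]; ring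
      have hk : j + deg (t, p) / D = k := by
        refine Nat.eq_of_mul_eq_mul_right (hd i₀) ?_
        rw [add_mul, Nat.div_mul_cancel hdvd, add_comm]
        exact hdeg
      rw [← scalar_smul hf hk ⟨_, hb⟩ ⟨ρ p • (t : M), by
        rw [Nat.div_mul_cancel hdvd]
        exact gsmul_mem 𝒜 ℳ (hρ p) (ha t)⟩ _ (by
          show (∏ i, e i ^ q i) • (t : M) = _ • (ρ p • (t : M))
          rw [smul_smul]
          congr 1
          show _ = _ * ∏ i, e i ^ (q i % D)
          rw [← Finset.prod_mul_distrib]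
          exact Finset.prod_congr rfl fun i _ => by rw [← pow_add, Nat.div_add_mod])]
      refine Submodule.smul_mem _ _ (Submodule.subset_span ⟨(t, p), ?_⟩)
      simp only [gen]
      rw [dif_pos hdvd]
    | zero =>
      refine ⟨zero_mem _, fun hc => ?_⟩
      have : (⟨(0 : A) • (t : M), hc⟩ : ℳ (k * D)) = 0 := Subtype.ext (zero_smul _ _)
      rw [this, section'_zero]
      exact zero_mem _
    | add b b' _ _ hb hb' =>
      refine ⟨add_mem hb.1 hb'.1, fun hc => ?_⟩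
      have h1 : b • (t : M) ∈ ℳ (k * D) := hN ▸ gsmul_mem 𝒜 ℳ hb.1 (ha t)
      have h2 : b' • (t : M) ∈ ℳ (k * D) := hN ▸ gsmul_mem 𝒜 ℳ hb'.1 (ha t)
      rw [show (⟨(b + b') • (t : M), hc⟩ : ℳ (k * D)) = ⟨_, h1⟩ + ⟨_, h2⟩ from Subtype.ext (add_smul _ _ _),
        section'_add]
      exact add_mem (hb.2 h1) (hb'.2 h2)
    | smul z b _ hb =>
      have hzb : z • b ∈ 𝒜 N := by
        show (z : A) * b ∈ 𝒜 N
        simpa using SetLike.mul_mem_graded z.2 hb.1
      refine ⟨hzb, fun hc => ?_⟩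
      have h1 : b • (t : M) ∈ ℳ (k * D) := hN ▸ gsmul_mem 𝒜 ℳ hb.1 (ha t)
      have hz : (z : A) ∈ 𝒜 (0 * D) := by simpa using z.2
      rw [← scalar_smul hf (Nat.zero_add k) ⟨(z : A), hz⟩ ⟨_, h1⟩ ⟨_, hc⟩ (mul_smul (z : A) b (t : M))]
      exact Submodule.smul_mem _ _ (hb.2 h1)
  obtain ⟨k₀, i₁, z₀, hz₀, hi₁, hs⟩ := exists_frac_eq (hd i₀) hf
    (s : sect 𝒜 ℳ 0 (op (ProjectiveSpectrum.basicOpen 𝒜 (e i₀))))
  have hz₀' : z₀ ∈ ℳ (k₀ * D) := by
    have : i₁ = k₀ * D := by exact_mod_cast (by simpa using hi₁ : (i₁ : ℤ) = k₀ * (D : ℤ))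
    exact this ▸ hz₀
  have hz : e i₀ ^ n • z₀ ∈ ℳ ((n + k₀) * D) := by
    rw [add_mul]
    exact gsmul_mem 𝒜 ℳ (by simpa using SetLike.pow_mem_graded n hf) hz₀'
  have hseq : s = section' hf ⟨_, hz⟩ := by
    refine sect_ext fun x => (hs x).trans ?_
    refine (frac_congr ?_).trans rfl
    rw [pow_add, mul_comm, mul_smul]
  have hzmem : e i₀ ^ n • z₀ ∈ Submodule.span A (T : Set M) := by
    rw [← hTspan]
    refine Submodule.subset_span (Set.mem_iUnion₂.2 ⟨(n + k₀) * D, ?_, hz⟩)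
    show n ≤ (n + k₀) * D
    exact (Nat.le_add_right n k₀).trans (Nat.le_mul_of_pos_right _ (hd i₀))
  obtain ⟨c, hc⟩ := Submodule.mem_span_finset'.1 hzmem
  let π : M →+ M := AddMonoidHom.mk' (fun m => (DirectSum.decompose ℳ m ((n + k₀) * D) : M)) (fun m m' => by simp)
  let c' : T → A := fun t => if a t ≤ (n + k₀) * D then (DirectSum.decompose 𝒜 (c t) ((n + k₀) * D - a t) : A) else 0
  have hπ : ∀ t : T, π (c t • (t : M)) = c' t • (t : M) := fun t => by
    show (DirectSum.decompose ℳ (c t • (t : M)) ((n + k₀) * D) : M) = _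
    conv_lhs => rw [← DirectSum.sum_support_decompose 𝒜 (c t), Finset.sum_smul]
    rw [DirectSum.decompose_sum, DFinsupp.finsetSum_apply, AddSubmonoidClass.coe_finsetSum]
    simp only [c']
    split_ifs with h
    · rw [Finset.sum_eq_single ((n + k₀) * D - a t)]
      · refine DirectSum.decompose_of_mem_same ℳ ?_
        convert gsmul_mem 𝒜 ℳ (SetLike.coe_mem (DirectSum.decompose 𝒜 (c t) ((n + k₀) * D - a t))) (ha t) using 2
        omega
      · intro i _ hi
        exact DirectSum.decompose_of_mem_ne ℳ (gsmul_mem 𝒜 ℳ (SetLike.coe_mem _) (ha t)) (by omega)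
      · intro hi
        simp only [DFinsupp.notMem_support_iff] at hi
        simp [hi]
    · rw [zero_smul]
      exact Finset.sum_eq_zero fun i _ =>
        DirectSum.decompose_of_mem_ne ℳ (gsmul_mem 𝒜 ℳ (SetLike.coe_mem _) (ha t)) (by omega)
  have hmem : ∀ t : T, c' t • (t : M) ∈ ℳ ((n + k₀) * D) := fun t => by
    rw [← hπ]; exact SetLike.coe_mem _
  have hsum : (⟨_, hz⟩ : ℳ ((n + k₀) * D)) = ∑ t : T, ⟨c' t • (t : M), hmem t⟩ := by
    refine Subtype.ext ?_
    rw [AddSubmonoidClass.coe_finsetSum]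
    show e i₀ ^ n • z₀ = ∑ t : T, c' t • (t : M)
    simp only [← hπ]
    rw [← map_sum, hc]
    exact (DirectSum.decompose_of_mem_same ℳ hz).symm
  let σ : ℳ ((n + k₀) * D) →+ Γ(GrTilde.tilde 𝒜 ℳ 0, Proj.basicOpen 𝒜 (e i₀)) :=
    AddMonoidHom.mk' (section' hf) (section'_add hf)
  rw [hseq, hsum]
  show σ _ ∈ Sp
  rw [map_sum]
  refine Submodule.sum_mem _ fun t _ => ?_
  show section' hf ⟨c' t • (t : M), hmem t⟩ ∈ Sp
  by_cases h : a t ≤ (n + k₀) * D
  · refine key (n + k₀) t ((n + k₀) * D - a t) (by omega) (c' t) (hmon _ _ ?_) _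
    simp only [c', if_pos h]
    exact SetLike.coe_mem _
  · have : (⟨c' t • (t : M), hmem t⟩ : ℳ ((n + k₀) * D)) = 0 := Subtype.ext (by simp [c', if_neg h])
    rw [this, section'_zero]
    exact zero_mem _

end Groth.Agent.EGA73.TildeFinite
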