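import Groth.Agent.EGA73.TwistInvertible
import Groth.Agent.EGAProj74.PConeDom
import Groth.Agent.EGAProj74.RLPull
import Groth.Agent.Amp73.PullTensor
import Groth.Agent.Amp73.Local
import Groth.Agent.Curves2.Glue.Descend

/-!
`Φ^* O(n)` is `O(n)` on the domain of the morphism of Proj induced by a graded homomorphism.
-/

set_option autoImplicit false
set_option linter.style.haveILetI false
set_option backward.isDefEq.respectTransparency.types false

universe u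

open CategoryTheory CategoryTheory.Limits AlgebraicGeometry TopologicalSpace Opposite
open HomogeneousLocalization
open Groth.Agent.EGAProj74 Groth.Agent.EGAProj74.RLPull Groth.Agent.Var76

noncomputable section

namespace Groth.Agent.EGA73

variable {R A B : Type u} [CommRing R] [CommRing A] [Algebra R A] {𝒜 : ℕ → Submodule R A} [GradedAlgebra 𝒜]
  [CommRing B] [Algebra R B] {ℬ : ℕ → Submodule R B} [GradedAlgebra ℬ]

theorem pow_mem_one {f : A} (hf : f ∈ 𝒜 1) (k : ℕ) : f ^ k ∈ 𝒜 k := by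
  simpa using SetLike.pow_mem_graded k hf

variable (𝒜) in
/-- `f ^ n` as a unit section of `O(n)` on `D₊(f)`, `f` of degree one. -/
def oneUnit {f : A} (hf : f ∈ 𝒜 1) (n : ℤ) :
    TwistUnit (𝒜 := 𝒜) n (ProjectiveSpectrum.basicOpen 𝒜 f) where
  fwd := ofTildeFun _ _ (fracSect (i := n.toNat) (j := (-n).toNat) (pow_mem_one hf _)
    (pow_mem_one hf _) (fun x => pow_notMem x.2 _) (by omega))
  bwd := ofTildeFun _ _ (fracSect (i := (-n).toNat) (j := n.toNat) (pow_mem_one hf _)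
    (pow_mem_one hf _) (fun x => pow_notMem x.2 _) (by omega))
  mul_eq x := by
    show Localization.mk _ _ * Localization.mk _ _ = 1
    rw [Localization.mk_mul, ← Localization.mk_self (1 : x.1.asHomogeneousIdeal.toIdeal.primeCompl),
      Localization.mk_eq_mk_iff, Localization.r_iff_exists]
    exact ⟨1, by simp [mul_comm]⟩

theorem isFrame_oneUnit {f : A} (hf : f ∈ 𝒜 1) (n : ℤ) :
    LineBundle.IsFrame (Twist.twist 𝒜 n) (Proj.basicOpen 𝒜 f)
      ((oneUnit 𝒜 hf n).fwd : Γ(Twist.twist 𝒜 n, Proj.basicOpen 𝒜 f)) :=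
  fun _ h => smul_unit_bijective ((oneUnit 𝒜 hf n).res h)

variable (𝒜) in
/-- The ratio of `f ^ n` and `g ^ n`. -/
def ratio {f g : A} (hf : f ∈ 𝒜 1) (hg : g ∈ 𝒜 1) (n : ℤ) : Away 𝒜 (f * g) :=
  Away.mk 𝒜 (SetLike.mul_mem_graded hf hg) (n.toNat + (-n).toNat)
    (f ^ (2 * n.toNat) * g ^ (2 * (-n).toNat)) (by
      have h := SetLike.mul_mem_graded (pow_mem_one hf (2 * n.toNat)) (pow_mem_one hg (2 * (-n).toNat))
      rwa [smul_eq_mul, show (n.toNat + (-n).toNat) * (1 + 1) = 2 * n.toNat + 2 * (-n).toNat by omega])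

theorem ratio_smul {f g : A} (hf : f ∈ 𝒜 1) (hg : g ∈ 𝒜 1) (n : ℤ) {α : Away 𝒜 (f * g)}
    (hα : α.val = Localization.mk (f ^ (2 * n.toNat) * g ^ (2 * (-n).toNat))
      ⟨(f * g) ^ (n.toNat + (-n).toNat), pow_mem (Submonoid.mem_powers (f * g)) _⟩)
    (hlf : Proj.basicOpen 𝒜 (f * g) ≤ Proj.basicOpen 𝒜 f) (hlg : Proj.basicOpen 𝒜 (f * g) ≤ Proj.basicOpen 𝒜 g) :
    (Proj.awayToSection 𝒜 (f * g)).hom α •
        LineBundle.res (Twist.twist 𝒜 n) hlg ((oneUnit 𝒜 hg n).fwd : Γ(Twist.twist 𝒜 n, Proj.basicOpen 𝒜 g)) =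
      LineBundle.res (Twist.twist 𝒜 n) hlf ((oneUnit 𝒜 hf n).fwd : Γ(Twist.twist 𝒜 n, Proj.basicOpen 𝒜 f)) := by
  refine Subtype.ext (funext fun x => Subtype.ext ?_)
  refine (Twist.coe_smul_val n x.1 _ _).trans ?_
  have hv := ProjectiveSpectrum.Proj.awayToSection_apply 𝒜 (f * g) α x
  refine (congrArg (· * _) hv).trans ?_
  rw [hα, Localization.mk_eq_mk', IsLocalization.map_mk', ← Localization.mk_eq_mk']
  show Localization.mk _ _ * Localization.mk (g ^ n.toNat) _ = Localization.mk (f ^ n.toNat) _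
  rw [Localization.mk_mul, Localization.mk_eq_mk_iff, Localization.r_iff_exists]
  refine ⟨1, ?_⟩
  simp only [Submonoid.coe_one, one_mul, RingHom.id_apply, Submonoid.coe_mul]
  ring

variable (φ : 𝒜 →+*ᵍ ℬ)

theorem domMap_appLE_awayToSection {d : ℕ} (hd : 0 < d) {f : A} (hf : f ∈ 𝒜 d) (α : Away 𝒜 f)
    (h₁ : (RelCone.domOpen φ).ι ⁻¹ᵁ Proj.basicOpen ℬ (φ f) ≤ domMap φ ⁻¹ᵁ Proj.basicOpen 𝒜 f) :
    (domMap φ).appLE (Proj.basicOpen 𝒜 f) _ h₁ ((Proj.awayToSection 𝒜 f).hom α) =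
      (RelCone.domOpen φ).ι.appLE (Proj.basicOpen ℬ (φ f)) ((RelCone.domOpen φ).ι ⁻¹ᵁ Proj.basicOpen ℬ (φ f))
        le_rfl ((Proj.awayToSection ℬ (φ f)).hom (Away.map φ f α)) := by
  let χ := domChart φ hd f hf
  let O := (RelCone.domOpen φ).ι ⁻¹ᵁ Proj.basicOpen ℬ (φ f)
  have hO : χ.opensRange = O := opensRange_domChart φ hd f hf
  have hT : (⊤ : (Spec (CommRingCat.of (Away ℬ (φ f)))).Opens) ≤ χ ⁻¹ᵁ O := fun w _ => hO.le ⟨w, rfl⟩
  have hbij : Function.Bijective (χ.appLE O ⊤ hT) := by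
    have : IsIso (χ.appLE O ⊤ hT) := by
      have h' : χ ⁻¹ᵁ O = ⊤ := top_unique hT
      have : IsIso (χ.app O) := χ.isIso_app O hO.ge
      have : IsIso ((Spec (CommRingCat.of (Away ℬ (φ f)))).presheaf.map (homOfLE hT).op) := by
        rw [show homOfLE hT = eqToHom h'.symm from rfl]
        infer_instance
      rw [Scheme.Hom.appLE]
      exact IsIso.comp_isIso
    exact ConcreteCategory.bijective_of_isIso _
  refine hbij.1 ?_
  have key : (Proj.awayToSection 𝒜 f ≫ (domMap φ).appLE _ O h₁) ≫ χ.appLE O ⊤ hT =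
      (CommRingCat.ofHom (Away.map φ f) ≫ Proj.awayToSection ℬ (φ f) ≫
        (RelCone.domOpen φ).ι.appLE _ O le_rfl) ≫ χ.appLE O ⊤ hT := by
    simp only [Category.assoc, Scheme.Hom.appLE_comp_appLE]
    rw [appLE_congr_hom (domChart_domMap φ hd f hf), appLE_congr_hom (domChart_ι φ hd f hf),
      awayToSection_appLE ℬ (φ f) (φ.map_mem hf) hd]
    have h2 : (⊤ : (Spec (CommRingCat.of (Away 𝒜 f))).Opens) ≤ Proj.awayι 𝒜 f hf hd ⁻¹ᵁ Proj.basicOpen 𝒜 f :=
      fun w _ => (Proj.opensRange_awayι 𝒜 f hf hd).le ⟨w, rfl⟩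
    rw [← Scheme.Hom.appLE_comp_appLE (Spec.map (CommRingCat.ofHom (Away.map φ f))) (Proj.awayι 𝒜 f hf hd) _ ⊤ ⊤
      h2 le_top, ← Category.assoc, awayToSection_appLE 𝒜 f hf hd h2]
    have h6 : (Spec.map (CommRingCat.ofHom (Away.map φ f))).appLE ⊤ ⊤ le_top =
        (Spec.map (CommRingCat.ofHom (Away.map φ f))).appTop := (Scheme.Hom.app_eq_appLE _).symm
    rw [h6]
    exact (Scheme.ΓSpecIso_inv_naturality _).symm
  exact ConcreteCategory.congr_hom key α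

theorem exists_domOpen_basic (hgen : (HomogeneousIdeal.irrelevant 𝒜).toIdeal = Ideal.span (𝒜 1 : Set A))
    (x : (RelCone.domOpen φ : Scheme.{u})) :
    ∃ f : 𝒜 1, x ∈ domMap φ ⁻¹ᵁ Proj.basicOpen 𝒜 (f : A) := by
  obtain ⟨g, hg, hxg⟩ : ∃ g ∈ 𝒜 1, g ∉ (domMap φ x : ProjectiveSpectrum 𝒜).asHomogeneousIdeal := by
    by_contra H
    push Not at H
    exact ProjectiveSpectrum.not_irrelevant_le (domMap φ x) (hgen.trans_le (Ideal.span_le.mpr H))
  exact ⟨⟨g, hg⟩, hxg⟩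

/-- `Φ^* O(n)` is `O(n)` on the domain. -/
theorem nonempty_pullback_twist_iso (hgen : (HomogeneousIdeal.irrelevant 𝒜).toIdeal = Ideal.span (𝒜 1 : Set A))
    (n : ℤ) :
    Nonempty ((Scheme.Modules.pullback (domMap φ)).obj (Twist.twist 𝒜 n) ≅
      (Twist.twist ℬ n).restrict (RelCone.domOpen φ).ι) := by
  let ι := (RelCone.domOpen φ).ι
  let U : 𝒜 1 → (RelCone.domOpen φ : Scheme.{u}).Opens := fun f => domMap φ ⁻¹ᵁ Proj.basicOpen 𝒜 (f : A)
  have hle : ∀ f : 𝒜 1, ι ''ᵁ U f ≤ Proj.basicOpen ℬ (φ f) := fun f => by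
    simp only [U, domMap_preimage_basicOpen φ Nat.one_pos (f : A) f.2]
    rw [Scheme.Hom.image_preimage_eq_opensRange_inf]
    exact inf_le_right
  let a : ∀ f : 𝒜 1, Γ((Scheme.Modules.pullback (domMap φ)).obj (Twist.twist 𝒜 n), U f) := fun f =>
    Amp73.pullS (domMap φ) (Twist.twist 𝒜 n) (Proj.basicOpen 𝒜 (f : A)) (oneUnit 𝒜 f.2 n).fwd
  let b : ∀ f : 𝒜 1, Γ((Twist.twist ℬ n).restrict ι, U f) := fun f =>
    LineBundle.res (Twist.twist ℬ n) (hle f)
      ((oneUnit ℬ (φ.map_mem f.2) n).fwd : Γ(Twist.twist ℬ n, Proj.basicOpen ℬ (φ f)))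
  have hinv := isInvertible_twist hgen n
  refine Curves2.Glue.nonempty_iso_of_frames U (exists_domOpen_basic φ hgen) a b
    (fun f => Amp73.isFrame_pullS (domMap φ) hinv (isFrame_oneUnit f.2 n))
    (fun f => (Amp73.isFrame_restrict_iff ι _ _ _).2 ((isFrame_oneUnit (φ.map_mem f.2) n).res (hle f))) ?_
  rintro ⟨f, hf⟩ ⟨g, hg⟩ c hc
  let O := Proj.basicOpen 𝒜 (f * g)
  have hlf : O ≤ Proj.basicOpen 𝒜 f := (Proj.basicOpen_mul 𝒜 f g).le.trans inf_le_left
  have hlg : O ≤ Proj.basicOpen 𝒜 g := (Proj.basicOpen_mul 𝒜 f g).le.trans inf_le_right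
  let α := ratio 𝒜 hf hg n
  have hA := ratio_smul hf hg n (α := α) (Away.val_mk 𝒜 _ _ _ _) hlf hlg
  let V := U ⟨f, hf⟩ ⊓ U ⟨g, hg⟩
  have hV : V ≤ domMap φ ⁻¹ᵁ O := fun x hx => (Proj.basicOpen_mul 𝒜 f g).ge hx
  have hc' : c = (domMap φ).appLE O V hV ((Proj.awayToSection 𝒜 (f * g)).hom α) := by
    refine ((Amp73.isFrame_pullS (domMap φ) hinv (isFrame_oneUnit hg n)) V inf_le_right).1 (hc.trans ?_)
    have h1 := congrArg (fun s => LineBundle.res _ hV (Amp73.pullS (domMap φ) (Twist.twist 𝒜 n) O s)) hA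
    simp only [Amp73.pullS_smul, ← Amp73.res_pullS] at h1
    rw [LineBundle.res_smul, LineBundle.res_res, LineBundle.res_res] at h1
    exact h1.symm
  have hO : domMap φ ⁻¹ᵁ O = ι ⁻¹ᵁ Proj.basicOpen ℬ (φ (f * g)) :=
    domMap_preimage_basicOpen φ (by omega : 0 < 1 + 1) (f * g) (SetLike.mul_mem_graded hf hg)
  have hβ : (Away.map φ (f * g) α).val = Localization.mk (φ f ^ (2 * n.toNat) * φ g ^ (2 * (-n).toNat))
      ⟨φ (f * g) ^ (n.toNat + (-n).toNat), pow_mem (Submonoid.mem_powers _) _⟩ := by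
    simp [α, ratio]
  rw [hc']
  have h3 := domMap_appLE_awayToSection φ (by omega : 0 < 1 + 1) (SetLike.mul_mem_graded hf hg) α hO.ge
  have hV' : V ≤ ι ⁻¹ᵁ Proj.basicOpen ℬ (φ (f * g)) := hV.trans hO.le
  have h4 : (domMap φ).appLE O V hV ((Proj.awayToSection 𝒜 (f * g)).hom α) =
      ι.appLE (Proj.basicOpen ℬ (φ (f * g))) V hV' ((Proj.awayToSection ℬ (φ (f * g))).hom (Away.map φ (f * g) α)) := by
    have h5 := congrArg ((RelCone.domOpen φ : Scheme.{u}).presheaf.map (homOfLE hV').op) h3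
    refine Eq.trans ?_ (h5.trans ?_)
    · exact (ConcreteCategory.congr_hom (Scheme.Hom.appLE_map (domMap φ) hO.ge (homOfLE hV').op) _).symm
    · exact ConcreteCategory.congr_hom (Scheme.Hom.appLE_map ι le_rfl (homOfLE hV').op) _
  rw [h4]
  have hVi : ι ''ᵁ V ≤ Proj.basicOpen ℬ (φ (f * g)) := by
    rintro _ ⟨w, hw, rfl⟩
    exact hV' hw
  have h7 : (ι.appIso V).inv.hom (ι.appLE (Proj.basicOpen ℬ (φ (f * g))) V hV'
      ((Proj.awayToSection ℬ (φ (f * g))).hom (Away.map φ (f * g) α))) =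
      (Proj ℬ).presheaf.map (homOfLE hVi).op
        ((Proj.awayToSection ℬ (φ (f * g))).hom (Away.map φ (f * g) α)) :=
    ConcreteCategory.congr_hom (Scheme.Hom.appLE_appIso_inv ι hV') _
  show (ι.appIso V).inv.hom (ι.appLE (Proj.basicOpen ℬ (φ (f * g))) V hV'
      ((Proj.awayToSection ℬ (φ (f * g))).hom (Away.map φ (f * g) α))) •
      LineBundle.res (Twist.twist ℬ n) (ι.image_mono inf_le_right) (b ⟨g, hg⟩ : Γ(Twist.twist ℬ n, ι ''ᵁ U ⟨g, hg⟩)) =
    LineBundle.res (Twist.twist ℬ n) (ι.image_mono inf_le_left) (b ⟨f, hf⟩ : Γ(Twist.twist ℬ n, ι ''ᵁ U ⟨f, hf⟩))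
  rw [h7]
  refine Subtype.ext (funext fun x => Subtype.ext ?_)
  refine (Twist.coe_smul_val n x.1 _ _).trans ?_
  have hx : (x.1 : ProjectiveSpectrum ℬ) ∈ Proj.basicOpen ℬ (φ (f * g)) := by
    exact hVi x.2
  have hv := ProjectiveSpectrum.Proj.awayToSection_apply ℬ (φ (f * g)) (Away.map φ (f * g) α) ⟨x.1, hx⟩
  refine (congrArg (· * _) hv).trans ?_
  rw [hβ, Localization.mk_eq_mk', IsLocalization.map_mk', ← Localization.mk_eq_mk']
  show Localization.mk _ _ * Localization.mk (φ g ^ n.toNat) _ = Localization.mk (φ f ^ n.toNat) _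
  rw [Localization.mk_mul, Localization.mk_eq_mk_iff, Localization.r_iff_exists]
  refine ⟨1, ?_⟩
  simp only [Submonoid.coe_one, one_mul, RingHom.id_apply, Submonoid.coe_mul, map_mul]
  have key : ∀ F G : B, F ^ (-n).toNat * F ^ (n.toNat * 2) * G ^ ((-n).toNat * 2) * G ^ n.toNat =
      F ^ (-n).toNat * F ^ (n.toNat * 2) * G ^ (-n).toNat * G ^ n.toNat * G ^ (-n).toNat := fun F G => by ring
  ring_nf
  exact key (φ f) (φ g)

end Groth.Agent.EGA73
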