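import Groth.Agent.E4O.UnivOpenFT
import Mathlib.AlgebraicGeometry.Morphisms.UniversallyClosed
import Mathlib.AlgebraicGeometry.Morphisms.QuasiCompact
import Mathlib.AlgebraicGeometry.AffineSpace

/-!
Universal closedness is tested on affine base changes of finite type.
-/

universe u

open CategoryTheory AlgebraicGeometry Limits TopologicalSpace
open scoped TensorProduct

namespace Groth.Agent.EGA73

theorem lift_range_mono {R B A' : Type u} [CommRing R] [CommRing B] [CommRing A'] [Algebra R B] [Algebra R A']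
    {S T : Subalgebra R A'} (h : S ≤ T) {x : B ⊗[R] A'}
    (hx : x ∈ (Algebra.TensorProduct.map (AlgHom.id R B) S.val).range) :
    x ∈ (Algebra.TensorProduct.map (AlgHom.id R B) T.val).range := by
  obtain ⟨y, rfl⟩ := hx
  exact ⟨Algebra.TensorProduct.map (AlgHom.id R B) (Subalgebra.inclusion h) y, by
    show Algebra.TensorProduct.map _ T.val _ = Algebra.TensorProduct.map _ S.val y
    rw [← AlgHom.comp_apply, ← Algebra.TensorProduct.map_comp]
    rfl⟩

/-- An empty fibre of a closed set of `Spec (B ⊗ A')` over a prime `p` is witnessed by finitely many data. -/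
theorem exists_witness {R B A' : Type u} [CommRing R] [CommRing B] [CommRing A'] [Algebra R B] [Algebra R A']
    (J : Ideal (B ⊗[R] A')) (p : PrimeSpectrum A')
    (h : ∀ q : PrimeSpectrum (B ⊗[R] A'), J ≤ q.asIdeal →
      PrimeSpectrum.comap Algebra.TensorProduct.includeRight.toRingHom q ≠ p) :
    ∃ (S : Subalgebra R A') (g₀ : B ⊗[R] S) (a : S), S.FG ∧ (a : A') ∉ p.asIdeal ∧
      Algebra.TensorProduct.map (AlgHom.id R B) S.val g₀ ∈ J ∧
      g₀ - Algebra.TensorProduct.includeRight a ∈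
        (p.asIdeal.comap S.val.toRingHom).map (Algebra.TensorProduct.includeRight : S →ₐ[R] B ⊗[R] S).toRingHom := by
  classical
  let ι : A' →ₐ[R] B ⊗[R] A' := Algebra.TensorProduct.includeRight
  let I : Ideal (B ⊗[R] A') := J ⊔ p.asIdeal.map ι.toRingHom
  obtain ⟨a, ha, haI⟩ : ∃ a, a ∉ p.asIdeal ∧ ι a ∈ I := by
    by_contra hcon
    push Not at hcon
    have hdis : Disjoint (I : Set (B ⊗[R] A')) ((p.asIdeal.primeCompl.map ι.toRingHom) : Set (B ⊗[R] A')) := by
      rw [Set.disjoint_left]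
      rintro _ hx ⟨a, ha, rfl⟩
      exact hcon a ha hx
    obtain ⟨q, hq, hIq, hqd⟩ := Ideal.exists_le_prime_disjoint I _ hdis
    refine h ⟨q, hq⟩ (le_sup_left.trans hIq) (PrimeSpectrum.ext (le_antisymm (fun a ha => ?_) fun a ha => ?_))
    · by_contra hap
      exact Set.disjoint_left.mp hqd ha ⟨a, hap, rfl⟩
    · exact hIq ((le_sup_right : p.asIdeal.map ι.toRingHom ≤ I) (Ideal.mem_map_of_mem ι.toRingHom ha))
  obtain ⟨g, hg, c, hc, hgc⟩ := Submodule.mem_sup.mp haI
  rw [Ideal.map, ← Ideal.submodule_span_eq] at hc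
  obtain ⟨n, y, t, htc⟩ := Submodule.mem_span_set'.mp hc
  have ht : ∀ k, ∃ b ∈ p.asIdeal, ι b = (t k : B ⊗[R] A') := fun k => (t k).2
  choose b hb hbt using ht
  choose S₁ hS₁ y₀ hy₀ using fun k => E4O.exists_subalgebra_fg_tensor (R := R) (B := B) (A' := A') (y k)
  let S : Subalgebra R A' := Algebra.adjoin R ↑(insert a (Finset.univ.image b)) ⊔ Finset.univ.sup S₁
  have hS : S.FG := by
    refine (Subalgebra.fg_adjoin_finset _).sup ?_
    exact Finset.sup_induction Subalgebra.fg_bot (fun _ h _ h' => h.sup h') fun k _ => hS₁ k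
  have haS : a ∈ S := le_sup_left (a := Algebra.adjoin R _) (Algebra.subset_adjoin (by simp))
  have hbS : ∀ k, b k ∈ S := fun k => le_sup_left (a := Algebra.adjoin R _) (Algebra.subset_adjoin (by simp))
  have hyS : ∀ k, y k ∈ (Algebra.TensorProduct.map (AlgHom.id R B) S.val).range := fun k =>
    lift_range_mono ((Finset.le_sup (Finset.mem_univ k)).trans le_sup_right) ⟨y₀ k, hy₀ k⟩
  choose z hz using hyS
  let π : B ⊗[R] S →ₐ[R] B ⊗[R] A' := Algebra.TensorProduct.map (AlgHom.id R B) S.val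
  let ιS : S →ₐ[R] B ⊗[R] S := Algebra.TensorProduct.includeRight
  have hπι : ∀ s : S, π (ιS s) = ι (s : A') := fun s => by simp [π, ιS, ι]
  refine ⟨S, ιS ⟨a, haS⟩ - ∑ k, z k * ιS ⟨b k, hbS k⟩, ⟨a, haS⟩, hS, ha, ?_, ?_⟩
  · convert hg using 1
    show π _ = _
    rw [map_sub, map_sum, hπι, eq_comm, eq_sub_iff_add_eq]
    convert hgc using 2
    rw [← htc]
    refine Finset.sum_congr rfl fun k _ => ?_
    rw [map_mul, hπι, smul_eq_mul, show π (z k) = y k from hz k, hbt]
  · rw [sub_sub_cancel_left]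
    refine neg_mem (sum_mem fun k _ => Ideal.mul_mem_left _ _ (Ideal.mem_map_of_mem _ ?_))
    exact hb k

/-- A closed map stays closed after base change along a topological embedding. -/
theorem isClosedMap_of_isPullback {P Q X Y : Scheme.{u}} {a : P ⟶ X} {b : P ⟶ Q} {c : X ⟶ Y} {d : Q ⟶ Y}
    (sq : IsPullback a b c d) [IsPreimmersion d] (hc : IsClosedMap c) : IsClosedMap b := by
  have : IsPreimmersion a := MorphismProperty.of_isPullback sq.flip ‹IsPreimmersion d›
  intro Z hZ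
  obtain ⟨C, hC, rfl⟩ := a.isEmbedding.toIsInducing.isClosed_iff.mp hZ
  have he : b '' (a ⁻¹' C) = d ⁻¹' (c '' C) := by
    ext q
    constructor
    · rintro ⟨p, hp, rfl⟩
      exact ⟨a p, hp, by rw [← Scheme.Hom.comp_apply, sq.w]; rfl⟩
    · rintro ⟨x, hx, hxq⟩
      obtain ⟨p', hp1, hp2⟩ := Scheme.Pullback.exists_preimage_pullback (f := c) (g := d) x q hxq
      refine ⟨sq.isoPullback.inv p', ?_, ?_⟩
      · show a (sq.isoPullback.inv p') ∈ C
        rw [← Scheme.Hom.comp_apply, IsPullback.isoPullback_inv_fst, hp1]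
        exact hx
      · rw [← Scheme.Hom.comp_apply, IsPullback.isoPullback_inv_snd, hp2]
  rw [he]
  exact (hc C hC).preimage d.continuous

/-- Closedness of the base change to an affine scheme, from closedness over finitely generated subalgebras. -/
theorem isClosed_image_affine {X Y : Scheme.{u}} (f : X ⟶ Y) [QuasiCompact f] {U : Y.Opens} (hU : IsAffineOpen U)
    {A' : Type u} [CommRing A'] [Algebra Γ(Y, U) A']
    (h : ∀ S : Subalgebra Γ(Y, U) A', S.FG → IsClosedMap
      (pullback.snd f (Spec.map (CommRingCat.ofHom (algebraMap Γ(Y, U) S)) ≫ hU.fromSpec))) :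
    IsClosedMap (pullback.snd f (Spec.map (CommRingCat.ofHom (algebraMap Γ(Y, U) A')) ≫ hU.fromSpec)) := by
  classical
  let w := Spec.map (CommRingCat.ofHom (algebraMap Γ(Y, U) A')) ≫ hU.fromSpec
  intro Z hZ
  refine isClosed_of_closure_subset fun p hp => ?_
  by_contra hpZ
  let J : Set X.affineOpens := {V | (V : X.Opens) ≤ f ⁻¹ᵁ U}
  obtain ⟨s, hs, hcov⟩ : ∃ s : Finset X.affineOpens, (∀ V ∈ s, V ∈ J) ∧
      (f ⁻¹' (U : Set Y)) ⊆ ⋃ V ∈ s, (V.1 : Set X) := by
    have hc : IsCompact (f ⁻¹' (U : Set Y)) := f.isCompact_preimage hU.isCompact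
    obtain ⟨t, ht⟩ := hc.elim_finite_subcover (fun V : J => (V.1.1 : Set X)) (fun V => V.1.1.2) fun x hx => by
      obtain ⟨_, ⟨V, hV, rfl⟩, hxV, hVU⟩ :=
        X.isBasis_affineOpens.exists_subset_of_mem_open hx (U.2.preimage f.continuous)
      exact Set.mem_iUnion.mpr ⟨⟨⟨V, hV⟩, hVU⟩, hxV⟩
    refine ⟨t.image Subtype.val, fun V hV => ?_, ht.trans ?_⟩
    · obtain ⟨V', -, rfl⟩ := Finset.mem_image.mp hV
      exact V'.2
    · simp
  have hwit : ∀ V : {V : X.affineOpens // V ∈ s},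
      letI := (f.appLE U V.1.1 (hs V.1 V.2)).hom.toAlgebra
      ∃ S : Subalgebra Γ(Y, U) A', S.FG ∧
        ∀ (e : Spec (CommRingCat.of (Γ(X, V.1.1) ⊗[Γ(Y, U)] A')) ⟶ pullback f w),
          e ≫ pullback.fst f w = Spec.map (CommRingCat.ofHom Algebra.TensorProduct.includeLeftRingHom) ≫ V.1.2.fromSpec →
          e ≫ pullback.snd f w = Spec.map (CommRingCat.ofHom Algebra.TensorProduct.includeRight.toRingHom) →
          ∃ (g₀ : Γ(X, V.1.1) ⊗[Γ(Y, U)] S) (c : S), (c : A') ∉ p.asIdeal ∧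
            (∀ q : PrimeSpectrum (Γ(X, V.1.1) ⊗[Γ(Y, U)] A'), e q ∈ Z →
              Algebra.TensorProduct.map (AlgHom.id Γ(Y, U) Γ(X, V.1.1)) S.val g₀ ∈ q.asIdeal) ∧
            g₀ - Algebra.TensorProduct.includeRight c ∈ (p.asIdeal.comap S.val.toRingHom).map
              (Algebra.TensorProduct.includeRight : S →ₐ[Γ(Y, U)] Γ(X, V.1.1) ⊗[Γ(Y, U)] S).toRingHom := by
    intro V
    let := (f.appLE U V.1.1 (hs V.1 V.2)).hom.toAlgebra
    obtain ⟨e, he, he1, he2, her⟩ := E4O.exists_tensor_chart f w V.1.2.fromSpec (𝟙 (Spec (CommRingCat.of A')))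
      hU.fromSpec (hU.SpecMap_appLE_fromSpec f V.1.2 (hs V.1 V.2)).symm (Category.id_comp _)
    rw [Category.comp_id] at he2
    obtain ⟨J₀, hJ₀⟩ := (PrimeSpectrum.isClosed_iff_zeroLocus_ideal _).mp (hZ.preimage e.continuous)
    obtain ⟨S, g₀, c, hS, hc, hg₀, hg₀c⟩ := exists_witness J₀ p fun q hq hqp => hpZ
      ⟨e q, hJ₀.ge (show q ∈ PrimeSpectrum.zeroLocus (J₀ : Set _) from hq), by
        rw [← Scheme.Hom.comp_apply, he2]; exact hqp⟩
    refine ⟨S, hS, fun e' he1' he2' => ⟨g₀, c, hc, fun q hq => ?_, hg₀c⟩⟩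
    have heq : e' = e := pullback.hom_ext (he1'.trans he1.symm) (he2'.trans he2.symm)
    exact (hJ₀.le (show q ∈ e ⁻¹' Z from heq ▸ hq)) hg₀
  choose S hS hdata using hwit
  let T : Subalgebra Γ(Y, U) A' := Finset.univ.sup S
  have hT : T.FG := Finset.sup_induction Subalgebra.fg_bot (fun _ h _ h' => h.sup h') fun V _ => hS V
  let wT := Spec.map (CommRingCat.ofHom (algebraMap Γ(Y, U) T)) ≫ hU.fromSpec
  let σ : Spec (CommRingCat.of A') ⟶ Spec (CommRingCat.of T) := Spec.map (CommRingCat.ofHom T.val.toRingHom)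
  have hσ : σ ≫ wT = w := by
    rw [← Category.assoc, ← Spec.map_comp, ← CommRingCat.ofHom_comp]
    rfl
  let m : pullback f w ⟶ pullback f wT := pullback.map f w f wT (𝟙 X) σ (𝟙 Y)
    (by rw [Category.comp_id, Category.id_comp]) (by rw [Category.comp_id, hσ])
  obtain ⟨z₀, hz₀, hz₀p⟩ : σ p ∈ pullback.snd f wT '' closure (m '' Z) := by
    rw [← (h T hT _ isClosed_closure).closure_eq]
    refine map_mem_closure σ.continuous hp ?_
    rintro _ ⟨z, hz, rfl⟩
    refine ⟨m z, subset_closure ⟨z, hz, rfl⟩, ?_⟩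
    rw [← Scheme.Hom.comp_apply, pullback.lift_snd, Scheme.Hom.comp_apply]
  have hz₀U : pullback.fst f wT z₀ ∈ f ⁻¹' (U : Set Y) := by
    show f (pullback.fst f wT z₀) ∈ (U : Set Y)
    rw [← Scheme.Hom.comp_apply, pullback.condition, Scheme.Hom.comp_apply, ← hU.range_fromSpec]
    exact ⟨_, rfl⟩
  obtain ⟨V, hVs, hV⟩ := Set.mem_iUnion₂.mp (hcov hz₀U)
  let := (f.appLE U V.1 (hs V hVs)).hom.toAlgebra
  have hi := (hU.SpecMap_appLE_fromSpec f V.2 (hs V hVs)).symm
  obtain ⟨e, he, he1, he2, her⟩ := E4O.exists_tensor_chart f w V.2.fromSpec (𝟙 (Spec (CommRingCat.of A')))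
    hU.fromSpec hi (Category.id_comp _)
  obtain ⟨eT, heT, heT1, heT2, heTr⟩ := E4O.exists_tensor_chart f wT V.2.fromSpec (𝟙 (Spec (CommRingCat.of T)))
    hU.fromSpec hi (Category.id_comp _)
  rw [Category.comp_id] at he2 heT2
  obtain ⟨g₀, c, hc, hg₀, hgc⟩ := hdata ⟨V, hVs⟩ e he1 he2
  have hST : S ⟨V, hVs⟩ ≤ T := Finset.le_sup (Finset.mem_univ _)
  let incl := Algebra.TensorProduct.map (AlgHom.id Γ(Y, U) Γ(X, V.1)) (Subalgebra.inclusion hST)
  let πT := Algebra.TensorProduct.map (AlgHom.id Γ(Y, U) Γ(X, V.1)) T.val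
  have hπ : Spec.map (CommRingCat.ofHom πT.toRingHom) ≫ eT = e ≫ m := by
    apply pullback.hom_ext
    · rw [Category.assoc, Category.assoc, pullback.lift_fst, Category.comp_id, heT1, he1, ← Category.assoc,
        ← Spec.map_comp, ← CommRingCat.ofHom_comp]
      congr 3
    · rw [Category.assoc, Category.assoc, pullback.lift_snd, heT2, ← Category.assoc, he2, ← Spec.map_comp,
        ← Spec.map_comp, ← CommRingCat.ofHom_comp, ← CommRingCat.ofHom_comp]
      congr 2
  have hz₀r : z₀ ∈ Set.range eT := by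
    rw [heTr]
    exact ⟨by rw [Set.mem_preimage, V.2.range_fromSpec]; exact hV, ⟨_, rfl⟩⟩
  obtain ⟨q₀, rfl⟩ := hz₀r
  let V₀ : Set (Spec (CommRingCat.of (Γ(X, V.1) ⊗[Γ(Y, U)] T))) :=
    PrimeSpectrum.zeroLocus {incl g₀}
  have hcl : eT ⁻¹' (m '' Z) ⊆ V₀ := by
    rintro q ⟨z, hz, hzq⟩
    obtain ⟨zc, rfl⟩ : z ∈ Set.range e := by
      rw [her]
      refine ⟨?_, ⟨_, rfl⟩⟩
      have h1 : pullback.fst f w z = pullback.fst f wT (eT q) := by
        rw [← hzq, ← Scheme.Hom.comp_apply, pullback.lift_fst, Category.comp_id]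
      rw [Set.mem_preimage, h1, ← Scheme.Hom.comp_apply, heT1]
      exact ⟨_, rfl⟩
    have hq : q = Spec.map (CommRingCat.ofHom πT.toRingHom) zc := eT.isOpenEmbedding.injective
      (hzq.symm.trans (by rw [← Scheme.Hom.comp_apply, ← hπ]; rfl))
    rw [hq]
    refine Set.singleton_subset_iff.mpr ?_
    show πT (incl g₀) ∈ zc.asIdeal
    rw [← AlgHom.comp_apply, ← Algebra.TensorProduct.map_comp]
    exact hg₀ zc hz
  have hq₀ : q₀ ∈ V₀ := by
    have h1 : q₀ ∈ eT ⁻¹' closure (m '' Z) := hz₀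
    rw [eT.isOpenEmbedding.isOpenMap.preimage_closure_eq_closure_preimage eT.continuous] at h1
    exact closure_minimal hcl (PrimeSpectrum.isClosed_zeroLocus _) h1
  let ιT : T →ₐ[Γ(Y, U)] Γ(X, V.1) ⊗[Γ(Y, U)] T := Algebra.TensorProduct.includeRight
  have hcomap : q₀.asIdeal.comap ιT.toRingHom = p.asIdeal.comap T.val.toRingHom := by
    rw [← Scheme.Hom.comp_apply, heT2] at hz₀p
    exact congrArg PrimeSpectrum.asIdeal hz₀p
  have hmem : incl (g₀ - Algebra.TensorProduct.includeRight c) ∈ q₀.asIdeal := by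
    refine (Ideal.map_le_iff_le_comap.mpr fun b hb => ?_ :
      Ideal.map _ _ ≤ q₀.asIdeal.comap incl.toRingHom) hgc
    show incl (Algebra.TensorProduct.includeRight b) ∈ q₀.asIdeal
    have hb' : Subalgebra.inclusion hST b ∈ q₀.asIdeal.comap ιT.toRingHom := hcomap ▸ hb
    simpa [incl, ιT] using hb'
  rw [map_sub] at hmem
  have hc' : incl (Algebra.TensorProduct.includeRight c) ∈ q₀.asIdeal :=
    by simpa only [sub_sub_cancel] using sub_mem (Set.singleton_subset_iff.mp hq₀ : incl g₀ ∈ q₀.asIdeal) hmem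
  have hc'' : Subalgebra.inclusion hST c ∈ q₀.asIdeal.comap ιT.toRingHom := by
    simpa [incl, ιT] using hc'
  rw [hcomap] at hc''
  exact hc hc''

/-- Universal closedness is tested on base changes along affine schemes of finite type over an affine open. -/
theorem universallyClosed_of_forall_finiteType {X Y : Scheme.{u}} (f : X ⟶ Y) [QuasiCompact f]
    (h : ∀ (U : Y.Opens) (hU : IsAffineOpen U) (A' : Type u) [CommRing A'] [Algebra Γ(Y, U) A']
      [Algebra.FiniteType Γ(Y, U) A'],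
      IsClosedMap (pullback.snd f (Spec.map (CommRingCat.ofHom (algebraMap Γ(Y, U) A')) ≫ hU.fromSpec))) :
    UniversallyClosed f := by
  rw [universallyClosed_eq]
  intro X' W i₁ w f' hsq
  suffices hsnd : IsClosedMap (pullback.snd f w) by
    intro Z hZ
    have he : f' '' Z = pullback.snd f w '' (hsq.flip.isoPullback.hom '' Z) := by
      rw [← Set.image_comp]
      refine Set.image_congr' fun z => ?_
      rw [Function.comp_apply, ← Scheme.Hom.comp_apply, IsPullback.isoPullback_hom_snd]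
    rw [he]
    exact hsnd _ (hsq.flip.isoPullback.hom.homeomorph.isClosedMap _ hZ)
  intro Z hZ
  refine isClosed_of_closure_subset fun p hp => ?_
  obtain ⟨_, ⟨U, hU, rfl⟩, hpU, -⟩ :=
    Y.isBasis_affineOpens.exists_subset_of_mem_open (Set.mem_univ (w p)) isOpen_univ
  obtain ⟨_, ⟨Wa, hWa, rfl⟩, hpW, hWU⟩ :=
    W.isBasis_affineOpens.exists_subset_of_mem_open (show p ∈ w ⁻¹' (U : Set Y) from hpU)
      (U.2.preimage w.continuous)
  replace hU : IsAffineOpen U := hU
  replace hWa : IsAffineOpen Wa := hWa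
  let := (w.appLE U Wa hWU).hom.toAlgebra
  let wA := Spec.map (CommRingCat.ofHom (algebraMap Γ(Y, U) Γ(W, Wa))) ≫ hU.fromSpec
  have hwA : hWa.fromSpec ≫ w = wA := (hU.SpecMap_appLE_fromSpec w hWa hWU).symm
  have hclA : IsClosedMap (pullback.snd f wA) := by
    refine isClosed_image_affine f hU fun S hS => ?_
    have : Algebra.FiniteType Γ(Y, U) S := (Subalgebra.fg_iff_finiteType S).1 hS
    exact h U hU S
  let m : pullback f wA ⟶ pullback f w := pullback.map f wA f w (𝟙 X) hWa.fromSpec (𝟙 Y)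
    (by rw [Category.comp_id, Category.id_comp]) (by rw [Category.comp_id, hwA])
  obtain ⟨pc, rfl⟩ : p ∈ Set.range hWa.fromSpec := by rw [hWa.range_fromSpec]; exact hpW
  have hpc : pc ∈ closure (hWa.fromSpec ⁻¹' (pullback.snd f w '' Z)) := by
    rw [← hWa.fromSpec.isOpenEmbedding.isOpenMap.preimage_closure_eq_closure_preimage hWa.fromSpec.continuous]
    exact hp
  obtain ⟨z, hz, rfl⟩ := (show closure (hWa.fromSpec ⁻¹' (pullback.snd f w '' Z)) ⊆
      pullback.snd f wA '' (m ⁻¹' Z) from closure_minimal (fun q hq => by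
    obtain ⟨z, hz, hzq⟩ := hq
    obtain ⟨t, rfl⟩ : z ∈ Set.range m := by
      rw [Scheme.Pullback.range_map]
      exact ⟨⟨_, rfl⟩, ⟨q, hzq.symm⟩⟩
    refine ⟨t, hz, hWa.fromSpec.isOpenEmbedding.injective ?_⟩
    rw [← hzq, ← Scheme.Hom.comp_apply, ← Scheme.Hom.comp_apply, pullback.lift_snd])
    (hclA _ (hZ.preimage m.continuous))) hpc
  exact ⟨m z, hz, by rw [← Scheme.Hom.comp_apply, ← Scheme.Hom.comp_apply, pullback.lift_snd]⟩

end Groth.Agent.EGA73
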