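import Groth.Agent.EGA73.GradedGrowth

/-!
Finiteness of Veronese subrings.
-/

universe u

namespace Groth.Agent.EGA73

set_option linter.unusedSectionVars false

variable {R A : Type u} [CommRing R] [CommRing A] [Algebra R A] {𝒜 : ℕ → Submodule R A} [GradedAlgebra 𝒜]
  {B : Type u} [CommRing B] [Algebra R B] {ℬ : ℕ → Submodule R B} [GradedAlgebra ℬ] {d : ℕ} {φ : B →ₐ[R] A}

theorem veronese_mem (hdeg : ∀ n : ℕ, Submodule.map φ.toLinearMap (ℬ n) = 𝒜 (n * d)) {n : ℕ} {b : B}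
    (hb : b ∈ ℬ n) : φ b ∈ 𝒜 (n * d) :=
  hdeg n ▸ ⟨b, hb, rfl⟩

theorem veronese_exists (hdeg : ∀ n : ℕ, Submodule.map φ.toLinearMap (ℬ n) = 𝒜 (n * d)) {n : ℕ} {a : A}
    (ha : a ∈ 𝒜 (n * d)) : ∃ b ∈ ℬ n, φ b = a := by
  rw [← hdeg n] at ha
  exact ha

theorem veronese_finiteType [Algebra.FiniteType (𝒜 0) A] (hd : 0 < d) (hφ : Function.Injective φ)
    (hdeg : ∀ n : ℕ, Submodule.map φ.toLinearMap (ℬ n) = 𝒜 (n * d)) : Algebra.FiniteType (ℬ 0) B := by
  classical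
  obtain ⟨r, e, dg, hdg, he, -, hmon⟩ := exists_monomial_generators 𝒜
  have hq : ∀ i, ∃ b ∈ ℬ (dg i), φ b = e i ^ d := fun i =>
    veronese_exists hdeg (by
      have := SetLike.pow_mem_graded d (he i)
      rwa [smul_eq_mul, mul_comm] at this)
  choose p hp hpφ using hq
  have hs : ∀ s : Fin r → Fin d, ∃ b : B, d ∣ ∑ i, (s i : ℕ) * dg i → φ b = ∏ i, e i ^ (s i : ℕ) := by
    intro s
    by_cases h : d ∣ ∑ i, (s i : ℕ) * dg i
    · obtain ⟨n, hn⟩ := h
      obtain ⟨b, -, hb⟩ := veronese_exists hdeg (n := n) (a := ∏ i, e i ^ (s i : ℕ))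
        (by rw [mul_comm, ← hn]; exact prod_pow_mem 𝒜 he _)
      exact ⟨b, fun _ => hb⟩
    · exact ⟨0, fun h' => absurd h' h⟩
  choose g hg using hs
  let T : Finset B := Finset.univ.image p ∪ Finset.univ.image g
  refine ⟨⟨T, ?_⟩⟩
  rw [eq_top_iff]
  intro b _
  rw [← DirectSum.sum_support_decompose ℬ b]
  refine Subalgebra.sum_mem _ fun n _ => ?_
  generalize hc : DirectSum.decompose ℬ b n = c
  suffices ∀ a ∈ 𝒜 (n * d), ∃ t ∈ Algebra.adjoin (ℬ 0) (T : Set B), φ t = a by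
    obtain ⟨t, ht, ht'⟩ := this (φ c) (veronese_mem hdeg c.2)
    exact hφ ht' ▸ ht
  intro a ha
  have haspan := hmon _ a ha
  clear ha
  induction haspan using Submodule.span_induction with
  | mem a ha' =>
    obtain ⟨k, hk, rfl⟩ := ha'
    let s : Fin r → Fin d := fun i => ⟨k i % d, Nat.mod_lt _ hd⟩
    have hdvd : d ∣ ∑ i, (s i : ℕ) * dg i := by
      have hsum : ∑ i, k i * dg i = ∑ i, (s i : ℕ) * dg i + d * ∑ i, k i / d * dg i := by
        rw [Finset.mul_sum, ← Finset.sum_add_distrib]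
        refine Finset.sum_congr rfl fun i _ => ?_
        rw [← mul_assoc, ← add_mul, Nat.mod_add_div]
      refine (Nat.dvd_add_left (dvd_mul_right d (∑ i, k i / d * dg i))).mp ?_
      rw [← hsum, hk]
      exact dvd_mul_left d n
    refine ⟨g s * ∏ i, p i ^ (k i / d), mul_mem (Algebra.subset_adjoin ?_)
      (Subalgebra.prod_mem _ fun i _ => pow_mem (Algebra.subset_adjoin ?_) _), ?_⟩
    · simp [T]
    · simp [T]
    · rw [map_mul, hg s hdvd, map_prod, ← Finset.prod_mul_distrib]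
      refine Finset.prod_congr rfl fun i _ => ?_
      rw [map_pow, hpφ, ← pow_mul, ← pow_add, Nat.mod_add_div]
  | zero => exact ⟨0, zero_mem _, map_zero _⟩
  | add x y _ _ hx hy =>
    obtain ⟨t, ht, rfl⟩ := hx
    obtain ⟨t', ht', rfl⟩ := hy
    exact ⟨t + t', add_mem ht ht', map_add _ _ _⟩
  | smul r x _ hx =>
    obtain ⟨t, ht, rfl⟩ := hx
    obtain ⟨r', hr', hr''⟩ := veronese_exists hdeg (n := 0) (a := (r : A)) (by rw [Nat.zero_mul]; exact r.2)
    exact ⟨(⟨r', hr'⟩ : ℬ 0) • t, Subalgebra.smul_mem _ ht _, by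
      show φ (r' * t) = (r : A) * φ t
      rw [map_mul, hr'']⟩

theorem veronese_isNoetherianRing_zero [IsNoetherianRing A] (hφ : Function.Injective φ)
    (hdeg : ∀ n : ℕ, Submodule.map φ.toLinearMap (ℬ n) = 𝒜 (n * d)) : IsNoetherianRing (ℬ 0) := by
  let ψ : ℬ 0 →+* 𝒜 0 :=
    { toFun := fun b => ⟨φ b, by simpa using veronese_mem hdeg b.2⟩
      map_one' := Subtype.ext (map_one φ)
      map_mul' := fun x y => Subtype.ext (map_mul φ _ _)
      map_zero' := Subtype.ext (map_zero φ)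
      map_add' := fun x y => Subtype.ext (map_add φ _ _) }
  have hψ : Function.Bijective ψ := by
    refine ⟨fun x y h => Subtype.ext (hφ (congrArg Subtype.val h)), fun a => ?_⟩
    obtain ⟨b, hb, hb'⟩ := veronese_exists hdeg (n := 0) (a := (a : A)) (by rw [Nat.zero_mul]; exact a.2)
    exact ⟨⟨b, hb⟩, Subtype.ext hb'⟩
  exact isNoetherianRing_of_ringEquiv _ (RingEquiv.ofBijective ψ hψ).symm

end Groth.Agent.EGA73
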