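import Groth.Agent.EGA73.Veronese
import Groth.Agent.EGA73.GradedBasics
import Groth.Agent.EGA73.PolyConeGr
import Mathlib.AlgebraicGeometry.ProjectiveSpectrum.Basic

/-! `Proj` of a Veronese subring. -/

universe u

open CategoryTheory CategoryTheory.Limits AlgebraicGeometry TopologicalSpace HomogeneousLocalization

noncomputable section

namespace Groth.Agent.EGA73.VeroneseProj

variable {R A : Type u} [CommRing R] [CommRing A] [Algebra R A] {𝒜 : ℕ → Submodule R A} [GradedAlgebra 𝒜]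
  {B : Type u} [CommRing B] [Algebra R B] {ℬ : ℕ → Submodule R B} [GradedAlgebra ℬ] {d : ℕ} {φ : B →ₐ[R] A}
  (hd : 0 < d) (hdeg : ∀ n : ℕ, Submodule.map φ.toLinearMap (ℬ n) = 𝒜 (n * d))

include hdeg in
theorem decompose_map (b : B) (i : ℕ) :
    (DirectSum.decompose 𝒜 (φ b) (i * d) : A) =
      if 0 < d then φ (DirectSum.decompose ℬ b i) else (DirectSum.decompose 𝒜 (φ b) (i * d) : A) := by
  classical
  split_ifs with hd'
  · induction b using DirectSum.Decomposition.inductionOn ℬ with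
    | zero => simp
    | @homogeneous j b =>
      by_cases hij : j = i
      · subst hij
        rw [DirectSum.decompose_of_mem_same ℬ b.2, DirectSum.decompose_of_mem_same 𝒜 (veronese_mem hdeg b.2)]
      · rw [DirectSum.decompose_of_mem_ne ℬ b.2 hij, map_zero,
          DirectSum.decompose_of_mem_ne 𝒜 (veronese_mem hdeg b.2)
            fun h => hij (Nat.eq_of_mul_eq_mul_right hd' h)]
    | add x y hx hy => simp [hx, hy]
  · rfl

include hd hdeg in
theorem mem_of_forall {p : HomogeneousIdeal 𝒜} (b : B) :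
    φ b ∈ p ↔ ∀ i, φ (DirectSum.decompose ℬ b i) ∈ p := by
  classical
  constructor
  · intro h i
    have := p.isHomogeneous (i * d) h
    rwa [decompose_map hdeg, if_pos hd] at this
  · intro h
    rw [← DirectSum.sum_support_decompose ℬ b, map_sum]
    exact sum_mem fun i _ => h i

section away

variable {n : ℕ} {g : B} (hg : g ∈ ℬ n)

include hdeg hg in
theorem exists_away (x : Away ℬ g) :
    ∃ q : Away 𝒜 (φ g), q.val = Localization.awayMap φ.toRingHom g x.val := by
  obtain ⟨m, b, hb, rfl⟩ := Away.mk_surjective ℬ hg x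
  refine ⟨Away.mk 𝒜 (veronese_mem hdeg hg) m (φ b) (by
    have := veronese_mem hdeg hb
    rwa [smul_eq_mul, mul_assoc] at this), ?_⟩
  rw [Away.val_mk, Away.val_mk, Localization.mk_eq_mk', Localization.mk_eq_mk']
  simp only [Localization.awayMap, IsLocalization.Away.map, IsLocalization.map_mk']
  congr 1
  ext
  exact (map_pow φ g m).symm

/-- The map `B_(g) → A_(φ g)`. -/
def awayHom : Away ℬ g →+* Away 𝒜 (φ g) where
  toFun x := (exists_away hdeg hg x).choose
  map_one' := by
    apply val_injective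
    rw [(exists_away hdeg hg 1).choose_spec, val_one, val_one, map_one]
  map_mul' x y := by
    apply val_injective
    rw [(exists_away hdeg hg (x * y)).choose_spec, val_mul, val_mul, map_mul,
      (exists_away hdeg hg x).choose_spec, (exists_away hdeg hg y).choose_spec]
  map_zero' := by
    apply val_injective
    rw [(exists_away hdeg hg 0).choose_spec, val_zero, val_zero, map_zero]
  map_add' x y := by
    apply val_injective
    rw [(exists_away hdeg hg (x + y)).choose_spec, val_add, val_add, map_add,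
      (exists_away hdeg hg x).choose_spec, (exists_away hdeg hg y).choose_spec]

theorem val_awayHom (x : Away ℬ g) :
    (awayHom hdeg hg x).val = Localization.awayMap φ.toRingHom g x.val :=
  (exists_away hdeg hg x).choose_spec

theorem awayHom_mk (m : ℕ) (b : B) (hb : b ∈ ℬ (m • n)) (hb' : φ b ∈ 𝒜 (m • (n * d))) :
    awayHom hdeg hg (Away.mk ℬ hg m b hb) = Away.mk 𝒜 (veronese_mem hdeg hg) m (φ b) hb' := by
  apply val_injective
  rw [val_awayHom, Away.val_mk, Away.val_mk, Localization.mk_eq_mk', Localization.mk_eq_mk']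
  simp only [Localization.awayMap, IsLocalization.Away.map, IsLocalization.map_mk']
  congr 1
  ext
  exact map_pow φ g m

theorem awayHom_bijective (hφ : Function.Injective φ) : Function.Bijective (awayHom hdeg hg) := by
  refine ⟨fun x y h => ?_, fun y => ?_⟩
  · have hinj : Function.Injective (Localization.awayMap φ.toRingHom g) :=
      Localization.awayMap_injective_iff.2 fun a ha => ⟨0, by
        rw [hφ (ha.trans (map_zero φ).symm), mul_zero]⟩
    apply val_injective
    apply hinj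
    rw [← val_awayHom hdeg hg, ← val_awayHom hdeg hg, h]
  · obtain ⟨m, a, ha, rfl⟩ := Away.mk_surjective 𝒜 (veronese_mem hdeg hg) y
    obtain ⟨b, hb, rfl⟩ := veronese_exists hdeg (n := m * n) (a := a) (by rwa [mul_assoc, ← smul_eq_mul])
    exact ⟨Away.mk ℬ hg m b (by simpa using hb), awayHom_mk hdeg hg m b _ ha⟩

theorem awayHom_comp_awayMap {m : ℕ} {h : B} (hh : h ∈ ℬ m) {x : B} (hx : x = g * h)
    (hxm : x ∈ ℬ (n + m)) :
    (awayHom hdeg hxm).comp (awayMap ℬ hh hx) =
      (awayMap 𝒜 (veronese_mem hdeg hh) ((congrArg φ hx).trans (map_mul φ g h))).comp (awayHom hdeg hg) := by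
  refine RingHom.ext fun q => ?_
  obtain ⟨k, b, hb, rfl⟩ := Away.mk_surjective ℬ hg q
  apply val_injective
  have hb' : φ b ∈ 𝒜 (k • (n * d)) := by
    have := veronese_mem hdeg hb
    rwa [smul_eq_mul, mul_assoc, ← smul_eq_mul] at this
  rw [RingHom.comp_apply, RingHom.comp_apply, val_awayHom, awayHom_mk hdeg hg k b hb hb', Away.mk, Away.mk,
    val_awayMap_mk, val_awayMap_mk, Localization.mk_eq_mk', Localization.mk_eq_mk']
  simp only [Localization.awayMap, IsLocalization.Away.map, IsLocalization.map_mk']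
  congr 1
  · exact (map_mul φ b (h ^ k)).trans (by rw [map_pow])
  · ext
    exact map_pow φ x k

end away

include hd hdeg in
theorem exists_chart_mem (p : Proj 𝒜) :
    ∃ (n : ℕ) (g : B), 0 < n ∧ g ∈ ℬ n ∧ φ g ∉ p.asHomogeneousIdeal := by
  obtain ⟨e, f, he, hf, hfp⟩ := exists_pos_notMem 𝒜 p
  have h := SetLike.pow_mem_graded d hf
  rw [smul_eq_mul, mul_comm] at h
  obtain ⟨g, hg, hgf⟩ := veronese_exists hdeg h
  refine ⟨e, g, he, hg, ?_⟩
  rw [hgf]
  exact fun h => hfp (p.isPrime.mem_of_pow_mem _ h)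

/-- A standard chart. -/
abbrev chart {n : ℕ} (hn : 0 < n) {g : B} (hg : g ∈ ℬ n) :
    Spec (CommRingCat.of (Away 𝒜 (φ g))) ⟶ Proj 𝒜 :=
  Proj.awayι 𝒜 (φ g) (veronese_mem hdeg hg) (Nat.mul_pos hn hd)

/-- The charts cover `Proj`. -/
def cover : (Proj 𝒜).OpenCover where
  I₀ := Σ n : {n : ℕ // 0 < n}, ℬ n.1
  X s := Spec (CommRingCat.of (Away 𝒜 (φ s.2)))
  f s := chart hd hdeg s.1.2 s.2.2
  mem₀ := by
    rw [Scheme.presieve₀_mem_precoverage_iff]
    refine ⟨fun x => ?_, fun _ => inferInstance⟩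
    obtain ⟨n, g, hn, hg, hgx⟩ := exists_chart_mem hd hdeg x
    refine ⟨⟨⟨n, hn⟩, g, hg⟩, ?_⟩
    change x ∈ (chart hd hdeg hn hg).opensRange
    rw [Proj.opensRange_awayι]
    exact hgx

/-- The map on a chart. -/
abbrev chartMap {n : ℕ} (hn : 0 < n) {g : B} (hg : g ∈ ℬ n) :
    Spec (CommRingCat.of (Away 𝒜 (φ g))) ⟶ Proj ℬ :=
  Spec.map (CommRingCat.ofHom (awayHom hdeg hg)) ≫ Proj.awayι ℬ g hg hn

theorem chartMap_compat {n m : ℕ} (hn : 0 < n) {g : B} (hg : g ∈ ℬ n) (hm : 0 < m) {h : B} (hh : h ∈ ℬ m) :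
    pullback.fst (chart hd hdeg hn hg) (chart hd hdeg hm hh) ≫ chartMap hdeg hn hg =
      pullback.snd (chart hd hdeg hn hg) (chart hd hdeg hm hh) ≫ chartMap hdeg hm hh := by
  have hx : φ (g * h) = φ g * φ h := map_mul φ g h
  let e := Proj.pullbackAwayιIso 𝒜 (veronese_mem hdeg hg) (Nat.mul_pos hn hd) (veronese_mem hdeg hh)
    (Nat.mul_pos hm hd) hx
  have h1 : pullback.fst (chart hd hdeg hn hg) (chart hd hdeg hm hh) =
      e.hom ≫ Spec.map (CommRingCat.ofHom (awayMap 𝒜 (veronese_mem hdeg hh) hx)) :=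
    (Proj.pullbackAwayιIso_hom_SpecMap_awayMap_left ..).symm
  have h2 : pullback.snd (chart hd hdeg hn hg) (chart hd hdeg hm hh) =
      e.hom ≫ Spec.map (CommRingCat.ofHom (awayMap 𝒜 (veronese_mem hdeg hg) (hx.trans (mul_comm _ _)))) :=
    (Proj.pullbackAwayιIso_hom_SpecMap_awayMap_right ..).symm
  rw [h1, h2]
  simp only [Category.assoc]
  congr 1
  have hx1 : g * h ∈ ℬ (n + m) := SetLike.mul_mem_graded hg hh
  have hx2 : g * h ∈ ℬ (m + n) := add_comm m n ▸ hx1
  have e1 := awayHom_comp_awayMap hdeg hg hh (rfl : g * h = g * h) hx1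
  have e2 := awayHom_comp_awayMap hdeg hh hg (mul_comm g h) hx2
  have e3 : awayHom hdeg hx2 = awayHom hdeg hx1 :=
    RingHom.ext fun q => val_injective _ (by rw [val_awayHom, val_awayHom])
  simp only [chartMap, ← Spec.map_comp_assoc, ← CommRingCat.ofHom_comp]
  rw [← e1, ← e2, e3]
  simp only [CommRingCat.ofHom_comp, Spec.map_comp, Category.assoc]
  rw [Proj.SpecMap_awayMap_awayι, Proj.SpecMap_awayMap_awayι]
  congr 1

/-- `Proj A → Proj A^{(d)}`. -/
def hom : Proj 𝒜 ⟶ Proj ℬ :=
  (cover hd hdeg).glueMorphisms (fun s => chartMap hdeg s.1.2 s.2.2)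
    fun s t => chartMap_compat hd hdeg s.1.2 s.2.2 t.1.2 t.2.2

@[reassoc]
theorem chart_hom {n : ℕ} (hn : 0 < n) {g : B} (hg : g ∈ ℬ n) :
    chart hd hdeg hn hg ≫ hom hd hdeg = chartMap hdeg hn hg :=
  (cover hd hdeg).ι_glueMorphisms (fun s => chartMap hdeg s.1.2 s.2.2) _ ⟨⟨n, hn⟩, g, hg⟩

theorem hom_preimage_basicOpen {n : ℕ} (hn : 0 < n) {g : B} (hg : g ∈ ℬ n) :
    hom hd hdeg ⁻¹ᵁ Proj.basicOpen ℬ g = Proj.basicOpen 𝒜 (φ g) := by
  have key : ∀ (m : ℕ) (hm : 0 < m) (h : B) (hh : h ∈ ℬ m),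
      chart hd hdeg hm hh ⁻¹ᵁ (hom hd hdeg ⁻¹ᵁ Proj.basicOpen ℬ g) =
        chart hd hdeg hm hh ⁻¹ᵁ Proj.basicOpen 𝒜 (φ g) := by
    intro m hm h hh
    rw [← Scheme.Hom.comp_preimage, chart_hom]
    simp only [chartMap, chart, Scheme.Hom.comp_preimage]
    rw [Proj.awayι_preimage_basicOpen ℬ hh hm hg hn,
      Proj.awayι_preimage_basicOpen 𝒜 (veronese_mem hdeg hh) (Nat.mul_pos hm hd) (veronese_mem hdeg hg)
        (Nat.mul_pos hn hd)]
    have he : awayHom hdeg hh (Away.isLocalizationElem hh hg) ^ d =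
        Away.isLocalizationElem (veronese_mem hdeg hh) (veronese_mem hdeg hg) := by
      apply val_injective
      rw [val_pow, val_awayHom, Away.val_mk, Away.val_mk, Localization.mk_eq_mk']
      simp only [Localization.awayMap, IsLocalization.Away.map, IsLocalization.map_mk']
      rw [← Localization.mk_eq_mk', Localization.mk_pow]
      refine Localization.mk_eq_mk_iff.2 (Localization.r_iff_exists.2 ⟨1, ?_⟩)
      simp [← pow_mul]
    ext y
    show awayHom hdeg hh (Away.isLocalizationElem hh hg) ∉ y.asIdeal ↔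
      Away.isLocalizationElem (veronese_mem hdeg hh) (veronese_mem hdeg hg) ∉ y.asIdeal
    rw [← he, not_iff_not]
    exact ⟨fun h => Ideal.pow_mem_of_mem _ h _ hd, fun h => y.isPrime.mem_of_pow_mem _ h⟩
  ext x
  obtain ⟨m, h, hm, hh, hhx⟩ := exists_chart_mem hd hdeg x
  have hx : x ∈ (chart hd hdeg hm hh).opensRange := by rw [Proj.opensRange_awayι]; exact hhx
  obtain ⟨y, rfl⟩ := hx
  exact SetLike.ext_iff.mp (key m hm h hh) y

theorem hom_base (p : Proj 𝒜) :
    ((hom hd hdeg).base p).asHomogeneousIdeal.toIdeal = Ideal.comap φ p.asHomogeneousIdeal.toIdeal := by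
  classical
  have hhom : (Ideal.comap φ p.asHomogeneousIdeal.toIdeal).IsHomogeneous ℬ := fun i b hb =>
    (mem_of_forall hd hdeg (p := p.asHomogeneousIdeal) b).1 hb i
  have hne : ¬ HomogeneousIdeal.irrelevant ℬ ≤ ⟨_, hhom⟩ := by
    intro hle
    obtain ⟨n, g, hn, hg, hgp⟩ := exists_chart_mem hd hdeg p
    exact hgp (hle (HomogeneousIdeal.mem_irrelevant_of_mem ℬ hn hg))
  let q : ProjectiveSpectrum ℬ := ⟨⟨_, hhom⟩, p.isPrime.comap φ, hne⟩
  have h : (hom hd hdeg).base p = q := PolyConeGr.proj_ext fun n hn g hg =>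
    not_iff_not.mp (SetLike.ext_iff.mp (hom_preimage_basicOpen hd hdeg hn hg) p)
  rw [h]

theorem isIso_hom (hφ : Function.Injective φ) : IsIso (hom hd hdeg) := by
  have key : ∀ (n : ℕ) (hn : 0 < n) (g : B) (hg : g ∈ ℬ n),
      MorphismProperty.isomorphisms _ (pullback.snd (hom hd hdeg) (Proj.awayι ℬ g hg hn)) := by
    intro n hn g hg
    have e : IsPullback (Spec.map (CommRingCat.ofHom (awayHom hdeg hg))) (chart hd hdeg hn hg)
        (Proj.awayι ℬ g hg hn) (hom hd hdeg) := by
      refine IsOpenImmersion.isPullback _ _ _ _ (chart_hom hd hdeg hn hg) ?_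
      rw [Proj.opensRange_awayι, Proj.opensRange_awayι, hom_preimage_basicOpen hd hdeg hn hg]
    rw [← e.flip.isoPullback_inv_snd]
    refine ((MorphismProperty.isomorphisms _).cancel_left_of_respectsIso _ _).mpr ?_
    have : IsIso (CommRingCat.ofHom (awayHom hdeg hg)) :=
      (ConcreteCategory.isIso_iff_bijective _).mpr (awayHom_bijective hdeg hg hφ)
    exact (inferInstance : IsIso (Spec.map (CommRingCat.ofHom (awayHom hdeg hg))))
  exact IsZariskiLocalAtTarget.of_openCover (P := MorphismProperty.isomorphisms _)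
    (Proj.affineOpenCover ℬ).openCover fun s => key _ s.1.2 _ s.2.2

end Groth.Agent.EGA73.VeroneseProj
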